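import Mathlib
import Groth.Prelude.Def_EtRam

set_option autoImplicit false
universe u

namespace Groth.Agent.H8.ASK

open IsLocalRing Polynomial

/-! ### Pure helpers -/

theorem zpow_pow_nat {Γ : Type*} [LinearOrderedCommGroupWithZero Γ] (τ : Γ) (k : ℤ) (m : ℕ) :
    (τ ^ k) ^ m = τ ^ (k * m) := by
  rw [zpow_mul, zpow_natCast]

theorem val_le_sum {R Γ ι : Type*} [Field R] [LinearOrderedCommGroupWithZero Γ]
    (v : Valuation R Γ) (s : Finset ι) (f : ι → R)
    (hd : ∀ i ∈ s, ∀ j ∈ s, i ≠ j → f j ≠ 0 → v (f i) ≠ v (f j)) :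
    ∀ i ∈ s, v (f i) ≤ v (∑ i ∈ s, f i) := by
  classical
  intro i hi
  obtain ⟨j, hj, hmax⟩ := Finset.exists_max_image s (fun i => v (f i)) ⟨i, hi⟩
  have hmax' : ∀ i' ∈ s, v (f i') ≤ v (f j) := hmax
  by_cases h0 : f j = 0
  · have h1 : v (f i) ≤ v (f j) := hmax' i hi
    rw [h0, map_zero] at h1
    exact h1.trans zero_le'
  · have h2 : v (∑ i ∈ s, f i) = v (f j) := by
      apply Valuation.map_sum_eq_of_lt v hj
      intro i' hi'
      rw [Finset.mem_sdiff, Finset.mem_singleton] at hi'
      exact lt_of_le_of_ne (hmax' i' hi'.1) (hd i' hi'.1 j hj hi'.2 h0)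
    rw [h2]; exact hmax' i hi

theorem algebra_adjoin_eq_top {K L : Type*} [Field K] [Field L] [Algebra K L] (z : L)
    (hint : IsIntegral K z) (hgen : IntermediateField.adjoin K {z} = ⊤) :
    Algebra.adjoin K {z} = ⊤ := by
  rw [← IntermediateField.adjoin_simple_toSubalgebra_of_isAlgebraic hint.isAlgebraic, hgen,
    IntermediateField.top_toSubalgebra]

section Basic

theorem algebraMap_inj (A K L : Type u) [CommRing A] [IsDomain A] [Field K]
    [Algebra A K] [IsFractionRing A K] [Field L] [Algebra K L] [Algebra A L]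
    [IsScalarTower A K L] : Function.Injective (algebraMap A L) := by
  rw [IsScalarTower.algebraMap_eq A K L, RingHom.coe_comp]
  exact (algebraMap K L).injective.comp (IsFractionRing.injective A K)

end Basic

section Dom

variable {A K L : Type u} [CommRing A] [IsDomain A] [IsDiscreteValuationRing A] [Field K]
  [Algebra A K] [IsFractionRing A K] [Field L] [Algebra K L] [Algebra A L] [IsScalarTower A K L]

theorem pi_irreducible {π : A} (hπ : maximalIdeal A = Ideal.span {π}) : Irreducible π :=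
  (IsDiscreteValuationRing.irreducible_iff_uniformizer π).mpr hπ

theorem pi_mem {π : A} (hπ : maximalIdeal A = Ideal.span {π}) : π ∈ maximalIdeal A := by
  rw [hπ]; exact Ideal.mem_span_singleton_self π

theorem algK_pi_ne_zero {π : A} (hπ : maximalIdeal A = Ideal.span {π}) :
    algebraMap A K π ≠ 0 := by
  intro h
  exact (pi_irreducible hπ).ne_zero (IsFractionRing.injective A K (h.trans (map_zero _).symm))

theorem algL_pi_ne_zero {π : A} (hπ : maximalIdeal A = Ideal.span {π})
    (hinj : Function.Injective (algebraMap A L)) : algebraMap A L π ≠ 0 := by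
  intro h
  exact (pi_irreducible hπ).ne_zero (hinj (h.trans (map_zero _).symm))

theorem decomp {π : A} (hπ : maximalIdeal A = Ideal.span {π}) (c : K) (hc : c ≠ 0) :
    ∃ (u : Aˣ) (k : ℤ), c = algebraMap A K u * (algebraMap A K π) ^ k := by
  have hirr := pi_irreducible hπ
  have hπK : algebraMap A K π ≠ 0 := algK_pi_ne_zero hπ
  obtain ⟨x, y, hy, rfl⟩ := IsFractionRing.div_surjective A c
  have hy0 : y ≠ 0 := nonZeroDivisors.ne_zero hy
  have hx0 : x ≠ 0 := by
    rintro rfl
    exact hc (by rw [map_zero, zero_div])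
  obtain ⟨n, u, rfl⟩ := IsDiscreteValuationRing.eq_unit_mul_pow_irreducible hx0 hirr
  obtain ⟨n', u', rfl⟩ := IsDiscreteValuationRing.eq_unit_mul_pow_irreducible hy0 hirr
  refine ⟨u * u'⁻¹, (n : ℤ) - n', ?_⟩
  have hU' : algebraMap A K (u' : A) * algebraMap A K ((u'⁻¹ : Aˣ) : A) = 1 := by
    rw [← map_mul, Units.mul_inv, map_one]
  have hU'0 : algebraMap A K (u' : A) ≠ 0 := left_ne_zero_of_mul_eq_one hU'
  have hinv : algebraMap A K ((u'⁻¹ : Aˣ) : A) = (algebraMap A K (u' : A))⁻¹ :=
    eq_inv_of_mul_eq_one_right hU'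
  rw [zpow_sub₀ hπK, zpow_natCast, zpow_natCast, Units.val_mul, map_mul, map_mul, map_mul,
    map_pow, map_pow, hinv]
  field_simp

variable {V : ValuationSubring L}

theorem val_alg_le_one (hV : EtRam.Dominates A (algebraMap A L) V) (a : A) :
    V.valuation (algebraMap A L a) ≤ 1 :=
  (V.valuation_le_one_iff _).mpr (hV.1 a)

theorem val_unit (hV : EtRam.Dominates A (algebraMap A L) V) (u : Aˣ) :
    V.valuation (algebraMap A L (u : A)) = 1 := by
  have h1 := val_alg_le_one hV (u : A)
  have h2 := val_alg_le_one hV ((u⁻¹ : Aˣ) : A)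
  have h3 : V.valuation (algebraMap A L (u : A)) *
      V.valuation (algebraMap A L ((u⁻¹ : Aˣ) : A)) = 1 := by
    rw [← map_mul, ← map_mul, Units.mul_inv, map_one, map_one]
  refine le_antisymm h1 ?_
  calc (1 : V.ValueGroup) = V.valuation (algebraMap A L (u : A)) *
      V.valuation (algebraMap A L ((u⁻¹ : Aˣ) : A)) := h3.symm
    _ ≤ V.valuation (algebraMap A L (u : A)) * 1 := mul_le_mul' le_rfl h2
    _ = _ := mul_one _

theorem val_pi_lt_one {π : A} (hπ : maximalIdeal A = Ideal.span {π})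
    (hV : EtRam.Dominates A (algebraMap A L) V) : V.valuation (algebraMap A L π) < 1 :=
  hV.2 π (pi_mem hπ)

theorem val_pi_pos {π : A} (hπ : maximalIdeal A = Ideal.span {π})
    (hinj : Function.Injective (algebraMap A L)) : 0 < V.valuation (algebraMap A L π) := by
  rw [zero_lt_iff, Valuation.ne_zero_iff]
  exact algL_pi_ne_zero hπ hinj

theorem val_K (hV : EtRam.Dominates A (algebraMap A L) V) {π : A} (c : K) (u : Aˣ) (k : ℤ)
    (hc : c = algebraMap A K u * (algebraMap A K π) ^ k) :
    V.valuation (algebraMap K L c) = V.valuation (algebraMap A L π) ^ k := by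
  rw [hc, map_mul, map_zpow₀, ← IsScalarTower.algebraMap_apply, ← IsScalarTower.algebraMap_apply,
    map_mul, map_zpow₀, val_unit hV, one_mul]

theorem mem_of_val_le_one {π : A} (hπ : maximalIdeal A = Ideal.span {π})
    (hV : EtRam.Dominates A (algebraMap A L) V) (c : K)
    (h : V.valuation (algebraMap K L c) ≤ 1) : ∃ a : A, algebraMap A K a = c := by
  by_cases hc : c = 0
  · exact ⟨0, by rw [hc, map_zero]⟩
  obtain ⟨u, k, hk⟩ := decomp hπ c hc
  rw [val_K hV c u k hk, zpow_le_one_iff_right_of_lt_one₀ (val_pi_pos hπ (algebraMap_inj A K L))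
    (val_pi_lt_one hπ hV)] at h
  obtain ⟨n, rfl⟩ := Int.eq_ofNat_of_zero_le h
  exact ⟨u * π ^ n, by rw [hk, map_mul, map_pow, zpow_natCast]⟩

theorem mem_pi_of_val_lt_one {π : A} (hπ : maximalIdeal A = Ideal.span {π})
    (hV : EtRam.Dominates A (algebraMap A L) V) (c : K)
    (h : V.valuation (algebraMap K L c) < 1) : ∃ a : A, algebraMap A K (π * a) = c := by
  by_cases hc : c = 0
  · exact ⟨0, by rw [hc, mul_zero, map_zero]⟩
  obtain ⟨u, k, hk⟩ := decomp hπ c hc
  rw [val_K hV c u k hk, zpow_lt_one_iff_right_of_lt_one₀ (val_pi_pos hπ (algebraMap_inj A K L))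
    (val_pi_lt_one hπ hV)] at h
  obtain ⟨n, rfl⟩ : ∃ n : ℕ, k = (n : ℤ) + 1 := ⟨(k - 1).toNat, by omega⟩
  refine ⟨u * π ^ n, ?_⟩
  rw [hk, zpow_add_one₀ (algK_pi_ne_zero hπ), zpow_natCast, map_mul, map_mul, map_pow]
  ring

theorem isLocalHom_of_dominates (hV : EtRam.Dominates A (algebraMap A L) V) :
    IsLocalHom (RingHom.codRestrict (algebraMap A L) V hV.1) := by
  constructor
  intro a ha
  by_contra hna
  have hmem : a ∈ maximalIdeal A := (mem_maximalIdeal a).mpr (mem_nonunits_iff.mpr hna)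
  have hlt := hV.2 a hmem
  have h1 := (V.valuation_eq_one_iff _).mp ha
  exact (ne_of_lt hlt) h1

theorem exists_dominates (hinj : Function.Injective (algebraMap A L)) :
    ∃ V : ValuationSubring L, EtRam.Dominates A (algebraMap A L) V := by
  obtain ⟨V, hle, hloc⟩ := (LocalSubring.range (algebraMap A L)).exists_le_valuationSubring
  have hr : ∀ a : A, algebraMap A L a ∈ (LocalSubring.range (algebraMap A L)).toSubring := by
    intro a
    rw [LocalSubring.range_toSubring]
    exact ⟨a, rfl⟩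
  refine ⟨V, fun a => hle (hr a), fun a ha => ?_⟩
  have hmem : algebraMap A L a ∈ V := hle (hr a)
  rcases lt_or_eq_of_le ((V.valuation_le_one_iff _).mpr hmem) with h | h
  · exact h
  exfalso
  have hx0 : algebraMap A L a ≠ 0 := by
    intro h0
    rw [h0, map_zero] at h
    exact zero_ne_one h
  have hinvmem : (algebraMap A L a)⁻¹ ∈ V := by
    rw [← V.valuation_le_one_iff, map_inv₀, h, inv_one]
  have hu : IsUnit (Subring.inclusion hle ⟨algebraMap A L a, hr a⟩) :=
    isUnit_iff_exists_inv.mpr ⟨⟨(algebraMap A L a)⁻¹, hinvmem⟩,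
      Subtype.ext (mul_inv_cancel₀ hx0)⟩
  have hu' := hloc.map_nonunit _ hu
  obtain ⟨b, hb⟩ := isUnit_iff_exists_inv.mp hu'
  have hle' : (LocalSubring.range (algebraMap A L)).toSubring ≤ (algebraMap A L).range :=
    le_of_eq (LocalSubring.range_toSubring _)
  have hb2 : (b : L) ∈ (algebraMap A L).range := hle' b.2
  obtain ⟨b', hb'⟩ := hb2
  have h1 : algebraMap A L a * (b : L) = 1 := congrArg Subtype.val hb
  have hab : a * b' = 1 := by
    apply hinj
    rw [map_mul, map_one, hb', h1]
  exact (mem_nonunits_iff.mp ((mem_maximalIdeal a).mp ha)) (isUnit_iff_exists_inv.mpr ⟨b', hab⟩)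

theorem val_eval_le_one (hV : EtRam.Dominates A (algebraMap A L) V) (z : L)
    (h : V.valuation z ≤ 1) (Q : A[X]) : V.valuation (eval₂ (algebraMap A L) z Q) ≤ 1 := by
  rw [eval₂_eq_sum_range]
  apply Valuation.map_sum_le
  intro i _
  rw [map_mul, map_pow]
  calc V.valuation (algebraMap A L (Q.coeff i)) * V.valuation z ^ i ≤ 1 * 1 :=
        mul_le_mul' (val_alg_le_one hV _) (pow_le_one₀ zero_le' h)
    _ = 1 := one_mul 1

theorem val_eval_of_one_lt (hV : EtRam.Dominates A (algebraMap A L) V) {P : A[X]} (hP : P.Monic)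
    {p : ℕ} (hdeg : P.natDegree = p) (z : L) (h : 1 < V.valuation z) :
    V.valuation (eval₂ (algebraMap A L) z P) = V.valuation z ^ p := by
  have hsum := hP.as_sum
  rw [hdeg] at hsum
  have h1 : eval₂ (algebraMap A L) z P =
      z ^ p + ∑ i ∈ Finset.range p, algebraMap A L (P.coeff i) * z ^ i := by
    conv_lhs => rw [hsum]
    rw [eval₂_add, eval₂_pow, eval₂_X, eval₂_finset_sum]
    congr 1
    refine Finset.sum_congr rfl (fun i _ => ?_)
    rw [eval₂_mul, eval₂_C, eval₂_pow, eval₂_X]
  rw [h1]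
  have hlt : V.valuation (∑ i ∈ Finset.range p, algebraMap A L (P.coeff i) * z ^ i) <
      V.valuation (z ^ p) := by
    apply Valuation.map_sum_lt
    · rw [map_pow]
      exact pow_ne_zero _ (ne_of_gt (zero_lt_one.trans h))
    · intro i hi
      rw [map_mul, map_pow, map_pow]
      calc V.valuation (algebraMap A L (P.coeff i)) * V.valuation z ^ i
          ≤ 1 * V.valuation z ^ i := mul_le_mul' (val_alg_le_one hV _) le_rfl
        _ = V.valuation z ^ i := one_mul _
        _ < V.valuation z ^ p := pow_lt_pow_right₀ h (Finset.mem_range.mp hi)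
  rw [Valuation.map_add_eq_of_lt_left _ hlt, map_pow]

theorem one_lt_val_of_eval (hV : EtRam.Dominates A (algebraMap A L) V) (P : A[X]) (z : L)
    (h : 1 < V.valuation (eval₂ (algebraMap A L) z P)) : 1 < V.valuation z := by
  by_contra hle
  exact absurd (val_eval_le_one hV z (not_lt.mp hle) P) (not_le.mpr h)

end Dom

section Repr

variable {A K L : Type u} [CommRing A] [IsDomain A] [IsDiscreteValuationRing A] [Field K]
  [Algebra A K] [IsFractionRing A K] [Field L] [Algebra K L] [Algebra A L] [IsScalarTower A K L]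

theorem fK_monic {P : A[X]} (hP : P.Monic) {p : ℕ} (hdeg : P.natDegree = p) (hp0 : 0 < p)
    (ξ : K) : (P.map (algebraMap A K) - C ξ).Monic := by
  apply (hP.map _).sub_of_left
  have h1 : (P.map (algebraMap A K)).degree = (p : WithBot ℕ) := by
    rw [degree_eq_natDegree (hP.map _).ne_zero, hP.natDegree_map, hdeg]
  rw [h1]
  exact lt_of_le_of_lt degree_C_le (by exact_mod_cast hp0)

theorem fK_natDegree {P : A[X]} (hP : P.Monic) {p : ℕ} (hdeg : P.natDegree = p)
    (ξ : K) : (P.map (algebraMap A K) - C ξ).natDegree = p := by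
  rw [natDegree_sub_C, hP.natDegree_map, hdeg]

theorem fK_aeval {P : A[X]} (ξ : K) (z : L)
    (hz : eval₂ (algebraMap A L) z P = algebraMap K L ξ) :
    aeval z (P.map (algebraMap A K) - C ξ) = 0 := by
  rw [map_sub, aeval_C, aeval_map_algebraMap, aeval_def, hz, sub_self]

theorem isIntegral_z {P : A[X]} (hP : P.Monic) {p : ℕ} (hdeg : P.natDegree = p) (hp0 : 0 < p)
    (ξ : K) (z : L) (hz : eval₂ (algebraMap A L) z P = algebraMap K L ξ) : IsIntegral K z :=
  ⟨_, fK_monic hP hdeg hp0 ξ, by rw [← aeval_def]; exact fK_aeval ξ z hz⟩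

theorem repr_z {P : A[X]} (hP : P.Monic) {p : ℕ} (hdeg : P.natDegree = p) (hp0 : 0 < p)
    (ξ : K) (z : L) (hz : eval₂ (algebraMap A L) z P = algebraMap K L ξ)
    (hgen : IntermediateField.adjoin K {z} = ⊤) (x : L) :
    ∃ a : ℕ → K, x = ∑ i ∈ Finset.range p, algebraMap K L (a i) * z ^ i := by
  have hx : x ∈ Algebra.adjoin K {z} := by
    rw [algebra_adjoin_eq_top z (isIntegral_z hP hdeg hp0 ξ z hz) hgen]
    trivial
  rw [Algebra.adjoin_singleton_eq_range_aeval] at hx
  obtain ⟨q, rfl⟩ := hx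
  refine ⟨fun i => (q %ₘ (P.map (algebraMap A K) - C ξ)).coeff i, ?_⟩
  have hlt : (q %ₘ (P.map (algebraMap A K) - C ξ)).natDegree < p := by
    have h1 : (P.map (algebraMap A K) - C ξ) ≠ 1 := by
      intro h
      have := fK_natDegree hP hdeg ξ
      rw [h, natDegree_one] at this
      omega
    have := natDegree_modByMonic_lt q (fK_monic hP hdeg hp0 ξ) h1
    rwa [fK_natDegree hP hdeg ξ] at this
  show aeval z q = _
  rw [← aeval_modByMonic_eq_self_of_root (fK_aeval ξ z hz) (p := q), aeval_eq_sum_range' hlt]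
  simp_rw [Algebra.smul_def]

theorem finrank_eq_of_indep {P : A[X]} (hP : P.Monic) {p : ℕ} (hdeg : P.natDegree = p)
    (hp0 : 0 < p) (ξ : K) (z : L) (hz : eval₂ (algebraMap A L) z P = algebraMap K L ξ)
    (hgen : IntermediateField.adjoin K {z} = ⊤)
    (hindep : ∀ a : ℕ → K, ∑ i ∈ Finset.range p, algebraMap K L (a i) * z ^ i = 0 →
      ∀ i ∈ Finset.range p, a i = 0) : Module.finrank K L = p := by
  have hint := isIntegral_z hP hdeg hp0 ξ z hz
  rw [← IntermediateField.finrank_top', ← hgen, IntermediateField.adjoin.finrank hint]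
  apply le_antisymm
  · have hdvd := minpoly.dvd K z (fK_aeval ξ z hz)
    have := natDegree_le_of_dvd hdvd (fK_monic hP hdeg hp0 ξ).ne_zero
    rwa [fK_natDegree hP hdeg ξ] at this
  · by_contra hlt
    rw [not_le] at hlt
    have h0 : aeval z (minpoly K z) = 0 := minpoly.aeval K z
    rw [aeval_eq_sum_range' hlt] at h0
    simp_rw [Algebra.smul_def] at h0
    have hc := hindep (fun i => (minpoly K z).coeff i) h0
    apply minpoly.ne_zero hint
    ext i
    rw [coeff_zero]
    by_cases hi : i < p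
    · exact hc i (Finset.mem_range.mpr hi)
    · exact coeff_eq_zero_of_natDegree_lt (by omega)

end Repr

end Groth.Agent.H8.ASK
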