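import Mathlib
import Groth.Prelude.Def_EtRam

/-!
# Ramification index through valuations; towers of valuation subrings

General facts used for `EtRam.IsTamelyRamified` / `EtRam.IsUnramifiedExt` in towers.
-/

set_option autoImplicit false
universe u

namespace Groth.Agent.H8.RI

open IsLocalRing

/-! ### Extension of valuation subrings and comparison of valuations -/

theorem exists_comap_eq {L M : Type*} [Field L] [Field M] (V : ValuationSubring L) (j : L →+* M) :
    ∃ V' : ValuationSubring M, V'.comap j = V := by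
  obtain ⟨V', hle, hloc⟩ := (LocalSubring.range (j.comp V.subtype)).exists_le_valuationSubring
  have hr : ∀ a : V, j (a : L) ∈ (LocalSubring.range (j.comp V.subtype)).toSubring := by
    intro a
    rw [LocalSubring.range_toSubring]
    exact ⟨a, rfl⟩
  refine ⟨V', ?_⟩
  ext x
  rw [ValuationSubring.mem_comap]
  constructor
  · intro hx
    by_contra hxV
    have hx0 : x ≠ 0 := fun h => hxV (h ▸ V.zero_mem)
    have hinv : x⁻¹ ∈ V := (V.mem_or_inv_mem x).resolve_left hxV
    have hu : IsUnit (Subring.inclusion hle ⟨j x⁻¹, hr ⟨x⁻¹, hinv⟩⟩) :=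
      isUnit_iff_exists_inv.mpr ⟨⟨j x, hx⟩, Subtype.ext (by
        show j x⁻¹ * j x = 1
        rw [← map_mul, inv_mul_cancel₀ hx0, map_one])⟩
    have hu' := hloc.map_nonunit _ hu
    obtain ⟨b, hb⟩ := isUnit_iff_exists_inv.mp hu'
    have hle' : (LocalSubring.range (j.comp V.subtype)).toSubring ≤ (j.comp V.subtype).range :=
      le_of_eq (LocalSubring.range_toSubring _)
    have hb2 : (b : M) ∈ (j.comp V.subtype).range := hle' b.2
    obtain ⟨b', hb'⟩ := hb2
    have h1 : j x⁻¹ * (b : M) = 1 := congrArg Subtype.val hb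
    have h2 : x⁻¹ * (b' : L) = 1 := by
      apply j.injective
      rw [map_mul, map_one, ← h1, ← hb']
      rfl
    have h3 : x = (b' : L) := by
      calc x = x * (x⁻¹ * (b' : L)) := by rw [h2, mul_one]
        _ = (b' : L) := by rw [← mul_assoc, mul_inv_cancel₀ hx0, one_mul]
    exact hxV (h3 ▸ b'.2)
  · intro hx
    exact hle (hr ⟨x, hx⟩)

theorem isEquiv_comap {L M : Type*} [Field L] [Field M] (V' : ValuationSubring M) (j : L →+* M) :
    (V'.comap j).valuation.IsEquiv (V'.valuation.comap j) :=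
  Valuation.isEquiv_of_val_le_one (fun x => by
    rw [ValuationSubring.valuation_le_one_iff, ValuationSubring.mem_comap, Valuation.comap_apply,
      ValuationSubring.valuation_le_one_iff])

/-! ### Orders with respect to a valuation -/

section Ord

variable {F : Type*} [Field F] {Γ : Type*} [LinearOrderedCommGroupWithZero Γ]

/-- The exponents `n` such that `x` lies in the `n`-th power of the maximal ideal. -/
def ordSet (v : Valuation F Γ) (x : F) : Set ℕ := {n | ∃ y : F, v y < 1 ∧ v x ≤ v y ^ n}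

/-- `y₀` has the largest valuation `< 1`. -/
def IsUnif (v : Valuation F Γ) (y₀ : F) : Prop := v y₀ < 1 ∧ ∀ y, v y < 1 → v y ≤ v y₀

/-- `x ≠ 0` has order `e ≠ 0` with respect to the uniformizer `y₀`. -/
def HasOrdAt (v : Valuation F Γ) (x : F) (e : ℕ) (y₀ : F) : Prop :=
  e ≠ 0 ∧ x ≠ 0 ∧ IsUnif v y₀ ∧ v x = v y₀ ^ e

theorem HasOrdAt.ne_zero {v : Valuation F Γ} {x : F} {e : ℕ} {y₀ : F} (h : HasOrdAt v x e y₀) :
    y₀ ≠ 0 := by
  rintro rfl
  obtain ⟨he, hx, _, heq⟩ := h
  rw [map_zero, zero_pow he] at heq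
  exact hx ((Valuation.zero_iff v).mp heq)

theorem exists_larger (v : Valuation F Γ) {y₁ y₂ : F} (h1 : v y₁ < 1) (h2 : v y₂ < 1) :
    ∃ s : F, v s < 1 ∧ v y₁ ≤ v s ∧ v y₂ ≤ v s := by
  rcases le_total (v y₁) (v y₂) with h | h
  · exact ⟨y₂, h2, h, le_rfl⟩
  · exact ⟨y₁, h1, le_rfl, h⟩

theorem exists_hasOrdAt_of_sSup (v : Valuation F Γ) {x : F} (hx : x ≠ 0) {e : ℕ} (he : e ≠ 0)
    (h : sSup (ordSet v x) = e) : ∃ y₀, HasOrdAt v x e y₀ := by
  have hne : (ordSet v x).Nonempty := by
    rw [Set.nonempty_iff_ne_empty]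
    intro hemp
    have h0 : sSup (∅ : Set ℕ) = 0 := by simp
    rw [hemp, h0] at h
    exact he h.symm
  have hbdd : BddAbove (ordSet v x) := by
    by_contra hb
    rw [Nat.sSup_of_not_bddAbove hb] at h
    exact he h.symm
  have hmem : e ∈ ordSet v x := h ▸ Nat.sSup_mem hne hbdd
  have hnot : e + 1 ∉ ordSet v x := fun h' => by
    have h1 := le_csSup hbdd h'
    rw [h] at h1
    omega
  obtain ⟨y₀, hy₀, hxy⟩ := hmem
  have hunif : ∀ y, v y < 1 → v y ≤ v y₀ := by
    intro y hy
    by_contra hlt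
    have hlt' : v y₀ < v y := not_le.mp hlt
    have hy0 : v y ≠ 0 := fun h0 => by
      rw [h0] at hlt'
      exact not_lt_zero' hlt'
    have hyne : y ≠ 0 := (Valuation.ne_zero_iff v).mp hy0
    have ht : v (y₀ / y) < 1 := by
      rw [map_div₀]
      exact (div_lt_one₀ (zero_lt_iff.mpr hy0)).mpr hlt'
    obtain ⟨s, hs1, hst, hsy⟩ := exists_larger v ht hy
    apply hnot
    refine ⟨s, hs1, ?_⟩
    have h2 : v y₀ ≤ v s ^ 2 := by
      have h3 : v y₀ = v (y₀ / y) * v y := by
        rw [← map_mul, div_mul_cancel₀ _ hyne]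
      rw [h3, pow_two]
      exact mul_le_mul' hst hsy
    calc v x ≤ v y₀ ^ e := hxy
      _ ≤ (v s ^ 2) ^ e := pow_le_pow_left₀ zero_le' h2 e
      _ = v s ^ (2 * e) := (pow_mul _ _ _).symm
      _ ≤ v s ^ (e + 1) := pow_le_pow_of_le_one zero_le' hs1.le (by omega)
  have hy00 : y₀ ≠ 0 := by
    rintro rfl
    rw [map_zero, zero_pow he] at hxy
    exact hx ((Valuation.zero_iff v).mp (le_antisymm hxy zero_le'))
  have hvy0 : v y₀ ≠ 0 := (Valuation.ne_zero_iff v).mpr hy00
  have heq : v x = v y₀ ^ e := by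
    refine le_antisymm hxy ?_
    by_contra hlt
    have hlt' : v x < v y₀ ^ e := not_le.mp hlt
    apply hnot
    refine ⟨y₀, hy₀, ?_⟩
    have hpow : v y₀ ^ e ≠ 0 := pow_ne_zero _ hvy0
    have ht : v (x / y₀ ^ e) < 1 := by
      rw [map_div₀, map_pow]
      exact (div_lt_one₀ (zero_lt_iff.mpr hpow)).mpr hlt'
    have ht' := hunif _ ht
    have h3 : v x = v (x / y₀ ^ e) * v y₀ ^ e := by
      rw [← map_pow, ← map_mul, div_mul_cancel₀ _ (pow_ne_zero _ hy00)]
    rw [h3, pow_succ']
    exact mul_le_mul' ht' le_rfl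
  exact ⟨y₀, he, hx, ⟨hy₀, hunif⟩, heq⟩

theorem HasOrdAt.sSup_eq {v : Valuation F Γ} {x : F} {e : ℕ} {y₀ : F} (h : HasOrdAt v x e y₀) :
    sSup (ordSet v x) = e := by
  have hy00 := h.ne_zero
  obtain ⟨he, hx, ⟨hy₀, hunif⟩, heq⟩ := h
  have hvy0 : v y₀ ≠ 0 := (Valuation.ne_zero_iff v).mpr hy00
  apply IsGreatest.csSup_eq
  constructor
  · exact ⟨y₀, hy₀, heq.le⟩
  · rintro n ⟨y, hy, hxy⟩
    have h1 : v y₀ ^ e ≤ v y₀ ^ n := by
      rw [← heq]
      exact hxy.trans (pow_le_pow_left₀ zero_le' (hunif y hy) n)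
    exact (pow_le_pow_iff_right_of_lt_one₀ (zero_lt_iff.mpr hvy0) hy₀).mp h1

theorem IsUnif.of_isEquiv {Γ' : Type*} [LinearOrderedCommGroupWithZero Γ'] {v : Valuation F Γ}
    {v' : Valuation F Γ'} (h : v.IsEquiv v') {y₀ : F} (hu : IsUnif v y₀) : IsUnif v' y₀ :=
  ⟨h.lt_one_iff_lt_one.mp hu.1,
    fun y hy => h.le_iff_le.mp (hu.2 y (h.lt_one_iff_lt_one.mpr hy))⟩

theorem HasOrdAt.of_isEquiv {Γ' : Type*} [LinearOrderedCommGroupWithZero Γ'] {v : Valuation F Γ}
    {v' : Valuation F Γ'} (h : v.IsEquiv v') {x : F} {e : ℕ} {y₀ : F} (ho : HasOrdAt v x e y₀) :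
    HasOrdAt v' x e y₀ := by
  obtain ⟨he, hx, hu, heq⟩ := ho
  refine ⟨he, hx, hu.of_isEquiv h, ?_⟩
  rw [← map_pow] at heq ⊢
  exact h.eq_iff.mp heq

end Ord

section Tower

variable {L M : Type*} [Field L] [Field M] {Γ : Type*} [LinearOrderedCommGroupWithZero Γ]

theorem HasOrdAt.comp (v : Valuation M Γ) (j : L →+* M) {x y₀ : L} {z₀ : M} {e f : ℕ}
    (h1 : HasOrdAt (v.comap j) x e y₀) (h2 : HasOrdAt v (j y₀) f z₀) :
    HasOrdAt v (j x) (e * f) z₀ := by
  obtain ⟨he, hx, _, heq⟩ := h1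
  obtain ⟨hf, _, hu, heq2⟩ := h2
  refine ⟨mul_ne_zero he hf, (_root_.map_ne_zero j).mpr hx, hu, ?_⟩
  have h3 : v (j x) = v (j y₀) ^ e := heq
  rw [h3, heq2, ← pow_mul, mul_comm]

theorem HasOrdAt.descend (v : Valuation M Γ) (j : L →+* M) {x : L} {z₀ : M} {e' : ℕ}
    (h : HasOrdAt v (j x) e' z₀) :
    ∃ (e f : ℕ) (y₀ : L), HasOrdAt (v.comap j) x e y₀ ∧ e * f = e' := by
  have hz00 := h.ne_zero
  obtain ⟨he', hjx, ⟨hz₀, hunif⟩, heq⟩ := h
  have hx : x ≠ 0 := fun h0 => hjx (by rw [h0, map_zero])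
  have hvz0 : v z₀ ≠ 0 := (Valuation.ne_zero_iff v).mpr hz00
  have hz0pos : 0 < v z₀ := zero_lt_iff.mpr hvz0
  have D : ∀ n : ℕ, ∀ t : M, v z₀ ^ n ≤ v t → v t ≤ 1 → ∃ i, i ≤ n ∧ v t = v z₀ ^ i := by
    intro n
    induction n with
    | zero =>
      intro t h1 h2
      rw [pow_zero] at h1
      exact ⟨0, le_rfl, by rw [pow_zero]; exact le_antisymm h2 h1⟩
    | succ n ih =>
      intro t h1 h2
      rcases lt_or_eq_of_le h2 with h3 | h3
      · have h4 := hunif t h3
        have h5 : v (t / z₀) ≤ 1 := by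
          rw [map_div₀]
          exact (div_le_one₀ hz0pos).mpr h4
        have h6 : v z₀ ^ n ≤ v (t / z₀) := by
          rw [map_div₀, le_div_iff₀ hz0pos, ← pow_succ]
          exact h1
        obtain ⟨i, hi, hti⟩ := ih (t / z₀) h6 h5
        refine ⟨i + 1, by omega, ?_⟩
        have h7 : v t = v (t / z₀) * v z₀ := by
          rw [← map_mul, div_mul_cancel₀ _ hz00]
        rw [h7, hti, pow_succ]
      · exact ⟨0, by omega, by rw [h3, pow_zero]⟩
  classical
  have hP : ∃ i : ℕ, i ≠ 0 ∧ ∃ t : L, v (j t) = v z₀ ^ i := ⟨e', he', x, heq⟩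
  obtain ⟨f, hf⟩ : ∃ f, f = Nat.find hP := ⟨_, rfl⟩
  have hspec := Nat.find_spec hP
  have hmin : ∀ i, (i ≠ 0 ∧ ∃ t : L, v (j t) = v z₀ ^ i) → f ≤ i := fun i hi => by
    rw [hf]
    exact Nat.find_min' hP hi
  rw [← hf] at hspec
  obtain ⟨hf0, y₀, hy₀⟩ := hspec
  have hfpos : 0 < f := Nat.pos_of_ne_zero hf0
  have hy₀lt : v (j y₀) < 1 := by
    rw [hy₀]
    exact pow_lt_one₀ zero_le' hz₀ hf0
  have hU : IsUnif (v.comap j) y₀ := by
    refine ⟨hy₀lt, fun y hy => ?_⟩
    show v (j y) ≤ v (j y₀)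
    have hy' : v (j y) < 1 := hy
    by_contra hlt
    have hlt' : v (j y₀) < v (j y) := not_le.mp hlt
    rw [hy₀] at hlt'
    obtain ⟨i, hi, hti⟩ := D f (j y) hlt'.le hy'.le
    have hi0 : i ≠ 0 := by
      rintro rfl
      rw [pow_zero] at hti
      exact (ne_of_lt hy') hti
    have h8 := hmin i ⟨hi0, y, hti⟩
    have hif : i = f := le_antisymm hi h8
    rw [hti, hif] at hlt'
    exact lt_irrefl _ hlt'
  obtain ⟨q, hq⟩ : ∃ q, q = e' / f := ⟨_, rfl⟩
  obtain ⟨r, hr⟩ : ∃ r, r = e' % f := ⟨_, rfl⟩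
  have hdiv : f * q + r = e' := by
    rw [hq, hr]
    exact Nat.div_add_mod e' f
  have hrlt : r < f := by
    rw [hr]
    exact Nat.mod_lt _ hfpos
  have hvt : v (j (x / y₀ ^ q)) = v z₀ ^ r := by
    have e1 : j (x / y₀ ^ q) = j x / j y₀ ^ q := by rw [map_div₀, map_pow]
    rw [e1, map_div₀, map_pow, heq, hy₀, ← pow_mul, ← hdiv, pow_add]
    exact mul_div_cancel_left₀ _ (pow_ne_zero _ hvz0)
  have hr0 : r = 0 := by
    by_contra hr0
    have h9 := hmin r ⟨hr0, x / y₀ ^ q, hvt⟩
    omega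
  have hq0 : q ≠ 0 := by
    intro hq0
    rw [hq0, hr0] at hdiv
    apply he'
    omega
  refine ⟨q, f, y₀, ⟨hq0, hx, hU, ?_⟩, ?_⟩
  · show v (j x) = v (j y₀) ^ q
    rw [heq, hy₀, ← pow_mul, ← hdiv, hr0, add_zero]
  · rw [← hdiv, hr0, add_zero, mul_comm]

end Tower

/-! ### Powers of the maximal ideal of a valuation subring -/

section ValSub

variable {F : Type*} [Field F]

theorem mem_maximalIdeal_pow_iff (V : ValuationSubring F) (n : ℕ) (z : V) :
    z ∈ (maximalIdeal V) ^ n ↔
      ∃ y : F, V.valuation y < 1 ∧ V.valuation (z : F) ≤ V.valuation y ^ n := by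
  constructor
  · intro hz
    induction n generalizing z with
    | zero =>
      refine ⟨0, ?_, ?_⟩
      · rw [map_zero]
        exact zero_lt_one
      · rw [pow_zero]
        exact (V.valuation_le_one_iff _).mpr z.2
    | succ n ih =>
      rw [pow_succ] at hz
      refine Submodule.mul_induction_on hz ?_ ?_
      · intro a ha b hb
        obtain ⟨y₁, hy₁, hay⟩ := ih a ha
        have hb' : V.valuation (b : F) < 1 := (V.valuation_lt_one_iff b).mp hb
        obtain ⟨s, hs1, hs2, hs3⟩ := exists_larger V.valuation hy₁ hb'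
        refine ⟨s, hs1, ?_⟩
        show V.valuation ((a : F) * (b : F)) ≤ _
        rw [map_mul, pow_succ]
        exact mul_le_mul' (hay.trans (pow_le_pow_left₀ zero_le' hs2 n)) hs3
      · rintro z₁ z₂ ⟨y₁, hy₁, h1⟩ ⟨y₂, hy₂, h2⟩
        obtain ⟨s, hs1, hs2, hs3⟩ := exists_larger V.valuation hy₁ hy₂
        refine ⟨s, hs1, ?_⟩
        show V.valuation ((z₁ : F) + (z₂ : F)) ≤ _
        exact (V.valuation.map_add _ _).trans
          (max_le (h1.trans (pow_le_pow_left₀ zero_le' hs2 _))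
            (h2.trans (pow_le_pow_left₀ zero_le' hs3 _)))
  · rintro ⟨y, hy, hzy⟩
    by_cases hy0 : y = 0
    · rcases Nat.eq_zero_or_pos n with rfl | hn
      · rw [pow_zero, Ideal.one_eq_top]
        exact Submodule.mem_top
      · rw [hy0, map_zero, zero_pow hn.ne'] at hzy
        have h1 : (z : F) = 0 := (Valuation.zero_iff _).mp (le_antisymm hzy zero_le')
        have h2 : z = 0 := Subtype.ext h1
        rw [h2]
        exact Ideal.zero_mem _
    · have hyV : y ∈ V := (V.valuation_le_one_iff y).mp hy.le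
      have hym : (⟨y, hyV⟩ : V) ∈ maximalIdeal V := (V.valuation_lt_one_iff ⟨y, hyV⟩).mpr hy
      have hvy : V.valuation y ≠ 0 := (Valuation.ne_zero_iff _).mpr hy0
      have hc : (z : F) / y ^ n ∈ V := by
        rw [← V.valuation_le_one_iff, map_div₀, map_pow]
        exact (div_le_one₀ (zero_lt_iff.mpr (pow_ne_zero _ hvy))).mpr hzy
      have h3 : z = (⟨y, hyV⟩ : V) ^ n * ⟨(z : F) / y ^ n, hc⟩ := by
        apply Subtype.ext
        rw [MulMemClass.coe_mul, SubmonoidClass.coe_pow]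
        show (z : F) = y ^ n * ((z : F) / y ^ n)
        rw [mul_comm, div_mul_cancel₀ _ (pow_ne_zero _ hy0)]
      rw [h3]
      exact Ideal.mul_mem_right _ _ (Ideal.pow_mem_pow hym n)

theorem ramificationIdx'_eq_sSup {R : Type*} [CommRing R] [IsLocalRing R] (V : ValuationSubring F)
    [Algebra R V] (x : R) (hx : maximalIdeal R = Ideal.span {x}) :
    Ideal.ramificationIdx' (maximalIdeal R) (maximalIdeal V) =
      sSup (ordSet V.valuation ((algebraMap R V x : V) : F)) := by
  unfold Ideal.ramificationIdx'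
  congr 1
  ext n
  show Ideal.map (algebraMap R V) (maximalIdeal R) ≤ maximalIdeal V ^ n ↔ _
  rw [hx, Ideal.map_span, Set.image_singleton, Ideal.span_singleton_le_iff_mem,
    mem_maximalIdeal_pow_iff]
  rfl

theorem maximalIdeal_eq_span_iff (V : ValuationSubring F) (y : V) (hy : (y : F) ≠ 0) :
    maximalIdeal V = Ideal.span {y} ↔ IsUnif V.valuation (y : F) := by
  constructor
  · intro h
    have hym : y ∈ maximalIdeal V := by
      rw [h]
      exact Ideal.mem_span_singleton_self y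
    refine ⟨(V.valuation_lt_one_iff y).mp hym, fun t ht => ?_⟩
    have htV : t ∈ V := (V.valuation_le_one_iff t).mp ht.le
    have htm : (⟨t, htV⟩ : V) ∈ maximalIdeal V := (V.valuation_lt_one_iff ⟨t, htV⟩).mpr ht
    rw [h, Ideal.mem_span_singleton'] at htm
    obtain ⟨c, hc⟩ := htm
    have h1 : t = (c : F) * (y : F) := (congrArg Subtype.val hc).symm
    rw [h1, map_mul]
    calc V.valuation (c : F) * V.valuation (y : F) ≤ 1 * V.valuation (y : F) :=
          mul_le_mul' ((V.valuation_le_one_iff _).mpr c.2) le_rfl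
      _ = V.valuation (y : F) := one_mul _
  · rintro ⟨h1, h2⟩
    apply le_antisymm
    · intro t ht
      have ht' := (V.valuation_lt_one_iff t).mp ht
      have h3 := h2 _ ht'
      have hvy : V.valuation (y : F) ≠ 0 := (Valuation.ne_zero_iff _).mpr hy
      have hc : (t : F) / (y : F) ∈ V := by
        rw [← V.valuation_le_one_iff, map_div₀]
        exact (div_le_one₀ (zero_lt_iff.mpr hvy)).mpr h3
      rw [Ideal.mem_span_singleton']
      exact ⟨⟨_, hc⟩, Subtype.ext (div_mul_cancel₀ _ hy)⟩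
    · rw [Ideal.span_singleton_le_iff_mem]
      exact (V.valuation_lt_one_iff y).mpr h1

end ValSub

/-! ### Domination, weak unramifiedness, residue fields -/

section Dom

variable {A : Type u} [CommRing A] [IsLocalRing A] {L M : Type u} [Field L] [Field M]

theorem isWeaklyUnramified_iff (V : ValuationSubring L) [Algebra A V] (x : A)
    (hx : maximalIdeal A = Ideal.span {x}) (ha : ((algebraMap A V x : V) : L) ≠ 0) :
    EtRam.IsWeaklyUnramified A V ↔ IsUnif V.valuation ((algebraMap A V x : V) : L) := by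
  unfold EtRam.IsWeaklyUnramified
  rw [hx, Ideal.map_span, Set.image_singleton, ← maximalIdeal_eq_span_iff V _ ha]
  exact eq_comm

theorem isLocalHom_of_dominates {g : A →+* L} {V : ValuationSubring L}
    (h : EtRam.Dominates A g V) : IsLocalHom (RingHom.codRestrict g V h.1) := by
  constructor
  intro a ha
  by_contra hna
  have hm : a ∈ maximalIdeal A := (mem_maximalIdeal a).mpr (mem_nonunits_iff.mpr hna)
  have h1 := h.2 a hm
  have h2 : (RingHom.codRestrict g V h.1 a) ∈ maximalIdeal V :=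
    (V.valuation_lt_one_iff _).mpr h1
  exact mem_nonunits_iff.mp ((mem_maximalIdeal _).mp h2) ha

theorem dominates_comp_of_comap {g : A →+* L} {j : L →+* M} {V' : ValuationSubring M}
    (h : EtRam.Dominates A g (V'.comap j)) : EtRam.Dominates A (j.comp g) V' :=
  ⟨fun a => h.1 a, fun a ha => (isEquiv_comap V' j).lt_one_iff_lt_one.mp (h.2 a ha)⟩

theorem dominates_comap_of_comp {g : A →+* L} {j : L →+* M} {V' : ValuationSubring M}
    (h : EtRam.Dominates A (j.comp g) V') : EtRam.Dominates A g (V'.comap j) :=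
  ⟨fun a => h.1 a, fun a ha => (isEquiv_comap V' j).lt_one_iff_lt_one.mpr (h.2 a ha)⟩

theorem dominates_subtype (V' : ValuationSubring M) (j : L →+* M) :
    EtRam.Dominates (V'.comap j) (j.comp (V'.comap j).subtype) V' :=
  ⟨fun a => a.2, fun a ha =>
    (isEquiv_comap V' j).lt_one_iff_lt_one.mp (((V'.comap j).valuation_lt_one_iff a).mp ha)⟩

theorem sep_of_comap (j : L →+* M) (V' : ValuationSubring M)
    [Algebra A (V'.comap j)] [Algebra A V'] [IsLocalHom (algebraMap A (V'.comap j))]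
    [IsLocalHom (algebraMap A V')]
    (hcompat : ∀ a : A, EtRam.inclOfComap V' j (algebraMap A (V'.comap j) a) = algebraMap A V' a)
    [Algebra.IsSeparable (ResidueField A) (ResidueField V')] :
    Algebra.IsSeparable (ResidueField A) (ResidueField (V'.comap j)) := by
  let φ : ResidueField (V'.comap j) →ₐ[ResidueField A] ResidueField V' :=
    { ResidueField.map (EtRam.inclOfComap V' j) with
      commutes' := fun r => by
        obtain ⟨a, rfl⟩ := residue_surjective r
        show ResidueField.map (EtRam.inclOfComap V' j)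
          (residue _ (algebraMap A (V'.comap j) a)) = residue _ (algebraMap A V' a)
        rw [ResidueField.map_residue, hcompat] }
  exact Algebra.IsSeparable.of_algHom _ _ φ

theorem sep_trans {B C : Type u} [CommRing B] [IsLocalRing B] [CommRing C] [IsLocalRing C]
    [Algebra A B] [Algebra B C] [Algebra A C] [IsLocalHom (algebraMap A B)]
    [IsLocalHom (algebraMap B C)] [IsLocalHom (algebraMap A C)]
    (hcompat : ∀ a : A, algebraMap B C (algebraMap A B a) = algebraMap A C a)
    [Algebra.IsSeparable (ResidueField A) (ResidueField B)]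
    [Algebra.IsSeparable (ResidueField B) (ResidueField C)] :
    Algebra.IsSeparable (ResidueField A) (ResidueField C) := by
  haveI : IsScalarTower (ResidueField A) (ResidueField B) (ResidueField C) :=
    IsScalarTower.of_algebraMap_eq (fun r => by
      obtain ⟨a, rfl⟩ := residue_surjective r
      show residue C (algebraMap A C a) = residue C (algebraMap B C (algebraMap A B a))
      rw [hcompat])
  exact Algebra.IsSeparable.trans (ResidueField A) (ResidueField B) (ResidueField C)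

end Dom

end Groth.Agent.H8.RI
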