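import Mathlib
import Groth.Prelude.Def_EtRam
import Groth.Agent.Lib.Helper8.ASK.Dom
import Groth.Agent.Lib.Helper8.ASK.RamIdx

set_option autoImplicit false
universe u

namespace Groth.Agent.H8.BC

open IsLocalRing TensorProduct

theorem no_rel_pos {Γ : Type*} [LinearOrderedCommGroupWithZero Γ] {p a b : Γ} (hp0 : 0 < p)
    (hp1 : p < 1) (hab : p * b < a) {k : ℤ} (hk : 0 < k) : a ≠ p ^ k * b := by
  intro h
  have h1 : p ^ k ≤ p := by
    have h0 := zpow_le_zpow_right_of_le_one₀ hp0 hp1.le (show (1 : ℤ) ≤ k by omega)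
    rwa [zpow_one] at h0
  have h2 : a ≤ p * b := by rw [h]; exact mul_le_mul' h1 le_rfl
  exact absurd hab (not_lt.mpr h2)

theorem no_rel {Γ : Type*} [LinearOrderedCommGroupWithZero Γ] {p a b : Γ} (hp0 : 0 < p)
    (hp1 : p < 1) (hab : p * b < a) (hba : p * a < b) {k : ℤ} (h : a = p ^ k * b) : k = 0 := by
  rcases lt_trichotomy k 0 with hk | hk | hk
  · exfalso
    have h1 : b = p ^ (-k) * a := by
      rw [h, ← mul_assoc, ← zpow_add₀ (ne_of_gt hp0), neg_add_cancel, zpow_zero, one_mul]
    exact no_rel_pos hp0 hp1 hba (by omega : 0 < -k) h1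
  · exact hk
  · exact absurd h (no_rel_pos hp0 hp1 hab hk)

section Arch

variable {B L M : Type u} [CommRing B] [IsDomain B] [IsDiscreteValuationRing B] [Field L]
  [Algebra B L] [IsFractionRing B L] [Field M] [Algebra L M] [Algebra B M] [IsScalarTower B L M]

/-- Elements whose values lie in different cosets of the value group of `B` are linearly
independent over the fraction field of `B`. -/
theorem linearIndependent_of_val {πB : B} (hπB : maximalIdeal B = Ideal.span {πB})
    {W : ValuationSubring M} (hW : EtRam.Dominates B (algebraMap B M) W) {ι : Type*} [Fintype ι]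
    (y : ι → M) (hy0 : ∀ i, y i ≠ 0)
    (hrel : ∀ i j, i ≠ j → ∀ k : ℤ,
      W.valuation (y i) ≠ W.valuation (algebraMap B M πB) ^ k * W.valuation (y j)) :
    LinearIndependent L y := by
  classical
  rw [Fintype.linearIndependent_iff]
  intro c hc i
  have hp0 : W.valuation (algebraMap B M πB) ≠ 0 :=
    (ASK.val_pi_pos hπB (ASK.algebraMap_inj B L M)).ne'
  have hterm : ∀ i, c i ≠ 0 → ∃ k : ℤ, W.valuation (c i • y i) =
      W.valuation (algebraMap B M πB) ^ k * W.valuation (y i) := by
    intro i hi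
    obtain ⟨u, k, hk⟩ := ASK.decomp hπB (c i) hi
    exact ⟨k, by rw [Algebra.smul_def, map_mul, ASK.val_K hW (c i) u k hk]⟩
  have hd : ∀ i ∈ (Finset.univ : Finset ι), ∀ j ∈ (Finset.univ : Finset ι), i ≠ j →
      c j • y j ≠ 0 → W.valuation (c i • y i) ≠ W.valuation (c j • y j) := by
    intro i _ j _ hij hj0 heq
    have hcj : c j ≠ 0 := by
      intro h
      rw [h, zero_smul] at hj0
      exact hj0 rfl
    by_cases hci : c i = 0
    · rw [hci, zero_smul, map_zero] at heq
      exact hj0 ((Valuation.zero_iff _).mp heq.symm)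
    · obtain ⟨k, hk⟩ := hterm i hci
      obtain ⟨k', hk'⟩ := hterm j hcj
      rw [hk, hk'] at heq
      have hpk : W.valuation (algebraMap B M πB) ^ k ≠ 0 := zpow_ne_zero k hp0
      apply hrel i j hij (k' - k)
      calc W.valuation (y i)
          = (W.valuation (algebraMap B M πB) ^ k)⁻¹ *
              (W.valuation (algebraMap B M πB) ^ k * W.valuation (y i)) :=
            (inv_mul_cancel_left₀ hpk _).symm
        _ = (W.valuation (algebraMap B M πB) ^ k)⁻¹ *
              (W.valuation (algebraMap B M πB) ^ k' * W.valuation (y j)) := by rw [heq]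
        _ = W.valuation (algebraMap B M πB) ^ k' * (W.valuation (algebraMap B M πB) ^ k)⁻¹ *
              W.valuation (y j) := by
            rw [← mul_assoc, mul_comm ((W.valuation (algebraMap B M πB) ^ k)⁻¹)]
        _ = W.valuation (algebraMap B M πB) ^ (k' - k) * W.valuation (y j) := by
            rw [zpow_sub₀ hp0, div_eq_mul_inv]
  have hle : W.valuation (c i • y i) ≤ W.valuation (∑ i, c i • y i) :=
    ASK.val_le_sum W.valuation Finset.univ (fun i => c i • y i) hd i (Finset.mem_univ i)
  have hc' : ∑ i, c i • y i = 0 := hc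
  rw [hc', map_zero] at hle
  have h0 : c i • y i = 0 := (Valuation.zero_iff _).mp (le_antisymm hle zero_le')
  rw [Algebra.smul_def] at h0
  rcases mul_eq_zero.mp h0 with h1 | h1
  · exact (map_eq_zero (algebraMap L M)).mp h1
  · exact absurd h1 (hy0 i)

/-- The valuation of a valuation ring of a finite extension dominating a DVR is archimedean with
respect to the uniformizer of the DVR. -/
theorem arch [FiniteDimensional L M] {πB : B} (hπB : maximalIdeal B = Ideal.span {πB})
    {W : ValuationSubring M} (hW : EtRam.Dominates B (algebraMap B M) W) (w : M) (hw : w ≠ 0) :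
    ∃ n : ℕ, W.valuation (algebraMap B M πB) ^ n < W.valuation w := by
  by_contra hcon
  obtain ⟨p, hp⟩ : ∃ p, p = W.valuation (algebraMap B M πB) := ⟨_, rfl⟩
  obtain ⟨a, ha⟩ : ∃ a, a = W.valuation w := ⟨_, rfl⟩
  have hall : ∀ n : ℕ, a ≤ p ^ n := fun n => by
    rw [ha, hp]; exact not_lt.mp (fun h => hcon ⟨n, h⟩)
  have hp0 : 0 < p := by rw [hp]; exact ASK.val_pi_pos hπB (ASK.algebraMap_inj B L M)
  have hp1 : p < 1 := by rw [hp]; exact ASK.val_pi_lt_one hπB hW
  have ha0 : 0 < a := by rw [ha]; exact zero_lt_iff.mpr ((Valuation.ne_zero_iff _).mpr hw)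
  have ha1 : a < 1 := lt_of_le_of_lt (by simpa using hall 1) hp1
  have hkey : ∀ s : ℕ, s ≠ 0 → ∀ k : ℤ, a ^ s ≠ p ^ k := by
    intro s hs k h
    have h1 : a ^ s < 1 := pow_lt_one₀ ha0.le ha1 hs
    rw [h] at h1
    have hk : 0 < k := (zpow_lt_one_iff_right_of_lt_one₀ hp0 hp1).mp h1
    obtain ⟨n, rfl⟩ : ∃ n : ℕ, k = (n : ℤ) := ⟨k.toNat, by omega⟩
    rw [zpow_natCast] at h
    have h2 : a ^ s ≤ a := pow_le_of_le_one ha0.le ha1.le hs
    have h3 : a ≤ p ^ (n + 1) := hall (n + 1)
    have h4 : p ^ (n + 1) < p ^ n :=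
      (pow_lt_pow_iff_right_of_lt_one₀ hp0 hp1).mpr (Nat.lt_succ_self n)
    rw [h] at h2
    exact absurd (lt_of_le_of_lt (h2.trans h3) h4) (lt_irrefl _)
  have hli : LinearIndependent L (fun i : Fin (Module.finrank L M + 1) => w ^ (i : ℕ)) := by
    apply linearIndependent_of_val hπB hW
    · intro i; exact pow_ne_zero _ hw
    · intro i j hij k h
      beta_reduce at h
      rw [map_pow, map_pow, ← ha, ← hp] at h
      have hne : (i : ℕ) ≠ (j : ℕ) := fun h' => hij (Fin.ext h')
      rcases lt_or_gt_of_ne hne with hlt | hgt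
      · -- i < j
        have hj : (j : ℕ) = (i : ℕ) + ((j : ℕ) - (i : ℕ)) := by omega
        rw [hj, pow_add] at h
        have h1 : a ^ (i : ℕ) * 1 = a ^ (i : ℕ) * (p ^ k * a ^ ((j : ℕ) - (i : ℕ))) := by
          rw [mul_one, mul_left_comm]; exact h
        have h2 := mul_left_cancel₀ (pow_ne_zero _ ha0.ne') h1
        have h3 : a ^ ((j : ℕ) - (i : ℕ)) = p ^ (-k) := by
          rw [zpow_neg]
          exact eq_inv_of_mul_eq_one_right h2.symm
        exact hkey _ (by omega) _ h3
      · -- j < i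
        have hi : (i : ℕ) = (j : ℕ) + ((i : ℕ) - (j : ℕ)) := by omega
        rw [hi, pow_add] at h
        have h1 : a ^ (j : ℕ) * a ^ ((i : ℕ) - (j : ℕ)) = a ^ (j : ℕ) * p ^ k := by
          rw [h, mul_comm]
        have h2 := mul_left_cancel₀ (pow_ne_zero _ ha0.ne') h1
        exact hkey _ (by omega) _ h2
  have hcard := hli.fintype_card_le_finrank
  rw [Fintype.card_fin] at hcard
  omega

/-- A valuation ring of a finite extension dominating a DVR has a uniformizer. -/
theorem exists_isUnif [FiniteDimensional L M] {πB : B} (hπB : maximalIdeal B = Ideal.span {πB})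
    {W : ValuationSubring M} (hW : EtRam.Dominates B (algebraMap B M) W) :
    ∃ y₀ : M, RI.IsUnif W.valuation y₀ := by
  classical
  obtain ⟨p, hp⟩ : ∃ p, p = W.valuation (algebraMap B M πB) := ⟨_, rfl⟩
  have hp0 : 0 < p := by rw [hp]; exact ASK.val_pi_pos hπB (ASK.algebraMap_inj B L M)
  have hp1 : p < 1 := by rw [hp]; exact ASK.val_pi_lt_one hπB hW
  obtain ⟨T, hT⟩ : ∃ T : Set W.ValueGroup,
      T = {γ | p ≤ γ ∧ γ < 1 ∧ ∃ y : M, W.valuation y = γ} := ⟨_, rfl⟩
  have hmemT : ∀ γ, γ ∈ T ↔ (p ≤ γ ∧ γ < 1 ∧ ∃ y : M, W.valuation y = γ) := by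
    intro γ; rw [hT]; exact Iff.rfl
  have hfin : T.Finite := by
    by_contra hinf
    have hinf' : T.Infinite := hinf
    obtain ⟨emb⟩ : Nonempty (ℕ ↪ T) := ⟨Set.Infinite.natEmbedding T hinf'⟩
    have hmem : ∀ n : ℕ, p ≤ (emb n : W.ValueGroup) ∧ (emb n : W.ValueGroup) < 1 ∧
        ∃ y : M, W.valuation y = (emb n : W.ValueGroup) := fun n => (hmemT _).mp (emb n).2
    choose y hy using fun n : ℕ => (hmem n).2.2
    have hli : LinearIndependent L (fun i : Fin (Module.finrank L M + 1) => y (i : ℕ)) := by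
      apply linearIndependent_of_val hπB hW
      · intro i h0
        beta_reduce at h0
        have h1 := hy (i : ℕ)
        rw [h0, map_zero] at h1
        have h2 := (hmem (i : ℕ)).1
        rw [← h1] at h2
        exact absurd h2 (not_le.mpr hp0)
      · intro i j hij k h
        beta_reduce at h
        rw [hy, hy, ← hp] at h
        have hab : p * (emb (j : ℕ) : W.ValueGroup) < (emb (i : ℕ) : W.ValueGroup) :=
          lt_of_lt_of_le (by
            calc p * (emb (j : ℕ) : W.ValueGroup) < p * 1 :=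
                  mul_lt_mul_of_pos_left (hmem (j : ℕ)).2.1 hp0
              _ = p := mul_one p) (hmem (i : ℕ)).1
        have hba : p * (emb (i : ℕ) : W.ValueGroup) < (emb (j : ℕ) : W.ValueGroup) :=
          lt_of_lt_of_le (by
            calc p * (emb (i : ℕ) : W.ValueGroup) < p * 1 :=
                  mul_lt_mul_of_pos_left (hmem (i : ℕ)).2.1 hp0
              _ = p := mul_one p) (hmem (j : ℕ)).1
        have hk : k = 0 := no_rel hp0 hp1 hab hba h
        rw [hk, zpow_zero, one_mul] at h
        have h3 : (i : ℕ) = (j : ℕ) := emb.injective (Subtype.ext h)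
        exact hij (Fin.ext h3)
    have hcard := hli.fintype_card_le_finrank
    rw [Fintype.card_fin] at hcard
    omega
  have hne : T.Nonempty := ⟨p, (hmemT p).mpr ⟨le_rfl, hp1, algebraMap B M πB, hp.symm⟩⟩
  obtain ⟨a, haT, hmax⟩ := Set.exists_max_image T id hfin hne
  have haT' := (hmemT a).mp haT
  obtain ⟨y₀, hy₀⟩ := haT'.2.2
  refine ⟨y₀, by rw [hy₀]; exact haT'.2.1, fun y hy => ?_⟩
  rw [hy₀]
  by_cases h : p ≤ W.valuation y
  · exact hmax _ ((hmemT _).mpr ⟨h, hy, y, rfl⟩)
  · exact (not_le.mp h).le.trans haT'.1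

/-- The value of the uniformizer of the DVR is a power of the value of a uniformizer. -/
theorem exists_pow_eq [FiniteDimensional L M] {πB : B} (hπB : maximalIdeal B = Ideal.span {πB})
    {W : ValuationSubring M} (hW : EtRam.Dominates B (algebraMap B M) W) {y₀ : M}
    (hu : RI.IsUnif W.valuation y₀) :
    ∃ e : ℕ, e ≠ 0 ∧ W.valuation (algebraMap B M πB) = W.valuation y₀ ^ e := by
  classical
  obtain ⟨p, hp⟩ : ∃ p, p = W.valuation (algebraMap B M πB) := ⟨_, rfl⟩
  have hp0 : 0 < p := by rw [hp]; exact ASK.val_pi_pos hπB (ASK.algebraMap_inj B L M)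
  have hp1 : p < 1 := by rw [hp]; exact ASK.val_pi_lt_one hπB hW
  obtain ⟨q, hq⟩ : ∃ q, q = W.valuation y₀ := ⟨_, rfl⟩
  have hq1 : q < 1 := by rw [hq]; exact hu.1
  have hpq : p ≤ q := by rw [hp, hq]; exact hu.2 _ (ASK.val_pi_lt_one hπB hW)
  have hq0 : 0 < q := lt_of_lt_of_le hp0 hpq
  have hy00 : y₀ ≠ 0 := by
    intro h0
    rw [h0, map_zero] at hq
    exact (ne_of_gt hq0) hq
  have hex : ∃ i : ℕ, q ^ i ≤ p := by
    by_contra hcon
    have hall : ∀ i : ℕ, p < q ^ i := fun i => not_le.mp (fun h => hcon ⟨i, h⟩)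
    have hli : LinearIndependent L (fun i : Fin (Module.finrank L M + 1) => y₀ ^ (i : ℕ)) := by
      apply linearIndependent_of_val hπB hW
      · intro i; exact pow_ne_zero _ hy00
      · intro i j hij k h
        beta_reduce at h
        rw [map_pow, map_pow, ← hq, ← hp] at h
        have hab : p * q ^ (j : ℕ) < q ^ (i : ℕ) :=
          lt_of_le_of_lt (by
            calc p * q ^ (j : ℕ) ≤ p * 1 := mul_le_mul' le_rfl (pow_le_one₀ hq0.le hq1.le)
              _ = p := mul_one p) (hall _)
        have hba : p * q ^ (i : ℕ) < q ^ (j : ℕ) :=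
          lt_of_le_of_lt (by
            calc p * q ^ (i : ℕ) ≤ p * 1 := mul_le_mul' le_rfl (pow_le_one₀ hq0.le hq1.le)
              _ = p := mul_one p) (hall _)
        have hk : k = 0 := no_rel hp0 hp1 hab hba h
        rw [hk, zpow_zero, one_mul] at h
        exact hij (Fin.ext (pow_right_injective₀ hq0 (ne_of_lt hq1) h))
    have hcard := hli.fintype_card_le_finrank
    rw [Fintype.card_fin] at hcard
    omega
  obtain ⟨e, he, hmin⟩ : ∃ e, q ^ e ≤ p ∧ ∀ m < e, ¬ q ^ m ≤ p :=
    ⟨Nat.find hex, Nat.find_spec hex, fun m hm => Nat.find_min hex hm⟩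
  have he0 : e ≠ 0 := by
    intro h0
    rw [h0, pow_zero] at he
    exact absurd he (not_le.mpr hp1)
  obtain ⟨e', he'⟩ := Nat.exists_eq_succ_of_ne_zero he0
  have hlt : p < q ^ e' := not_le.mp (hmin e' (by omega))
  have hz : W.valuation (algebraMap B M πB / y₀ ^ e') < 1 := by
    rw [map_div₀, map_pow, ← hp, ← hq]
    exact (div_lt_one₀ (pow_pos hq0 e')).mpr hlt
  have h2 := hu.2 _ hz
  rw [map_div₀, map_pow, ← hp, ← hq, div_le_iff₀ (pow_pos hq0 e')] at h2
  refine ⟨e, he0, ?_⟩
  rw [← hp, ← hq]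
  refine le_antisymm ?_ he
  rw [he', Nat.succ_eq_add_one, pow_succ']
  exact h2

end Arch

/-- The residue field of a valuation ring of an algebraic extension dominating a DVR is algebraic
over the residue field of the DVR. -/
theorem isAlgebraic_residue {A K K₁ : Type u} [CommRing A] [IsDomain A] [IsDiscreteValuationRing A]
    [Field K] [Algebra A K] [IsFractionRing A K] [Field K₁] [Algebra K K₁] [Algebra A K₁]
    [IsScalarTower A K K₁] [Algebra.IsAlgebraic K K₁] {π : A}
    (hπ : maximalIdeal A = Ideal.span {π}) (V : ValuationSubring K₁)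
    (hV : EtRam.Dominates A (algebraMap A K₁) V) [Algebra A V] [IsScalarTower A V K₁]
    [IsLocalHom (algebraMap A V)] :
    Algebra.IsAlgebraic (ResidueField A) (ResidueField V) := by
  constructor
  intro vbar
  obtain ⟨v, rfl⟩ := residue_surjective vbar
  obtain ⟨P, hP0, hPv⟩ := Algebra.IsAlgebraic.isAlgebraic (R := K) (v : K₁)
  have hsupp : P.support.Nonempty := Polynomial.support_nonempty.mpr hP0
  obtain ⟨j, hj, hmax⟩ := Finset.exists_max_image P.support
    (fun i => V.valuation (algebraMap K K₁ (P.coeff i))) hsupp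
  have hcj : P.coeff j ≠ 0 := Polynomial.mem_support_iff.mp hj
  have hmax' : ∀ i, V.valuation (algebraMap K K₁ (P.coeff i)) ≤
      V.valuation (algebraMap K K₁ (P.coeff j)) := by
    intro i
    by_cases hi : i ∈ P.support
    · exact hmax i hi
    · rw [Polynomial.notMem_support_iff.mp hi, map_zero, map_zero]; exact zero_le'
  have hvj : V.valuation (algebraMap K K₁ (P.coeff j)) ≠ 0 :=
    (Valuation.ne_zero_iff _).mpr ((map_ne_zero _).mpr hcj)
  have hlift : (Polynomial.C (P.coeff j)⁻¹ * P) ∈ Polynomial.lifts (algebraMap A K) := by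
    rw [Polynomial.lifts_iff_coeff_lifts]
    intro i
    rw [Polynomial.coeff_C_mul]
    have hle : V.valuation (algebraMap K K₁ ((P.coeff j)⁻¹ * P.coeff i)) ≤ 1 := by
      rw [map_mul, map_mul, map_inv₀, map_inv₀]
      calc (V.valuation (algebraMap K K₁ (P.coeff j)))⁻¹ * V.valuation (algebraMap K K₁ (P.coeff i))
          ≤ (V.valuation (algebraMap K K₁ (P.coeff j)))⁻¹ *
              V.valuation (algebraMap K K₁ (P.coeff j)) := mul_le_mul' le_rfl (hmax' i)
        _ = 1 := inv_mul_cancel₀ hvj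
    obtain ⟨a, ha⟩ := ASK.mem_of_val_le_one hπ hV _ hle
    exact ⟨a, ha⟩
  obtain ⟨QA, hQA⟩ := (Polynomial.mem_lifts _).mp hlift
  have hQAj : QA.coeff j = 1 := by
    have h := congrArg (fun q => Polynomial.coeff q j) hQA
    simp only [Polynomial.coeff_map, Polynomial.coeff_C_mul] at h
    rw [inv_mul_cancel₀ hcj] at h
    exact IsFractionRing.injective A K (h.trans (map_one _).symm)
  have h1 : Polynomial.aeval (v : K₁) QA = 0 := by
    rw [← Polynomial.aeval_map_algebraMap K, hQA, map_mul, Polynomial.aeval_C, hPv, mul_zero]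
  have h2 : Polynomial.aeval v QA = 0 := by
    have h := Polynomial.aeval_algHom_apply (IsScalarTower.toAlgHom A V K₁) v QA
    apply Subtype.ext
    exact h.symm.trans h1
  have h3 : Polynomial.aeval (residue V v) QA = 0 := by
    have h := Polynomial.aeval_algHom_apply (IsScalarTower.toAlgHom A V (ResidueField V)) v QA
    have h4 : Polynomial.aeval (residue V v) QA = residue V (Polynomial.aeval v QA) := h
    rw [h4, h2, map_zero]
  refine ⟨QA.map (algebraMap A (ResidueField A)), ?_, ?_⟩
  · intro h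
    have h5 := congrArg (fun q => Polynomial.coeff q j) h
    simp only [Polynomial.coeff_map, hQAj, map_one, Polynomial.coeff_zero] at h5
    exact one_ne_zero h5
  · rw [Polynomial.aeval_map_algebraMap]
    exact h3

end Groth.Agent.H8.BC
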