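import Groth.Agent.Lib.Helper8.ASK.RamIdx

/-!
# Tame / unramified extensions in towers
-/

set_option autoImplicit false
universe u

namespace Groth.Agent.H8.RI

open IsLocalRing

variable {A : Type u} [CommRing A] [IsLocalRing A] {L M : Type u} [Field L] [Field M]

theorem tame_sub (g : A →+* L) (j : L →+* M) (π : A)
    (hπ : maximalIdeal A = Ideal.span {π}) (hgπ : g π ≠ 0)
    (h : EtRam.IsTamelyRamified A (j.comp g)) : EtRam.IsTamelyRamified A g := by
  intro V hV
  obtain ⟨V', rfl⟩ := exists_comap_eq V j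
  have hV' : EtRam.Dominates A (j.comp g) V' := dominates_comp_of_comap hV
  letI algV : Algebra A (V'.comap j) := (RingHom.codRestrict g (V'.comap j) hV.1).toAlgebra
  intro locV
  letI algV' : Algebra A V' := (RingHom.codRestrict (j.comp g) V' hV'.1).toAlgebra
  haveI locV' : IsLocalHom (algebraMap A V') := isLocalHom_of_dominates hV'
  obtain ⟨hsep, hram⟩ := @h V' hV' locV'
  refine ⟨?_, ?_⟩
  · haveI := hsep
    exact sep_of_comap (A := A) j V' (fun a => rfl)
  · intro p hp hchar hdvd
    have he' := hram p hp hchar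
    have hjgπ : j (g π) ≠ 0 := (_root_.map_ne_zero j).mpr hgπ
    have hRI' := ramificationIdx'_eq_sSup V' π hπ
    have hRI := ramificationIdx'_eq_sSup (V'.comap j) π hπ
    have he'0 : Ideal.ramificationIdx' (maximalIdeal A) (maximalIdeal V') ≠ 0 := fun h0 =>
      he' (by rw [h0]; exact dvd_zero p)
    obtain ⟨z₀, hz₀⟩ := exists_hasOrdAt_of_sSup V'.valuation (x := j (g π)) hjgπ he'0 hRI'.symm
    obtain ⟨e, f, y₀, hy₀, hef⟩ := hz₀.descend V'.valuation j
    have hy₀' : HasOrdAt (V'.comap j).valuation (g π) e y₀ :=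
      hy₀.of_isEquiv (isEquiv_comap V' j).symm
    have h1 : Ideal.ramificationIdx' (maximalIdeal A) (maximalIdeal (V'.comap j)) = e := by
      rw [hRI]
      exact hy₀'.sSup_eq
    rw [h1] at hdvd
    exact he' (by rw [← hef]; exact Dvd.dvd.mul_right hdvd f)

theorem unram_sub (g : A →+* L) (j : L →+* M) (π : A)
    (hπ : maximalIdeal A = Ideal.span {π}) (hgπ : g π ≠ 0)
    (h : EtRam.IsUnramifiedExt A (j.comp g)) : EtRam.IsUnramifiedExt A g := by
  intro V hV
  obtain ⟨V', rfl⟩ := exists_comap_eq V j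
  have hV' : EtRam.Dominates A (j.comp g) V' := dominates_comp_of_comap hV
  letI algV : Algebra A (V'.comap j) := (RingHom.codRestrict g (V'.comap j) hV.1).toAlgebra
  intro locV
  letI algV' : Algebra A V' := (RingHom.codRestrict (j.comp g) V' hV'.1).toAlgebra
  haveI locV' : IsLocalHom (algebraMap A V') := isLocalHom_of_dominates hV'
  obtain ⟨hwu, hsep⟩ := @h V' hV' locV'
  refine ⟨?_, ?_⟩
  · have hjgπ : j (g π) ≠ 0 := (_root_.map_ne_zero j).mpr hgπ
    have hwu' : IsUnif V'.valuation (j (g π)) :=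
      (isWeaklyUnramified_iff V' π hπ hjgπ).mp hwu
    have h1 : IsUnif (V'.valuation.comap j) (g π) := ⟨hwu'.1, fun y hy => hwu'.2 (j y) hy⟩
    exact (isWeaklyUnramified_iff (V'.comap j) π hπ hgπ).mpr
      (h1.of_isEquiv (isEquiv_comap V' j).symm)
  · haveI := hsep
    exact sep_of_comap (A := A) j V' (fun a => rfl)

theorem tame_comp (g : A →+* L) (j : L →+* M) (π : A)
    (hπ : maximalIdeal A = Ideal.span {π}) (hgπ : g π ≠ 0)
    (h1 : EtRam.IsTamelyRamified A g)
    (h2 : ∀ V : ValuationSubring L, EtRam.Dominates A g V →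
      EtRam.IsTamelyRamified V (j.comp V.subtype)) :
    EtRam.IsTamelyRamified A (j.comp g) := by
  intro V' hV'
  have hV : EtRam.Dominates A g (V'.comap j) := dominates_comap_of_comp hV'
  have hVV' : EtRam.Dominates (V'.comap j) (j.comp (V'.comap j).subtype) V' :=
    dominates_subtype V' j
  letI algAV' : Algebra A V' := (RingHom.codRestrict (j.comp g) V' hV'.1).toAlgebra
  intro locAV'
  letI algAV : Algebra A (V'.comap j) := (RingHom.codRestrict g (V'.comap j) hV.1).toAlgebra
  haveI locAV : IsLocalHom (algebraMap A (V'.comap j)) := isLocalHom_of_dominates hV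
  letI algVV' : Algebra (V'.comap j) V' :=
    (RingHom.codRestrict (j.comp (V'.comap j).subtype) V' hVV'.1).toAlgebra
  haveI locVV' : IsLocalHom (algebraMap (V'.comap j) V') := isLocalHom_of_dominates hVV'
  obtain ⟨hsep1, hram1⟩ := @h1 (V'.comap j) hV locAV
  obtain ⟨hsep2, hram2⟩ := @h2 (V'.comap j) hV V' hVV' locVV'
  refine ⟨?_, ?_⟩
  · haveI := hsep1
    haveI := hsep2
    exact sep_trans (A := A) (B := V'.comap j) (C := V') (fun a => rfl)
  · intro p hp hchar hdvd
    haveI := hchar
    haveI hchar2 : CharP (ResidueField (V'.comap j)) p :=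
      charP_of_injective_algebraMap
        (algebraMap (ResidueField A) (ResidueField (V'.comap j))).injective p
    have he := hram1 p hp hchar
    have hf := hram2 p hp hchar2
    have he0 : Ideal.ramificationIdx' (maximalIdeal A) (maximalIdeal (V'.comap j)) ≠ 0 :=
      fun h0 => he (by rw [h0]; exact dvd_zero p)
    have hf0 : Ideal.ramificationIdx' (maximalIdeal (V'.comap j)) (maximalIdeal V') ≠ 0 :=
      fun h0 => hf (by rw [h0]; exact dvd_zero p)
    have hRI1 := ramificationIdx'_eq_sSup (V'.comap j) π hπ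
    obtain ⟨y₀, hy₀⟩ := exists_hasOrdAt_of_sSup (V'.comap j).valuation (x := g π) hgπ he0
      hRI1.symm
    have hy₀0 : y₀ ≠ 0 := hy₀.ne_zero
    have hy₀V : y₀ ∈ V'.comap j := ((V'.comap j).valuation_le_one_iff y₀).mp hy₀.2.2.1.1.le
    have hmV : maximalIdeal (V'.comap j) = Ideal.span {(⟨y₀, hy₀V⟩ : V'.comap j)} :=
      (maximalIdeal_eq_span_iff (V'.comap j) ⟨y₀, hy₀V⟩ hy₀0).mpr hy₀.2.2.1
    have hRI2 := ramificationIdx'_eq_sSup (R := V'.comap j) V' ⟨y₀, hy₀V⟩ hmV
    obtain ⟨z₀, hz₀⟩ := exists_hasOrdAt_of_sSup V'.valuation (x := j y₀)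
      ((_root_.map_ne_zero j).mpr hy₀0) hf0 hRI2.symm
    have h3 := HasOrdAt.comp V'.valuation j (hy₀.of_isEquiv (isEquiv_comap V' j)) hz₀
    have hRI3 := ramificationIdx'_eq_sSup V' π hπ
    have h4 : Ideal.ramificationIdx' (maximalIdeal A) (maximalIdeal V') =
        Ideal.ramificationIdx' (maximalIdeal A) (maximalIdeal (V'.comap j)) *
          Ideal.ramificationIdx' (maximalIdeal (V'.comap j)) (maximalIdeal V') := by
      rw [hRI3]
      exact h3.sSup_eq
    rw [h4] at hdvd
    rcases (Nat.Prime.dvd_mul hp).mp hdvd with h | h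
    · exact he h
    · exact hf h

theorem unram_comp (g : A →+* L) (j : L →+* M)
    (h1 : EtRam.IsUnramifiedExt A g)
    (h2 : ∀ V : ValuationSubring L, EtRam.Dominates A g V →
      EtRam.IsUnramifiedExt V (j.comp V.subtype)) :
    EtRam.IsUnramifiedExt A (j.comp g) := by
  intro V' hV'
  have hV : EtRam.Dominates A g (V'.comap j) := dominates_comap_of_comp hV'
  have hVV' : EtRam.Dominates (V'.comap j) (j.comp (V'.comap j).subtype) V' :=
    dominates_subtype V' j
  letI algAV' : Algebra A V' := (RingHom.codRestrict (j.comp g) V' hV'.1).toAlgebra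
  intro locAV'
  letI algAV : Algebra A (V'.comap j) := (RingHom.codRestrict g (V'.comap j) hV.1).toAlgebra
  haveI locAV : IsLocalHom (algebraMap A (V'.comap j)) := isLocalHom_of_dominates hV
  letI algVV' : Algebra (V'.comap j) V' :=
    (RingHom.codRestrict (j.comp (V'.comap j).subtype) V' hVV'.1).toAlgebra
  haveI locVV' : IsLocalHom (algebraMap (V'.comap j) V') := isLocalHom_of_dominates hVV'
  obtain ⟨hwu1, hsep1⟩ := @h1 (V'.comap j) hV locAV
  obtain ⟨hwu2, hsep2⟩ := @h2 (V'.comap j) hV V' hVV' locVV'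
  refine ⟨?_, ?_⟩
  · unfold EtRam.IsWeaklyUnramified at hwu1 hwu2 ⊢
    have hcomp : (algebraMap (V'.comap j) V').comp (algebraMap A (V'.comap j)) =
        algebraMap A V' := RingHom.ext (fun a => rfl)
    rw [← hcomp, ← Ideal.map_map, hwu1, hwu2]
  · haveI := hsep1
    haveI := hsep2
    exact sep_trans (A := A) (B := V'.comap j) (C := V') (fun a => rfl)

end Groth.Agent.H8.RI
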