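import Mathlib
import Groth.Prelude.Def_EtRam

set_option autoImplicit false
universe u

namespace Groth.Agent.H8.BC

open IsLocalRing TensorProduct

/-- A reduced ring which is integral over a field is von Neumann regular. -/
theorem vnr_of_isReduced_of_isIntegral {F R : Type*} [Field F] [CommRing R] [Algebra F R]
    [IsReduced R] [Algebra.IsIntegral F R] (x : R) : ∃ y, x = x * x * y := by
  obtain ⟨P, hP, hPx⟩ := Algebra.IsIntegral.isIntegral (R := F) x
  obtain ⟨Q, hPQ, hQ⟩ := Polynomial.exists_eq_pow_rootMultiplicity_mul_and_not_dvd P hP.ne_zero 0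
  obtain ⟨m, hm⟩ : ∃ m, m = Polynomial.rootMultiplicity 0 P := ⟨_, rfl⟩
  rw [← hm, Polynomial.C_0, sub_zero] at hPQ
  rw [Polynomial.C_0, sub_zero] at hQ
  have hq0 : Q.coeff 0 ≠ 0 := fun h => hQ (Polynomial.X_dvd_iff.mpr h)
  have h1 : x ^ m * Polynomial.aeval x Q = 0 := by
    have h0 : Polynomial.aeval x P = 0 := by rw [Polynomial.aeval_def]; exact hPx
    rw [hPQ, map_mul, map_pow, Polynomial.aeval_X] at h0
    exact h0
  have h2 : x * Polynomial.aeval x Q = 0 := by
    apply IsReduced.eq_zero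
    refine ⟨m + 1, ?_⟩
    calc (x * Polynomial.aeval x Q) ^ (m + 1)
        = x * (Polynomial.aeval x Q) ^ m * (x ^ m * Polynomial.aeval x Q) := by ring
      _ = 0 := by rw [h1, mul_zero]
  have h3 : Polynomial.aeval x Q.divX * x + algebraMap F R (Q.coeff 0) = Polynomial.aeval x Q := by
    have h := congrArg (Polynomial.aeval x) (Polynomial.divX_mul_X_add Q)
    rwa [map_add, map_mul, Polynomial.aeval_X, Polynomial.aeval_C] at h
  have h4 : algebraMap F R (Q.coeff 0) * algebraMap F R (Q.coeff 0)⁻¹ = 1 := by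
    rw [← map_mul, mul_inv_cancel₀ hq0, map_one]
  rw [← h3] at h2
  refine ⟨- algebraMap F R (Q.coeff 0)⁻¹ * Polynomial.aeval x Q.divX, ?_⟩
  linear_combination (algebraMap F R (Q.coeff 0)⁻¹) * h2 - x * h4

section Core

variable {A X Y M : Type u} [CommRing A] [IsLocalRing A] [CommRing X] [IsLocalRing X]
  [CommRing Y] [IsLocalRing Y] [Field M] (W : ValuationSubring M)
  [Algebra A X] [Algebra A Y] [Algebra A W] [Algebra X W] [Algebra Y W]
  [IsScalarTower A X W] [IsScalarTower A Y W]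
  [IsLocalHom (algebraMap A X)] [IsLocalHom (algebraMap A Y)] [IsLocalHom (algebraMap A W)]
  [IsLocalHom (algebraMap X W)] [IsLocalHom (algebraMap Y W)]

/-- The multiplication map `Y ⊗[A] X → W`. -/
noncomputable def phiW : Y ⊗[A] X →ₐ[A] W :=
  Algebra.TensorProduct.productMap (IsScalarTower.toAlgHom A Y W) (IsScalarTower.toAlgHom A X W)

omit [IsLocalRing A] [IsLocalRing X] [IsLocalRing Y] [IsLocalHom (algebraMap A X)]
  [IsLocalHom (algebraMap A Y)] [IsLocalHom (algebraMap A W)] [IsLocalHom (algebraMap X W)]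
  [IsLocalHom (algebraMap Y W)] in
theorem phiW_tmul (y : Y) (x : X) :
    phiW W (y ⊗ₜ[A] x) = algebraMap Y W y * algebraMap X W x := by
  simp [phiW]

noncomputable def resMap : Y ⊗[A] X →ₐ[A] (ResidueField Y ⊗[A] ResidueField X) :=
  Algebra.TensorProduct.map (IsScalarTower.toAlgHom A Y (ResidueField Y))
      (IsScalarTower.toAlgHom A X (ResidueField X))

noncomputable def cmp : (ResidueField Y ⊗[A] ResidueField X) ≃ₐ[A]
    (ResidueField Y ⊗[ResidueField A] ResidueField X) :=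
  haveI : TensorProduct.CompatibleSMul A (ResidueField A) (ResidueField Y) (ResidueField X) :=
    TensorProduct.CompatibleSMul.of_algebraMap_surjective _ _ residue_surjective
  Algebra.TensorProduct.equivOfCompatibleSMul (ResidueField A) A A (ResidueField Y) (ResidueField X)

/-- The reduction map `Y ⊗[A] X → κ(Y) ⊗[κ(A)] κ(X)`. -/
noncomputable def rho : Y ⊗[A] X →ₐ[A] (ResidueField Y ⊗[ResidueField A] ResidueField X) :=
  (cmp (A := A) (X := X) (Y := Y)).toAlgHom.comp resMap

theorem rho_tmul (y : Y) (x : X) :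
    rho (y ⊗ₜ[A] x) = residue Y y ⊗ₜ[ResidueField A] residue X x := by
  simp [rho, resMap, cmp]
  rfl

theorem rho_surjective : Function.Surjective (rho (A := A) (X := X) (Y := Y)) := by
  intro r
  obtain ⟨r', rfl⟩ := (cmp (A := A) (X := X) (Y := Y)).surjective r
  obtain ⟨c, rfl⟩ := Algebra.TensorProduct.map_surjective
    (IsScalarTower.toAlgHom A Y (ResidueField Y))
    (IsScalarTower.toAlgHom A X (ResidueField X)) residue_surjective residue_surjective r'
  exact ⟨c, rfl⟩

theorem ker_rho_le (π : A) (hπm : π ∈ maximalIdeal A)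
    (hX : maximalIdeal X = Ideal.span {algebraMap A X π}) (ϖ : Y)
    (hY : maximalIdeal Y = Ideal.span {ϖ}) :
    RingHom.ker (rho (A := A) (X := X) (Y := Y)) ≤ Ideal.span {ϖ ⊗ₜ[A] (1 : X)} := by
  intro c hc
  rw [RingHom.mem_ker] at hc
  have h1 : resMap (A := A) (X := X) (Y := Y) c = 0 := by
    apply (cmp (A := A) (X := X) (Y := Y)).injective
    rw [map_zero]
    exact hc
  have h2 : c ∈ RingHom.ker (resMap (A := A) (X := X) (Y := Y)) := RingHom.mem_ker.mpr h1
  unfold resMap at h2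
  rw [Algebra.TensorProduct.map_ker _ _ residue_surjective residue_surjective] at h2
  have hkY : RingHom.ker (IsScalarTower.toAlgHom A Y (ResidueField Y)) = Ideal.span {ϖ} := by
    ext y
    rw [RingHom.mem_ker, ← hY]
    exact residue_eq_zero_iff y
  have hkX : RingHom.ker (IsScalarTower.toAlgHom A X (ResidueField X)) =
      Ideal.span {algebraMap A X π} := by
    ext x
    rw [RingHom.mem_ker, ← hX]
    exact residue_eq_zero_iff x
  rw [hkY, hkX, Ideal.map_span, Ideal.map_span, Set.image_singleton, Set.image_singleton] at h2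
  have hπY : algebraMap A Y π ∈ Ideal.span {ϖ} := by
    rw [← hY, mem_maximalIdeal, mem_nonunits_iff]
    intro h
    exact (mem_nonunits_iff.mp ((mem_maximalIdeal π).mp hπm))
      (isUnit_of_map_unit (algebraMap A Y) π h)
  obtain ⟨t, ht⟩ := Ideal.mem_span_singleton'.mp hπY
  have h3 : (1 : Y) ⊗ₜ[A] (algebraMap A X π) = (t ⊗ₜ[A] (1 : X)) * (ϖ ⊗ₜ[A] (1 : X)) := by
    rw [Algebra.TensorProduct.tmul_mul_tmul, mul_one, ht, Algebra.algebraMap_eq_smul_one,
      Algebra.algebraMap_eq_smul_one, TensorProduct.smul_tmul]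
  refine (sup_le ?_ ?_ : _ ≤ Ideal.span {ϖ ⊗ₜ[A] (1 : X)}) h2
  · rw [Ideal.span_singleton_le_iff_mem]
    exact Ideal.subset_span rfl
  · rw [Ideal.span_singleton_le_iff_mem]
    show (1 : Y) ⊗ₜ[A] (algebraMap A X π) ∈ _
    rw [h3]
    exact Ideal.mul_mem_left _ _ (Ideal.subset_span rfl)

/-- The map `κ(Y) ⊗[κ(A)] κ(X) → κ(W)`. -/
noncomputable def psi : (ResidueField Y ⊗[ResidueField A] ResidueField X) →ₐ[ResidueField Y]
    ResidueField W :=
  Algebra.TensorProduct.productLeftAlgHom (Algebra.ofId (ResidueField Y) (ResidueField W))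
    (IsScalarTower.toAlgHom (ResidueField A) (ResidueField X) (ResidueField W))

theorem psi_tmul (y : ResidueField Y) (x : ResidueField X) :
    psi W (y ⊗ₜ[ResidueField A] x) = algebraMap (ResidueField Y) (ResidueField W) y *
      algebraMap (ResidueField X) (ResidueField W) x := by
  simp [psi, Algebra.TensorProduct.productLeftAlgHom]

theorem psi_rho (c : Y ⊗[A] X) : psi W (rho c) = residue W (phiW W c) := by
  induction c using TensorProduct.induction_on with
  | zero => simp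
  | tmul y x =>
    rw [rho_tmul, psi_tmul, phiW_tmul, map_mul]
    rfl
  | add a b ha hb => simp only [map_add, ha, hb]

theorem bc_core (π : A) (hπm : π ∈ maximalIdeal A)
    (hX : maximalIdeal X = Ideal.span {algebraMap A X π}) (ϖ : Y)
    (hY : maximalIdeal Y = Ideal.span {ϖ})
    (hϖ0 : ((algebraMap Y W ϖ : W) : M) ≠ 0)
    (hvnr : ∀ x : ResidueField Y ⊗[ResidueField A] ResidueField X, ∃ y, x = x * x * y)
    (harch : ∀ w : M, w ≠ 0 →
      ∃ n : ℕ, W.valuation ((algebraMap Y W ϖ : W) : M) ^ n < W.valuation w)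
    (hgen : ∀ y : M, ∃ (N : ℕ) (c : Y ⊗[A] X),
      y * ((algebraMap Y W ϖ : W) : M) ^ N = ((phiW W c : W) : M)) :
    (∀ y : M, W.valuation y < 1 → W.valuation y ≤ W.valuation ((algebraMap Y W ϖ : W) : M)) ∧
    Function.Surjective (psi (A := A) (X := X) (Y := Y) W) := by
  obtain ⟨Φ, hΦ⟩ : ∃ Φ : Y ⊗[A] X →+* M, ∀ c, Φ c = ((phiW W c : W) : M) :=
    ⟨W.subtype.comp (phiW W).toRingHom, fun _ => rfl⟩
  have hφϖ : phiW W (ϖ ⊗ₜ[A] (1 : X)) = algebraMap Y W ϖ := by
    rw [phiW_tmul, map_one, mul_one]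
  have hΦϖ : Φ (ϖ ⊗ₜ[A] (1 : X)) = ((algebraMap Y W ϖ : W) : M) := by rw [hΦ, hφϖ]
  obtain ⟨τ, hτ⟩ : ∃ τ, τ = W.valuation ((algebraMap Y W ϖ : W) : M) := ⟨_, rfl⟩
  rw [← hτ] at harch ⊢
  have hτΦ : W.valuation (Φ (ϖ ⊗ₜ[A] (1 : X))) = τ := by rw [hΦϖ, hτ]
  have hΦϖ0 : Φ (ϖ ⊗ₜ[A] (1 : X)) ≠ 0 := by rw [hΦϖ]; exact hϖ0
  have hτ0 : τ ≠ 0 := by rw [hτ]; exact (Valuation.ne_zero_iff _).mpr hϖ0
  have hτpos : 0 < τ := zero_lt_iff.mpr hτ0
  have hτlt : τ < 1 := by
    rw [hτ, ← W.valuation_lt_one_iff, mem_maximalIdeal, mem_nonunits_iff]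
    intro h
    have h1 : IsUnit ϖ := isUnit_of_map_unit (algebraMap Y W) ϖ h
    have h2 : ϖ ∈ maximalIdeal Y := by rw [hY]; exact Ideal.mem_span_singleton_self ϖ
    exact (mem_nonunits_iff.mp ((mem_maximalIdeal ϖ).mp h2)) h1
  have hΦle : ∀ c, W.valuation (Φ c) ≤ 1 := fun c => by rw [hΦ]; exact W.valuation_le_one _
  have hgen' : ∀ y : M, ∃ (N : ℕ) (c : Y ⊗[A] X), y * Φ (ϖ ⊗ₜ[A] (1 : X)) ^ N = Φ c := by
    intro y
    obtain ⟨N, c, h⟩ := hgen y
    exact ⟨N, c, by rw [hΦϖ, hΦ]; exact h⟩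
  have hker := ker_rho_le (A := A) (X := X) (Y := Y) π hπm hX ϖ hY
  -- peeling off one power of the uniformizer
  have hF2 : ∀ c : Y ⊗[A] X, W.valuation (Φ c) < 1 →
      ∃ ε c' : Y ⊗[A] X, W.valuation (Φ ε) = 1 ∧ ε * c = (ϖ ⊗ₜ[A] (1 : X)) * c' := by
    intro c hc
    rw [hΦ] at hc
    have h0 : residue W (phiW W c) = 0 :=
      (residue_eq_zero_iff _).mpr ((W.valuation_lt_one_iff _).mpr hc)
    have hx : psi W (rho c) = 0 := (psi_rho W c).trans h0
    obtain ⟨y, hy⟩ := hvnr (rho c)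
    obtain ⟨cy, rfl⟩ := rho_surjective (A := A) (X := X) (Y := Y) y
    have h1 : rho ((1 - c * cy) * c) = 0 := by
      rw [map_mul, map_sub, map_one, map_mul]
      linear_combination hy
    have h2 : (1 - c * cy) * c ∈ Ideal.span {ϖ ⊗ₜ[A] (1 : X)} := hker (RingHom.mem_ker.mpr h1)
    obtain ⟨c', hc'⟩ := Ideal.mem_span_singleton'.mp h2
    refine ⟨1 - c * cy, c', ?_, by rw [← hc', mul_comm]⟩
    have h3 : residue W (phiW W (1 - c * cy)) = 1 := by
      rw [← psi_rho]
      simp only [map_sub, map_one, map_mul, hx, zero_mul, sub_zero]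
    have h4 : IsUnit (phiW W (1 - c * cy)) := by
      rw [← residue_ne_zero_iff_isUnit, h3]; exact one_ne_zero
    rw [hΦ]
    exact (W.valuation_eq_one_iff _).mp h4
  -- iteration
  have hiter : ∀ n : ℕ, ∀ c : Y ⊗[A] X, τ ^ n < W.valuation (Φ c) →
      ∃ (m : ℕ) (E c' : Y ⊗[A] X), W.valuation (Φ E) = 1 ∧ W.valuation (Φ c') = 1 ∧
        E * c = (ϖ ⊗ₜ[A] (1 : X)) ^ m * c' := by
    intro n
    induction n with
    | zero =>
      intro c hc
      rw [pow_zero] at hc
      exact absurd (hΦle c) (not_le.mpr hc)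
    | succ n ih =>
      intro c hc
      rcases (hΦle c).lt_or_eq with hlt | heq
      · obtain ⟨ε, c₁, hε, hc₁⟩ := hF2 c hlt
        have hval : W.valuation (Φ c) = τ * W.valuation (Φ c₁) := by
          have h := congrArg (fun z => W.valuation (Φ z)) hc₁
          simp only [map_mul] at h
          rw [hε, one_mul, hτΦ] at h
          exact h
        rw [hval, pow_succ'] at hc
        have hc2 : τ ^ n < W.valuation (Φ c₁) := lt_of_mul_lt_mul_left hc hτpos.le
        obtain ⟨m', E', c', hE', hc', heq'⟩ := ih c₁ hc2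
        refine ⟨m' + 1, E' * ε, c', ?_, hc', ?_⟩
        · rw [map_mul, map_mul, hE', hε, one_mul]
        · linear_combination E' * hc₁ + (ϖ ⊗ₜ[A] (1 : X)) * heq'
      · exact ⟨0, 1, c, by rw [map_one, map_one], heq, by rw [pow_zero, one_mul]⟩
  have hvm : ∀ (c : Y ⊗[A] X) (m : ℕ) (E c' : Y ⊗[A] X), W.valuation (Φ E) = 1 →
      W.valuation (Φ c') = 1 → E * c = (ϖ ⊗ₜ[A] (1 : X)) ^ m * c' → W.valuation (Φ c) = τ ^ m := by
    intro c m E c' hE hc' heq
    have h := congrArg (fun z => W.valuation (Φ z)) heq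
    simp only [map_mul, map_pow] at h
    rw [hE, hc', one_mul, mul_one, hτΦ] at h
    exact h
  constructor
  · intro y hy
    by_cases hy0 : y = 0
    · rw [hy0, map_zero]; exact zero_le'
    obtain ⟨N, c, hNc⟩ := hgen' y
    have hvc : W.valuation (Φ c) = W.valuation y * τ ^ N := by
      rw [← hNc, map_mul, map_pow, hτΦ]
    have hc0 : Φ c ≠ 0 := by
      rw [← hNc]; exact mul_ne_zero hy0 (pow_ne_zero _ hΦϖ0)
    obtain ⟨n, hn⟩ := harch (Φ c) hc0
    obtain ⟨m, E, c', hE, hc', heq⟩ := hiter n c hn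
    have hvm' := hvm c m E c' hE hc' heq
    have h1 : τ ^ m < τ ^ N := by
      rw [← hvm', hvc]
      calc W.valuation y * τ ^ N < 1 * τ ^ N := mul_lt_mul_of_pos_right hy (pow_pos hτpos N)
        _ = τ ^ N := one_mul _
    have h2 : N < m := (pow_lt_pow_iff_right_of_lt_one₀ hτpos hτlt).mp h1
    have h3 : W.valuation y * τ ^ N ≤ τ * τ ^ N := by
      rw [← hvc, hvm', ← pow_succ']
      exact pow_le_pow_of_le_one hτpos.le hτlt.le (Nat.succ_le_of_lt h2)
    exact le_of_mul_le_mul_right h3 (pow_pos hτpos N)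
  · intro wbar
    obtain ⟨w, rfl⟩ := residue_surjective wbar
    by_cases hw : w ∈ maximalIdeal W
    · exact ⟨0, by rw [map_zero]; exact ((residue_eq_zero_iff w).mpr hw).symm⟩
    have hwu : IsUnit w := by
      by_contra h
      exact hw ((mem_maximalIdeal w).mpr (mem_nonunits_iff.mpr h))
    have hv1 : W.valuation (w : M) = 1 := (W.valuation_eq_one_iff w).mp hwu
    have hw0 : (w : M) ≠ 0 := by
      intro h
      rw [h, map_zero] at hv1
      exact zero_ne_one hv1
    obtain ⟨N, c, hNc⟩ := hgen' (w : M)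
    have hvc : W.valuation (Φ c) = τ ^ N := by
      rw [← hNc, map_mul, map_pow, hv1, one_mul, hτΦ]
    have hc0 : Φ c ≠ 0 := by
      rw [← hNc]; exact mul_ne_zero hw0 (pow_ne_zero _ hΦϖ0)
    obtain ⟨n, hn⟩ := harch (Φ c) hc0
    obtain ⟨m, E, c', hE, hc', heq⟩ := hiter n c hn
    have hvm' := hvm c m E c' hE hc' heq
    have hmN : m = N := pow_right_injective₀ hτpos (ne_of_lt hτlt) (hvm'.symm.trans hvc)
    subst hmN
    have h1 : Φ E * (w : M) = Φ c' := by
      have h2 := congrArg Φ heq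
      rw [map_mul, map_mul, map_pow, ← hNc] at h2
      have h3 : Φ (ϖ ⊗ₜ[A] (1 : X)) ^ m ≠ 0 := pow_ne_zero _ hΦϖ0
      apply mul_right_cancel₀ h3
      linear_combination h2
    have h4 : residue W (phiW W E) * residue W w = residue W (phiW W c') := by
      rw [← map_mul]
      congr 1
      apply Subtype.ext
      show ((phiW W E : W) : M) * (w : M) = ((phiW W c' : W) : M)
      rw [← hΦ E, ← hΦ c']
      exact h1
    rw [← psi_rho, ← psi_rho] at h4
    have hE0 : psi W (rho E) ≠ 0 := by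
      rw [psi_rho, residue_ne_zero_iff_isUnit, W.valuation_eq_one_iff, ← hΦ]
      exact hE
    obtain ⟨yE, hyE⟩ := hvnr (rho E)
    have h5 : psi W (rho E) * psi W yE = 1 := by
      have h6 := congrArg (psi W) hyE
      rw [map_mul, map_mul] at h6
      have h7 : psi W (rho E) * (1 - psi W (rho E) * psi W yE) = 0 := by
        linear_combination h6
      rcases mul_eq_zero.mp h7 with h8 | h8
      · exact absurd h8 hE0
      · linear_combination (-1 : ResidueField W) * h8
    refine ⟨yE * rho c', ?_⟩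
    rw [map_mul, ← h4]
    linear_combination (residue W w) * h5

end Core

end Groth.Agent.H8.BC
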