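import Mathlib
import Groth.Agent.Lib.Helper8.ASK.BCCore

set_option autoImplicit false

namespace Groth.Agent.H8.BC

open Polynomial

/-- Adjoining a root of a monic polynomial which is squarefree over every residue field to a
reduced ring gives a reduced ring. -/
theorem isReduced_adjoinRoot_of_squarefree {R₀ : Type*} [CommRing R₀] [IsReduced R₀] (g : R₀[X])
    (hg : g.Monic)
    (hsq : ∀ (𝔭 : Ideal R₀) [𝔭.IsPrime], Squarefree (g.map (algebraMap R₀ 𝔭.ResidueField))) :
    IsReduced (AdjoinRoot g) := by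
  rcases subsingleton_or_nontrivial R₀ with hs | hnt
  · haveI : Subsingleton (AdjoinRoot g) := Module.subsingleton R₀ _
    exact ⟨fun x _ => Subsingleton.elim x 0⟩
  have hrad : (Ideal.span {g} : Ideal R₀[X]).IsRadical := by
    intro p hp
    obtain ⟨n, hn⟩ := hp
    rw [Ideal.mem_span_singleton] at hn ⊢
    obtain ⟨r, hr⟩ : ∃ r, r = p %ₘ g := ⟨_, rfl⟩
    have hsub : p - r = g * (p /ₘ g) := by
      have h := modByMonic_add_div p g
      rw [← hr] at h
      linear_combination (-1 : R₀[X]) * h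
    have hgr : g ∣ r ^ n := by
      have h1 : g ∣ p ^ n - r ^ n :=
        dvd_trans ⟨p /ₘ g, hsub⟩ (sub_dvd_pow_sub_pow p r n)
      have h2 : r ^ n = p ^ n - (p ^ n - r ^ n) := by ring
      rw [h2]
      exact dvd_sub hn h1
    have hcoef : ∀ (𝔭 : Ideal R₀) [𝔭.IsPrime], ∀ i, r.coeff i ∈ 𝔭 := by
      intro 𝔭 _ i
      have hsq' := (hsq 𝔭).isRadical
      have h1 : g.map (algebraMap R₀ 𝔭.ResidueField) ∣
          (r.map (algebraMap R₀ 𝔭.ResidueField)) ^ n := by
        rw [← Polynomial.map_pow]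
        exact Polynomial.map_dvd _ hgr
      have h2 := hsq' n _ h1
      have h3 : r.map (algebraMap R₀ 𝔭.ResidueField) = 0 := by
        apply Polynomial.eq_zero_of_dvd_of_degree_lt h2
        calc (r.map (algebraMap R₀ 𝔭.ResidueField)).degree ≤ r.degree := degree_map_le
          _ < g.degree := by rw [hr]; exact degree_modByMonic_lt p hg
          _ = (g.map (algebraMap R₀ 𝔭.ResidueField)).degree := (hg.degree_map _).symm
      have h4 := congrArg (fun q => q.coeff i) h3
      simp only [coeff_map, coeff_zero] at h4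
      exact Ideal.algebraMap_residueField_eq_zero.mp h4
    have hr0 : r = 0 := by
      ext i
      rw [coeff_zero]
      have hnil : r.coeff i ∈ nilradical R₀ := by
        rw [nilradical_eq_sInf, Ideal.mem_sInf]
        intro 𝔭 h𝔭
        haveI : 𝔭.IsPrime := h𝔭
        exact hcoef 𝔭 i
      rw [nilradical_eq_zero, Ideal.zero_eq_bot, Ideal.mem_bot] at hnil
      exact hnil
    rw [← modByMonic_eq_zero_iff_dvd hg, ← hr]
    exact hr0
  exact (Ideal.isRadical_iff_quotient_reduced _).mp hrad

theorem isReduced_adjoinRoot_X_pow_sub_C {R₀ : Type*} [CommRing R₀] [IsReduced R₀] (d : ℕ)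
    (hd : d ≠ 0) (η : R₀) (hη : IsUnit η) (hdu : IsUnit (d : R₀)) :
    IsReduced (AdjoinRoot (X ^ d - C η : R₀[X])) := by
  apply isReduced_adjoinRoot_of_squarefree _ (monic_X_pow_sub_C η hd)
  intro 𝔭 _
  rw [Polynomial.map_sub, Polynomial.map_pow, map_X, map_C]
  apply Separable.squarefree
  apply separable_X_pow_sub_C
  · have h := hdu.map (algebraMap R₀ 𝔭.ResidueField)
    rw [map_natCast] at h
    exact h.ne_zero
  · exact (hη.map (algebraMap R₀ 𝔭.ResidueField)).ne_zero

/-- Adjoining a `d`-th root of a unit (`d` invertible) to a reduced ring integral over a field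
gives a von Neumann regular ring. -/
theorem vnr_adjoinRoot {F R₀ : Type*} [Field F] [CommRing R₀] [Algebra F R₀] [IsReduced R₀]
    [Algebra.IsIntegral F R₀] (d : ℕ) (hd : d ≠ 0) (η : R₀) (hη : IsUnit η) (hdF : (d : F) ≠ 0)
    (x : AdjoinRoot (X ^ d - C η : R₀[X])) : ∃ y, x = x * x * y := by
  have hdu : IsUnit (d : R₀) := by
    have h := (isUnit_iff_ne_zero.mpr hdF).map (algebraMap F R₀)
    rwa [map_natCast] at h
  haveI := isReduced_adjoinRoot_X_pow_sub_C d hd η hη hdu
  haveI : Module.Finite R₀ (AdjoinRoot (X ^ d - C η : R₀[X])) :=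
    (monic_X_pow_sub_C η hd).finite_adjoinRoot
  haveI : Algebra.IsIntegral R₀ (AdjoinRoot (X ^ d - C η : R₀[X])) :=
    Algebra.IsIntegral.of_finite _ _
  haveI : Algebra.IsIntegral F (AdjoinRoot (X ^ d - C η : R₀[X])) :=
    Algebra.IsIntegral.trans R₀
  exact vnr_of_isReduced_of_isIntegral (F := F) x

end Groth.Agent.H8.BC
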