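import Mathlib

set_option autoImplicit false

namespace Groth.Agent.H8.BC

/-- If `x y ∈ W` and `x * y = 1` then `x` has valuation one. -/
theorem val_eq_one_of_mul_eq_one {M : Type*} [Field M] (W : ValuationSubring M) {x y : M}
    (hx : x ∈ W) (hy : y ∈ W) (hxy : x * y = 1) : W.valuation x = 1 := by
  have h1 : W.valuation x ≤ 1 := (W.valuation_le_one_iff x).mpr hx
  have h2 : W.valuation y ≤ 1 := (W.valuation_le_one_iff y).mpr hy
  have h3 : W.valuation x * W.valuation y = 1 := by rw [← map_mul, hxy, map_one]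
  apply le_antisymm h1
  calc 1 = W.valuation x * W.valuation y := h3.symm
    _ ≤ W.valuation x * 1 := mul_le_mul' le_rfl h2
    _ = W.valuation x := mul_one _

/-- Abstract form of the base-change argument: a ring `R` mapping into a valuation ring `W`, an
element `t` of positive valuation such that `R` is von Neumann regular modulo `t` (inside `W`),
`W` archimedean with respect to `t`, and the fraction field generated by `R[1/t]`. Then `t` is a
uniformizer of `W` and `R` surjects onto the residue field. -/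
theorem bc_abs {M : Type*} [Field M] (W : ValuationSubring M) {R : Type*} [CommRing R]
    (Φ : R →+* M) (hΦW : ∀ r, Φ r ∈ W) (t : M) (ht0 : t ≠ 0) (ht1 : W.valuation t < 1)
    (hvnr : ∀ r : R, ∃ s r' : R, Φ r - Φ r * Φ r * Φ s = t * Φ r')
    (harch : ∀ w : M, w ≠ 0 → ∃ n : ℕ, W.valuation t ^ n < W.valuation w)
    (hgen : ∀ y : M, ∃ (N : ℕ) (r : R), y * t ^ N = Φ r) :
    (∀ y : M, W.valuation y < 1 → W.valuation y ≤ W.valuation t) ∧
    (∀ w : M, w ∈ W → ∃ r : R, W.valuation (w - Φ r) < 1) := by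
  obtain ⟨τ, hτ⟩ : ∃ τ, τ = W.valuation t := ⟨_, rfl⟩
  rw [← hτ] at harch ht1 ⊢
  have hτ0 : τ ≠ 0 := by rw [hτ]; exact (Valuation.ne_zero_iff _).mpr ht0
  have hτpos : 0 < τ := zero_lt_iff.mpr hτ0
  have hΦle : ∀ r, W.valuation (Φ r) ≤ 1 := fun r => (W.valuation_le_one_iff _).mpr (hΦW r)
  have hstep : ∀ r : R, W.valuation (Φ r) < 1 → ∃ (s r' : R),
      Φ r * (1 - Φ r * Φ s) = t * Φ r' ∧ W.valuation (1 - Φ r * Φ s) = 1 := by
    intro r hr
    obtain ⟨s, r', h⟩ := hvnr r
    refine ⟨s, r', by rw [← h]; ring, ?_⟩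
    apply Valuation.map_one_sub_of_lt
    rw [map_mul]
    calc W.valuation (Φ r) * W.valuation (Φ s) ≤ W.valuation (Φ r) * 1 :=
          mul_le_mul' le_rfl (hΦle s)
      _ = W.valuation (Φ r) := mul_one _
      _ < 1 := hr
  have key : ∀ n : ℕ, ∀ r : R, Φ r ≠ 0 → τ ^ n < W.valuation (Φ r) →
      ∃ k : ℕ, W.valuation (Φ r) = τ ^ k := by
    intro n
    induction n with
    | zero =>
      intro r _ h
      rw [pow_zero] at h
      exact absurd (hΦle r) (not_le.mpr h)
    | succ n ih =>
      intro r hr0 h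
      rcases (hΦle r).lt_or_eq with hlt | heq
      · obtain ⟨s, r', h1, h2⟩ := hstep r hlt
        have h3 : W.valuation (Φ r) = τ * W.valuation (Φ r') := by
          have h4 := congrArg W.valuation h1
          rw [map_mul, map_mul, h2, mul_one, ← hτ] at h4
          exact h4
        have hr'0 : Φ r' ≠ 0 := by
          intro h0
          rw [h0, map_zero, mul_zero] at h3
          exact hr0 ((Valuation.zero_iff _).mp h3)
        have h4 : τ ^ n < W.valuation (Φ r') := by
          rw [h3, pow_succ'] at h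
          exact lt_of_mul_lt_mul_left h zero_le'
        obtain ⟨k, hk⟩ := ih r' hr'0 h4
        exact ⟨k + 1, by rw [h3, hk, pow_succ']⟩
      · exact ⟨0, by rw [heq, pow_zero]⟩
  have hval : ∀ r : R, Φ r ≠ 0 → ∃ k : ℕ, W.valuation (Φ r) = τ ^ k := by
    intro r hr0
    obtain ⟨n, hn⟩ := harch (Φ r) hr0
    exact key n r hr0 hn
  refine ⟨?_, ?_⟩
  · intro y hy
    by_cases hy0 : y = 0
    · rw [hy0, map_zero]; exact zero_le'
    obtain ⟨N, r, hr⟩ := hgen y
    have hr0 : Φ r ≠ 0 := by
      rw [← hr]; exact mul_ne_zero hy0 (pow_ne_zero _ ht0)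
    obtain ⟨k, hk⟩ := hval r hr0
    have h1 : W.valuation y * τ ^ N = τ ^ k := by
      rw [← hk, ← hr, map_mul, map_pow, ← hτ]
    have hNk : N < k := by
      by_contra hle
      have hle' : k ≤ N := not_lt.mp hle
      have h2 : τ ^ N ≤ τ ^ k := pow_le_pow_of_le_one zero_le' ht1.le hle'
      have h3 : W.valuation y * τ ^ N < 1 * τ ^ N :=
        mul_lt_mul_of_pos_right hy (pow_pos hτpos N)
      rw [h1, one_mul] at h3
      exact absurd h2 (not_le.mpr h3)
    obtain ⟨j, rfl⟩ : ∃ j, k = N + (j + 1) := ⟨k - N - 1, by omega⟩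
    have h4 : W.valuation y = τ ^ (j + 1) := by
      rw [pow_add] at h1
      have h5 : W.valuation y * τ ^ N = τ ^ (j + 1) * τ ^ N := by rw [h1, mul_comm]
      exact mul_right_cancel₀ (pow_ne_zero N hτ0) h5
    rw [h4]
    calc τ ^ (j + 1) = τ ^ j * τ := pow_succ _ _
      _ ≤ 1 * τ := mul_le_mul' (pow_le_one₀ zero_le' ht1.le) le_rfl
      _ = τ := one_mul _
  · have hC2 : ∀ N : ℕ, ∀ w : M, w ∈ W → (∃ r : R, w * t ^ N = Φ r) →
        ∃ r : R, W.valuation (w - Φ r) < 1 := by
      intro N
      induction N with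
      | zero =>
        rintro w _ ⟨r, hr⟩
        refine ⟨r, ?_⟩
        rw [pow_zero, mul_one] at hr
        rw [hr, sub_self, map_zero]
        exact zero_lt_one
      | succ N ih =>
        rintro w hw ⟨r, hr⟩
        have hwle : W.valuation w ≤ 1 := (W.valuation_le_one_iff _).mpr hw
        have hrlt : W.valuation (Φ r) < 1 := by
          rw [← hr, map_mul, map_pow, ← hτ]
          calc W.valuation w * τ ^ (N + 1) ≤ 1 * τ ^ (N + 1) := mul_le_mul' hwle le_rfl
            _ = τ ^ (N + 1) := one_mul _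
            _ < 1 := pow_lt_one₀ zero_le' ht1 (Nat.succ_ne_zero N)
        obtain ⟨s, r', h1, h2⟩ := hstep r hrlt
        have hw1 : w * (1 - Φ r * Φ s) ∈ W := by
          apply mul_mem hw
          rw [← W.valuation_le_one_iff, h2]
        have h3 : (w * (1 - Φ r * Φ s)) * t ^ N = Φ r' := by
          have h4 : t * ((w * (1 - Φ r * Φ s)) * t ^ N) = t * Φ r' := by
            rw [← h1, ← hr]; ring
          exact mul_left_cancel₀ ht0 h4
        obtain ⟨r'', hr''⟩ := ih _ hw1 ⟨r', h3⟩
        refine ⟨r'', ?_⟩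
        have h5 : w - Φ r'' = (w * (1 - Φ r * Φ s) - Φ r'') + w * (Φ r * Φ s) := by ring
        rw [h5]
        apply Valuation.map_add_lt _ hr''
        rw [map_mul, map_mul]
        calc W.valuation w * (W.valuation (Φ r) * W.valuation (Φ s))
            ≤ 1 * (W.valuation (Φ r) * 1) :=
              mul_le_mul' hwle (mul_le_mul' le_rfl (hΦle s))
          _ = W.valuation (Φ r) := by rw [one_mul, mul_one]
          _ < 1 := hrlt
    intro w hw
    obtain ⟨N, r, hr⟩ := hgen w
    exact hC2 N w hw ⟨r, hr⟩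

end Groth.Agent.H8.BC
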