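import Mathlib
import Groth.Prelude.Def_EtRam
import Groth.Agent.Lib.Helper8.ASK.RamIdx
import Groth.Agent.Lib.Helper8.ASK.BCCore
import Groth.Agent.Lib.Helper8.ASK.BCAbs

set_option autoImplicit false
universe u

namespace Groth.Agent.H8.BC

open IsLocalRing TensorProduct Polynomial

/-- A subring of a polynomial ring containing the constants and `X` is everything. -/
theorem poly_mem_subring {R : Type*} [CommRing R] (E : Subring R[X]) (hC : ∀ a, C a ∈ E)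
    (hX : (X : R[X]) ∈ E) (p : R[X]) : p ∈ E := by
  induction p using Polynomial.induction_on with
  | C a => exact hC a
  | add p q hp hq => exact E.add_mem hp hq
  | monomial n a h =>
    rw [pow_succ, ← mul_assoc]
    exact E.mul_mem h hX


/-- The polynomial-ring part of the argument, for an abstract ring `R₁` (standing for `Y ⊗ Xr`). -/
theorem poly_core {M : Type*} [Field M] (W : ValuationSubring M) {R₁ R₀ : Type*} [CommRing R₁]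
    [CommRing R₀] (ΦW : R₁ →+* W) (ρ : R₁ →+* R₀) (hρsurj : Function.Surjective ρ)
    (ϖ₁ y₁ η₁ ηi₁ : R₁)
    (hρker : ∀ c, ρ c = 0 → ∃ c₁ c₂, c₁ * ϖ₁ + c₂ * y₁ = c)
    (t ζ : M) (hζW : ζ ∈ W) (ht0 : t ≠ 0) (hvt1 : W.valuation t < 1)
    (d e' eY' a b' : ℕ) (hd : d ≠ 0) (he'0 : e' ≠ 0) (heY'0 : eY' ≠ 0)
    (hζd' : ζ ^ d = ((ΦW η₁ : W) : M))
    (hηηi : ((ΦW η₁ : W) : M) * ((ΦW ηi₁ : W) : M) = 1)
    (hb₀t : ((ΦW ϖ₁ : W) : M) = t ^ e' * ζ ^ b')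
    (ha₀t : ((ΦW y₁ : W) : M) = t ^ eY' * ζ ^ a)
    (hQ' : ∀ x : AdjoinRoot (X ^ d - C (ρ η₁) : R₀[X]), ∃ y, x = x * x * y)
    (harcht : ∀ w : M, w ≠ 0 → ∃ n : ℕ, W.valuation t ^ n < W.valuation w)
    (hgen : ∀ y : M, ∃ (N : ℕ) (c : R₁), y * ((ΦW ϖ₁ : W) : M) ^ N = ((ΦW c : W) : M)) :
    (∀ y : M, W.valuation y < 1 → W.valuation y ≤ W.valuation t) ∧
    ∀ E : Subring (ResidueField W), (∀ c : R₁, residue W (ΦW c) ∈ E) →
      residue W ⟨ζ, hζW⟩ ∈ E → ∀ w : W, residue W w ∈ E := by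
  classical
  obtain ⟨Φ, hΦ⟩ : ∃ Φ : R₁ →+* M, ∀ c, Φ c = ((ΦW c : W) : M) :=
    ⟨W.subtype.comp ΦW, fun _ => rfl⟩
  obtain ⟨b₀, hb₀⟩ : ∃ b₀ : M, b₀ = Φ ϖ₁ := ⟨_, rfl⟩
  obtain ⟨a₀, ha₀⟩ : ∃ a₀ : M, a₀ = Φ y₁ := ⟨_, rfl⟩
  simp only [← hΦ] at hζd' hηηi hb₀t ha₀t hgen
  rw [← hb₀] at hb₀t
  rw [← ha₀] at ha₀t
  have htW : t ∈ W := (W.valuation_le_one_iff t).mp hvt1.le
  obtain ⟨Φ₂, hΦ₂C, hΦ₂X⟩ : ∃ Φ₂ : R₁[X] →+* W,
      (∀ c, Φ₂ (C c) = ΦW c) ∧ Φ₂ X = ⟨ζ, hζW⟩ :=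
    ⟨eval₂RingHom ΦW ⟨ζ, hζW⟩, fun c => by simp, by simp⟩
  obtain ⟨Φ₃, hΦ₃C, hΦ₃X⟩ : ∃ Φ₃ : R₁[X][X] →+* W,
      (∀ c, Φ₃ (C c) = Φ₂ c) ∧ Φ₃ X = ⟨t, htW⟩ :=
    ⟨eval₂RingHom Φ₂ ⟨t, htW⟩, fun c => by simp, by simp⟩
  obtain ⟨Ψ, hΨ⟩ : ∃ Ψ : R₁[X][X] →+* M, ∀ r, Ψ r = ((Φ₃ r : W) : M) :=
    ⟨W.subtype.comp Φ₃, fun _ => rfl⟩
  have hΨCC : ∀ c, Ψ (C (C c)) = Φ c := fun c => by rw [hΨ, hΦ₃C, hΦ₂C, hΦ]
  have hΨCX : Ψ (C X) = ζ := by rw [hΨ, hΦ₃C, hΦ₂X]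
  have hΨX : Ψ X = t := by rw [hΨ, hΦ₃X]
  have hΨW : ∀ r, Ψ r ∈ W := fun r => by rw [hΨ]; exact (Φ₃ r).2
  have hΦϖ : Φ ϖ₁ = b₀ := hb₀.symm
  have hΦy₀ : Φ y₁ = a₀ := ha₀.symm
  obtain ⟨g, hg⟩ : ∃ g : R₀[X], g = X ^ d - C (ρ η₁) := ⟨_, rfl⟩
  rw [← hg] at hQ'
  obtain ⟨ρ₃, hρ₃⟩ : ∃ ρ₃ : R₁[X][X] →+* AdjoinRoot g,
      ∀ r, ρ₃ r = AdjoinRoot.mk g ((r.coeff 0).map ρ) :=
    ⟨(AdjoinRoot.mk g).comp ((mapRingHom ρ).comp constantCoeff), fun r => rfl⟩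
  have hρ₃surj : Function.Surjective ρ₃ := by
    intro x
    obtain ⟨ybar, rfl⟩ := AdjoinRoot.mk_surjective x
    obtain ⟨s₂, rfl⟩ := Polynomial.map_surjective ρ hρsurj ybar
    exact ⟨C s₂, by rw [hρ₃, coeff_C_zero]⟩
  -- elements dividing `b₀` and `a₀` by `t`
  obtain ⟨pϖ, hpϖ⟩ : ∃ pϖ : R₁[X][X], b₀ = t * Ψ pϖ := by
    obtain ⟨e'', he''⟩ : ∃ e'', e' = e'' + 1 := ⟨e' - 1, by omega⟩
    refine ⟨X ^ e'' * (C X) ^ b', ?_⟩
    rw [map_mul, map_pow, map_pow, hΨX, hΨCX, ← mul_assoc, ← pow_succ', ← he'']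
    exact hb₀t
  obtain ⟨py, hpy⟩ : ∃ py : R₁[X][X], a₀ = t * Ψ py := by
    obtain ⟨eY'', heY''⟩ : ∃ eY'', eY' = eY'' + 1 := ⟨eY' - 1, by omega⟩
    refine ⟨X ^ eY'' * (C X) ^ a, ?_⟩
    rw [map_mul, map_pow, map_pow, hΨX, hΨCX, ← mul_assoc, ← pow_succ', ← heY'']
    exact ha₀t
  have hexp : ∀ p : R₁[X],
      Ψ (C p) = ∑ i ∈ Finset.range (p.natDegree + 1), Φ (p.coeff i) * ζ ^ i := by
    intro p
    conv_lhs => rw [p.as_sum_range_C_mul_X_pow]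
    rw [map_sum, map_sum]
    apply Finset.sum_congr rfl
    intro i _
    simp only [map_mul, map_pow, hΨCC, hΨCX]
  have hK2 : ∀ r₂ : R₁[X], AdjoinRoot.mk g (r₂.map ρ) = 0 →
      ∃ r' : R₁[X][X], Ψ (C r₂) = t * Ψ r' := by
    intro r₂ h0
    rw [AdjoinRoot.mk_eq_zero] at h0
    obtain ⟨qbar, hq⟩ := h0
    obtain ⟨q, rfl⟩ := Polynomial.map_surjective ρ hρsurj qbar
    obtain ⟨gt, hgt⟩ : ∃ gt : R₁[X], gt = X ^ d - C η₁ := ⟨_, rfl⟩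
    have hgmap : gt.map ρ = g := by
      rw [hgt, hg, Polynomial.map_sub, Polynomial.map_pow, map_X, map_C]
    have hr₃ : (r₂ - gt * q).map ρ = 0 := by
      rw [Polynomial.map_sub, Polynomial.map_mul, hgmap, hq, sub_self]
    have hcoef : ∀ i, ρ ((r₂ - gt * q).coeff i) = 0 := by
      intro i
      have h1 := congrArg (fun p => p.coeff i) hr₃
      simpa only [coeff_map, coeff_zero] using h1
    choose c₁ c₂ hc using fun i => hρker _ (hcoef i)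
    have hΨgt : Ψ (C gt) = 0 := by
      rw [hgt]
      simp only [map_sub, map_pow, hΨCX, hΨCC]
      rw [hζd', sub_self]
    have hsplit : Ψ (C r₂) = Ψ (C (r₂ - gt * q)) := by
      have h1 : (C r₂ : R₁[X][X]) = C (r₂ - gt * q) + C gt * C q := by
        rw [← C_mul, ← C_add]
        congr 1
        ring
      rw [h1, map_add, map_mul, hΨgt, zero_mul, add_zero]
    have hterm : ∀ i, Φ ((r₂ - gt * q).coeff i) =
        t * Ψ (C (C (c₁ i)) * pϖ + C (C (c₂ i)) * py) := by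
      intro i
      rw [← hc i]
      simp only [map_add, map_mul, hΦϖ, hΦy₀, hΨCC]
      rw [hpϖ, hpy]
      ring
    refine ⟨∑ i ∈ Finset.range ((r₂ - gt * q).natDegree + 1),
      (C (C (c₁ i)) * pϖ + C (C (c₂ i)) * py) * (C X) ^ i, ?_⟩
    rw [hsplit, hexp, map_sum, Finset.mul_sum]
    apply Finset.sum_congr rfl
    intro i _
    rw [hterm, map_mul, map_pow, hΨCX]
    ring
  have hK3 : ∀ r : R₁[X][X], ρ₃ r = 0 → ∃ r', Ψ r = t * Ψ r' := by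
    intro r h0
    rw [hρ₃] at h0
    obtain ⟨r', hr'⟩ := hK2 (r.coeff 0) h0
    refine ⟨r.divX + r', ?_⟩
    conv_lhs => rw [← divX_mul_X_add r]
    rw [map_add, map_mul, hΨX, hr', map_add]
    ring
  have hvnrΨ : ∀ r : R₁[X][X], ∃ s r', Ψ r - Ψ r * Ψ r * Ψ s = t * Ψ r' := by
    intro r
    obtain ⟨y, hy⟩ := hQ' (ρ₃ r)
    obtain ⟨s, rfl⟩ := hρ₃surj y
    have e1 : ρ₃ (r - r * r * s) = ρ₃ r - ρ₃ r * ρ₃ r * ρ₃ s :=
      (map_sub ρ₃ r (r * r * s)).trans (by rw [map_mul, map_mul])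
    have e2 : Ψ (r - r * r * s) = Ψ r - Ψ r * Ψ r * Ψ s :=
      (map_sub Ψ r (r * r * s)).trans (by rw [map_mul, map_mul])
    have h0 : ρ₃ (r - r * r * s) = 0 := by
      rw [e1, sub_eq_zero]
      exact hy
    obtain ⟨r', hr'⟩ := hK3 _ h0
    exact ⟨s, r', e2.symm.trans hr'⟩
  -- inverse of ζ
  obtain ⟨zi, hzi⟩ : ∃ zi : R₁[X][X], ζ * Ψ zi = 1 := by
    obtain ⟨d', hd'⟩ : ∃ d', d = d' + 1 := ⟨d - 1, by omega⟩
    refine ⟨C (C ηi₁) * (C X) ^ d', ?_⟩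
    rw [map_mul, map_pow, hΨCC, hΨCX]
    calc ζ * (Φ ηi₁ * ζ ^ d') = ζ ^ d * Φ ηi₁ := by rw [hd', pow_succ]; ring
      _ = 1 := by rw [hζd', hηηi]
  have hgent : ∀ y : M, ∃ (N : ℕ) (r : R₁[X][X]), y * t ^ N = Ψ r := by
    intro y
    obtain ⟨N, c, hc⟩ := hgen y
    rw [← hb₀] at hc
    refine ⟨e' * N, C (C c) * zi ^ (b' * N), ?_⟩
    have h1 : ζ ^ (b' * N) * Ψ zi ^ (b' * N) = 1 := by rw [← mul_pow, hzi, one_pow]
    rw [map_mul, map_pow, hΨCC, ← hc, hb₀t, mul_pow, ← pow_mul, ← pow_mul]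
    linear_combination (-(y * t ^ (e' * N))) * h1
  obtain ⟨hC1, hC2⟩ := bc_abs W Ψ hΨW t ht0 hvt1 hvnrΨ harcht hgent
  refine ⟨hC1, ?_⟩
  intro E hE1 hE2 w
  obtain ⟨r, hr⟩ := hC2 (w : M) w.2
  have h1 : residue W w = residue W (Φ₃ r) := by
    rw [← sub_eq_zero, ← map_sub, residue_eq_zero_iff, W.valuation_lt_one_iff]
    have h2 : ((w - Φ₃ r : W) : M) = (w : M) - Ψ r := by rw [hΨ]; rfl
    rw [h2]
    exact hr
  rw [h1]
  have hmem : r ∈ E.comap ((residue W).comp Φ₃) := by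
    apply poly_mem_subring
    · intro p
      show residue W (Φ₃ (C p)) ∈ E
      rw [hΦ₃C]
      have h3 : p ∈ E.comap ((residue W).comp Φ₂) := by
        apply poly_mem_subring
        · intro c
          show residue W (Φ₂ (C c)) ∈ E
          rw [hΦ₂C]
          exact hE1 c
        · show residue W (Φ₂ X) ∈ E
          rw [hΦ₂X]
          exact hE2
      exact h3
    · show residue W (Φ₃ X) ∈ E
      rw [hΦ₃X]
      have h4 : residue W ⟨t, htW⟩ = 0 := by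
        rw [residue_eq_zero_iff, W.valuation_lt_one_iff]
        exact hvt1
      rw [h4]
      exact E.zero_mem
  exact hmem

section Core

variable {A Xr Y M : Type u} [CommRing A] [IsLocalRing A] [CommRing Xr] [IsLocalRing Xr]
  [CommRing Y] [IsLocalRing Y] [Field M] (W : ValuationSubring M)
  [Algebra A Xr] [Algebra A Y] [Algebra A W] [Algebra Xr W] [Algebra Y W]
  [IsScalarTower A Xr W] [IsScalarTower A Y W]
  [IsLocalHom (algebraMap A Xr)] [IsLocalHom (algebraMap A Y)] [IsLocalHom (algebraMap A W)]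
  [IsLocalHom (algebraMap Xr W)] [IsLocalHom (algebraMap Y W)]

theorem ker_rho_le_pair (y₀ : Xr) (hX : maximalIdeal Xr = Ideal.span {y₀}) (ϖ : Y)
    (hY : maximalIdeal Y = Ideal.span {ϖ}) :
    RingHom.ker (rho (A := A) (X := Xr) (Y := Y)) ≤
      Ideal.span {ϖ ⊗ₜ[A] (1 : Xr), (1 : Y) ⊗ₜ[A] y₀} := by
  intro c hc
  rw [RingHom.mem_ker] at hc
  have h1 : resMap (A := A) (X := Xr) (Y := Y) c = 0 := by
    apply (cmp (A := A) (X := Xr) (Y := Y)).injective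
    rw [map_zero]
    exact hc
  have h2 : c ∈ RingHom.ker (resMap (A := A) (X := Xr) (Y := Y)) := RingHom.mem_ker.mpr h1
  unfold resMap at h2
  rw [Algebra.TensorProduct.map_ker _ _ residue_surjective residue_surjective] at h2
  have hkY : RingHom.ker (IsScalarTower.toAlgHom A Y (ResidueField Y)) = Ideal.span {ϖ} := by
    ext y
    rw [RingHom.mem_ker, ← hY]
    exact residue_eq_zero_iff y
  have hkX : RingHom.ker (IsScalarTower.toAlgHom A Xr (ResidueField Xr)) = Ideal.span {y₀} := by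
    ext x
    rw [RingHom.mem_ker, ← hX]
    exact residue_eq_zero_iff x
  rw [hkY, hkX, Ideal.map_span, Ideal.map_span, Set.image_singleton, Set.image_singleton] at h2
  refine (sup_le ?_ ?_ : _ ≤ Ideal.span {ϖ ⊗ₜ[A] (1 : Xr), (1 : Y) ⊗ₜ[A] y₀}) h2
  · rw [Ideal.span_singleton_le_iff_mem]
    show ϖ ⊗ₜ[A] (1 : Xr) ∈ Ideal.span {ϖ ⊗ₜ[A] (1 : Xr), (1 : Y) ⊗ₜ[A] y₀}
    exact Ideal.subset_span (Set.mem_insert _ _)
  · rw [Ideal.span_singleton_le_iff_mem]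
    show (1 : Y) ⊗ₜ[A] y₀ ∈ Ideal.span {ϖ ⊗ₜ[A] (1 : Xr), (1 : Y) ⊗ₜ[A] y₀}
    exact Ideal.subset_span (Set.mem_insert_of_mem _ rfl)

/-- The core of Abhyankar's lemma / tame base change, inside a valuation ring `W`:
`Xr` is tame over `A` (uniformizer `y₀`, `π u = y₀ ^ e` with `e` "invertible", encoded in `hQ`),
`Y` has uniformizer `ϖ` with `π uY = ϖ ^ eY`. Then `W` has a uniformizer `t` with
`v(t) ^ e' = v(ϖ)` where `e = e' * d`, and the residue field of `W` is generated by the image of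
`Y ⊗ Xr` and the residue of an element `ζ` with `ζ ^ d * uY = u`. -/
theorem tame_core (π : A) (y₀ : Xr) (hX : maximalIdeal Xr = Ideal.span {y₀}) (ϖ : Y)
    (hY : maximalIdeal Y = Ideal.span {ϖ}) (e eY : ℕ) (he : e ≠ 0) (heY : eY ≠ 0)
    (u u₁ : Xr) (hu : u * u₁ = 1) (hπX : algebraMap A Xr π * u = y₀ ^ e)
    (uY uY₁ : Y) (huY : uY * uY₁ = 1) (hπY : algebraMap A Y π * uY = ϖ ^ eY)
    (hπ0 : ((algebraMap A W π : W) : M) ≠ 0)
    (hQ : ∀ (d : ℕ) (η : ResidueField Y ⊗[ResidueField A] ResidueField Xr), d ≠ 0 → d ∣ e →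
      IsUnit η →
      ∀ x : AdjoinRoot (X ^ d - C η : (ResidueField Y ⊗[ResidueField A] ResidueField Xr)[X]),
        ∃ y, x = x * x * y)
    (harch : ∀ w : M, w ≠ 0 →
      ∃ n : ℕ, W.valuation ((algebraMap Y W ϖ : W) : M) ^ n < W.valuation w)
    (hgen : ∀ y : M, ∃ (N : ℕ) (c : Y ⊗[A] Xr),
      y * ((algebraMap Y W ϖ : W) : M) ^ N = ((phiW W c : W) : M)) :
    ∃ (t ζ : M) (hζ : ζ ∈ W) (d e' : ℕ), d ≠ 0 ∧ e = e' * d ∧
      ζ ^ d * ((algebraMap Y W uY : W) : M) = ((algebraMap Xr W u : W) : M) ∧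
      W.valuation t ^ e' = W.valuation ((algebraMap Y W ϖ : W) : M) ∧
      RI.IsUnif W.valuation t ∧
      ∀ E : Subring (ResidueField W), (∀ c : Y ⊗[A] Xr, residue W (phiW W c) ∈ E) →
        residue W ⟨ζ, hζ⟩ ∈ E → ∀ w : W, residue W w ∈ E := by
  classical
  obtain ⟨Φ, hΦ⟩ : ∃ Φ : Y ⊗[A] Xr →+* M, ∀ c, Φ c = ((phiW W c : W) : M) :=
    ⟨W.subtype.comp (phiW W).toRingHom, fun _ => rfl⟩
  have hΦtmul : ∀ (y : Y) (x : Xr),
      Φ (y ⊗ₜ[A] x) = ((algebraMap Y W y : W) : M) * ((algebraMap Xr W x : W) : M) := by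
    intro y x
    rw [hΦ, phiW_tmul]
    rfl
  obtain ⟨p₀, hp₀⟩ : ∃ p₀ : M, p₀ = ((algebraMap A W π : W) : M) := ⟨_, rfl⟩
  obtain ⟨a₀, ha₀⟩ : ∃ a₀ : M, a₀ = ((algebraMap Xr W y₀ : W) : M) := ⟨_, rfl⟩
  obtain ⟨b₀, hb₀⟩ : ∃ b₀ : M, b₀ = ((algebraMap Y W ϖ : W) : M) := ⟨_, rfl⟩
  obtain ⟨υ, hυ⟩ : ∃ υ : M, υ = ((algebraMap Xr W u : W) : M) := ⟨_, rfl⟩
  obtain ⟨υ₁, hυ₁⟩ : ∃ υ₁ : M, υ₁ = ((algebraMap Xr W u₁ : W) : M) := ⟨_, rfl⟩
  obtain ⟨ν, hν⟩ : ∃ ν : M, ν = ((algebraMap Y W uY : W) : M) := ⟨_, rfl⟩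
  obtain ⟨ν₁, hν₁⟩ : ∃ ν₁ : M, ν₁ = ((algebraMap Y W uY₁ : W) : M) := ⟨_, rfl⟩
  have hυυ₁ : υ * υ₁ = 1 := by
    have h : ((algebraMap Xr W (u * u₁) : W) : M) = ((algebraMap Xr W 1 : W) : M) := by rw [hu]
    rw [map_mul, map_one] at h
    rw [hυ, hυ₁]
    exact h
  have hνν₁ : ν * ν₁ = 1 := by
    have h : ((algebraMap Y W (uY * uY₁) : W) : M) = ((algebraMap Y W 1 : W) : M) := by rw [huY]
    rw [map_mul, map_one] at h
    rw [hν, hν₁]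
    exact h
  have hrelX : p₀ * υ = a₀ ^ e := by
    have h : ((algebraMap Xr W (algebraMap A Xr π * u) : W) : M) =
        ((algebraMap Xr W (y₀ ^ e) : W) : M) := by rw [hπX]
    rw [map_mul, map_pow, ← IsScalarTower.algebraMap_apply A Xr W] at h
    rw [hp₀, hυ, ha₀]
    exact h
  have hrelY : p₀ * ν = b₀ ^ eY := by
    have h : ((algebraMap Y W (algebraMap A Y π * uY) : W) : M) =
        ((algebraMap Y W (ϖ ^ eY) : W) : M) := by rw [hπY]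
    rw [map_mul, map_pow, ← IsScalarTower.algebraMap_apply A Y W] at h
    rw [hp₀, hν, hb₀]
    exact h
  have hvυ : W.valuation υ = 1 :=
    val_eq_one_of_mul_eq_one W (by rw [hυ]; exact (algebraMap Xr W u).2)
      (by rw [hυ₁]; exact (algebraMap Xr W u₁).2) hυυ₁
  have hvν : W.valuation ν = 1 :=
    val_eq_one_of_mul_eq_one W (by rw [hν]; exact (algebraMap Y W uY).2)
      (by rw [hν₁]; exact (algebraMap Y W uY₁).2) hνν₁
  have hp₀0 : p₀ ≠ 0 := by rw [hp₀]; exact hπ0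
  have hυ0 : υ ≠ 0 := left_ne_zero_of_mul_eq_one hυυ₁
  have hν0 : ν ≠ 0 := left_ne_zero_of_mul_eq_one hνν₁
  have ha₀0 : a₀ ≠ 0 := by
    intro h0
    rw [h0, zero_pow he] at hrelX
    exact mul_ne_zero hp₀0 hυ0 hrelX
  have hb₀0 : b₀ ≠ 0 := by
    intro h0
    rw [h0, zero_pow heY] at hrelY
    exact mul_ne_zero hp₀0 hν0 hrelY
  have hvb₀0 : W.valuation b₀ ≠ 0 := (Valuation.ne_zero_iff _).mpr hb₀0
  have hva₀0 : W.valuation a₀ ≠ 0 := (Valuation.ne_zero_iff _).mpr ha₀0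
  obtain ⟨d, e', eY', hd, hcop, he', heY'⟩ :=
    Nat.exists_coprime' (Nat.gcd_pos_of_pos_left eY (Nat.pos_of_ne_zero he))
  have he'0 : e' ≠ 0 := by
    intro h0
    rw [h0, zero_mul] at he'
    exact he he'
  have heY'0 : eY' ≠ 0 := by
    intro h0
    rw [h0, zero_mul] at heY'
    exact heY heY'
  have hval : W.valuation a₀ ^ e = W.valuation b₀ ^ eY := by
    rw [← map_pow, ← map_pow, ← hrelX, ← hrelY, map_mul, map_mul, hvυ, hvν]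
  have hval' : W.valuation a₀ ^ e' = W.valuation b₀ ^ eY' := by
    rw [he', heY', pow_mul, pow_mul] at hval
    exact (pow_left_inj₀ zero_le' zero_le' hd.ne').mp hval
  obtain ⟨a, b', hab⟩ : ∃ a b' : ℕ, a * e' = 1 + b' * eY' := by
    rcases Nat.lt_or_ge 1 eY' with h1 | h1
    · obtain ⟨m, -, hm⟩ := Nat.exists_mul_mod_eq_one_of_coprime hcop h1
      refine ⟨m, e' * m / eY', ?_⟩
      have h2 := Nat.div_add_mod (e' * m) eY'
      rw [hm] at h2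
      calc m * e' = e' * m := mul_comm _ _
        _ = eY' * (e' * m / eY') + 1 := h2.symm
        _ = 1 + e' * m / eY' * eY' := by ring
    · have h2 : eY' = 1 := by omega
      refine ⟨1, e' - 1, ?_⟩
      rw [h2]
      omega
  obtain ⟨t, ht⟩ : ∃ t : M, t = b₀ ^ a / a₀ ^ b' := ⟨_, rfl⟩
  obtain ⟨ζ, hζdef⟩ : ∃ ζ : M, ζ = a₀ ^ e' / b₀ ^ eY' := ⟨_, rfl⟩
  have hvζ : W.valuation ζ = 1 := by
    rw [hζdef, map_div₀, map_pow, map_pow, hval', div_self]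
    exact pow_ne_zero _ hvb₀0
  have hζW : ζ ∈ W := (W.valuation_le_one_iff ζ).mp hvζ.le
  have hζd : ζ ^ d * ν = υ := by
    rw [hζdef, div_pow, ← pow_mul, ← pow_mul, ← he', ← heY', ← hrelX, ← hrelY,
      mul_div_mul_left _ _ hp₀0, div_mul_cancel₀ _ hν0]
  have hζd' : ζ ^ d = ν₁ * υ := by
    rw [← hζd, mul_comm ν₁, mul_assoc, hνν₁, mul_one]
  have hvt : W.valuation t ^ e' = W.valuation b₀ := by
    have h1 : W.valuation a₀ ^ (b' * e') = W.valuation b₀ ^ (b' * eY') := by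
      rw [mul_comm b' e', pow_mul, hval', ← pow_mul, mul_comm eY' b']
    have h2 : W.valuation b₀ ^ (a * e') = W.valuation b₀ * W.valuation b₀ ^ (b' * eY') := by
      rw [hab, pow_add, pow_one]
    rw [ht, map_div₀, map_pow, map_pow, div_pow, ← pow_mul, ← pow_mul, h1, h2]
    exact mul_div_cancel_right₀ _ (pow_ne_zero _ hvb₀0)
  have hb₀t : b₀ = t ^ e' * ζ ^ b' := by
    have hA : a₀ ^ (b' * e') ≠ 0 := pow_ne_zero _ ha₀0
    have hB : b₀ ^ (b' * eY') ≠ 0 := pow_ne_zero _ hb₀0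
    rw [ht, hζdef, div_pow, div_pow, ← pow_mul, ← pow_mul, ← pow_mul, ← pow_mul, hab, pow_add,
      pow_one, mul_comm e' b', mul_comm eY' b']
    field_simp
  have ha₀t : a₀ = t ^ eY' * ζ ^ a := by
    have hA : a₀ ^ (b' * eY') ≠ 0 := pow_ne_zero _ ha₀0
    have hB : b₀ ^ (a * eY') ≠ 0 := pow_ne_zero _ hb₀0
    rw [ht, hζdef, div_pow, div_pow, ← pow_mul, ← pow_mul, ← pow_mul, ← pow_mul, mul_comm e' a,
      hab, pow_add, pow_one, mul_comm eY' a]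
    field_simp
  have hvb₀1 : W.valuation b₀ < 1 := by
    rw [hb₀, ← W.valuation_lt_one_iff, mem_maximalIdeal, mem_nonunits_iff]
    intro h
    have h1 : IsUnit ϖ := isUnit_of_map_unit (algebraMap Y W) ϖ h
    have h2 : ϖ ∈ maximalIdeal Y := by rw [hY]; exact Ideal.mem_span_singleton_self ϖ
    exact (mem_nonunits_iff.mp ((mem_maximalIdeal ϖ).mp h2)) h1
  have hvt1 : W.valuation t < 1 := by
    by_contra hcon
    have h1 : 1 ≤ W.valuation t := not_lt.mp hcon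
    have h2 : 1 ≤ W.valuation t ^ e' := one_le_pow₀ h1
    rw [hvt] at h2
    exact absurd hvb₀1 (not_lt.mpr h2)
  have ht0 : t ≠ 0 := by
    rw [ht]; exact div_ne_zero (pow_ne_zero _ hb₀0) (pow_ne_zero _ ha₀0)
  have htW : t ∈ W := (W.valuation_le_one_iff t).mp hvt1.le
  have hΦϖ : Φ (ϖ ⊗ₜ[A] (1 : Xr)) = b₀ := by
    rw [hΦtmul, map_one, hb₀]
    show ((algebraMap Y W ϖ : W) : M) * (1 : M) = _
    rw [mul_one]
  have hΦy₀ : Φ ((1 : Y) ⊗ₜ[A] y₀) = a₀ := by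
    rw [hΦtmul, map_one, ha₀]
    show (1 : M) * ((algebraMap Xr W y₀ : W) : M) = _
    rw [one_mul]
  have hΦη : Φ (uY₁ ⊗ₜ[A] u) = ν₁ * υ := by rw [hΦtmul, hν₁, hυ]
  have hΦηi : Φ (uY ⊗ₜ[A] u₁) = ν * υ₁ := by rw [hΦtmul, hν, hυ₁]
  -- the residue side
  obtain ⟨ρ, hρ⟩ : ∃ ρ : Y ⊗[A] Xr →+* ResidueField Y ⊗[ResidueField A] ResidueField Xr,
      ∀ c, ρ c = rho (A := A) (X := Xr) (Y := Y) c :=
    ⟨(rho (A := A) (X := Xr) (Y := Y)).toRingHom, fun _ => rfl⟩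
  have hρsurj : Function.Surjective ρ := fun x => by
    obtain ⟨c, hc⟩ := rho_surjective (A := A) (X := Xr) (Y := Y) x
    exact ⟨c, by rw [hρ, hc]⟩
  have hρker : ∀ c, ρ c = 0 →
      ∃ c₁ c₂, c₁ * (ϖ ⊗ₜ[A] (1 : Xr)) + c₂ * ((1 : Y) ⊗ₜ[A] y₀) = c := by
    intro c hc
    have hmem : c ∈ RingHom.ker (rho (A := A) (X := Xr) (Y := Y)) := by
      rw [RingHom.mem_ker, ← hρ]; exact hc
    exact Ideal.mem_span_pair.mp (ker_rho_le_pair y₀ hX ϖ hY hmem)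
  have hunit : IsUnit (ρ (uY₁ ⊗ₜ[A] u)) := by
    apply IsUnit.of_mul_eq_one (ρ (uY ⊗ₜ[A] u₁))
    rw [← map_mul, Algebra.TensorProduct.tmul_mul_tmul, mul_comm uY₁ uY, huY, hu,
      ← Algebra.TensorProduct.one_def, map_one]
  have hQ' := hQ d _ hd.ne' (Dvd.intro_left e' he'.symm) hunit
  have harcht : ∀ w : M, w ≠ 0 → ∃ n : ℕ, W.valuation t ^ n < W.valuation w := by
    intro w hw
    obtain ⟨n, hn⟩ := harch w hw
    refine ⟨e' * n, ?_⟩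
    rw [pow_mul, hvt, hb₀]
    exact hn
  obtain ⟨hC1, hC2⟩ := poly_core W (phiW W).toRingHom ρ hρsurj (ϖ ⊗ₜ[A] (1 : Xr))
    ((1 : Y) ⊗ₜ[A] y₀) (uY₁ ⊗ₜ[A] u) (uY ⊗ₜ[A] u₁) hρker t ζ hζW ht0 hvt1 d e' eY' a b' hd.ne'
    he'0 heY'0 (by rw [hζd', ← hΦη, hΦ]; rfl)
    (by
      have h1 : Φ (uY₁ ⊗ₜ[A] u) * Φ (uY ⊗ₜ[A] u₁) = 1 := by
        rw [hΦη, hΦηi]
        calc ν₁ * υ * (ν * υ₁) = (ν * ν₁) * (υ * υ₁) := by ring
          _ = 1 := by rw [hνν₁, hυυ₁, mul_one]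
      rw [hΦ, hΦ] at h1
      exact h1)
    (by rw [← hb₀t, ← hΦϖ, hΦ]; rfl) (by rw [← ha₀t, ← hΦy₀, hΦ]; rfl) hQ' harcht
    (by
      intro y
      obtain ⟨N, c, hc⟩ := hgen y
      refine ⟨N, c, ?_⟩
      show y * ((phiW W (ϖ ⊗ₜ[A] (1 : Xr)) : W) : M) ^ N = ((phiW W c : W) : M)
      rw [← hc, ← hΦ, hΦϖ, hb₀])
  refine ⟨t, ζ, hζW, d, e', hd.ne', he', ?_, ?_, ⟨hvt1, hC1⟩, ?_⟩
  · rw [← hν, ← hυ]; exact hζd
  · rw [← hb₀]; exact hvt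
  · intro E hE1 hE2 w
    exact hC2 E hE1 hE2 w

end Core

end Groth.Agent.H8.BC
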