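import Mathlib
import Groth.Prelude.Def_EtRam
import Groth.Agent.Lib.Helper8.ASK.Dom
import Groth.Agent.Lib.Helper8.ASK.RamIdx
import Groth.Agent.Lib.Helper8.ASK.BCCore
import Groth.Agent.Lib.Helper8.ASK.Arch

set_option autoImplicit false
universe u

namespace Groth.Agent.H8.BC

open IsLocalRing TensorProduct

/-- The residue field of a valuation ring of a finite extension dominating a DVR is finite
over the residue field of the DVR (`f ≤ n`). -/
theorem finite_residue {A K K₁ : Type u} [CommRing A] [IsDomain A] [IsDiscreteValuationRing A]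
    [Field K] [Algebra A K] [IsFractionRing A K] [Field K₁] [Algebra K K₁] [Algebra A K₁]
    [IsScalarTower A K K₁] [FiniteDimensional K K₁] {π : A}
    (hπ : maximalIdeal A = Ideal.span {π}) (V : ValuationSubring K₁)
    (hV : EtRam.Dominates A (algebraMap A K₁) V) [Algebra A V] [IsScalarTower A V K₁]
    [IsLocalHom (algebraMap A V)] :
    Module.Finite (ResidueField A) (ResidueField V) := by
  classical
  have hrank : Module.rank (ResidueField A) (ResidueField V) ≤
      ((Module.finrank K K₁ : ℕ) : Cardinal) := by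
    apply rank_le
    intro s hs
    obtain ⟨ℓ, hℓ⟩ : ∃ ℓ : s → V, ∀ i, residue V (ℓ i) = (i : ResidueField V) :=
      ⟨fun i => Function.surjInv residue_surjective (i : ResidueField V),
        fun i => Function.surjInv_eq residue_surjective _⟩
    have hli : LinearIndependent K (fun i : s => ((ℓ i : V) : K₁)) := by
      rw [Fintype.linearIndependent_iff]
      intro c hc
      have hc' : ∑ i : s, c i • ((ℓ i : V) : K₁) = 0 := hc
      by_contra hne
      push_neg at hne
      obtain ⟨i₁, hi₁⟩ := hne
      obtain ⟨i₀, -, hmax⟩ := Finset.exists_max_image (Finset.univ : Finset s)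
        (fun i => V.valuation (algebraMap K K₁ (c i))) ⟨i₁, Finset.mem_univ _⟩
      have hv1 : V.valuation (algebraMap K K₁ (c i₁)) ≠ 0 :=
        (Valuation.ne_zero_iff _).mpr ((_root_.map_ne_zero _).mpr hi₁)
      have hv0 : V.valuation (algebraMap K K₁ (c i₀)) ≠ 0 := by
        intro h0
        have h1 := hmax i₁ (Finset.mem_univ _)
        rw [h0] at h1
        exact hv1 (le_antisymm h1 zero_le')
      have hc0 : c i₀ ≠ 0 := by
        intro h0
        apply hv0
        rw [h0, map_zero, map_zero]
      have hd : ∀ i : s, ∃ a : A, algebraMap A K a = c i / c i₀ := by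
        intro i
        apply ASK.mem_of_val_le_one hπ hV
        rw [map_div₀, map_div₀]
        exact (div_le_one₀ (zero_lt_iff.mpr hv0)).mpr (hmax i (Finset.mem_univ _))
      choose a ha using hd
      have ha0 : a i₀ = 1 := by
        apply IsFractionRing.injective A K
        rw [ha, div_self hc0, map_one]
      have h2 : ∀ i : s, ((algebraMap A V (a i) * ℓ i : V) : K₁) =
          (c i₀)⁻¹ • (c i • ((ℓ i : V) : K₁)) := by
        intro i
        have h4 : ((algebraMap A V (a i) : V) : K₁) = algebraMap K K₁ (c i / c i₀) :=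
          calc ((algebraMap A V (a i) : V) : K₁) = algebraMap A K₁ (a i) :=
                (IsScalarTower.algebraMap_apply A V K₁ (a i)).symm
            _ = algebraMap K K₁ (algebraMap A K (a i)) :=
                IsScalarTower.algebraMap_apply A K K₁ (a i)
            _ = algebraMap K K₁ (c i / c i₀) := by rw [ha i]
        show ((algebraMap A V (a i) : V) : K₁) * ((ℓ i : V) : K₁) = _
        rw [h4, smul_smul, Algebra.smul_def, div_eq_inv_mul]
      have hsum : ∑ i : s, algebraMap A V (a i) * ℓ i = 0 := by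
        apply Subtype.ext
        show ((∑ i : s, algebraMap A V (a i) * ℓ i : V) : K₁) = 0
        have h5 : ((∑ i : s, algebraMap A V (a i) * ℓ i : V) : K₁) =
            ∑ i : s, ((algebraMap A V (a i) * ℓ i : V) : K₁) := map_sum V.subtype _ _
        rw [h5, Finset.sum_congr rfl (fun i _ => h2 i), ← Finset.smul_sum, hc', smul_zero]
      have hres : ∑ i : s, residue A (a i) • (i : ResidueField V) = 0 := by
        have h3 := congrArg (residue V) hsum
        rw [map_sum, map_zero] at h3
        rw [← h3]
        apply Finset.sum_congr rfl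
        intro i _
        rw [map_mul, hℓ, Algebra.smul_def]
        rfl
      have h6 : residue A (a i₀) = 0 :=
        Fintype.linearIndependent_iff.mp hs (fun i => residue A (a i)) hres i₀
      rw [ha0, map_one] at h6
      exact one_ne_zero h6
    have h7 := hli.fintype_card_le_finrank
    rwa [Fintype.card_coe] at h7
  exact Module.rank_lt_aleph0_iff.mp (lt_of_le_of_lt hrank (Cardinal.nat_lt_aleph0 _))

/-- Base change of an unramified extension: if `K'/K` is finite and unramified with respect to the
DVR `A`, and `A → B` is an extension of DVRs with fraction fields `K ⊂ L`, then every field quotient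
`F` of `K' ⊗[K] L` is unramified over `L` with respect to `B`. -/
theorem unramified_baseChange (A B K L K' : Type u) [CommRing A] [IsDomain A]
    [IsDiscreteValuationRing A] [CommRing B] [IsDomain B] [IsDiscreteValuationRing B] [Algebra A B]
    [IsLocalHom (algebraMap A B)]
    [Field K] [Field L] [Field K'] [Algebra A K] [IsFractionRing A K] [Algebra B L]
    [IsFractionRing B L] [Algebra K L] [Algebra A L] [IsScalarTower A K L] [IsScalarTower A B L]
    [Algebra K K'] [FiniteDimensional K K']
    (h : EtRam.IsUnramifiedExt A ((algebraMap K K').comp (algebraMap A K)))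
    (F : Type u) [Field F] [Algebra (K' ⊗[K] L) F]
    (hF : Function.Surjective (algebraMap (K' ⊗[K] L) F)) :
    EtRam.IsUnramifiedExt B ((algebraMap (K' ⊗[K] L) F).comp
      ((Algebra.TensorProduct.includeRight : L →ₐ[K] K' ⊗[K] L).toRingHom.comp
        (algebraMap B L))) := by
  obtain ⟨π, hπirr⟩ := IsDiscreteValuationRing.exists_irreducible A
  have hπ : maximalIdeal A = Ideal.span {π} := hπirr.maximalIdeal_eq
  have hπm : π ∈ maximalIdeal A := ASK.pi_mem hπ
  obtain ⟨πB, hπBirr⟩ := IsDiscreteValuationRing.exists_irreducible B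
  have hπB : maximalIdeal B = Ideal.span {πB} := hπBirr.maximalIdeal_eq
  letI algAK' : Algebra A K' := ((algebraMap K K').comp (algebraMap A K)).toAlgebra
  haveI : IsScalarTower A K K' := IsScalarTower.of_algebraMap_eq (fun _ => rfl)
  have h' : EtRam.IsUnramifiedExt A (algebraMap A K') := h
  letI algLF : Algebra L F := ((algebraMap (K' ⊗[K] L) F).comp
    (Algebra.TensorProduct.includeRight : L →ₐ[K] K' ⊗[K] L).toRingHom).toAlgebra
  letI algK'F : Algebra K' F := ((algebraMap (K' ⊗[K] L) F).comp
    (Algebra.TensorProduct.includeLeftRingHom : K' →+* K' ⊗[K] L)).toAlgebra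
  letI algBF : Algebra B F := ((algebraMap L F).comp (algebraMap B L)).toAlgebra
  haveI : IsScalarTower B L F := IsScalarTower.of_algebraMap_eq (fun _ => rfl)
  letI algKF : Algebra K F := ((algebraMap L F).comp (algebraMap K L)).toAlgebra
  haveI : IsScalarTower K L F := IsScalarTower.of_algebraMap_eq (fun _ => rfl)
  have hcompatK : ∀ k : K,
      algebraMap K' F (algebraMap K K' k) = algebraMap L F (algebraMap K L k) := by
    intro k
    show algebraMap (K' ⊗[K] L) F ((algebraMap K K' k) ⊗ₜ[K] (1 : L)) =
      algebraMap (K' ⊗[K] L) F ((1 : K') ⊗ₜ[K] (algebraMap K L k))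
    rw [Algebra.algebraMap_eq_smul_one (A := K') k, Algebra.algebraMap_eq_smul_one (A := L) k,
      TensorProduct.smul_tmul]
  haveI : IsScalarTower K K' F := IsScalarTower.of_algebraMap_eq (fun k => (hcompatK k).symm)
  have hFtmul : ∀ (k' : K') (l : L),
      algebraMap (K' ⊗[K] L) F (k' ⊗ₜ[K] l) = algebraMap K' F k' * algebraMap L F l := by
    intro k' l
    show _ = algebraMap (K' ⊗[K] L) F (k' ⊗ₜ[K] (1 : L)) *
      algebraMap (K' ⊗[K] L) F ((1 : K') ⊗ₜ[K] l)
    rw [← map_mul, Algebra.TensorProduct.tmul_mul_tmul, mul_one, one_mul]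
  haveI : FiniteDimensional L F := by
    let g : L ⊗[K] K' →ₐ[L] F :=
      Algebra.TensorProduct.productLeftAlgHom (Algebra.ofId L F) (IsScalarTower.toAlgHom K K' F)
    have hgt : ∀ (l : L) (k' : K'), g (l ⊗ₜ[K] k') = algebraMap L F l * algebraMap K' F k' := by
      intro l k'
      simp [g, Algebra.TensorProduct.productLeftAlgHom]
    have hg : Function.Surjective g := by
      intro f
      obtain ⟨t, rfl⟩ := hF f
      induction t using TensorProduct.induction_on with
      | zero => exact ⟨0, by rw [map_zero, map_zero]⟩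
      | tmul k' l => exact ⟨l ⊗ₜ[K] k', by rw [hgt, hFtmul, mul_comm]⟩
      | add x y hx hy =>
        obtain ⟨x', hx'⟩ := hx
        obtain ⟨y', hy'⟩ := hy
        exact ⟨x' + y', by rw [map_add, map_add, hx', hy']⟩
    exact Module.Finite.of_surjective g.toLinearMap hg
  have hπBF : algebraMap B F πB ≠ 0 := by
    show algebraMap L F (algebraMap B L πB) ≠ 0
    exact (_root_.map_ne_zero _).mpr (ASK.algK_pi_ne_zero hπB)
  have hπAB : algebraMap A B π ≠ 0 := by
    intro h0
    have h1 : algebraMap A L π = 0 := by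
      rw [IsScalarTower.algebraMap_apply A B L, h0, map_zero]
    exact ASK.algL_pi_ne_zero hπ (ASK.algebraMap_inj A K L) h1
  obtain ⟨eB, uB, huB⟩ := IsDiscreteValuationRing.eq_unit_mul_pow_irreducible hπAB hπBirr
  obtain ⟨r, hr⟩ : ∃ r : B, r * algebraMap A B π = πB ^ eB := by
    refine ⟨((uB⁻¹ : Bˣ) : B), ?_⟩
    rw [huB, ← mul_assoc, Units.inv_mul, one_mul]
  intro W hW
  have hW' : EtRam.Dominates B (algebraMap B F) W := ⟨fun b => hW.1 b, fun b hb => hW.2 b hb⟩
  letI algBW : Algebra B W := (RingHom.codRestrict ((algebraMap (K' ⊗[K] L) F).comp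
      ((Algebra.TensorProduct.includeRight : L →ₐ[K] K' ⊗[K] L).toRingHom.comp
        (algebraMap B L))) W hW.1).toAlgebra
  intro locBW
  have hcompat : ∀ a : A,
      algebraMap K' F (algebraMap A K' a) = algebraMap B F (algebraMap A B a) := by
    intro a
    show algebraMap K' F (algebraMap K K' (algebraMap A K a)) =
      algebraMap L F (algebraMap B L (algebraMap A B a))
    rw [hcompatK, ← IsScalarTower.algebraMap_apply A K L, ← IsScalarTower.algebraMap_apply A B L]
  have hdomA : EtRam.Dominates A (algebraMap A K') (W.comap (algebraMap K' F)) := by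
    apply RI.dominates_comap_of_comp
    refine ⟨fun a => ?_, fun a ha => ?_⟩
    · show algebraMap K' F (algebraMap A K' a) ∈ W
      rw [hcompat]; exact hW'.1 _
    · show W.valuation (algebraMap K' F (algebraMap A K' a)) < 1
      rw [hcompat]
      apply hW'.2
      rw [mem_maximalIdeal, mem_nonunits_iff] at ha ⊢
      exact fun h => ha (isUnit_of_map_unit (algebraMap A B) a h)
  letI algAV : Algebra A (W.comap (algebraMap K' F)) :=
    (RingHom.codRestrict (algebraMap A K') (W.comap (algebraMap K' F)) hdomA.1).toAlgebra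
  haveI locAV : IsLocalHom (algebraMap A (W.comap (algebraMap K' F))) :=
    RI.isLocalHom_of_dominates hdomA
  obtain ⟨hwu, hsep⟩ := @h' (W.comap (algebraMap K' F)) hdomA locAV
  haveI : IsScalarTower A (W.comap (algebraMap K' F)) K' :=
    IsScalarTower.of_algebraMap_eq (fun _ => rfl)
  letI algVW : Algebra (W.comap (algebraMap K' F)) W :=
    (EtRam.inclOfComap W (algebraMap K' F)).toAlgebra
  haveI locVW : IsLocalHom (algebraMap (W.comap (algebraMap K' F)) W) :=
    EtRam.isLocalHom_inclOfComap W (algebraMap K' F)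
  letI algAW : Algebra A W := ((algebraMap B W).comp (algebraMap A B)).toAlgebra
  haveI : IsScalarTower A B W := IsScalarTower.of_algebraMap_eq (fun _ => rfl)
  haveI : IsScalarTower A (W.comap (algebraMap K' F)) W :=
    IsScalarTower.of_algebraMap_eq (fun a => Subtype.ext (hcompat a).symm)
  haveI locAW : IsLocalHom (algebraMap A W) := ⟨fun a ha => by
    have h1 : IsUnit (algebraMap B W (algebraMap A B a)) := ha
    exact isUnit_of_map_unit (algebraMap A B) a (isUnit_of_map_unit (algebraMap B W) _ h1)⟩
  have hX : maximalIdeal (W.comap (algebraMap K' F)) =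
      Ideal.span {algebraMap A (W.comap (algebraMap K' F)) π} := by
    have h1 : (maximalIdeal A).map (algebraMap A (W.comap (algebraMap K' F))) =
        maximalIdeal (W.comap (algebraMap K' F)) := hwu
    rw [← h1, hπ, Ideal.map_span, Set.image_singleton]
  have hϖ0 : ((algebraMap B W πB : W) : F) ≠ 0 := hπBF
  haveI hfin : Module.Finite (ResidueField A) (ResidueField (W.comap (algebraMap K' F))) :=
    finite_residue (K := K) hπ (W.comap (algebraMap K' F)) hdomA
  have hvnr : ∀ x : ResidueField B ⊗[ResidueField A] ResidueField (W.comap (algebraMap K' F)),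
      ∃ y, x = x * x * y := by
    haveI : Algebra.IsSeparable (ResidueField A)
        (ResidueField (W.comap (algebraMap K' F))) := hsep
    haveI : Algebra.FormallyUnramified (ResidueField A)
        (ResidueField (W.comap (algebraMap K' F))) :=
      Algebra.FormallyUnramified.of_isSeparable _ _
    haveI : IsReduced (ResidueField B ⊗[ResidueField A]
        ResidueField (W.comap (algebraMap K' F))) :=
      Algebra.FormallyUnramified.isReduced_of_field (ResidueField B) _
    intro x
    exact vnr_of_isReduced_of_isIntegral (F := ResidueField B) x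
  have harch : ∀ w : F, w ≠ 0 → ∃ n : ℕ,
      W.valuation ((algebraMap B W πB : W) : F) ^ n < W.valuation w :=
    fun w hw => arch (L := L) hπB hW' w hw
  -- generation
  obtain ⟨Φ, hΦ⟩ : ∃ Φ : B ⊗[A] (W.comap (algebraMap K' F)) →+* F,
      ∀ c, Φ c = ((phiW W c : W) : F) := ⟨W.subtype.comp (phiW W).toRingHom, fun _ => rfl⟩
  have hΦtmul : ∀ (b : B) (t : W.comap (algebraMap K' F)),
      Φ (b ⊗ₜ[A] t) = algebraMap B F b * algebraMap K' F (t : K') := by
    intro b t
    rw [hΦ, phiW_tmul]
    rfl
  obtain ⟨z, hzdef⟩ : ∃ z : F, z = algebraMap B F πB := ⟨_, rfl⟩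
  have hϖW : ((algebraMap B W πB : W) : F) = z := hzdef.symm
  have hΦϖ : Φ (πB ⊗ₜ[A] (1 : W.comap (algebraMap K' F))) = z := by
    rw [hΦtmul, hzdef]
    show algebraMap B F πB * algebraMap K' F (1 : K') = _
    rw [map_one, mul_one]
  obtain ⟨S, hS⟩ : ∃ S : F → Prop, ∀ y, S y ↔
      ∃ (N : ℕ) (c : B ⊗[A] (W.comap (algebraMap K' F))), y * z ^ N = Φ c :=
    ⟨_, fun _ => Iff.rfl⟩
  have hS_add : ∀ y₁ y₂ : F, S y₁ → S y₂ → S (y₁ + y₂) := by
    intro y₁ y₂ h₁ h₂
    rw [hS] at h₁ h₂ ⊢
    obtain ⟨N₁, c₁, h₁⟩ := h₁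
    obtain ⟨N₂, c₂, h₂⟩ := h₂
    refine ⟨N₁ + N₂, c₁ * (πB ⊗ₜ[A] (1 : W.comap (algebraMap K' F))) ^ N₂ +
      c₂ * (πB ⊗ₜ[A] (1 : W.comap (algebraMap K' F))) ^ N₁, ?_⟩
    rw [map_add, map_mul, map_mul, map_pow, map_pow, hΦϖ, ← h₁, ← h₂, pow_add]
    ring
  have hS_mul : ∀ y₁ y₂ : F, S y₁ → S y₂ → S (y₁ * y₂) := by
    intro y₁ y₂ h₁ h₂
    rw [hS] at h₁ h₂ ⊢
    obtain ⟨N₁, c₁, h₁⟩ := h₁
    obtain ⟨N₂, c₂, h₂⟩ := h₂
    refine ⟨N₁ + N₂, c₁ * c₂, ?_⟩
    rw [map_mul, ← h₁, ← h₂, pow_add]
    ring
  have hS_L : ∀ l : L, S (algebraMap L F l) := by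
    intro l
    rw [hS]
    by_cases hl : l = 0
    · exact ⟨0, 0, by rw [hl, map_zero, zero_mul, map_zero]⟩
    obtain ⟨u, k, hk⟩ := ASK.decomp hπB l hl
    obtain ⟨n, b, hnb⟩ : ∃ (n : ℕ) (b : B),
        l * (algebraMap B L πB) ^ n = algebraMap B L b := by
      refine ⟨k.natAbs, (u : B) * πB ^ (k + k.natAbs).toNat, ?_⟩
      have hπL : algebraMap B L πB ≠ 0 := ASK.algK_pi_ne_zero hπB
      rw [hk, map_mul, map_pow, mul_assoc, ← zpow_natCast, ← zpow_natCast, ← zpow_add₀ hπL]
      congr 2
      omega
    refine ⟨n, b ⊗ₜ[A] (1 : W.comap (algebraMap K' F)), ?_⟩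
    rw [hΦtmul, hzdef]
    show algebraMap L F l * (algebraMap L F (algebraMap B L πB)) ^ n =
      algebraMap L F (algebraMap B L b) * algebraMap K' F (1 : K')
    rw [map_one, mul_one, ← hnb, map_mul, map_pow]
  have hp : algebraMap K' F (algebraMap A K' π) = algebraMap B F (algebraMap A B π) := hcompat π
  have hrp : algebraMap B F r * algebraMap K' F (algebraMap A K' π) = z ^ eB := by
    rw [hp, ← map_mul, hr, map_pow, hzdef]
  have hS_K' : ∀ k' : K', S (algebraMap K' F k') := by
    intro k'
    rw [hS]
    by_cases hk : k' = 0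
    · exact ⟨0, 0, by rw [hk, map_zero, zero_mul, map_zero]⟩
    obtain ⟨n, hn⟩ := arch (L := K) hπ hdomA k'⁻¹ (inv_ne_zero hk)
    have hvk : 0 < (W.comap (algebraMap K' F)).valuation k' :=
      zero_lt_iff.mpr ((Valuation.ne_zero_iff _).mpr hk)
    have hmem : k' * (algebraMap A K' π) ^ n ∈ W.comap (algebraMap K' F) := by
      rw [← ValuationSubring.valuation_le_one_iff, map_mul, map_pow]
      rw [map_inv₀] at hn
      have h1 := mul_lt_mul_of_pos_left hn hvk
      rw [mul_inv_cancel₀ hvk.ne'] at h1
      exact h1.le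
    refine ⟨eB * n, (r ^ n) ⊗ₜ[A]
      (⟨k' * (algebraMap A K' π) ^ n, hmem⟩ : W.comap (algebraMap K' F)), ?_⟩
    rw [hΦtmul, pow_mul, ← hrp]
    show algebraMap K' F k' * (algebraMap B F r * algebraMap K' F (algebraMap A K' π)) ^ n =
      algebraMap B F (r ^ n) * algebraMap K' F (k' * (algebraMap A K' π) ^ n)
    simp only [map_pow, map_mul, mul_pow]
    ring
  have hgenS : ∀ t : K' ⊗[K] L, S (algebraMap (K' ⊗[K] L) F t) := by
    intro t
    induction t using TensorProduct.induction_on with
    | zero =>
      rw [hS]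
      exact ⟨0, 0, by rw [map_zero, zero_mul, map_zero]⟩
    | tmul k' l =>
      rw [hFtmul]
      exact hS_mul _ _ (hS_K' k') (hS_L l)
    | add x y hx hy =>
      rw [map_add]
      exact hS_add _ _ hx hy
  have hgen' : ∀ y : F, ∃ (N : ℕ) (c : B ⊗[A] (W.comap (algebraMap K' F))),
      y * ((algebraMap B W πB : W) : F) ^ N = ((phiW W c : W) : F) := by
    intro y
    obtain ⟨t, rfl⟩ := hF y
    obtain ⟨N, c, hNc⟩ := (hS _).mp (hgenS t)
    exact ⟨N, c, by rw [hϖW, ← hΦ]; exact hNc⟩
  obtain ⟨hC1, hC2⟩ := bc_core (A := A) (X := W.comap (algebraMap K' F)) (Y := B) W π hπm hX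
    πB hπB hϖ0 hvnr harch hgen'
  refine ⟨?_, ?_⟩
  · exact (RI.isWeaklyUnramified_iff W πB hπB hϖ0).mpr ⟨hW'.2 πB (ASK.pi_mem hπB), hC1⟩
  · haveI : Algebra.IsSeparable (ResidueField A)
        (ResidueField (W.comap (algebraMap K' F))) := hsep
    have key : ∀ c : ResidueField B ⊗[ResidueField A]
        ResidueField (W.comap (algebraMap K' F)),
        psi (A := A) (X := W.comap (algebraMap K' F)) (Y := B) W c ∈
          separableClosure (ResidueField B) (ResidueField W) := by
      intro c
      induction c using TensorProduct.induction_on with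
      | zero => rw [map_zero]; exact zero_mem _
      | tmul y x =>
        rw [psi_tmul]
        apply mul_mem
        · exact IntermediateField.algebraMap_mem _ y
        · rw [mem_separableClosure_iff]
          refine IsSeparable.tower_top (F := ResidueField A) (ResidueField B) ?_
          have hx : IsSeparable (ResidueField A) x := Algebra.IsSeparable.isSeparable _ x
          exact hx.map (IsScalarTower.toAlgHom (ResidueField A)
            (ResidueField (W.comap (algebraMap K' F))) (ResidueField W))
            (IsScalarTower.toAlgHom (ResidueField A)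
              (ResidueField (W.comap (algebraMap K' F))) (ResidueField W)).toRingHom.injective
      | add a b ha hb => rw [map_add]; exact add_mem ha hb
    constructor
    intro w
    obtain ⟨c, rfl⟩ := hC2 w
    exact mem_separableClosure_iff.mp (key c)

end Groth.Agent.H8.BC
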