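import Mathlib
import Groth.Prelude.Def_EtRam
import Groth.Agent.Lib.Helper8.ASK.Dom
import Groth.Agent.Lib.Helper8.ASK.RamIdx
import Groth.Agent.Lib.Helper8.ASK.BCCore
import Groth.Agent.Lib.Helper8.ASK.Arch
import Groth.Agent.Lib.Helper8.ASK.UnrBC
import Groth.Agent.Lib.Helper8.ASK.RedAdjoin
import Groth.Agent.Lib.Helper8.ASK.TameCore

set_option autoImplicit false
universe u

namespace Groth.Agent.H8.BC

open IsLocalRing TensorProduct Polynomial

/-- Base change of a tamely ramified extension: if `K'/K` is finite and tamely ramified with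
respect to the DVR `A`, and `A → B` is an extension of DVRs with fraction fields `K ⊂ L`, then every
field quotient `F` of `K' ⊗[K] L` is tamely ramified over `L` with respect to `B`. -/
theorem tame_baseChange (A B K L K' : Type u) [CommRing A] [IsDomain A]
    [IsDiscreteValuationRing A] [CommRing B] [IsDomain B] [IsDiscreteValuationRing B] [Algebra A B]
    [IsLocalHom (algebraMap A B)]
    [Field K] [Field L] [Field K'] [Algebra A K] [IsFractionRing A K] [Algebra B L]
    [IsFractionRing B L] [Algebra K L] [Algebra A L] [IsScalarTower A K L] [IsScalarTower A B L]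
    [Algebra K K'] [FiniteDimensional K K']
    (h : EtRam.IsTamelyRamified A ((algebraMap K K').comp (algebraMap A K)))
    (F : Type u) [Field F] [Algebra (K' ⊗[K] L) F]
    (hF : Function.Surjective (algebraMap (K' ⊗[K] L) F)) :
    EtRam.IsTamelyRamified B ((algebraMap (K' ⊗[K] L) F).comp
      ((Algebra.TensorProduct.includeRight : L →ₐ[K] K' ⊗[K] L).toRingHom.comp
        (algebraMap B L))) := by
  obtain ⟨π, hπirr⟩ := IsDiscreteValuationRing.exists_irreducible A
  have hπ : maximalIdeal A = Ideal.span {π} := hπirr.maximalIdeal_eq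
  have hπm : π ∈ maximalIdeal A := ASK.pi_mem hπ
  obtain ⟨πB, hπBirr⟩ := IsDiscreteValuationRing.exists_irreducible B
  have hπB : maximalIdeal B = Ideal.span {πB} := hπBirr.maximalIdeal_eq
  letI algAK' : Algebra A K' := ((algebraMap K K').comp (algebraMap A K)).toAlgebra
  haveI : IsScalarTower A K K' := IsScalarTower.of_algebraMap_eq (fun _ => rfl)
  have h' : EtRam.IsTamelyRamified A (algebraMap A K') := h
  letI algLF : Algebra L F := ((algebraMap (K' ⊗[K] L) F).comp
    (Algebra.TensorProduct.includeRight : L →ₐ[K] K' ⊗[K] L).toRingHom).toAlgebra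
  letI algK'F : Algebra K' F := ((algebraMap (K' ⊗[K] L) F).comp
    (Algebra.TensorProduct.includeLeftRingHom : K' →+* K' ⊗[K] L)).toAlgebra
  letI algBF : Algebra B F := ((algebraMap L F).comp (algebraMap B L)).toAlgebra
  haveI : IsScalarTower B L F := IsScalarTower.of_algebraMap_eq (fun _ => rfl)
  letI algKF : Algebra K F := ((algebraMap L F).comp (algebraMap K L)).toAlgebra
  haveI : IsScalarTower K L F := IsScalarTower.of_algebraMap_eq (fun _ => rfl)
  have hcompatK : ∀ k : K,
      algebraMap K' F (algebraMap K K' k) = algebraMap L F (algebraMap K L k) := by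
    intro k
    show algebraMap (K' ⊗[K] L) F ((algebraMap K K' k) ⊗ₜ[K] (1 : L)) =
      algebraMap (K' ⊗[K] L) F ((1 : K') ⊗ₜ[K] (algebraMap K L k))
    rw [Algebra.algebraMap_eq_smul_one (A := K') k, Algebra.algebraMap_eq_smul_one (A := L) k,
      TensorProduct.smul_tmul]
  haveI : IsScalarTower K K' F := IsScalarTower.of_algebraMap_eq (fun k => (hcompatK k).symm)
  have hFtmul : ∀ (k' : K') (l : L),
      algebraMap (K' ⊗[K] L) F (k' ⊗ₜ[K] l) = algebraMap K' F k' * algebraMap L F l := by
    intro k' l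
    show _ = algebraMap (K' ⊗[K] L) F (k' ⊗ₜ[K] (1 : L)) *
      algebraMap (K' ⊗[K] L) F ((1 : K') ⊗ₜ[K] l)
    rw [← map_mul, Algebra.TensorProduct.tmul_mul_tmul, mul_one, one_mul]
  haveI : FiniteDimensional L F := by
    let g : L ⊗[K] K' →ₐ[L] F :=
      Algebra.TensorProduct.productLeftAlgHom (Algebra.ofId L F) (IsScalarTower.toAlgHom K K' F)
    have hgt : ∀ (l : L) (k' : K'), g (l ⊗ₜ[K] k') = algebraMap L F l * algebraMap K' F k' := by
      intro l k'
      simp [g, Algebra.TensorProduct.productLeftAlgHom]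
    have hg : Function.Surjective g := by
      intro f
      obtain ⟨t, rfl⟩ := hF f
      induction t using TensorProduct.induction_on with
      | zero => exact ⟨0, by rw [map_zero, map_zero]⟩
      | tmul k' l => exact ⟨l ⊗ₜ[K] k', by rw [hgt, hFtmul, mul_comm]⟩
      | add x y hx hy =>
        obtain ⟨x', hx'⟩ := hx
        obtain ⟨y', hy'⟩ := hy
        exact ⟨x' + y', by rw [map_add, map_add, hx', hy']⟩
    exact Module.Finite.of_surjective g.toLinearMap hg
  have hπBF : algebraMap B F πB ≠ 0 := by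
    show algebraMap L F (algebraMap B L πB) ≠ 0
    exact (_root_.map_ne_zero _).mpr (ASK.algK_pi_ne_zero hπB)
  have hπAB : algebraMap A B π ≠ 0 := by
    intro h0
    have h1 : algebraMap A L π = 0 := by
      rw [IsScalarTower.algebraMap_apply A B L, h0, map_zero]
    exact ASK.algL_pi_ne_zero hπ (ASK.algebraMap_inj A K L) h1
  obtain ⟨eB, uB, huB⟩ := IsDiscreteValuationRing.eq_unit_mul_pow_irreducible hπAB hπBirr
  obtain ⟨r, hr⟩ : ∃ r : B, r * algebraMap A B π = πB ^ eB := by
    refine ⟨((uB⁻¹ : Bˣ) : B), ?_⟩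
    rw [huB, ← mul_assoc, Units.inv_mul, one_mul]
  intro W hW
  have hW' : EtRam.Dominates B (algebraMap B F) W := ⟨fun b => hW.1 b, fun b hb => hW.2 b hb⟩
  letI algBW : Algebra B W := (RingHom.codRestrict ((algebraMap (K' ⊗[K] L) F).comp
      ((Algebra.TensorProduct.includeRight : L →ₐ[K] K' ⊗[K] L).toRingHom.comp
        (algebraMap B L))) W hW.1).toAlgebra
  intro locBW
  have hcompat : ∀ a : A,
      algebraMap K' F (algebraMap A K' a) = algebraMap B F (algebraMap A B a) := by
    intro a
    show algebraMap K' F (algebraMap K K' (algebraMap A K a)) =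
      algebraMap L F (algebraMap B L (algebraMap A B a))
    rw [hcompatK, ← IsScalarTower.algebraMap_apply A K L, ← IsScalarTower.algebraMap_apply A B L]
  have hdomA : EtRam.Dominates A (algebraMap A K') (W.comap (algebraMap K' F)) := by
    apply RI.dominates_comap_of_comp
    refine ⟨fun a => ?_, fun a ha => ?_⟩
    · show algebraMap K' F (algebraMap A K' a) ∈ W
      rw [hcompat]; exact hW'.1 _
    · show W.valuation (algebraMap K' F (algebraMap A K' a)) < 1
      rw [hcompat]
      apply hW'.2
      rw [mem_maximalIdeal, mem_nonunits_iff] at ha ⊢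
      exact fun h => ha (isUnit_of_map_unit (algebraMap A B) a h)
  letI algAV : Algebra A (W.comap (algebraMap K' F)) :=
    (RingHom.codRestrict (algebraMap A K') (W.comap (algebraMap K' F)) hdomA.1).toAlgebra
  haveI locAV : IsLocalHom (algebraMap A (W.comap (algebraMap K' F))) :=
    RI.isLocalHom_of_dominates hdomA
  obtain ⟨hsep, htame⟩ := @h' (W.comap (algebraMap K' F)) hdomA locAV
  haveI : IsScalarTower A (W.comap (algebraMap K' F)) K' :=
    IsScalarTower.of_algebraMap_eq (fun _ => rfl)
  letI algVW : Algebra (W.comap (algebraMap K' F)) W :=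
    (EtRam.inclOfComap W (algebraMap K' F)).toAlgebra
  haveI locVW : IsLocalHom (algebraMap (W.comap (algebraMap K' F)) W) :=
    EtRam.isLocalHom_inclOfComap W (algebraMap K' F)
  letI algAW : Algebra A W := ((algebraMap B W).comp (algebraMap A B)).toAlgebra
  haveI : IsScalarTower A B W := IsScalarTower.of_algebraMap_eq (fun _ => rfl)
  haveI : IsScalarTower A (W.comap (algebraMap K' F)) W :=
    IsScalarTower.of_algebraMap_eq (fun a => Subtype.ext (hcompat a).symm)
  haveI locAW : IsLocalHom (algebraMap A W) := ⟨fun a ha => by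
    have h1 : IsUnit (algebraMap B W (algebraMap A B a)) := ha
    exact isUnit_of_map_unit (algebraMap A B) a (isUnit_of_map_unit (algebraMap B W) _ h1)⟩
  have hϖ0 : ((algebraMap B W πB : W) : F) ≠ 0 := hπBF
  haveI hfin : Module.Finite (ResidueField A) (ResidueField (W.comap (algebraMap K' F))) :=
    finite_residue (K := K) hπ (W.comap (algebraMap K' F)) hdomA
  -- the uniformizer of `V' = W ∩ K'`
  obtain ⟨y₀, hu⟩ := exists_isUnif (L := K) hπ hdomA
  obtain ⟨e, he0, hpe⟩ := exists_pow_eq (L := K) hπ hdomA hu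
  have hvπ0 : (W.comap (algebraMap K' F)).valuation (algebraMap A K' π) ≠ 0 :=
    (ASK.val_pi_pos hπ (ASK.algebraMap_inj A K K')).ne'
  have hπ0 : algebraMap A K' π ≠ 0 := (Valuation.ne_zero_iff _).mp hvπ0
  have hy₀V : y₀ ∈ W.comap (algebraMap K' F) :=
    ((W.comap (algebraMap K' F)).valuation_le_one_iff y₀).mp hu.1.le
  have hy00 : y₀ ≠ 0 := by
    intro h0
    rw [h0, map_zero, zero_pow he0] at hpe
    exact hvπ0 hpe
  obtain ⟨ϖV, hϖV⟩ : ∃ ϖV : W.comap (algebraMap K' F), (ϖV : K') = y₀ := ⟨⟨y₀, hy₀V⟩, rfl⟩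
  have hXm : maximalIdeal (W.comap (algebraMap K' F)) = Ideal.span {ϖV} :=
    (RI.maximalIdeal_eq_span_iff _ ϖV (by rw [hϖV]; exact hy00)).mpr (by rw [hϖV]; exact hu)
  have hvu : (W.comap (algebraMap K' F)).valuation (y₀ ^ e / algebraMap A K' π) = 1 := by
    rw [map_div₀, map_pow, ← hpe, div_self hvπ0]
  obtain ⟨uV, huV⟩ : ∃ uV : W.comap (algebraMap K' F), (uV : K') = y₀ ^ e / algebraMap A K' π :=
    ⟨⟨_, ((W.comap (algebraMap K' F)).valuation_le_one_iff _).mp hvu.le⟩, rfl⟩
  have hvu₁ : (W.comap (algebraMap K' F)).valuation (algebraMap A K' π / y₀ ^ e) = 1 := by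
    rw [map_div₀, map_pow, ← hpe, div_self hvπ0]
  obtain ⟨uV₁, huV₁⟩ : ∃ uV₁ : W.comap (algebraMap K' F),
      (uV₁ : K') = algebraMap A K' π / y₀ ^ e :=
    ⟨⟨_, ((W.comap (algebraMap K' F)).valuation_le_one_iff _).mp hvu₁.le⟩, rfl⟩
  have hy0e : y₀ ^ e ≠ 0 := pow_ne_zero _ hy00
  have huu₁ : uV * uV₁ = 1 := by
    apply Subtype.ext
    show (uV : K') * (uV₁ : K') = 1
    rw [huV, huV₁]
    field_simp
  have hπX : algebraMap A (W.comap (algebraMap K' F)) π * uV = ϖV ^ e := by
    apply Subtype.ext
    show algebraMap A K' π * (uV : K') = (ϖV : K') ^ e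
    rw [huV, hϖV]
    field_simp
  have hram : Ideal.ramificationIdx' (maximalIdeal A)
      (maximalIdeal (W.comap (algebraMap K' F))) = e := by
    rw [RI.ramificationIdx'_eq_sSup (W.comap (algebraMap K' F)) π hπ]
    exact RI.HasOrdAt.sSup_eq ⟨he0, hπ0, hu, hpe⟩
  -- the `B` side
  have heB0 : eB ≠ 0 := by
    intro h0
    rw [h0, pow_zero, mul_one] at huB
    have h1 : IsUnit (algebraMap A B π) := by rw [huB]; exact uB.isUnit
    exact (mem_nonunits_iff.mp ((mem_maximalIdeal π).mp hπm))
      (isUnit_of_map_unit (algebraMap A B) π h1)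
  have huY : ((uB⁻¹ : Bˣ) : B) * (uB : B) = 1 := Units.inv_mul uB
  have hπY : algebraMap A B π * ((uB⁻¹ : Bˣ) : B) = πB ^ eB := by
    rw [huB, mul_right_comm, Units.mul_inv, one_mul]
  have hπ0W : ((algebraMap A W π : W) : F) ≠ 0 := by
    show algebraMap L F (algebraMap B L (algebraMap A B π)) ≠ 0
    exact (_root_.map_ne_zero _).mpr
      ((map_ne_zero_iff _ (IsFractionRing.injective B L)).mpr hπAB)
  have heA : ((e : ℕ) : ResidueField A) ≠ 0 := by
    obtain ⟨p, hp⟩ := CharP.exists (ResidueField A)
    rw [Ne, CharP.cast_eq_zero_iff (ResidueField A) p]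
    rcases CharP.char_is_prime_or_zero (ResidueField A) p with hpp | hp0
    · have h1 := htame p hpp hp
      rwa [hram] at h1
    · rw [hp0, zero_dvd_iff]
      exact he0
  have hQ : ∀ (d : ℕ) (η : ResidueField B ⊗[ResidueField A]
      ResidueField (W.comap (algebraMap K' F))), d ≠ 0 → d ∣ e → IsUnit η →
      ∀ x : AdjoinRoot (X ^ d - C η : (ResidueField B ⊗[ResidueField A]
        ResidueField (W.comap (algebraMap K' F)))[X]), ∃ y, x = x * x * y := by
    intro d η hd hde hη x
    haveI : Algebra.IsSeparable (ResidueField A)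
        (ResidueField (W.comap (algebraMap K' F))) := hsep
    haveI : Algebra.FormallyUnramified (ResidueField A)
        (ResidueField (W.comap (algebraMap K' F))) :=
      Algebra.FormallyUnramified.of_isSeparable _ _
    haveI : IsReduced (ResidueField B ⊗[ResidueField A]
        ResidueField (W.comap (algebraMap K' F))) :=
      Algebra.FormallyUnramified.isReduced_of_field (ResidueField B) _
    refine vnr_adjoinRoot (F := ResidueField B) d hd η hη ?_ x
    intro hd0
    apply heA
    obtain ⟨k, rfl⟩ := hde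
    have h1 : ((d * k : ℕ) : ResidueField B) = 0 := by rw [Nat.cast_mul, hd0, zero_mul]
    apply (algebraMap (ResidueField A) (ResidueField B)).injective
    rw [map_natCast, map_zero]
    exact h1
  have harch : ∀ w : F, w ≠ 0 → ∃ n : ℕ,
      W.valuation ((algebraMap B W πB : W) : F) ^ n < W.valuation w :=
    fun w hw => arch (L := L) hπB hW' w hw
  -- generation
  obtain ⟨Φ, hΦ⟩ : ∃ Φ : B ⊗[A] (W.comap (algebraMap K' F)) →+* F,
      ∀ c, Φ c = ((phiW W c : W) : F) := ⟨W.subtype.comp (phiW W).toRingHom, fun _ => rfl⟩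
  have hΦtmul : ∀ (b : B) (t : W.comap (algebraMap K' F)),
      Φ (b ⊗ₜ[A] t) = algebraMap B F b * algebraMap K' F (t : K') := by
    intro b t
    rw [hΦ, phiW_tmul]
    rfl
  obtain ⟨z, hzdef⟩ : ∃ z : F, z = algebraMap B F πB := ⟨_, rfl⟩
  have hϖW : ((algebraMap B W πB : W) : F) = z := hzdef.symm
  have hΦϖ : Φ (πB ⊗ₜ[A] (1 : W.comap (algebraMap K' F))) = z := by
    rw [hΦtmul, hzdef]
    show algebraMap B F πB * algebraMap K' F (1 : K') = _
    rw [map_one, mul_one]
  obtain ⟨S, hS⟩ : ∃ S : F → Prop, ∀ y, S y ↔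
      ∃ (N : ℕ) (c : B ⊗[A] (W.comap (algebraMap K' F))), y * z ^ N = Φ c :=
    ⟨_, fun _ => Iff.rfl⟩
  have hS_add : ∀ y₁ y₂ : F, S y₁ → S y₂ → S (y₁ + y₂) := by
    intro y₁ y₂ h₁ h₂
    rw [hS] at h₁ h₂ ⊢
    obtain ⟨N₁, c₁, h₁⟩ := h₁
    obtain ⟨N₂, c₂, h₂⟩ := h₂
    refine ⟨N₁ + N₂, c₁ * (πB ⊗ₜ[A] (1 : W.comap (algebraMap K' F))) ^ N₂ +
      c₂ * (πB ⊗ₜ[A] (1 : W.comap (algebraMap K' F))) ^ N₁, ?_⟩
    rw [map_add, map_mul, map_mul, map_pow, map_pow, hΦϖ, ← h₁, ← h₂, pow_add]
    ring
  have hS_mul : ∀ y₁ y₂ : F, S y₁ → S y₂ → S (y₁ * y₂) := by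
    intro y₁ y₂ h₁ h₂
    rw [hS] at h₁ h₂ ⊢
    obtain ⟨N₁, c₁, h₁⟩ := h₁
    obtain ⟨N₂, c₂, h₂⟩ := h₂
    refine ⟨N₁ + N₂, c₁ * c₂, ?_⟩
    rw [map_mul, ← h₁, ← h₂, pow_add]
    ring
  have hS_L : ∀ l : L, S (algebraMap L F l) := by
    intro l
    rw [hS]
    by_cases hl : l = 0
    · exact ⟨0, 0, by rw [hl, map_zero, zero_mul, map_zero]⟩
    obtain ⟨u, k, hk⟩ := ASK.decomp hπB l hl
    obtain ⟨n, b, hnb⟩ : ∃ (n : ℕ) (b : B),
        l * (algebraMap B L πB) ^ n = algebraMap B L b := by
      refine ⟨k.natAbs, (u : B) * πB ^ (k + k.natAbs).toNat, ?_⟩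
      have hπL : algebraMap B L πB ≠ 0 := ASK.algK_pi_ne_zero hπB
      rw [hk, map_mul, map_pow, mul_assoc, ← zpow_natCast, ← zpow_natCast, ← zpow_add₀ hπL]
      congr 2
      omega
    refine ⟨n, b ⊗ₜ[A] (1 : W.comap (algebraMap K' F)), ?_⟩
    rw [hΦtmul, hzdef]
    show algebraMap L F l * (algebraMap L F (algebraMap B L πB)) ^ n =
      algebraMap L F (algebraMap B L b) * algebraMap K' F (1 : K')
    rw [map_one, mul_one, ← hnb, map_mul, map_pow]
  have hp : algebraMap K' F (algebraMap A K' π) = algebraMap B F (algebraMap A B π) := hcompat π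
  have hrp : algebraMap B F r * algebraMap K' F (algebraMap A K' π) = z ^ eB := by
    rw [hp, ← map_mul, hr, map_pow, hzdef]
  have hS_K' : ∀ k' : K', S (algebraMap K' F k') := by
    intro k'
    rw [hS]
    by_cases hk : k' = 0
    · exact ⟨0, 0, by rw [hk, map_zero, zero_mul, map_zero]⟩
    obtain ⟨n, hn⟩ := arch (L := K) hπ hdomA k'⁻¹ (inv_ne_zero hk)
    have hvk : 0 < (W.comap (algebraMap K' F)).valuation k' :=
      zero_lt_iff.mpr ((Valuation.ne_zero_iff _).mpr hk)
    have hmem : k' * (algebraMap A K' π) ^ n ∈ W.comap (algebraMap K' F) := by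
      rw [← ValuationSubring.valuation_le_one_iff, map_mul, map_pow]
      rw [map_inv₀] at hn
      have h1 := mul_lt_mul_of_pos_left hn hvk
      rw [mul_inv_cancel₀ hvk.ne'] at h1
      exact h1.le
    refine ⟨eB * n, (r ^ n) ⊗ₜ[A]
      (⟨k' * (algebraMap A K' π) ^ n, hmem⟩ : W.comap (algebraMap K' F)), ?_⟩
    rw [hΦtmul, pow_mul, ← hrp]
    show algebraMap K' F k' * (algebraMap B F r * algebraMap K' F (algebraMap A K' π)) ^ n =
      algebraMap B F (r ^ n) * algebraMap K' F (k' * (algebraMap A K' π) ^ n)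
    simp only [map_pow, map_mul, mul_pow]
    ring
  have hgenS : ∀ t : K' ⊗[K] L, S (algebraMap (K' ⊗[K] L) F t) := by
    intro t
    induction t using TensorProduct.induction_on with
    | zero =>
      rw [hS]
      exact ⟨0, 0, by rw [map_zero, zero_mul, map_zero]⟩
    | tmul k' l =>
      rw [hFtmul]
      exact hS_mul _ _ (hS_K' k') (hS_L l)
    | add x y hx hy =>
      rw [map_add]
      exact hS_add _ _ hx hy
  have hgen' : ∀ y : F, ∃ (N : ℕ) (c : B ⊗[A] (W.comap (algebraMap K' F))),
      y * ((algebraMap B W πB : W) : F) ^ N = ((phiW W c : W) : F) := by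
    intro y
    obtain ⟨t, rfl⟩ := hF y
    obtain ⟨N, c, hNc⟩ := (hS _).mp (hgenS t)
    exact ⟨N, c, by rw [hϖW, ← hΦ]; exact hNc⟩
  obtain ⟨t, ζ, hζW, d, e', hd0, hed, hζd, hvt, hunif, hres⟩ :=
    tame_core (A := A) (Xr := W.comap (algebraMap K' F)) (Y := B) W π ϖV hXm πB hπB e eB he0 heB0
      uV uV₁ huu₁ hπX ((uB⁻¹ : Bˣ) : B) (uB : B) huY hπY hπ0W hQ harch hgen'
  have he'0 : e' ≠ 0 := by
    intro h0
    rw [h0, zero_mul] at hed
    exact he0 hed
  refine ⟨?_, ?_⟩
  · haveI : Algebra.IsSeparable (ResidueField A)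
        (ResidueField (W.comap (algebraMap K' F))) := hsep
    have hsepX : ∀ x : ResidueField (W.comap (algebraMap K' F)),
        algebraMap (ResidueField (W.comap (algebraMap K' F))) (ResidueField W) x ∈
          separableClosure (ResidueField B) (ResidueField W) := by
      intro x
      rw [mem_separableClosure_iff]
      refine IsSeparable.tower_top (F := ResidueField A) (ResidueField B) ?_
      have hx : IsSeparable (ResidueField A) x := Algebra.IsSeparable.isSeparable _ x
      exact hx.map (IsScalarTower.toAlgHom (ResidueField A)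
        (ResidueField (W.comap (algebraMap K' F))) (ResidueField W))
        (IsScalarTower.toAlgHom (ResidueField A)
          (ResidueField (W.comap (algebraMap K' F))) (ResidueField W)).toRingHom.injective
    have key : ∀ c : ResidueField B ⊗[ResidueField A]
        ResidueField (W.comap (algebraMap K' F)),
        psi (A := A) (X := W.comap (algebraMap K' F)) (Y := B) W c ∈
          separableClosure (ResidueField B) (ResidueField W) := by
      intro c
      induction c using TensorProduct.induction_on with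
      | zero => rw [map_zero]; exact zero_mem _
      | tmul y x =>
        rw [psi_tmul]
        exact mul_mem (IntermediateField.algebraMap_mem _ y) (hsepX x)
      | add a b ha hb => rw [map_add]; exact add_mem ha hb
    have hE1 : ∀ c : B ⊗[A] (W.comap (algebraMap K' F)), residue W (phiW W c) ∈
        (separableClosure (ResidueField B) (ResidueField W)).toSubalgebra.toSubring := by
      intro c
      rw [← psi_rho]
      exact key _
    have hE2 : residue W ⟨ζ, hζW⟩ ∈
        (separableClosure (ResidueField B) (ResidueField W)).toSubalgebra.toSubring := by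
      show residue W ⟨ζ, hζW⟩ ∈ separableClosure (ResidueField B) (ResidueField W)
      rw [mem_separableClosure_iff]
      -- the relation in the residue field
      have hrel : (residue W ⟨ζ, hζW⟩) ^ d *
          algebraMap (ResidueField B) (ResidueField W) (residue B ((uB⁻¹ : Bˣ) : B)) =
          algebraMap (ResidueField (W.comap (algebraMap K' F))) (ResidueField W)
            (residue _ uV) := by
        have h1 : (⟨ζ, hζW⟩ : W) ^ d * algebraMap B W ((uB⁻¹ : Bˣ) : B) =
            algebraMap (W.comap (algebraMap K' F)) W uV := Subtype.ext hζd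
        have h2 := congrArg (residue W) h1
        rw [map_mul, map_pow] at h2
        exact h2
      have hνu : IsUnit (algebraMap (ResidueField B) (ResidueField W)
          (residue B ((uB⁻¹ : Bˣ) : B))) :=
        (((uB⁻¹ : Bˣ).isUnit.map (residue B)).map _)
      obtain ⟨η, hη⟩ : ∃ η : separableClosure (ResidueField B) (ResidueField W),
          (η : ResidueField W) = (residue W ⟨ζ, hζW⟩) ^ d := by
        refine ⟨⟨(residue W ⟨ζ, hζW⟩) ^ d, ?_⟩, rfl⟩
        have h3 : (residue W ⟨ζ, hζW⟩) ^ d =
            algebraMap (ResidueField (W.comap (algebraMap K' F))) (ResidueField W)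
              (residue _ uV) *
            (algebraMap (ResidueField B) (ResidueField W)
              (residue B ((uB⁻¹ : Bˣ) : B)))⁻¹ := by
          rw [← hrel, mul_assoc, mul_inv_cancel₀ hνu.ne_zero, mul_one]
        rw [h3]
        exact mul_mem (hsepX _) (inv_mem (IntermediateField.algebraMap_mem _ _))
      have hζ0 : residue W ⟨ζ, hζW⟩ ≠ 0 := by
        intro h0
        have hu1 : IsUnit (algebraMap (ResidueField (W.comap (algebraMap K' F)))
            (ResidueField W) (residue _ uV)) :=
          (((IsUnit.of_mul_eq_one uV₁ huu₁).map (residue _)).map _)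
        rw [h0, zero_pow hd0, zero_mul] at hrel
        exact hu1.ne_zero hrel.symm
      have hη0 : η ≠ 0 := by
        intro h0
        rw [h0] at hη
        exact pow_ne_zero d hζ0 hη.symm
      have hdE : ((d : ℕ) : separableClosure (ResidueField B) (ResidueField W)) ≠ 0 := by
        intro hd0'
        apply heA
        have h1 : ((d : ℕ) : ResidueField A) = 0 := by
          apply (algebraMap (ResidueField A)
            (separableClosure (ResidueField B) (ResidueField W))).injective
          rw [map_natCast, map_zero]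
          exact hd0'
        rw [hed, Nat.cast_mul, h1, mul_zero]
      have hsepP := separable_X_pow_sub_C η hdE hη0
      have haeval : aeval (residue W ⟨ζ, hζW⟩) (X ^ d - C η :
          (separableClosure (ResidueField B) (ResidueField W))[X]) = 0 := by
        rw [map_sub, map_pow, aeval_X, aeval_C]
        show (residue W ⟨ζ, hζW⟩) ^ d - (η : ResidueField W) = 0
        rw [hη, sub_self]
      have hsepζ : IsSeparable (separableClosure (ResidueField B) (ResidueField W))
          (residue W ⟨ζ, hζW⟩) :=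
        hsepP.of_dvd (minpoly.dvd _ _ haeval)
      exact IsSeparable.of_algebra_isSeparable_of_isSeparable (ResidueField B) hsepζ
    constructor
    intro w
    obtain ⟨w, rfl⟩ := residue_surjective w
    exact mem_separableClosure_iff.mp (hres _ hE1 hE2 w)
  · intro p hpp hpB
    have hramW : Ideal.ramificationIdx' (maximalIdeal B) (maximalIdeal W) = e' := by
      rw [RI.ramificationIdx'_eq_sSup W πB hπB]
      exact RI.HasOrdAt.sSup_eq ⟨he'0, hϖ0, hunif, hvt.symm⟩
    rw [hramW]
    intro hpe'
    haveI : CharP (ResidueField A) p :=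
      RingHom.charP (algebraMap (ResidueField A) (ResidueField B))
        (algebraMap (ResidueField A) (ResidueField B)).injective p
    apply htame p hpp inferInstance
    rw [hram, hed]
    exact Dvd.dvd.mul_right hpe' d

end Groth.Agent.H8.BC
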