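import Mathlib
import Groth.Prelude.Def_EtRam
import Groth.Agent.Lib.Helper8.ASK.Dom
import Groth.Agent.Lib.Helper8.ASK.RamIdx
import Groth.Agent.Lib.Helper8.ASK.RamTower
import Groth.Agent.Lib.Helper8.ASK.Arch
import Groth.Agent.Lib.Helper8.ASK.UnrBC
import Groth.Agent.Lib.Helper8.ASK.TameBC

set_option autoImplicit false
universe u

namespace Groth.Agent.H8.BC

open IsLocalRing TensorProduct

section DVR

variable {B L M : Type u} [CommRing B] [IsDomain B] [IsDiscreteValuationRing B] [Field L]
  [Algebra B L] [IsFractionRing B L] [Field M] [Algebra L M] [Algebra B M] [IsScalarTower B L M]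

/-- A valuation ring of a finite extension of the fraction field of a DVR `B` which dominates `B`
is a DVR. -/
theorem isDVR_of_dominates [FiniteDimensional L M] {πB : B}
    (hπB : maximalIdeal B = Ideal.span {πB})
    {W : ValuationSubring M} (hW : EtRam.Dominates B (algebraMap B M) W) :
    IsDiscreteValuationRing W := by
  classical
  obtain ⟨y₀, hu⟩ := exists_isUnif (L := L) hπB hW
  obtain ⟨e, he0, hpe⟩ := exists_pow_eq (L := L) hπB hW hu
  have hp0 : 0 < W.valuation (algebraMap B M πB) :=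
    ASK.val_pi_pos hπB (ASK.algebraMap_inj B L M)
  obtain ⟨q, hq⟩ : ∃ q, q = W.valuation y₀ := ⟨_, rfl⟩
  have hq1 : q < 1 := by rw [hq]; exact hu.1
  have hq0 : 0 < q := by
    rw [hpe, ← hq] at hp0
    rw [zero_lt_iff] at hp0 ⊢
    intro h
    apply hp0
    rw [h, zero_pow he0]
  have hy00 : y₀ ≠ 0 := by
    intro h0
    rw [h0, map_zero] at hq
    exact hq0.ne' hq
  have hy₀W : y₀ ∈ W := (W.valuation_le_one_iff y₀).mp hu.1.le
  have hkey : ∀ x : M, x ≠ 0 → W.valuation x ≤ 1 → ∃ m : ℕ, W.valuation x = q ^ m := by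
    intro x hx0 hx1
    have hex : ∃ i : ℕ, q ^ i ≤ W.valuation x := by
      obtain ⟨n, hn⟩ := arch (L := L) hπB hW x hx0
      refine ⟨e * n, ?_⟩
      rw [pow_mul, hq, ← hpe]
      exact hn.le
    obtain ⟨m, hm, hmin⟩ : ∃ m, q ^ m ≤ W.valuation x ∧ ∀ i < m, ¬ q ^ i ≤ W.valuation x :=
      ⟨Nat.find hex, Nat.find_spec hex, fun i hi => Nat.find_min hex hi⟩
    refine ⟨m, le_antisymm ?_ hm⟩
    rcases Nat.eq_zero_or_pos m with h0 | hpos
    · rw [h0, pow_zero]; exact hx1
    · obtain ⟨m', hm'⟩ := Nat.exists_eq_add_one_of_ne_zero hpos.ne'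
      have hlt : W.valuation x < q ^ m' := not_le.mp (hmin m' (by omega))
      have hz : W.valuation (x / y₀ ^ m') < 1 := by
        rw [map_div₀, map_pow, ← hq]
        exact (div_lt_one₀ (pow_pos hq0 m')).mpr hlt
      have h2 := hu.2 _ hz
      rw [map_div₀, map_pow, ← hq, div_le_iff₀ (pow_pos hq0 m')] at h2
      rw [hm', pow_succ']
      exact h2
  refine IsDiscreteValuationRing.ofHasUnitMulPowIrreducibleFactorization
    ⟨(⟨y₀, hy₀W⟩ : W), ?_, ?_⟩
  · rw [irreducible_iff]
    refine ⟨?_, ?_⟩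
    · intro hunit
      have h1 := (W.valuation_eq_one_iff _).mp hunit
      exact hu.1.ne h1
    · intro a b hab
      by_contra hcon
      rw [not_or] at hcon
      obtain ⟨ha, hb⟩ := hcon
      have hva : W.valuation (a : M) < 1 :=
        lt_of_le_of_ne ((W.valuation_le_one_iff _).mpr a.2)
          (fun h => ha ((W.valuation_eq_one_iff a).mpr h))
      have hvb : W.valuation (b : M) < 1 :=
        lt_of_le_of_ne ((W.valuation_le_one_iff _).mpr b.2)
          (fun h => hb ((W.valuation_eq_one_iff b).mpr h))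
      have h1 : y₀ = (a : M) * (b : M) := congrArg Subtype.val hab
      have h2 : W.valuation y₀ = W.valuation (a : M) * W.valuation (b : M) := by
        rw [h1, map_mul]
      have h3 : W.valuation (a : M) ≤ W.valuation y₀ := hu.2 _ hva
      have h4 : W.valuation (a : M) * W.valuation (b : M) < W.valuation y₀ := by
        calc W.valuation (a : M) * W.valuation (b : M)
            ≤ W.valuation y₀ * W.valuation (b : M) := mul_le_mul' h3 le_rfl
          _ < W.valuation y₀ * 1 := by
              apply mul_lt_mul_of_pos_left hvb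
              rw [← hq]; exact hq0
          _ = W.valuation y₀ := mul_one _
      rw [← h2] at h4
      exact lt_irrefl _ h4
  · intro x hx0
    have hx0' : (x : M) ≠ 0 := fun h => hx0 (Subtype.ext h)
    obtain ⟨m, hm⟩ := hkey (x : M) hx0' ((W.valuation_le_one_iff _).mpr x.2)
    refine ⟨m, ?_⟩
    have hv1 : W.valuation ((x : M) / y₀ ^ m) = 1 := by
      rw [map_div₀, map_pow, ← hq, hm, div_self (pow_pos hq0 m).ne']
    have hmem : (x : M) / y₀ ^ m ∈ W := (W.valuation_le_one_iff _).mp hv1.le
    have hunit : IsUnit (⟨(x : M) / y₀ ^ m, hmem⟩ : W) := (W.valuation_eq_one_iff _).mpr hv1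
    obtain ⟨v, hv⟩ := hunit
    refine ⟨v, ?_⟩
    rw [hv]
    apply Subtype.ext
    show y₀ ^ m * ((x : M) / y₀ ^ m) = (x : M)
    field_simp

end DVR

section Compositum

variable {A K : Type u} [CommRing A] [IsDomain A] [IsDiscreteValuationRing A] [Field K]
  [Algebra A K] [IsFractionRing A K]

theorem unram_of_algHom {L M : Type u} [Field L] [Field M] [Algebra K L] [Algebra K M]
    (j : L →ₐ[K] M)
    (h : EtRam.IsUnramifiedExt A ((algebraMap K M).comp (algebraMap A K))) :
    EtRam.IsUnramifiedExt A ((algebraMap K L).comp (algebraMap A K)) := by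
  obtain ⟨π, hπirr⟩ := IsDiscreteValuationRing.exists_irreducible A
  have hπ : maximalIdeal A = Ideal.span {π} := hπirr.maximalIdeal_eq
  have hcomp : (j : L →+* M).comp ((algebraMap K L).comp (algebraMap A K)) =
      (algebraMap K M).comp (algebraMap A K) := RingHom.ext (fun a => j.commutes _)
  rw [← hcomp] at h
  refine RI.unram_sub _ (j : L →+* M) π hπ ?_ h
  show algebraMap K L (algebraMap A K π) ≠ 0
  exact (_root_.map_ne_zero _).mpr (ASK.algK_pi_ne_zero hπ)

theorem tame_of_algHom {L M : Type u} [Field L] [Field M] [Algebra K L] [Algebra K M]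
    (j : L →ₐ[K] M)
    (h : EtRam.IsTamelyRamified A ((algebraMap K M).comp (algebraMap A K))) :
    EtRam.IsTamelyRamified A ((algebraMap K L).comp (algebraMap A K)) := by
  obtain ⟨π, hπirr⟩ := IsDiscreteValuationRing.exists_irreducible A
  have hπ : maximalIdeal A = Ideal.span {π} := hπirr.maximalIdeal_eq
  have hcomp : (j : L →+* M).comp ((algebraMap K L).comp (algebraMap A K)) =
      (algebraMap K M).comp (algebraMap A K) := RingHom.ext (fun a => j.commutes _)
  rw [← hcomp] at h
  refine RI.tame_sub _ (j : L →+* M) π hπ ?_ h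
  show algebraMap K L (algebraMap A K π) ≠ 0
  exact (_root_.map_ne_zero _).mpr (ASK.algK_pi_ne_zero hπ)

/-- The compositum of two unramified extensions is unramified. -/
theorem unram_compositum {L₁ L₂ M : Type u} [Field L₁] [Field L₂] [Field M] [Algebra K L₁]
    [Algebra K L₂] [Algebra K M] [FiniteDimensional K L₁] [FiniteDimensional K L₂]
    (ι₁ : L₁ →ₐ[K] M) (ι₂ : L₂ →ₐ[K] M)
    (hgen : Function.Surjective (Algebra.TensorProduct.productMap ι₂ ι₁))
    (h1 : EtRam.IsUnramifiedExt A ((algebraMap K L₁).comp (algebraMap A K)))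
    (h2 : EtRam.IsUnramifiedExt A ((algebraMap K L₂).comp (algebraMap A K))) :
    EtRam.IsUnramifiedExt A ((algebraMap K M).comp (algebraMap A K)) := by
  have hcomp : (ι₁ : L₁ →+* M).comp ((algebraMap K L₁).comp (algebraMap A K)) =
      (algebraMap K M).comp (algebraMap A K) := RingHom.ext (fun a => ι₁.commutes _)
  rw [← hcomp]
  apply RI.unram_comp _ _ h1
  intro V hV
  obtain ⟨π, hπirr⟩ := IsDiscreteValuationRing.exists_irreducible A
  have hπ : maximalIdeal A = Ideal.span {π} := hπirr.maximalIdeal_eq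
  letI algAL₁ : Algebra A L₁ := ((algebraMap K L₁).comp (algebraMap A K)).toAlgebra
  haveI : IsScalarTower A K L₁ := IsScalarTower.of_algebraMap_eq (fun _ => rfl)
  have hV' : EtRam.Dominates A (algebraMap A L₁) V := hV
  haveI : IsDiscreteValuationRing V := isDVR_of_dominates (L := K) hπ hV'
  letI algAV : Algebra A V := (RingHom.codRestrict (algebraMap A L₁) V hV'.1).toAlgebra
  haveI : IsLocalHom (algebraMap A V) := RI.isLocalHom_of_dominates hV'
  haveI : IsScalarTower A V L₁ := IsScalarTower.of_algebraMap_eq (fun _ => rfl)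
  letI algT : Algebra (L₂ ⊗[K] L₁) M :=
    (Algebra.TensorProduct.productMap ι₂ ι₁).toRingHom.toAlgebra
  have hbc := unramified_baseChange A V K L₁ L₂ h2 M hgen
  have heq : (algebraMap (L₂ ⊗[K] L₁) M).comp
      ((Algebra.TensorProduct.includeRight : L₁ →ₐ[K] L₂ ⊗[K] L₁).toRingHom.comp
        (algebraMap V L₁)) = (ι₁ : L₁ →+* M).comp V.subtype := by
    ext x
    show Algebra.TensorProduct.productMap ι₂ ι₁ ((1 : L₂) ⊗ₜ[K] (x : L₁)) = ι₁ x
    rw [Algebra.TensorProduct.productMap_apply_tmul, map_one, one_mul]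
  rw [← heq]
  exact hbc

/-- The compositum of two tamely ramified extensions is tamely ramified. -/
theorem tame_compositum {L₁ L₂ M : Type u} [Field L₁] [Field L₂] [Field M] [Algebra K L₁]
    [Algebra K L₂] [Algebra K M] [FiniteDimensional K L₁] [FiniteDimensional K L₂]
    (ι₁ : L₁ →ₐ[K] M) (ι₂ : L₂ →ₐ[K] M)
    (hgen : Function.Surjective (Algebra.TensorProduct.productMap ι₂ ι₁))
    (h1 : EtRam.IsTamelyRamified A ((algebraMap K L₁).comp (algebraMap A K)))
    (h2 : EtRam.IsTamelyRamified A ((algebraMap K L₂).comp (algebraMap A K))) :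
    EtRam.IsTamelyRamified A ((algebraMap K M).comp (algebraMap A K)) := by
  have hcomp : (ι₁ : L₁ →+* M).comp ((algebraMap K L₁).comp (algebraMap A K)) =
      (algebraMap K M).comp (algebraMap A K) := RingHom.ext (fun a => ι₁.commutes _)
  rw [← hcomp]
  obtain ⟨π, hπirr⟩ := IsDiscreteValuationRing.exists_irreducible A
  have hπ : maximalIdeal A = Ideal.span {π} := hπirr.maximalIdeal_eq
  have hgπ : ((algebraMap K L₁).comp (algebraMap A K)) π ≠ 0 := by
    show algebraMap K L₁ (algebraMap A K π) ≠ 0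
    exact (_root_.map_ne_zero _).mpr (ASK.algK_pi_ne_zero hπ)
  apply RI.tame_comp _ _ π hπ hgπ h1
  intro V hV
  letI algAL₁ : Algebra A L₁ := ((algebraMap K L₁).comp (algebraMap A K)).toAlgebra
  haveI : IsScalarTower A K L₁ := IsScalarTower.of_algebraMap_eq (fun _ => rfl)
  have hV' : EtRam.Dominates A (algebraMap A L₁) V := hV
  haveI : IsDiscreteValuationRing V := isDVR_of_dominates (L := K) hπ hV'
  letI algAV : Algebra A V := (RingHom.codRestrict (algebraMap A L₁) V hV'.1).toAlgebra
  haveI : IsLocalHom (algebraMap A V) := RI.isLocalHom_of_dominates hV'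
  haveI : IsScalarTower A V L₁ := IsScalarTower.of_algebraMap_eq (fun _ => rfl)
  letI algT : Algebra (L₂ ⊗[K] L₁) M :=
    (Algebra.TensorProduct.productMap ι₂ ι₁).toRingHom.toAlgebra
  have hbc := tame_baseChange A V K L₁ L₂ h2 M hgen
  have heq : (algebraMap (L₂ ⊗[K] L₁) M).comp
      ((Algebra.TensorProduct.includeRight : L₁ →ₐ[K] L₂ ⊗[K] L₁).toRingHom.comp
        (algebraMap V L₁)) = (ι₁ : L₁ →+* M).comp V.subtype := by
    ext x
    show Algebra.TensorProduct.productMap ι₂ ι₁ ((1 : L₂) ⊗ₜ[K] (x : L₁)) = ι₁ x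
    rw [Algebra.TensorProduct.productMap_apply_tmul, map_one, one_mul]
  rw [← heq]
  exact hbc

theorem surj_sup {K Ω : Type*} [Field K] [Field Ω] [Algebra K Ω] (E₁ E₂ : IntermediateField K Ω)
    [FiniteDimensional K E₂] :
    Function.Surjective (Algebra.TensorProduct.productMap
      (IntermediateField.inclusion (le_sup_right : E₂ ≤ E₁ ⊔ E₂))
      (IntermediateField.inclusion (le_sup_left : E₁ ≤ E₁ ⊔ E₂))) := by
  intro y
  have hy : (y : Ω) ∈ (E₂ ⊔ E₁).toSubalgebra := by
    rw [sup_comm]; exact y.2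
  rw [IntermediateField.sup_toSubalgebra_of_left, ← E₂.range_val, ← E₁.range_val,
    ← Algebra.TensorProduct.productMap_range] at hy
  obtain ⟨t, ht⟩ := hy
  refine ⟨t, Subtype.ext ?_⟩
  rw [← ht]
  clear ht
  induction t using TensorProduct.induction_on with
  | zero => simp
  | tmul a b =>
    rw [Algebra.TensorProduct.productMap_apply_tmul]
    rfl
  | add a b ha hb =>
    rw [map_add, map_add, ← ha, ← hb]
    rfl

/-- Galois closures and composita, for a property `Q` of finite extensions which descends to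
subextensions and passes to composita. -/
theorem galois_and_compositum (Q : ∀ (L : Type u) [Field L], (A →+* L) → Prop)
    (hsub : ∀ (L M : Type u) [Field L] [Field M] [Algebra K L] [Algebra K M] (_ : L →ₐ[K] M),
      Q M ((algebraMap K M).comp (algebraMap A K)) → Q L ((algebraMap K L).comp (algebraMap A K)))
    (hcomp : ∀ (L₁ L₂ M : Type u) [Field L₁] [Field L₂] [Field M] [Algebra K L₁] [Algebra K L₂]
      [Algebra K M] [FiniteDimensional K L₁] [FiniteDimensional K L₂] (ι₁ : L₁ →ₐ[K] M)
      (ι₂ : L₂ →ₐ[K] M), Function.Surjective (Algebra.TensorProduct.productMap ι₂ ι₁) →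
      Q L₁ ((algebraMap K L₁).comp (algebraMap A K)) →
      Q L₂ ((algebraMap K L₂).comp (algebraMap A K)) →
      Q M ((algebraMap K M).comp (algebraMap A K))) :
    (∀ (L : Type u) [Field L] [Algebra K L] [FiniteDimensional K L] [Algebra.IsSeparable K L],
      Q L ((algebraMap K L).comp (algebraMap A K)) →
        ∃ (M : Type u) (_ : Field M) (_ : Algebra K M) (_ : FiniteDimensional K M)
          (_ : IsGalois K M) (_ : L →ₐ[K] M), Q M ((algebraMap K M).comp (algebraMap A K))) ∧
    (∀ (L₁ L₂ : Type u) [Field L₁] [Field L₂] [Algebra K L₁] [Algebra K L₂]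
      [FiniteDimensional K L₁] [FiniteDimensional K L₂]
      [Algebra.IsSeparable K L₁] [Algebra.IsSeparable K L₂],
      Q L₁ ((algebraMap K L₁).comp (algebraMap A K)) →
      Q L₂ ((algebraMap K L₂).comp (algebraMap A K)) →
        ∃ (M : Type u) (_ : Field M) (_ : Algebra K M) (_ : FiniteDimensional K M)
          (_ : Algebra.IsSeparable K M) (_ : L₁ →ₐ[K] M) (_ : L₂ →ₐ[K] M),
          Q M ((algebraMap K M).comp (algebraMap A K))) := by
  have hsup : ∀ (E₁ E₂ : IntermediateField K (AlgebraicClosure K)) [FiniteDimensional K E₁]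
      [FiniteDimensional K E₂], Q E₁ ((algebraMap K E₁).comp (algebraMap A K)) →
      Q E₂ ((algebraMap K E₂).comp (algebraMap A K)) →
      Q ↥(E₁ ⊔ E₂) ((algebraMap K ↥(E₁ ⊔ E₂)).comp (algebraMap A K)) :=
    fun E₁ E₂ _ _ h1 h2 => hcomp E₁ E₂ ↥(E₁ ⊔ E₂) (IntermediateField.inclusion le_sup_left)
      (IntermediateField.inclusion le_sup_right) (surj_sup E₁ E₂) h1 h2
  refine ⟨?_, ?_⟩
  · intro L _ _ _ _ hL
    have hfr : ∀ σ : L →ₐ[K] AlgebraicClosure K,
        Q σ.fieldRange ((algebraMap K σ.fieldRange).comp (algebraMap A K)) :=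
      fun σ => hsub σ.fieldRange L (σ.equivFieldRange.symm : σ.fieldRange →ₐ[K] L) hL
    obtain ⟨σ₀⟩ : Nonempty (L →ₐ[K] AlgebraicClosure K) := ⟨IsAlgClosed.lift⟩
    have hN : Q (IntermediateField.normalClosure K L (AlgebraicClosure K))
        ((algebraMap K (IntermediateField.normalClosure K L (AlgebraicClosure K))).comp
          (algebraMap A K)) := by
      classical
      haveI : Fintype (L →ₐ[K] AlgebraicClosure K) := Fintype.ofFinite _
      have hne : (Finset.univ : Finset (L →ₐ[K] AlgebraicClosure K)).Nonempty :=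
        ⟨σ₀, Finset.mem_univ _⟩
      have key := Finset.sup'_induction hne
        (fun σ : L →ₐ[K] AlgebraicClosure K => σ.fieldRange)
        (p := fun E => FiniteDimensional K E ∧
          Q E ((algebraMap K E).comp (algebraMap A K))) ?_ ?_
      · have heq : IntermediateField.normalClosure K L (AlgebraicClosure K) =
            Finset.univ.sup' hne (fun σ : L →ₐ[K] AlgebraicClosure K => σ.fieldRange) := by
          rw [Finset.sup'_eq_sup, Finset.sup_univ_eq_iSup]
          rfl
        rw [heq]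
        exact key.2
      · rintro E₁ ⟨hf1, h1⟩ E₂ ⟨hf2, h2⟩
        haveI := hf1
        haveI := hf2
        exact ⟨inferInstance, hsup E₁ E₂ h1 h2⟩
      · intro σ _
        exact ⟨σ.toLinearMap.finiteDimensional_range, hfr σ⟩
    haveI : ∀ σ : L →ₐ[K] AlgebraicClosure K, Algebra.IsSeparable K σ.fieldRange :=
      fun σ => AlgEquiv.Algebra.isSeparable σ.equivFieldRange
    haveI hsep : Algebra.IsSeparable K
        (IntermediateField.normalClosure K L (AlgebraicClosure K)) := by
      show Algebra.IsSeparable K ↥(⨆ σ : L →ₐ[K] AlgebraicClosure K, σ.fieldRange)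
      infer_instance
    haveI : IsGalois K (IntermediateField.normalClosure K L (AlgebraicClosure K)) := ⟨⟩
    exact ⟨IntermediateField.normalClosure K L (AlgebraicClosure K), inferInstance, inferInstance,
      inferInstance, inferInstance, (normalClosure.algHomEquiv K L _).symm σ₀, hN⟩
  · intro L₁ L₂ _ _ _ _ _ _ _ _ h1 h2
    obtain ⟨σ₁⟩ : Nonempty (L₁ →ₐ[K] AlgebraicClosure K) := ⟨IsAlgClosed.lift⟩
    obtain ⟨σ₂⟩ : Nonempty (L₂ →ₐ[K] AlgebraicClosure K) := ⟨IsAlgClosed.lift⟩
    haveI : FiniteDimensional K σ₁.fieldRange := σ₁.toLinearMap.finiteDimensional_range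
    haveI : FiniteDimensional K σ₂.fieldRange := σ₂.toLinearMap.finiteDimensional_range
    haveI : Algebra.IsSeparable K σ₁.fieldRange := AlgEquiv.Algebra.isSeparable σ₁.equivFieldRange
    haveI : Algebra.IsSeparable K σ₂.fieldRange := AlgEquiv.Algebra.isSeparable σ₂.equivFieldRange
    have hE1 := hsub σ₁.fieldRange L₁ (σ₁.equivFieldRange.symm : σ₁.fieldRange →ₐ[K] L₁) h1
    have hE2 := hsub σ₂.fieldRange L₂ (σ₂.equivFieldRange.symm : σ₂.fieldRange →ₐ[K] L₂) h2
    exact ⟨↥(σ₁.fieldRange ⊔ σ₂.fieldRange), inferInstance, inferInstance, inferInstance,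
      inferInstance,
      (IntermediateField.inclusion le_sup_left).comp
        (σ₁.equivFieldRange : L₁ →ₐ[K] σ₁.fieldRange),
      (IntermediateField.inclusion le_sup_right).comp
        (σ₂.equivFieldRange : L₂ →ₐ[K] σ₂.fieldRange),
      hsup _ _ hE1 hE2⟩

/-- Statement S1991. -/
theorem s1991 (A K : Type u) [CommRing A] [IsDomain A] [IsDiscreteValuationRing A] [Field K]
    [Algebra A K] [IsFractionRing A K] :
    (∀ (L : Type u) [Field L] [Algebra K L] [FiniteDimensional K L] [Algebra.IsSeparable K L],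
      (EtRam.IsUnramifiedExt A ((algebraMap K L).comp (algebraMap A K)) →
        ∃ (M : Type u) (_ : Field M) (_ : Algebra K M) (_ : FiniteDimensional K M) (_ : IsGalois K M) (_ : L →ₐ[K] M),
          EtRam.IsUnramifiedExt A ((algebraMap K M).comp (algebraMap A K))) ∧
      (EtRam.IsTamelyRamified A ((algebraMap K L).comp (algebraMap A K)) →
        ∃ (M : Type u) (_ : Field M) (_ : Algebra K M) (_ : FiniteDimensional K M) (_ : IsGalois K M) (_ : L →ₐ[K] M),
          EtRam.IsTamelyRamified A ((algebraMap K M).comp (algebraMap A K)))) ∧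
    (∀ (L₁ L₂ : Type u) [Field L₁] [Field L₂] [Algebra K L₁] [Algebra K L₂] [FiniteDimensional K L₁] [FiniteDimensional K L₂]
      [Algebra.IsSeparable K L₁] [Algebra.IsSeparable K L₂],
      (EtRam.IsUnramifiedExt A ((algebraMap K L₁).comp (algebraMap A K)) →
        EtRam.IsUnramifiedExt A ((algebraMap K L₂).comp (algebraMap A K)) →
        ∃ (M : Type u) (_ : Field M) (_ : Algebra K M) (_ : FiniteDimensional K M) (_ : Algebra.IsSeparable K M)
          (_ : L₁ →ₐ[K] M) (_ : L₂ →ₐ[K] M), EtRam.IsUnramifiedExt A ((algebraMap K M).comp (algebraMap A K))) ∧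
      (EtRam.IsTamelyRamified A ((algebraMap K L₁).comp (algebraMap A K)) →
        EtRam.IsTamelyRamified A ((algebraMap K L₂).comp (algebraMap A K)) →
        ∃ (M : Type u) (_ : Field M) (_ : Algebra K M) (_ : FiniteDimensional K M) (_ : Algebra.IsSeparable K M)
          (_ : L₁ →ₐ[K] M) (_ : L₂ →ₐ[K] M), EtRam.IsTamelyRamified A ((algebraMap K M).comp (algebraMap A K)))) := by
  have hU := galois_and_compositum (A := A) (K := K)
    (fun (L : Type u) [Field L] (g : A →+* L) => EtRam.IsUnramifiedExt A g)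
    (fun L M _ _ _ _ j h => unram_of_algHom j h)
    (fun L₁ L₂ M _ _ _ _ _ _ _ _ ι₁ ι₂ hs h1 h2 => unram_compositum ι₁ ι₂ hs h1 h2)
  have hT := galois_and_compositum (A := A) (K := K)
    (fun (L : Type u) [Field L] (g : A →+* L) => EtRam.IsTamelyRamified A g)
    (fun L M _ _ _ _ j h => tame_of_algHom j h)
    (fun L₁ L₂ M _ _ _ _ _ _ _ _ ι₁ ι₂ hs h1 h2 => tame_compositum ι₁ ι₂ hs h1 h2)
  exact ⟨fun L _ _ _ _ => ⟨hU.1 L, hT.1 L⟩,
    fun L₁ L₂ _ _ _ _ _ _ _ _ => ⟨hU.2 L₁ L₂, hT.2 L₁ L₂⟩⟩

end Compositum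

end Groth.Agent.H8.BC
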