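import Groth.Agent.Lib.Helper8.ASK.Compositum

/-!
# (Weak) solutions go down towers: formal parts
-/

set_option autoImplicit false
universe u

namespace Groth.Agent.H8.RI

open IsLocalRing

section

variable {K₁ M M' : Type u} [Field K₁] [Field M] [Field M']

/-- Elementwise criterion for `W ∩ K₁ → W` to be weakly unramified. -/
theorem isWeaklyUnramified_comap_iff (W : ValuationSubring M) (f : K₁ →+* M) :
    (letI : Algebra (W.comap f) W := (EtRam.inclOfComap W f).toAlgebra
     EtRam.IsWeaklyUnramified (W.comap f) W) ↔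
    ∀ y : M, W.valuation y < 1 →
      ∃ a : K₁, W.valuation (f a) < 1 ∧ W.valuation y ≤ W.valuation (f a) := by
  letI : Algebra (W.comap f) W := (EtRam.inclOfComap W f).toAlgebra
  have hloc : ∀ a : W.comap f,
      a ∈ maximalIdeal (W.comap f) ↔ W.valuation (f (a : K₁)) < 1 := by
    intro a
    rw [ValuationSubring.valuation_lt_one_iff]
    exact (isEquiv_comap W f).lt_one_iff_lt_one
  show EtRam.IsWeaklyUnramified (W.comap f) W ↔ _
  unfold EtRam.IsWeaklyUnramified
  constructor
  · intro h y hy
    have hyW : y ∈ W := (W.valuation_le_one_iff y).mp hy.le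
    have hym : (⟨y, hyW⟩ : W) ∈ maximalIdeal W := (W.valuation_lt_one_iff ⟨y, hyW⟩).mpr hy
    rw [← h, Ideal.map] at hym
    have key : ∀ z : W, z ∈ Ideal.span ((algebraMap (W.comap f) W) ''
        (maximalIdeal (W.comap f) : Set (W.comap f))) →
        ∃ a : K₁, W.valuation (f a) < 1 ∧ W.valuation (z : M) ≤ W.valuation (f a) := by
      intro z hz
      induction hz using Submodule.span_induction with
      | mem z hz =>
        obtain ⟨a, ha, rfl⟩ := hz
        exact ⟨a, (hloc a).mp ha, le_rfl⟩
      | zero =>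
        refine ⟨0, ?_, ?_⟩
        · rw [map_zero, map_zero]
          exact zero_lt_one
        · show W.valuation (0 : M) ≤ _
          rw [map_zero]
          exact zero_le'
      | add z₁ z₂ _ _ h1 h2 =>
        obtain ⟨a₁, ha₁, hz₁⟩ := h1
        obtain ⟨a₂, ha₂, hz₂⟩ := h2
        rcases le_total (W.valuation (f a₁)) (W.valuation (f a₂)) with h | h
        · exact ⟨a₂, ha₂, (W.valuation.map_add _ _).trans (max_le (hz₁.trans h) hz₂)⟩
        · exact ⟨a₁, ha₁, (W.valuation.map_add _ _).trans (max_le hz₁ (hz₂.trans h))⟩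
      | smul c z _ h1 =>
        obtain ⟨a, ha, hz⟩ := h1
        refine ⟨a, ha, ?_⟩
        show W.valuation ((c : M) * (z : M)) ≤ _
        rw [map_mul]
        calc W.valuation (c : M) * W.valuation (z : M) ≤ 1 * W.valuation (f a) :=
              mul_le_mul' ((W.valuation_le_one_iff _).mpr c.2) hz
          _ = W.valuation (f a) := one_mul _
    exact key _ hym
  · intro h
    apply le_antisymm
    · rw [Ideal.map_le_iff_le_comap]
      intro a ha
      rw [Ideal.mem_comap, ValuationSubring.valuation_lt_one_iff]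
      exact (hloc a).mp ha
    · intro y hy
      have hy' := (W.valuation_lt_one_iff y).mp hy
      obtain ⟨a, ha, hya⟩ := h _ hy'
      by_cases hfa : f a = 0
      · rw [hfa, map_zero] at hya
        have h1 : (y : M) = 0 := (Valuation.zero_iff _).mp (le_antisymm hya zero_le')
        have h2 : y = 0 := Subtype.ext h1
        rw [h2]
        exact Ideal.zero_mem _
      · have haW : a ∈ W.comap f := (W.valuation_le_one_iff _).mp ha.le
        have ham : (⟨a, haW⟩ : W.comap f) ∈ maximalIdeal (W.comap f) :=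
          (hloc ⟨a, haW⟩).mpr ha
        have hvfa : W.valuation (f a) ≠ 0 := (Valuation.ne_zero_iff _).mpr hfa
        have hc : (y : M) / f a ∈ W := by
          rw [← W.valuation_le_one_iff, map_div₀]
          exact (div_le_one₀ (zero_lt_iff.mpr hvfa)).mpr hya
        have e : y = algebraMap (W.comap f) W ⟨a, haW⟩ * ⟨(y : M) / f a, hc⟩ := by
          apply Subtype.ext
          show (y : M) = f a * ((y : M) / f a)
          rw [mul_comm, div_mul_cancel₀ _ hfa]
        rw [e]
        exact Ideal.mul_mem_right _ _ (Ideal.mem_map_of_mem _ ham)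

theorem wu_comap (W' : ValuationSubring M') (ι : M →+* M') (j₁ : K₁ →+* M)
    (h : letI : Algebra (W'.comap (ι.comp j₁)) W' :=
        (EtRam.inclOfComap W' (ι.comp j₁)).toAlgebra
      EtRam.IsWeaklyUnramified (W'.comap (ι.comp j₁)) W') :
    letI : Algebra ((W'.comap ι).comap j₁) (W'.comap ι) :=
      (EtRam.inclOfComap (W'.comap ι) j₁).toAlgebra
    EtRam.IsWeaklyUnramified ((W'.comap ι).comap j₁) (W'.comap ι) := by
  have h' := (isWeaklyUnramified_comap_iff W' (ι.comp j₁)).mp h
  refine (isWeaklyUnramified_comap_iff (W'.comap ι) j₁).mpr ?_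
  intro y hy
  have hy' : W'.valuation (ι y) < 1 := (isEquiv_comap W' ι).lt_one_iff_lt_one.mp hy
  obtain ⟨a, ha, hya⟩ := h' (ι y) hy'
  exact ⟨a, (isEquiv_comap W' ι).lt_one_iff_lt_one.mpr ha,
    (isEquiv_comap W' ι).le_iff_le.mpr hya⟩

theorem geomRed_comap (W' : ValuationSubring M') (ι : M →+* M') (j₁ : K₁ →+* M)
    (h : @Algebra.IsGeometricallyReduced (ResidueField (W'.comap (ι.comp j₁)))
      (ResidueField W') _ _
      (ResidueField.map (EtRam.inclOfComap W' (ι.comp j₁))).toAlgebra) :
    @Algebra.IsGeometricallyReduced (ResidueField ((W'.comap ι).comap j₁))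
      (ResidueField (W'.comap ι)) _ _
      (ResidueField.map (EtRam.inclOfComap (W'.comap ι) j₁)).toAlgebra := by
  letI alg1 : Algebra (ResidueField ((W'.comap ι).comap j₁)) (ResidueField (W'.comap ι)) :=
    (ResidueField.map (EtRam.inclOfComap (W'.comap ι) j₁)).toAlgebra
  letI alg2 : Algebra (ResidueField ((W'.comap ι).comap j₁)) (ResidueField W') :=
    (ResidueField.map (EtRam.inclOfComap W' (ι.comp j₁))).toAlgebra
  haveI : Algebra.IsGeometricallyReduced (ResidueField ((W'.comap ι).comap j₁))
    (ResidueField W') := h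
  let φ : ResidueField (W'.comap ι) →ₐ[ResidueField ((W'.comap ι).comap j₁)] ResidueField W' :=
    { ResidueField.map (EtRam.inclOfComap W' ι) with
      commutes' := fun r => by
        obtain ⟨a, rfl⟩ := residue_surjective r
        rfl }
  exact Algebra.IsGeometricallyReduced.of_injective φ φ.toRingHom.injective

end

theorem adjoin_eq_top_of_tower {K L M₀ K₁ M M' : Type u} [Field K] [Field L] [Field M₀] [Field K₁]
    [Field M] [Field M'] [Algebra K L] [Algebra K M₀] [Algebra L M₀] [IsScalarTower K L M₀]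
    [Algebra K K₁] [Algebra.IsIntegral K K₁]
    [Algebra K M] [Algebra L M] [Algebra K₁ M] [IsScalarTower K L M] [IsScalarTower K K₁ M]
    [Algebra K M'] [Algebra M₀ M'] [Algebra K₁ M'] [IsScalarTower K M₀ M'] [IsScalarTower K K₁ M']
    (ι : M →+* M') (hι₁ : ∀ k, ι (algebraMap K₁ M k) = algebraMap K₁ M' k)
    (hι₂ : ∀ l, ι (algebraMap L M l) = algebraMap M₀ M' (algebraMap L M₀ l))
    (hgen : Algebra.adjoin L (Set.range (algebraMap K₁ M)) = ⊤)
    (hgenM' : ∀ S : Subring M', (∀ x, ι x ∈ S) → (∀ y, algebraMap M₀ M' y ∈ S) →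
      (∀ z ∈ S, z⁻¹ ∈ S) → S = ⊤) :
    Algebra.adjoin M₀ (Set.range (algebraMap K₁ M')) = ⊤ := by
  obtain ⟨S, hS⟩ : ∃ S : Subalgebra M₀ M', S = Algebra.adjoin M₀ (Set.range (algebraMap K₁ M')) :=
    ⟨_, rfl⟩
  rw [← hS]
  have hint : ∀ x ∈ Set.range (algebraMap K₁ M'), IsIntegral M₀ x := by
    rintro _ ⟨k, rfl⟩
    have h1 : IsIntegral K k := Algebra.IsIntegral.isIntegral k
    have h2 : IsIntegral K (algebraMap K₁ M' k) := h1.map (IsScalarTower.toAlgHom K K₁ M')
    exact h2.tower_top
  haveI : Algebra.IsIntegral M₀ S := by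
    rw [hS]
    exact Algebra.IsIntegral.adjoin hint
  have hfield : IsField S := isField_of_isIntegral_of_isField' (Field.toIsField M₀)
  have h1 : ∀ x : M, ι x ∈ S := by
    intro x
    have hx : x ∈ Algebra.adjoin L (Set.range (algebraMap K₁ M)) := by
      rw [hgen]
      exact Algebra.mem_top
    induction hx using Algebra.adjoin_induction with
    | mem x hx =>
      obtain ⟨k, rfl⟩ := hx
      rw [hι₁, hS]
      exact Algebra.subset_adjoin ⟨k, rfl⟩
    | algebraMap l =>
      rw [hι₂]
      exact Subalgebra.algebraMap_mem _ _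
    | add x y _ _ hx hy =>
      rw [map_add]
      exact S.add_mem hx hy
    | mul x y _ _ hx hy =>
      rw [map_mul]
      exact S.mul_mem hx hy
  have h2 : ∀ y, algebraMap M₀ M' y ∈ S := fun y => Subalgebra.algebraMap_mem _ _
  have h3 : ∀ z ∈ S, z⁻¹ ∈ S := by
    intro z hz
    by_cases hz0 : z = 0
    · rw [hz0, inv_zero]
      exact S.zero_mem
    · obtain ⟨w, hw⟩ := hfield.mul_inv_cancel (a := ⟨z, hz⟩)
        (fun h => hz0 (congrArg Subtype.val h))
      have h4 : z * (w : M') = 1 := congrArg Subtype.val hw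
      have h5 : (w : M') = z⁻¹ := eq_inv_of_mul_eq_one_right h4
      rw [← h5]
      exact w.2
  have h4 := hgenM' S.toSubring h1 h2 h3
  rw [eq_top_iff]
  intro z _
  have h5 : z ∈ S.toSubring := by
    rw [h4]
    exact Subring.mem_top z
  exact h5

end Groth.Agent.H8.RI
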