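import Mathlib
import Groth.Prelude.Def_EtRam
import Groth.Agent.Lib.Helper8.ASK.BCCore
import Groth.Agent.Lib.Helper8.ASK.Arch
import Groth.Agent.Lib.Helper8.ASK.SolTower

set_option autoImplicit false
universe u

namespace Groth.Agent.H8.BC

open IsLocalRing TensorProduct

/-- A field quotient `E` of an `F`-algebra `R`, whose kernel is locally annihilated, is
geometrically reduced as soon as `R` is. -/
theorem isGeometricallyReduced_of_surjective {F R E : Type*} [Field F] [CommRing R] [Algebra F R]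
    [Field E] [Algebra F E] (ψ : R →ₐ[F] E) (hψ : Function.Surjective ψ)
    (hann : ∀ x : R, ψ x = 0 → ∃ ε : R, ψ ε = 1 ∧ ε * x = 0)
    [IsReduced (AlgebraicClosure F ⊗[F] R)] : Algebra.IsGeometricallyReduced F E := by
  rw [Algebra.isGeometricallyReduced_field_iff]
  have hsurj : Function.Surjective
      (Algebra.TensorProduct.map (AlgHom.id F (AlgebraicClosure F)) ψ) :=
    Algebra.TensorProduct.map_surjective (AlgHom.id F (AlgebraicClosure F)) ψ
      Function.surjective_id hψ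
  have hker := Algebra.TensorProduct.lTensor_ker (A := AlgebraicClosure F) ψ hψ
  have hkey : ∀ z ∈ (RingHom.ker ψ).map
      (Algebra.TensorProduct.includeRight : R →ₐ[F] AlgebraicClosure F ⊗[F] R),
      ∃ ε : R, ψ ε = 1 ∧ ((1 : AlgebraicClosure F) ⊗ₜ[F] ε) * z = 0 := by
    intro z hz
    refine Submodule.span_induction (p := fun z _ => ∃ ε : R, ψ ε = 1 ∧
      ((1 : AlgebraicClosure F) ⊗ₜ[F] ε) * z = 0) ?_ ?_ ?_ ?_ hz
    · rintro _ ⟨x, hx, rfl⟩
      obtain ⟨ε, hε1, hε2⟩ := hann x (RingHom.mem_ker.mp hx)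
      refine ⟨ε, hε1, ?_⟩
      show ((1 : AlgebraicClosure F) ⊗ₜ[F] ε) * ((1 : AlgebraicClosure F) ⊗ₜ[F] x) = 0
      rw [Algebra.TensorProduct.tmul_mul_tmul, hε2, TensorProduct.tmul_zero]
    · exact ⟨1, map_one ψ, mul_zero _⟩
    · rintro z₁ z₂ _ _ ⟨ε₁, h1, h1'⟩ ⟨ε₂, h2, h2'⟩
      refine ⟨ε₁ * ε₂, by rw [map_mul, h1, h2, one_mul], ?_⟩
      have h3 : (1 : AlgebraicClosure F) ⊗ₜ[F] (ε₁ * ε₂) =
          ((1 : AlgebraicClosure F) ⊗ₜ[F] ε₁) * ((1 : AlgebraicClosure F) ⊗ₜ[F] ε₂) := by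
        rw [Algebra.TensorProduct.tmul_mul_tmul, one_mul]
      rw [h3]
      linear_combination ((1 : AlgebraicClosure F) ⊗ₜ[F] ε₂) * h1' +
        ((1 : AlgebraicClosure F) ⊗ₜ[F] ε₁) * h2'
    · rintro a z _ ⟨ε, h1, h1'⟩
      refine ⟨ε, h1, ?_⟩
      rw [smul_eq_mul]
      linear_combination a * h1'
  refine ⟨fun t ht => ?_⟩
  obtain ⟨n, hn⟩ := ht
  obtain ⟨t', rfl⟩ := hsurj t
  have h1 : t' ^ n ∈ RingHom.ker
      (Algebra.TensorProduct.map (AlgHom.id F (AlgebraicClosure F)) ψ) := by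
    rw [RingHom.mem_ker, map_pow]; exact hn
  rw [hker] at h1
  obtain ⟨ε, hε1, hε2⟩ := hkey _ h1
  have h2 : ((1 : AlgebraicClosure F) ⊗ₜ[F] ε) * t' = 0 := by
    apply IsReduced.eq_zero
    refine ⟨n + 1, ?_⟩
    calc (((1 : AlgebraicClosure F) ⊗ₜ[F] ε) * t') ^ (n + 1)
        = ((1 : AlgebraicClosure F) ⊗ₜ[F] ε) ^ n * t' *
            (((1 : AlgebraicClosure F) ⊗ₜ[F] ε) * t' ^ n) := by ring
      _ = 0 := by rw [hε2, mul_zero]
  have h3 := congrArg (Algebra.TensorProduct.map (AlgHom.id F (AlgebraicClosure F)) ψ) h2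
  rw [map_mul, Algebra.TensorProduct.map_tmul, map_zero, hε1, map_one,
    ← Algebra.TensorProduct.one_def, one_mul] at h3
  exact h3

theorem isReduced_algClosure_tensor (k F E : Type u) [Field k] [Field F] [Field E] [Algebra k F]
    [Algebra k E] [Algebra.IsAlgebraic k F] [Algebra.IsGeometricallyReduced k E] :
    IsReduced (AlgebraicClosure F ⊗[F] (F ⊗[k] E)) := by
  let e := Algebra.TensorProduct.cancelBaseChange k F F (AlgebraicClosure F) E
  exact isReduced_of_injective e e.injective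

/-- Every finite extension is a solution for a weakly unramified extension of DVRs with
geometrically reduced residue field extension. -/
theorem solution_of_geomRed (A B K L : Type u) [CommRing A] [IsDomain A]
    [IsDiscreteValuationRing A]
    [CommRing B] [IsDomain B] [IsDiscreteValuationRing B] [Algebra A B]
    [IsLocalHom (algebraMap A B)]
    [Field K] [Field L] [Algebra A K] [IsFractionRing A K] [Algebra B L] [IsFractionRing B L]
    [Algebra K L] [Algebra A L] [IsScalarTower A K L] [IsScalarTower A B L]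
    (hw : EtRam.IsWeaklyUnramified A B)
    [Algebra.IsGeometricallyReduced (IsLocalRing.ResidueField A) (IsLocalRing.ResidueField B)]
    (K₁ : Type u) [Field K₁] [Algebra K K₁] [FiniteDimensional K K₁] :
    EtRam.IsSolution B K L K₁ := by
  obtain ⟨π, hπirr⟩ := IsDiscreteValuationRing.exists_irreducible A
  have hπ : maximalIdeal A = Ideal.span {π} := hπirr.maximalIdeal_eq
  have hπm : π ∈ maximalIdeal A := ASK.pi_mem hπ
  have hπB : maximalIdeal B = Ideal.span {algebraMap A B π} := by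
    have h1 : (maximalIdeal A).map (algebraMap A B) = maximalIdeal B := hw
    rw [← h1, hπ, Ideal.map_span, Set.image_singleton]
  letI algAK₁ : Algebra A K₁ := ((algebraMap K K₁).comp (algebraMap A K)).toAlgebra
  haveI : IsScalarTower A K K₁ := IsScalarTower.of_algebraMap_eq (fun _ => rfl)
  intro M _ _ _ _ _ _ hgen W hW
  letI algBM : Algebra B M := ((algebraMap L M).comp (algebraMap B L)).toAlgebra
  haveI : IsScalarTower B L M := IsScalarTower.of_algebraMap_eq (fun _ => rfl)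
  have hW' : EtRam.Dominates B (algebraMap B M) W := hW
  have hcompat : ∀ a : A,
      algebraMap K₁ M (algebraMap A K₁ a) = algebraMap B M (algebraMap A B a) := by
    intro a
    show algebraMap K₁ M (algebraMap K K₁ (algebraMap A K a)) =
      algebraMap L M (algebraMap B L (algebraMap A B a))
    rw [← IsScalarTower.algebraMap_apply K K₁ M, IsScalarTower.algebraMap_apply K L M,
      ← IsScalarTower.algebraMap_apply A K L, ← IsScalarTower.algebraMap_apply A B L]
  have hdomA : EtRam.Dominates A (algebraMap A K₁) (W.comap (algebraMap K₁ M)) := by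
    apply RI.dominates_comap_of_comp
    refine ⟨fun a => ?_, fun a ha => ?_⟩
    · show algebraMap K₁ M (algebraMap A K₁ a) ∈ W
      rw [hcompat]; exact hW'.1 _
    · show W.valuation (algebraMap K₁ M (algebraMap A K₁ a)) < 1
      rw [hcompat]
      apply hW'.2
      rw [mem_maximalIdeal, mem_nonunits_iff] at ha ⊢
      exact fun h => ha (isUnit_of_map_unit (algebraMap A B) a h)
  haveI : FiniteDimensional L M := by
    let g : L ⊗[K] K₁ →ₐ[L] M :=
      Algebra.TensorProduct.productLeftAlgHom (Algebra.ofId L M) (IsScalarTower.toAlgHom K K₁ M)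
    have hg : Function.Surjective g := by
      have hle : Algebra.adjoin L (Set.range (algebraMap K₁ M)) ≤ g.range := by
        apply Algebra.adjoin_le
        rintro _ ⟨k, rfl⟩
        exact ⟨(1 : L) ⊗ₜ[K] k, by simp [g, Algebra.TensorProduct.productLeftAlgHom]⟩
      rw [hgen, top_le_iff] at hle
      exact (AlgHom.range_eq_top g).mp hle
    exact Module.Finite.of_surjective g.toLinearMap hg
  -- the uniformizer of `V = W ∩ K₁`
  obtain ⟨y₀, hu⟩ := exists_isUnif (L := K) hπ hdomA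
  obtain ⟨e, he0, hpe⟩ := exists_pow_eq (L := K) hπ hdomA hu
  have hvπ0 : (W.comap (algebraMap K₁ M)).valuation (algebraMap A K₁ π) ≠ 0 :=
    (ASK.val_pi_pos hπ (ASK.algebraMap_inj A K K₁)).ne'
  have hπ0 : algebraMap A K₁ π ≠ 0 := (Valuation.ne_zero_iff _).mp hvπ0
  have hy₀V : y₀ ∈ W.comap (algebraMap K₁ M) :=
    ((W.comap (algebraMap K₁ M)).valuation_le_one_iff y₀).mp hu.1.le
  have hy00 : y₀ ≠ 0 := by
    intro h0
    rw [h0, map_zero, zero_pow he0] at hpe
    exact hvπ0 hpe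
  letI algAV : Algebra A (W.comap (algebraMap K₁ M)) :=
    (RingHom.codRestrict (algebraMap A K₁) (W.comap (algebraMap K₁ M)) hdomA.1).toAlgebra
  haveI locAV : IsLocalHom (algebraMap A (W.comap (algebraMap K₁ M))) :=
    RI.isLocalHom_of_dominates hdomA
  haveI : IsScalarTower A (W.comap (algebraMap K₁ M)) K₁ :=
    IsScalarTower.of_algebraMap_eq (fun _ => rfl)
  letI algVW : Algebra (W.comap (algebraMap K₁ M)) W :=
    (EtRam.inclOfComap W (algebraMap K₁ M)).toAlgebra
  haveI locVW : IsLocalHom (algebraMap (W.comap (algebraMap K₁ M)) W) :=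
    EtRam.isLocalHom_inclOfComap W (algebraMap K₁ M)
  letI algBW : Algebra B W := (RingHom.codRestrict (algebraMap B M) W hW'.1).toAlgebra
  haveI locBW : IsLocalHom (algebraMap B W) := RI.isLocalHom_of_dominates hW'
  letI algAW : Algebra A W := ((algebraMap B W).comp (algebraMap A B)).toAlgebra
  haveI : IsScalarTower A B W := IsScalarTower.of_algebraMap_eq (fun _ => rfl)
  haveI : IsScalarTower A (W.comap (algebraMap K₁ M)) W :=
    IsScalarTower.of_algebraMap_eq (fun a => Subtype.ext (hcompat a).symm)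
  haveI locAW : IsLocalHom (algebraMap A W) := ⟨fun a ha => by
    have h1 : IsUnit (algebraMap B W (algebraMap A B a)) := ha
    exact isUnit_of_map_unit (algebraMap A B) a (isUnit_of_map_unit (algebraMap B W) _ h1)⟩
  haveI halg : Algebra.IsAlgebraic (ResidueField A)
      (ResidueField (W.comap (algebraMap K₁ M))) :=
    isAlgebraic_residue (K := K) hπ (W.comap (algebraMap K₁ M)) hdomA
  obtain ⟨ϖ, hϖ⟩ : ∃ ϖ : W.comap (algebraMap K₁ M), (ϖ : K₁) = y₀ := ⟨⟨y₀, hy₀V⟩, rfl⟩
  have hY : maximalIdeal (W.comap (algebraMap K₁ M)) = Ideal.span {ϖ} :=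
    (RI.maximalIdeal_eq_span_iff _ ϖ (by rw [hϖ]; exact hy00)).mpr (by rw [hϖ]; exact hu)
  have hϖW : ((algebraMap (W.comap (algebraMap K₁ M)) W ϖ : W) : M) = algebraMap K₁ M y₀ := by
    rw [← hϖ]; rfl
  have hz : W.valuation (algebraMap K₁ M y₀) ^ e =
      W.valuation (algebraMap B M (algebraMap A B π)) := by
    have h1 := hpe
    rw [← map_pow] at h1
    have h2 := (RI.isEquiv_comap W (algebraMap K₁ M)).eq_iff.mp h1
    rw [Valuation.comap_apply, Valuation.comap_apply, map_pow, map_pow, hcompat] at h2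
    exact h2.symm
  have hlt : W.valuation (algebraMap K₁ M y₀) < 1 :=
    (RI.isEquiv_comap W (algebraMap K₁ M)).lt_one_iff_lt_one.mp hu.1
  have hϖ0 : ((algebraMap (W.comap (algebraMap K₁ M)) W ϖ : W) : M) ≠ 0 := by
    rw [hϖW]; exact (map_ne_zero _).mpr hy00
  -- von Neumann regularity of `κ(V) ⊗ κ(B)`
  have hvnr : ∀ x : ResidueField (W.comap (algebraMap K₁ M)) ⊗[ResidueField A] ResidueField B,
      ∃ y, x = x * x * y := by
    let ec := Algebra.TensorProduct.comm (ResidueField A)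
      (ResidueField (W.comap (algebraMap K₁ M))) (ResidueField B)
    haveI : IsReduced (ResidueField B ⊗[ResidueField A]
        ResidueField (W.comap (algebraMap K₁ M))) :=
      isReduced_of_injective ec.symm ec.symm.injective
    haveI : Algebra.IsIntegral (ResidueField A) (ResidueField (W.comap (algebraMap K₁ M))) :=
      Algebra.IsAlgebraic.isIntegral
    intro x
    obtain ⟨y, hy⟩ := vnr_of_isReduced_of_isIntegral (F := ResidueField B) (ec x)
    refine ⟨ec.symm y, ?_⟩
    apply ec.injective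
    rw [map_mul, map_mul, AlgEquiv.apply_symm_apply]
    exact hy
  -- archimedean property
  have harch' : ∀ w : M, w ≠ 0 → ∃ n : ℕ,
      W.valuation ((algebraMap (W.comap (algebraMap K₁ M)) W ϖ : W) : M) ^ n < W.valuation w := by
    intro w hw0
    obtain ⟨n, hn⟩ := arch (L := L) hπB hW' w hw0
    rw [← hz, ← pow_mul] at hn
    exact ⟨e * n, by rw [hϖW]; exact hn⟩
  -- generation
  obtain ⟨Φ, hΦ⟩ : ∃ Φ : (W.comap (algebraMap K₁ M)) ⊗[A] B →+* M,
      ∀ c, Φ c = ((phiW W c : W) : M) := ⟨W.subtype.comp (phiW W).toRingHom, fun _ => rfl⟩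
  have hΦtmul : ∀ (t : W.comap (algebraMap K₁ M)) (b : B),
      Φ (t ⊗ₜ[A] b) = algebraMap K₁ M (t : K₁) * algebraMap B M b := by
    intro t b
    rw [hΦ, phiW_tmul]
    rfl
  obtain ⟨z, hzdef⟩ : ∃ z : M, z = algebraMap K₁ M y₀ := ⟨_, rfl⟩
  have hΦϖ : Φ (ϖ ⊗ₜ[A] (1 : B)) = z := by rw [hΦtmul, map_one, mul_one, hϖ, hzdef]
  obtain ⟨S, hS⟩ : ∃ S : M → Prop, ∀ y, S y ↔
      ∃ (N : ℕ) (c : (W.comap (algebraMap K₁ M)) ⊗[A] B), y * z ^ N = Φ c :=
    ⟨_, fun _ => Iff.rfl⟩
  have hS_add : ∀ y₁ y₂ : M, S y₁ → S y₂ → S (y₁ + y₂) := by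
    intro y₁ y₂ h₁ h₂
    rw [hS] at h₁ h₂ ⊢
    obtain ⟨N₁, c₁, h₁⟩ := h₁
    obtain ⟨N₂, c₂, h₂⟩ := h₂
    refine ⟨N₁ + N₂, c₁ * (ϖ ⊗ₜ[A] (1 : B)) ^ N₂ + c₂ * (ϖ ⊗ₜ[A] (1 : B)) ^ N₁, ?_⟩
    rw [map_add, map_mul, map_mul, map_pow, map_pow, hΦϖ, ← h₁, ← h₂, pow_add]
    ring
  have hS_mul : ∀ y₁ y₂ : M, S y₁ → S y₂ → S (y₁ * y₂) := by
    intro y₁ y₂ h₁ h₂
    rw [hS] at h₁ h₂ ⊢
    obtain ⟨N₁, c₁, h₁⟩ := h₁
    obtain ⟨N₂, c₂, h₂⟩ := h₂
    refine ⟨N₁ + N₂, c₁ * c₂, ?_⟩
    rw [map_mul, ← h₁, ← h₂, pow_add]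
    ring
  have hS_f : ∀ k : K₁, S (algebraMap K₁ M k) := by
    intro k
    rw [hS]
    by_cases hk : k = 0
    · exact ⟨0, 0, by rw [hk, map_zero, zero_mul, map_zero]⟩
    obtain ⟨n, hn⟩ := arch (L := K) hπ hdomA k⁻¹ (inv_ne_zero hk)
    have hvk : 0 < (W.comap (algebraMap K₁ M)).valuation k :=
      zero_lt_iff.mpr ((Valuation.ne_zero_iff _).mpr hk)
    have hmem : k * y₀ ^ (e * n) ∈ W.comap (algebraMap K₁ M) := by
      rw [← ValuationSubring.valuation_le_one_iff, map_mul, map_pow, pow_mul, ← hpe]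
      rw [map_inv₀] at hn
      have h1 := mul_lt_mul_of_pos_left hn hvk
      rw [mul_inv_cancel₀ hvk.ne'] at h1
      exact h1.le
    refine ⟨e * n, (⟨k * y₀ ^ (e * n), hmem⟩ : W.comap (algebraMap K₁ M)) ⊗ₜ[A] (1 : B), ?_⟩
    rw [hΦtmul, map_one, mul_one, hzdef, ← map_pow, ← map_mul]
  obtain ⟨t, htV, ht⟩ : ∃ t : K₁, t ∈ W.comap (algebraMap K₁ M) ∧
      t * algebraMap A K₁ π = y₀ ^ e := by
    refine ⟨y₀ ^ e / algebraMap A K₁ π, ?_, div_mul_cancel₀ _ hπ0⟩
    rw [← ValuationSubring.valuation_le_one_iff, map_div₀, map_pow, ← hpe, div_self hvπ0]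
  have hS_L : ∀ l : L, S (algebraMap L M l) := by
    intro l
    rw [hS]
    by_cases hl : l = 0
    · exact ⟨0, 0, by rw [hl, map_zero, zero_mul, map_zero]⟩
    obtain ⟨u, k, hk⟩ := ASK.decomp hπB l hl
    obtain ⟨n, b, hnb⟩ : ∃ (n : ℕ) (b : B),
        l * (algebraMap B L (algebraMap A B π)) ^ n = algebraMap B L b := by
      refine ⟨k.natAbs, (u : B) * (algebraMap A B π) ^ (k + k.natAbs).toNat, ?_⟩
      have hπL : algebraMap B L (algebraMap A B π) ≠ 0 := ASK.algK_pi_ne_zero hπB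
      rw [hk, map_mul, map_pow, mul_assoc, ← zpow_natCast, ← zpow_natCast, ← zpow_add₀ hπL]
      congr 2
      omega
    have h1 : algebraMap L M l * (algebraMap B M (algebraMap A B π)) ^ n = algebraMap B M b := by
      have h := congrArg (algebraMap L M) hnb
      rw [map_mul, map_pow, ← IsScalarTower.algebraMap_apply B L M,
        ← IsScalarTower.algebraMap_apply B L M] at h
      exact h
    have h2 : algebraMap K₁ M t * algebraMap B M (algebraMap A B π) = z ^ e := by
      rw [← hcompat, ← map_mul, ht, map_pow, hzdef]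
    have htn : t ^ n ∈ W.comap (algebraMap K₁ M) := pow_mem htV n
    refine ⟨e * n, (⟨t ^ n, htn⟩ : W.comap (algebraMap K₁ M)) ⊗ₜ[A] b, ?_⟩
    rw [hΦtmul, ← h1, pow_mul, ← h2]
    show algebraMap L M l * (algebraMap K₁ M t * algebraMap B M (algebraMap A B π)) ^ n =
      algebraMap K₁ M (t ^ n) * _
    rw [map_pow, mul_pow]
    ring
  have hgenS : ∀ y : M, S y := by
    intro y
    have hy : y ∈ Algebra.adjoin L (Set.range (algebraMap K₁ M)) := by
      rw [hgen]; exact Algebra.mem_top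
    induction hy using Algebra.adjoin_induction with
    | mem x hx =>
      obtain ⟨k, rfl⟩ := hx
      exact hS_f k
    | algebraMap l => exact hS_L l
    | add x y _ _ hx hy => exact hS_add x y hx hy
    | mul x y _ _ hx hy => exact hS_mul x y hx hy
  have hgen' : ∀ y : M, ∃ (N : ℕ) (c : (W.comap (algebraMap K₁ M)) ⊗[A] B),
      y * ((algebraMap (W.comap (algebraMap K₁ M)) W ϖ : W) : M) ^ N = ((phiW W c : W) : M) := by
    intro y
    obtain ⟨N, c, h⟩ := (hS y).mp (hgenS y)
    exact ⟨N, c, by rw [hϖW, ← hzdef, ← hΦ]; exact h⟩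
  obtain ⟨hC1, hC2⟩ := bc_core (A := A) (X := B) (Y := W.comap (algebraMap K₁ M)) W π hπm hπB ϖ
    hY hϖ0 hvnr harch' hgen'
  refine ⟨?_, ?_⟩
  · exact (RI.isWeaklyUnramified_comap_iff W (algebraMap K₁ M)).mpr (fun y hy => ⟨y₀, hlt, by
      have h := hC1 y hy
      rw [hϖW] at h
      exact h⟩)
  · have hgr : Algebra.IsGeometricallyReduced (ResidueField (W.comap (algebraMap K₁ M)))
        (ResidueField W) := by
      haveI := isReduced_algClosure_tensor (ResidueField A)
        (ResidueField (W.comap (algebraMap K₁ M))) (ResidueField B)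
      exact isGeometricallyReduced_of_surjective
        (psi (A := A) (X := B) (Y := W.comap (algebraMap K₁ M)) W) hC2 (fun x hx => by
          obtain ⟨y, hy⟩ := hvnr x
          refine ⟨1 - x * y, by rw [map_sub, map_one, map_mul, hx, zero_mul, sub_zero], ?_⟩
          linear_combination hy)
    have heq : (ResidueField.map (EtRam.inclOfComap W (algebraMap K₁ M))).toAlgebra =
        (inferInstance : Algebra (ResidueField (W.comap (algebraMap K₁ M))) (ResidueField W)) :=
      Algebra.algebra_ext _ _ (fun r => by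
        obtain ⟨r, rfl⟩ := residue_surjective r
        rfl)
    rw [heq]
    exact hgr

end Groth.Agent.H8.BC
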