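import Mathlib
import Groth.Prelude.Def_EtRam
import Groth.Agent.Lib.Helper8.ReducedHomComp
import Groth.Agent.Lib.Helper8.ASK.Sol1983
import Groth.Agent.Lib.Helper8.ASK.GalClosure

/-!
# Strictly henselian reduction for solutions (S7162), part A: general lemmas

* `geomRed_trans`: transitivity of geometric reducedness for field extensions;
* `wu_gr_trans`: transitivity of "weakly unramified + geometrically reduced residue extension"
  along `W ∩ K₁ ⊂ W ∩ N ⊂ W`;
* `enlarge`: a finite extension of a solution is a solution.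
-/

set_option autoImplicit false
universe u

namespace Groth.Agent.H8.Sh

open IsLocalRing TensorProduct

theorem geomRed_trans (k k' k'' : Type u) [Field k] [Field k'] [Field k''] [Algebra k k']
    [Algebra k' k''] [Algebra k k''] [IsScalarTower k k' k'']
    [Algebra.IsGeometricallyReduced k k'] [Algebra.IsGeometricallyReduced k' k''] :
    Algebra.IsGeometricallyReduced k k'' := by
  rw [Algebra.isGeometricallyReduced_field_iff]
  haveI h1 : IsReduced (AlgebraicClosure k ⊗[k] k') :=
    (Algebra.isGeometricallyReduced_field_iff k k').mp inferInstance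
  haveI h2 : IsReduced (k' ⊗[k] AlgebraicClosure k) :=
    isReduced_of_injective (Algebra.TensorProduct.comm k k' (AlgebraicClosure k))
      (Algebra.TensorProduct.comm k k' (AlgebraicClosure k)).injective
  haveI h3 : IsReduced (k'' ⊗[k'] (k' ⊗[k] AlgebraicClosure k)) := by
    refine NHR.isReduced_tensor_of_fields k' k'' (fun F _ _ => ?_) (k' ⊗[k] AlgebraicClosure k)
    haveI : IsReduced (F ⊗[k'] k'') := RHC.isReduced_tensor_of_isGeometricallyReduced k' k'' F
    exact isReduced_of_injective (Algebra.TensorProduct.comm k' k'' F)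
      (Algebra.TensorProduct.comm k' k'' F).injective
  let e := Algebra.TensorProduct.cancelBaseChange k k' k' k'' (AlgebraicClosure k)
  haveI h4 : IsReduced (k'' ⊗[k] AlgebraicClosure k) :=
    isReduced_of_injective e.symm e.symm.injective
  exact isReduced_of_injective (Algebra.TensorProduct.comm k (AlgebraicClosure k) k'')
    (Algebra.TensorProduct.comm k (AlgebraicClosure k) k'').injective

section Trans

variable {K₁ N M : Type u} [Field K₁] [Field N] [Field M]

theorem wu_gr_trans (W : ValuationSubring M) (ι : N →+* M) (j₁ : K₁ →+* N) (f : K₁ →+* M)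
    (hf : f = ι.comp j₁)
    (h1 : (letI : Algebra (W.comap ι) W := (EtRam.inclOfComap W ι).toAlgebra;
        EtRam.IsWeaklyUnramified (W.comap ι) W) ∧
      @Algebra.IsGeometricallyReduced (ResidueField (W.comap ι)) (ResidueField W) _ _
        (ResidueField.map (EtRam.inclOfComap W ι)).toAlgebra)
    (h2 : (letI : Algebra ((W.comap ι).comap j₁) (W.comap ι) :=
          (EtRam.inclOfComap (W.comap ι) j₁).toAlgebra;
        EtRam.IsWeaklyUnramified ((W.comap ι).comap j₁) (W.comap ι)) ∧
      @Algebra.IsGeometricallyReduced (ResidueField ((W.comap ι).comap j₁))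
        (ResidueField (W.comap ι)) _ _
        (ResidueField.map (EtRam.inclOfComap (W.comap ι) j₁)).toAlgebra) :
    (letI : Algebra (W.comap f) W := (EtRam.inclOfComap W f).toAlgebra;
      EtRam.IsWeaklyUnramified (W.comap f) W) ∧
    @Algebra.IsGeometricallyReduced (ResidueField (W.comap f)) (ResidueField W) _ _
      (ResidueField.map (EtRam.inclOfComap W f)).toAlgebra := by
  subst hf
  obtain ⟨hw1, hg1⟩ := h1
  obtain ⟨hw2, hg2⟩ := h2
  constructor
  · have a1 := (RI.isWeaklyUnramified_comap_iff W ι).mp hw1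
    have a2 := (RI.isWeaklyUnramified_comap_iff (W.comap ι) j₁).mp hw2
    refine (RI.isWeaklyUnramified_comap_iff W (ι.comp j₁)).mpr ?_
    intro y hy
    obtain ⟨n, hn1, hn2⟩ := a1 y hy
    have hn1' : (W.comap ι).valuation n < 1 :=
      (RI.isEquiv_comap W ι).lt_one_iff_lt_one.mpr hn1
    obtain ⟨a, ha1, ha2⟩ := a2 n hn1'
    refine ⟨a, (RI.isEquiv_comap W ι).lt_one_iff_lt_one.mp ha1, hn2.trans ?_⟩
    exact (RI.isEquiv_comap W ι).le_iff_le.mp ha2
  · letI alg1 : Algebra (ResidueField ((W.comap ι).comap j₁)) (ResidueField (W.comap ι)) :=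
      (ResidueField.map (EtRam.inclOfComap (W.comap ι) j₁)).toAlgebra
    letI alg2 : Algebra (ResidueField (W.comap ι)) (ResidueField W) :=
      (ResidueField.map (EtRam.inclOfComap W ι)).toAlgebra
    letI alg3 : Algebra (ResidueField ((W.comap ι).comap j₁)) (ResidueField W) :=
      (ResidueField.map (EtRam.inclOfComap W (ι.comp j₁))).toAlgebra
    haveI : IsScalarTower (ResidueField ((W.comap ι).comap j₁)) (ResidueField (W.comap ι))
        (ResidueField W) :=
      IsScalarTower.of_algebraMap_eq (fun x => by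
        obtain ⟨a, rfl⟩ := residue_surjective x
        rfl)
    haveI : Algebra.IsGeometricallyReduced (ResidueField ((W.comap ι).comap j₁))
        (ResidueField (W.comap ι)) := hg2
    haveI : Algebra.IsGeometricallyReduced (ResidueField (W.comap ι)) (ResidueField W) := hg1
    exact geomRed_trans (ResidueField ((W.comap ι).comap j₁)) (ResidueField (W.comap ι))
      (ResidueField W)

end Trans

theorem finite_of_adjoin {K L K₁ M : Type u} [Field K] [Field L] [Field K₁] [Field M]
    [Algebra K L] [Algebra K K₁] [Algebra K M] [Algebra L M] [Algebra K₁ M] [IsScalarTower K L M]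
    [IsScalarTower K K₁ M] [FiniteDimensional K K₁]
    (hgen : Algebra.adjoin L (Set.range (algebraMap K₁ M)) = ⊤) : FiniteDimensional L M := by
  let g : L ⊗[K] K₁ →ₐ[L] M :=
    Algebra.TensorProduct.productLeftAlgHom (Algebra.ofId L M) (IsScalarTower.toAlgHom K K₁ M)
  have hg : Function.Surjective g := by
    have hle : Algebra.adjoin L (Set.range (algebraMap K₁ M)) ≤ g.range := by
      apply Algebra.adjoin_le
      rintro _ ⟨k, rfl⟩
      exact ⟨(1 : L) ⊗ₜ[K] k, by simp [g, Algebra.TensorProduct.productLeftAlgHom]⟩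
    rw [hgen, top_le_iff] at hle
    exact (AlgHom.range_eq_top g).mp hle
  exact Module.Finite.of_surjective g.toLinearMap hg

/-- A finite extension of a solution is a solution. -/
theorem enlarge (A B K L : Type u) [CommRing A] [IsDomain A] [IsDiscreteValuationRing A]
    [CommRing B] [IsDomain B] [IsDiscreteValuationRing B] [Algebra A B]
    [IsLocalHom (algebraMap A B)]
    [Field K] [Field L] [Algebra A K] [IsFractionRing A K] [Algebra B L] [IsFractionRing B L]
    [Algebra K L] [Algebra A L] [IsScalarTower A K L] [IsScalarTower A B L]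
    (K₁ K₂ : Type u) [Field K₁] [Field K₂] [Algebra K K₁] [Algebra K K₂] [Algebra K₁ K₂]
    [IsScalarTower K K₁ K₂] [FiniteDimensional K K₁] [FiniteDimensional K₁ K₂]
    (hsol : EtRam.IsSolution B K L K₁) : EtRam.IsSolution B K L K₂ := by
  obtain ⟨πA, hπAirr⟩ := IsDiscreteValuationRing.exists_irreducible A
  have hπA : maximalIdeal A = Ideal.span {πA} := hπAirr.maximalIdeal_eq
  obtain ⟨πB, hπBirr⟩ := IsDiscreteValuationRing.exists_irreducible B
  have hπB : maximalIdeal B = Ideal.span {πB} := hπBirr.maximalIdeal_eq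
  intro M₂ _ _ _ _ _ _ hgen₂ W₂ hW₂
  letI algK₁M₂ : Algebra K₁ M₂ := ((algebraMap K₂ M₂).comp (algebraMap K₁ K₂)).toAlgebra
  haveI : IsScalarTower K₁ K₂ M₂ := IsScalarTower.of_algebraMap_eq (fun _ => rfl)
  haveI : IsScalarTower K K₁ M₂ := IsScalarTower.of_algebraMap_eq (fun k => by
    show algebraMap K M₂ k = algebraMap K₂ M₂ (algebraMap K₁ K₂ (algebraMap K K₁ k))
    rw [← IsScalarTower.algebraMap_apply K K₁ K₂, ← IsScalarTower.algebraMap_apply K K₂ M₂])
  -- the subfield generated by `L` and `K₁`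
  obtain ⟨Λ, hΛ⟩ : ∃ Λ : IntermediateField L M₂,
      Λ = IntermediateField.adjoin L (Set.range (algebraMap K₁ M₂)) := ⟨_, rfl⟩
  have hK₁Λ : ∀ k : K₁, algebraMap K₁ M₂ k ∈ Λ := fun k => by
    rw [hΛ]; exact IntermediateField.subset_adjoin L _ ⟨k, rfl⟩
  letI algK₁Λ : Algebra K₁ Λ := (RingHom.codRestrict (algebraMap K₁ M₂) Λ hK₁Λ).toAlgebra
  haveI : IsScalarTower K₁ Λ M₂ := IsScalarTower.of_algebraMap_eq (fun _ => rfl)
  haveI : IsScalarTower K K₁ Λ := IsScalarTower.of_algebraMap_eq (fun k => Subtype.ext (by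
    show algebraMap K M₂ k = algebraMap K₁ M₂ (algebraMap K K₁ k)
    exact IsScalarTower.algebraMap_apply K K₁ M₂ k))
  have hgenΛ : Algebra.adjoin L (Set.range (algebraMap K₁ Λ)) = ⊤ := by
    rw [eq_top_iff]
    rintro ⟨y, hy⟩ -
    have halg : ∀ x ∈ Set.range (algebraMap K₁ M₂), IsAlgebraic L x := by
      rintro _ ⟨k, rfl⟩
      have h1 : IsIntegral K k := Algebra.IsIntegral.isIntegral k
      have h2 : IsIntegral K (algebraMap K₁ M₂ k) := h1.map (IsScalarTower.toAlgHom K K₁ M₂)
      have h3 : IsIntegral L (algebraMap K₁ M₂ k) := h2.tower_top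
      exact h3.isAlgebraic
    have hy' : y ∈ Algebra.adjoin L (Set.range (algebraMap K₁ M₂)) := by
      rw [← IntermediateField.adjoin_toSubalgebra_of_isAlgebraic halg, ← hΛ]; exact hy
    have key : ∀ y ∈ Algebra.adjoin L (Set.range (algebraMap K₁ M₂)),
        ∃ h : y ∈ Λ, (⟨y, h⟩ : Λ) ∈ Algebra.adjoin L (Set.range (algebraMap K₁ Λ)) := by
      intro y hy
      induction hy using Algebra.adjoin_induction with
      | mem x hx =>
        obtain ⟨k, rfl⟩ := hx
        exact ⟨hK₁Λ k, Algebra.subset_adjoin ⟨k, rfl⟩⟩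
      | algebraMap l =>
        exact ⟨Λ.algebraMap_mem l, Subalgebra.algebraMap_mem _ l⟩
      | add x y _ _ hx hy =>
        obtain ⟨h1, h2⟩ := hx
        obtain ⟨h3, h4⟩ := hy
        exact ⟨Λ.add_mem h1 h3, Subalgebra.add_mem _ h2 h4⟩
      | mul x y _ _ hx hy =>
        obtain ⟨h1, h2⟩ := hx
        obtain ⟨h3, h4⟩ := hy
        exact ⟨Λ.mul_mem h1 h3, Subalgebra.mul_mem _ h2 h4⟩
    obtain ⟨_, h2⟩ := key y hy'
    exact h2
  haveI hfinΛ : FiniteDimensional L Λ := finite_of_adjoin (K := K) hgenΛ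
  obtain ⟨W₁, hW₁def⟩ : ∃ V : ValuationSubring Λ, V = W₂.comap (algebraMap Λ M₂) := ⟨_, rfl⟩
  have hdomW : EtRam.Dominates W₁ ((algebraMap Λ M₂).comp W₁.subtype) W₂ := by
    rw [hW₁def]; exact RI.dominates_subtype W₂ (algebraMap Λ M₂)
  have hW₁ : EtRam.Dominates B ((algebraMap L Λ).comp (algebraMap B L)) W₁ := by
    rw [hW₁def]
    apply RI.dominates_comap_of_comp
    exact ⟨fun b => hW₂.1 b, fun b hb => hW₂.2 b hb⟩
  obtain ⟨hwu₁, hgr₁⟩ := hsol Λ hgenΛ W₁ hW₁
  -- `V₁ = W₁ ∩ K₁` and `W₁` are discrete valuation rings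
  letI algAK₁ : Algebra A K₁ := ((algebraMap K K₁).comp (algebraMap A K)).toAlgebra
  haveI : IsScalarTower A K K₁ := IsScalarTower.of_algebraMap_eq (fun _ => rfl)
  have hcompat : ∀ a : A, algebraMap K₁ Λ (algebraMap A K₁ a) =
      algebraMap L Λ (algebraMap B L (algebraMap A B a)) := by
    intro a
    apply Subtype.ext
    show algebraMap K₁ M₂ (algebraMap K K₁ (algebraMap A K a)) =
      algebraMap L M₂ (algebraMap B L (algebraMap A B a))
    rw [← IsScalarTower.algebraMap_apply K K₁ M₂, IsScalarTower.algebraMap_apply K L M₂,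
      ← IsScalarTower.algebraMap_apply A K L, ← IsScalarTower.algebraMap_apply A B L]
  have hdomA : EtRam.Dominates A (algebraMap A K₁) (W₁.comap (algebraMap K₁ Λ)) := by
    apply RI.dominates_comap_of_comp
    refine ⟨fun a => ?_, fun a ha => ?_⟩
    · show algebraMap K₁ Λ (algebraMap A K₁ a) ∈ W₁
      rw [hcompat]; exact hW₁.1 _
    · show W₁.valuation (algebraMap K₁ Λ (algebraMap A K₁ a)) < 1
      rw [hcompat]
      apply hW₁.2
      rw [mem_maximalIdeal, mem_nonunits_iff] at ha ⊢
      exact fun h => ha (isUnit_of_map_unit (algebraMap A B) a h)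
  haveI dvrV₁ : IsDiscreteValuationRing (W₁.comap (algebraMap K₁ Λ)) :=
    BC.isDVR_of_dominates (L := K) hπA hdomA
  letI algBΛ : Algebra B Λ := ((algebraMap L Λ).comp (algebraMap B L)).toAlgebra
  haveI : IsScalarTower B L Λ := IsScalarTower.of_algebraMap_eq (fun _ => rfl)
  haveI dvrW₁ : IsDiscreteValuationRing W₁ :=
    BC.isDVR_of_dominates (L := L) hπB (show EtRam.Dominates B (algebraMap B Λ) W₁ from hW₁)
  letI algVW : Algebra (W₁.comap (algebraMap K₁ Λ)) W₁ :=
    (EtRam.inclOfComap W₁ (algebraMap K₁ Λ)).toAlgebra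
  haveI locVW : IsLocalHom (algebraMap (W₁.comap (algebraMap K₁ Λ)) W₁) :=
    EtRam.isLocalHom_inclOfComap W₁ (algebraMap K₁ Λ)
  letI algVΛ : Algebra (W₁.comap (algebraMap K₁ Λ)) Λ :=
    ((algebraMap K₁ Λ).comp (algebraMap (W₁.comap (algebraMap K₁ Λ)) K₁)).toAlgebra
  haveI : IsScalarTower (W₁.comap (algebraMap K₁ Λ)) K₁ Λ :=
    IsScalarTower.of_algebraMap_eq (fun _ => rfl)
  haveI : IsScalarTower (W₁.comap (algebraMap K₁ Λ)) W₁ Λ :=
    IsScalarTower.of_algebraMap_eq (fun _ => rfl)
  haveI hgr₁' : Algebra.IsGeometricallyReduced (ResidueField (W₁.comap (algebraMap K₁ Λ)))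
      (ResidueField W₁) := by
    have heq : (ResidueField.map (EtRam.inclOfComap W₁ (algebraMap K₁ Λ))).toAlgebra =
        (inferInstance : Algebra (ResidueField (W₁.comap (algebraMap K₁ Λ)))
          (ResidueField W₁)) :=
      Algebra.algebra_ext _ _ (fun r => by
        obtain ⟨r, rfl⟩ := residue_surjective r
        rfl)
    have h := hgr₁
    rw [heq] at h
    exact h
  have hsol₂ : EtRam.IsSolution W₁ K₁ Λ K₂ :=
    BC.solution_of_geomRed (W₁.comap (algebraMap K₁ Λ)) W₁ K₁ Λ hwu₁ K₂
  have hgen' : Algebra.adjoin Λ (Set.range (algebraMap K₂ M₂)) = ⊤ := by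
    rw [eq_top_iff]
    rintro y -
    have hy : y ∈ Algebra.adjoin L (Set.range (algebraMap K₂ M₂)) := by
      rw [hgen₂]; exact Algebra.mem_top
    induction hy using Algebra.adjoin_induction with
    | mem x hx => exact Algebra.subset_adjoin hx
    | algebraMap l =>
      rw [IsScalarTower.algebraMap_apply L Λ M₂]
      exact Subalgebra.algebraMap_mem _ _
    | add x y _ _ hx hy => exact Subalgebra.add_mem _ hx hy
    | mul x y _ _ hx hy => exact Subalgebra.mul_mem _ hx hy
  exact hsol₂ M₂ hgen' W₂ hdomW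

end Groth.Agent.H8.Sh
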