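import Mathlib
import Groth.Prelude.Def_EtRam
import Groth.Agent.Lib.Helper8.Hens.Strict
import Groth.Agent.Lib.Helper8.Hens.DVR

/-!
# Strictly henselian reduction for solutions (S7162), part C: facts on strict henselizations
-/

set_option autoImplicit false
universe u

namespace Groth.Agent.H8.Sh

open IsLocalRing TensorProduct

/-- The image of an element of an étale `A`-algebra in a field `F` over a field `K` over `A` is
separable over `K`. -/
theorem isSeparable_of_etale {A K E F : Type u} [CommRing A] [Field K] [Algebra A K] [CommRing E]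
    [Algebra A E] [Algebra.Etale A E] [Field F] [Algebra A F] [Algebra K F] [IsScalarTower A K F]
    (φ : E →ₐ[A] F) (e : E) : IsSeparable K (φ e) := by
  let Φ : K ⊗[A] E →ₐ[K] F := Algebra.TensorProduct.productLeftAlgHom (Algebra.ofId K F) φ
  have hΦ : Φ ((1 : K) ⊗ₜ[A] e) = φ e := by
    simp [Φ, Algebra.TensorProduct.productLeftAlgHom]
  haveI : (RingHom.ker Φ).IsPrime := RingHom.ker_isPrime Φ
  haveI : Algebra.IsSeparable K ((K ⊗[A] E) ⧸ RingHom.ker Φ) := inferInstance
  have h1 : IsSeparable K (Ideal.Quotient.mk (RingHom.ker Φ) ((1 : K) ⊗ₜ[A] e)) :=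
    Algebra.IsSeparable.isSeparable K _
  have h2 := minpoly.algHom_eq (Ideal.kerLiftAlg Φ) (Ideal.kerLiftAlg_injective Φ)
    (Ideal.Quotient.mk (RingHom.ker Φ) ((1 : K) ⊗ₜ[A] e))
  rw [Ideal.kerLiftAlg_mk, hΦ] at h2
  unfold IsSeparable
  rw [h2]
  exact h1

/-- The fraction field of the strict henselization is separable algebraic over any field `K`
over the base ring through which it is an algebra. -/
theorem isSeparable_frac_sh (A : Type u) [CommRing A] [IsLocalRing A] (K : Type u) [Field K]
    [Algebra A K] (F : Type u) [Field F] [Algebra (Hens.StrictHenselization A) F]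
    [IsFractionRing (Hens.StrictHenselization A) F] [Algebra A F]
    [IsScalarTower A (Hens.StrictHenselization A) F] [Algebra K F] [IsScalarTower A K F] :
    Algebra.IsSeparable K F := by
  rw [← separableClosure.eq_top_iff, eq_top_iff]
  have hH : ∀ z : Hens.StrictHenselization A,
      algebraMap (Hens.StrictHenselization A) F z ∈ separableClosure K F := by
    intro z
    obtain ⟨i, x, rfl⟩ := Hens.H.exists_of z
    obtain ⟨a, s, rfl⟩ := IsLocalization.exists_mk'_eq (Hens.ptIdeal i.pt).primeCompl x
    let φ : i.Ring →ₐ[A] F := (IsScalarTower.toAlgHom A (Hens.StrictHenselization A) F).comp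
      ((Hens.H.ofₐ i).comp (IsScalarTower.toAlgHom A i.Ring i.Loc))
    have ha : IsSeparable K (φ a) := isSeparable_of_etale φ a
    have hs : IsSeparable K (φ (s : i.Ring)) := isSeparable_of_etale φ (s : i.Ring)
    have h1 : algebraMap (Hens.StrictHenselization A) F
        (Hens.H.of i (IsLocalization.mk' i.Loc a s)) * φ (s : i.Ring) = φ a := by
      show _ * algebraMap (Hens.StrictHenselization A) F
        (Hens.H.of i (algebraMap i.Ring i.Loc (s : i.Ring))) =
        algebraMap (Hens.StrictHenselization A) F (Hens.H.of i (algebraMap i.Ring i.Loc a))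
      rw [← map_mul, ← map_mul, IsLocalization.mk'_spec]
    have hs0 : φ (s : i.Ring) ≠ 0 := by
      have hu : IsUnit (algebraMap i.Ring i.Loc (s : i.Ring)) := IsLocalization.map_units i.Loc s
      have hu2 : IsUnit (φ (s : i.Ring)) :=
        (hu.map (Hens.H.of i)).map (algebraMap (Hens.StrictHenselization A) F)
      exact hu2.ne_zero
    have h2 : algebraMap (Hens.StrictHenselization A) F
        (Hens.H.of i (IsLocalization.mk' i.Loc a s)) = φ a / φ (s : i.Ring) := by
      rw [eq_div_iff hs0]; exact h1
    rw [h2]
    exact div_mem (mem_separableClosure_iff.mpr ha) (mem_separableClosure_iff.mpr hs)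
  intro y _
  obtain ⟨z₁, z₂, -, rfl⟩ := IsFractionRing.div_surjective (A := Hens.StrictHenselization A) y
  exact div_mem (hH z₁) (hH z₂)

/-- The map between strict henselizations induced by a local homomorphism. -/
theorem exists_sh_map (A B : Type u) [CommRing A] [IsLocalRing A] [CommRing B] [IsLocalRing B]
    [Algebra A B] [IsLocalHom (algebraMap A B)] :
    ∃ g : Hens.StrictHenselization A →+* Hens.StrictHenselization B, IsLocalHom g ∧
      g.comp (algebraMap A (Hens.StrictHenselization A)) =
        (algebraMap B (Hens.StrictHenselization B)).comp (algebraMap A B) := by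
  have hHA : Hensel.IsStrictHenselization A (Hens.StrictHenselization A) :=
    Hens.isStrictHenselization
  have hHB : Hensel.IsStrictHenselization B (Hens.StrictHenselization B) :=
    Hens.isStrictHenselization
  obtain ⟨f, hfdef⟩ : ∃ f : A →+* Hens.StrictHenselization B,
      f = (algebraMap B (Hens.StrictHenselization B)).comp (algebraMap A B) := ⟨_, rfl⟩
  haveI : IsLocalHom f := by rw [hfdef]; infer_instance
  haveI : IsSepClosed (ResidueField (Hens.StrictHenselization B)) := hHB.isSepClosure.sep_closed
  haveI : Algebra.IsSeparable (ResidueField A) (ResidueField (Hens.StrictHenselization A)) :=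
    hHA.isSepClosure.separable
  letI algres : Algebra (ResidueField A) (ResidueField (Hens.StrictHenselization B)) :=
    (ResidueField.map f).toAlgebra
  obtain ⟨τ, -⟩ : ∃ τ : ResidueField (Hens.StrictHenselization A) →ₐ[ResidueField A]
      ResidueField (Hens.StrictHenselization B), τ = τ := ⟨IsSepClosed.lift, rfl⟩
  obtain ⟨g, ⟨hg1, hg2⟩, -⟩ := hHA.universal (Hens.StrictHenselization B) f τ.toRingHom
    (RingHom.ext (fun x => by
      obtain ⟨a, rfl⟩ := residue_surjective x
      exact τ.commutes (residue A a)))
  refine ⟨g, ⟨fun x hx => ?_⟩, by rw [hg1, hfdef]⟩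
  by_contra hnu
  have h0 : residue (Hens.StrictHenselization A) x = 0 :=
    (residue_eq_zero_iff x).mpr ((mem_maximalIdeal x).mpr (mem_nonunits_iff.mpr hnu))
  have h2 := hg2 x
  rw [h0] at h2
  have h3 : residue (Hens.StrictHenselization B) (g x) = 0 := by
    rw [h2]; exact map_zero _
  have h4 := (mem_maximalIdeal _).mp ((residue_eq_zero_iff _).mp h3)
  exact (mem_nonunits_iff.mp h4) hx

/-- A ring homomorphism from a discrete valuation ring to a domain which does not kill a
uniformizer is injective. -/
theorem inj_of_dvr {A R : Type*} [CommRing A] [IsDomain A] [IsDiscreteValuationRing A]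
    [CommRing R] [IsDomain R] (f : A →+* R) {ϖ : A} (hϖ : Irreducible ϖ) (h : f ϖ ≠ 0) :
    Function.Injective f := by
  rw [injective_iff_map_eq_zero]
  intro x hx
  by_contra hx0
  obtain ⟨n, u, rfl⟩ := IsDiscreteValuationRing.eq_unit_mul_pow_irreducible hx0 hϖ
  rw [map_mul, map_pow] at hx
  rcases mul_eq_zero.mp hx with h1 | h1
  · exact ((u.isUnit.map f).ne_zero) h1
  · have hn : n ≠ 0 := fun hn => by
      rw [hn, pow_zero] at h1; exact one_ne_zero h1
    exact h ((pow_eq_zero_iff hn).mp h1)

end Groth.Agent.H8.Sh
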