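import Mathlib
import Groth.Prelude.Def_EtRam
import Groth.Agent.Lib.Helper8.ASK.Dom
import Groth.Agent.Lib.Helper8.ASK.SolTower

set_option autoImplicit false
universe u

namespace Groth.Agent.H8.RI

open IsLocalRing TensorProduct

/-! ### A valuation ring dominating `A` and avoiding a non-integral element -/

set_option backward.isDefEq.respectTransparency.types false in
open Polynomial Algebra in
theorem exists_dominating_not_mem {A : Type u} [CommRing A] [IsDomain A] [IsLocalRing A]
    {F : Type u} [Field F] [Algebra A F] {x : F} (hx : ¬ IsIntegral A x) :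
    ∃ V : ValuationSubring F, EtRam.Dominates A (algebraMap A F) V ∧ x ∉ V := by
  obtain rfl | hx0 := eq_or_ne x 0
  · exact (hx isIntegral_zero).elim
  let := invertibleOfNonzero hx0
  let B : Subalgebra A F := Algebra.adjoin A {x⁻¹}
  let xinv : B := ⟨x⁻¹, Algebra.subset_adjoin rfl⟩
  have hne : (maximalIdeal A).map (algebraMap A B) ⊔ Ideal.span {xinv} ≠ ⊤ := by
    intro eq
    apply hx
    obtain ⟨p, hp, hpx⟩ := exists_aeval_invOf_eq_zero_of_idealMap_adjoin_sup_span_eq_top x⁻¹
      (maximalIdeal A) (maximalIdeal.isMaximal A).ne_top eq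
    have H : IsUnit p.leadingCoeff := by
      by_contra h
      have h1 : p.leadingCoeff ∈ maximalIdeal A :=
        (mem_maximalIdeal _).mpr (mem_nonunits_iff.mpr h)
      have h2 : (1 : A) ∈ maximalIdeal A := by
        have := sub_mem h1 hp
        rwa [sub_sub_cancel] at this
      exact (maximalIdeal.isMaximal A).ne_top ((Ideal.eq_top_iff_one _).mpr h2)
    have hpx' : Polynomial.aeval x p = 0 := by simpa using hpx
    refine ⟨Polynomial.C ((H.unit⁻¹ : Aˣ) : A) * p, ?_, ?_⟩
    · rw [Polynomial.Monic, Polynomial.leadingCoeff_mul, Polynomial.leadingCoeff_C]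
      exact IsUnit.val_inv_mul H
    · have h0 : Polynomial.eval₂ (algebraMap A F) x p = 0 := by
        rw [← Polynomial.aeval_def]; exact hpx'
      rw [Polynomial.eval₂_mul, h0, mul_zero]
  obtain ⟨V, hV⟩ := Ideal.image_subset_nonunits_valuationSubring (A := B.toSubring) _ hne
  refine ⟨V, ⟨fun a => hV.1 (B.algebraMap_mem a), fun a ha => ?_⟩, ?_⟩
  · exact hV.2 ⟨algebraMap A B a, Ideal.mem_sup_left (Ideal.mem_map_of_mem _ ha), rfl⟩
  · exact (V.inv_mem_nonunits_iff.mp
      (hV.2 ⟨xinv, Ideal.mem_sup_right (Ideal.subset_span rfl), rfl⟩)).resolve_left hx0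

/-! ### Structure of totally ramified extensions -/

section Structure

variable {A K K₁ : Type u} [CommRing A] [IsDomain A] [IsDiscreteValuationRing A] [Field K]
  [Algebra A K] [IsFractionRing A K] [Field K₁] [Algebra K K₁] [Algebra A K₁] [IsScalarTower A K K₁]

theorem isIntegral_iff_mem_of_unique {V : ValuationSubring K₁}
    (hV : EtRam.Dominates A (algebraMap A K₁) V)
    (huniq : ∀ V' : ValuationSubring K₁, EtRam.Dominates A (algebraMap A K₁) V' → V' = V)
    (x : K₁) : IsIntegral A x ↔ x ∈ V := by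
  constructor
  · rintro ⟨P, hP, hev⟩
    by_contra hx
    have h1 : 1 < V.valuation x := by
      rw [← not_le, V.valuation_le_one_iff]; exact hx
    have h2 := ASK.val_eval_of_one_lt hV hP rfl x h1
    rw [hev, map_zero] at h2
    have h3 : V.valuation x ≠ 0 := (zero_lt_one.trans h1).ne'
    exact pow_ne_zero _ h3 h2.symm
  · intro hx
    by_contra hni
    obtain ⟨V', hV', hx'⟩ := exists_dominating_not_mem hni
    rw [huniq V' hV'] at hx'
    exact hx' hx

theorem totRam_structure [FiniteDimensional K K₁] [Algebra.IsSeparable K K₁] {π : A}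
    (hπ : maximalIdeal A = Ideal.span {π})
    (ht : EtRam.IsTotallyRamified A (algebraMap A K₁)) :
    ∃ (x₁ : K₁) (e : ℕ), e ≠ 0 ∧
      (∀ V : ValuationSubring K₁, EtRam.Dominates A (algebraMap A K₁) V →
        V.valuation (algebraMap A K₁ π) = V.valuation x₁ ^ e) ∧
      ∀ x : K₁, ∃ c : Fin e → K, x = ∑ i, c i • x₁ ^ (i : ℕ) := by
  obtain ⟨⟨V, hV⟩, huniq, hres⟩ := ht
  have huniq' : ∀ V' : ValuationSubring K₁, EtRam.Dominates A (algebraMap A K₁) V' → V' = V :=
    fun V' h => huniq V' V h hV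
  have hint := isIntegral_iff_mem_of_unique hV huniq'
  letI algAV : Algebra A V := (RingHom.codRestrict (algebraMap A K₁) V hV.1).toAlgebra
  haveI : IsScalarTower A V K₁ := IsScalarTower.of_algebraMap_eq (fun _ => rfl)
  haveI hIC : IsIntegralClosure V A K₁ := by
    refine ⟨fun a b h => Subtype.ext h, ?_⟩
    intro x
    constructor
    · intro hx; exact ⟨⟨x, (hint x).mp hx⟩, rfl⟩
    · rintro ⟨y, rfl⟩; exact (hint _).mpr y.2
  haveI : IsNoetherianRing V := IsIntegralClosure.isNoetherianRing A K K₁ V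
  haveI : Module.Finite A V := IsIntegralClosure.finite A K K₁ V
  have hinjA : Function.Injective (algebraMap A K₁) := ASK.algebraMap_inj A K K₁
  have hπ0 : algebraMap A K₁ π ≠ 0 := ASK.algL_pi_ne_zero hπ hinjA
  have hπlt : V.valuation (algebraMap A K₁ π) < 1 := hV.2 π (ASK.pi_mem hπ)
  have hπV0 : algebraMap A V π ≠ 0 := fun h => hπ0 (congrArg Subtype.val h)
  have hnf : ¬ IsField V := by
    intro hf
    obtain ⟨b, hb⟩ := hf.mul_inv_cancel hπV0
    have hu : IsUnit (algebraMap A V π) := isUnit_iff_exists_inv.mpr ⟨b, hb⟩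
    have h1 := (V.valuation_eq_one_iff _).mp hu
    exact (ne_of_lt hπlt) h1
  haveI : IsDiscreteValuationRing V := by
    have h01 := (IsDiscreteValuationRing.TFAE V hnf).out 0 1
    exact h01.mpr inferInstance
  obtain ⟨ϖ, hϖ⟩ := IsDiscreteValuationRing.exists_irreducible V
  have hmV : maximalIdeal V = Ideal.span {ϖ} := hϖ.maximalIdeal_eq
  obtain ⟨e, u, hu⟩ := IsDiscreteValuationRing.eq_unit_mul_pow_irreducible hπV0 hϖ
  have he : e ≠ 0 := by
    rintro rfl
    rw [pow_zero, mul_one] at hu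
    have h1 : V.valuation ((algebraMap A V π : V) : K₁) = 1 := by
      rw [hu]; exact V.valuation_unit u
    exact (ne_of_lt hπlt) h1
  have hval : V.valuation (algebraMap A K₁ π) = V.valuation (ϖ : K₁) ^ e := by
    have h1 : algebraMap A K₁ π = ((u : V) : K₁) * (ϖ : K₁) ^ e := congrArg Subtype.val hu
    rw [h1, map_mul, map_pow, V.valuation_unit u, one_mul]
  let N : Submodule A V := Submodule.span A (Set.range fun i : Fin e => ϖ ^ (i : ℕ))
  have hstep : ∀ k : ℕ, k ≤ e → ∀ x : V, ∃ n ∈ N, ∃ r : V, x = n + ϖ ^ k * r := by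
    intro k
    induction k with
    | zero =>
      intro _ x
      exact ⟨0, N.zero_mem, x, by rw [pow_zero, one_mul, zero_add]⟩
    | succ k ih =>
      intro hk x
      obtain ⟨n, hn, r, hx⟩ := ih (Nat.le_of_succ_le hk) x
      obtain ⟨a, ha⟩ := hres V hV (residue V r)
      have ha' : residue V (algebraMap A V a) = residue V r := ha
      have hmem : r - algebraMap A V a ∈ maximalIdeal V := by
        rw [← residue_eq_zero_iff, map_sub, ha', sub_self]
      rw [hmV, Ideal.mem_span_singleton'] at hmem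
      obtain ⟨r', hr'⟩ := hmem
      refine ⟨n + a • ϖ ^ k, N.add_mem hn (N.smul_mem a
        (Submodule.subset_span ⟨⟨k, Nat.lt_of_succ_le hk⟩, rfl⟩)), r', ?_⟩
      rw [Algebra.smul_def]
      linear_combination hx - ϖ ^ k * hr'
  have hNak : (⊤ : Submodule A V) ≤ N ⊔ maximalIdeal A • (⊤ : Submodule A V) := by
    intro x _
    obtain ⟨n, hn, r, hx⟩ := hstep e le_rfl x
    rw [hx]
    refine Submodule.add_mem_sup hn ?_
    have h1 : ϖ ^ e * r = π • (((u⁻¹ : Vˣ) : V) * r) := by
      rw [Algebra.smul_def, hu]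
      have h2 := u.mul_inv
      linear_combination (-(ϖ ^ e * r)) * h2
    rw [h1]
    exact Submodule.smul_mem_smul (ASK.pi_mem hπ) Submodule.mem_top
  have hN : N = ⊤ := top_le_iff.mp
    (Submodule.le_of_le_smul_of_le_jacobson_bot Module.Finite.fg_top
      (IsLocalRing.jacobson_eq_maximalIdeal ⊥ bot_ne_top).ge hNak)
  refine ⟨(ϖ : K₁), e, he, ?_, ?_⟩
  · intro V' hV'
    rw [huniq' V' hV']
    exact hval
  · intro x
    obtain ⟨a, ha0, hax⟩ := exists_integral_multiples A K ({x} : Finset K₁)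
    have hax' : IsIntegral A (a • x) := hax x (Finset.mem_singleton_self x)
    have hmemV : a • x ∈ V := (hint _).mp hax'
    have hwN : (⟨a • x, hmemV⟩ : V) ∈ N := by rw [hN]; exact Submodule.mem_top
    obtain ⟨c, hc⟩ := (Submodule.mem_span_range_iff_exists_fun A).mp hwN
    have hc' : ∑ i, algebraMap A K₁ (c i) * (ϖ : K₁) ^ (i : ℕ) = algebraMap A K₁ a * x := by
      have h2 : algebraMap V K₁ (∑ i, c i • ϖ ^ (i : ℕ)) = a • x := congrArg (algebraMap V K₁) hc
      have h3 : (a • x : K₁) = algebraMap A K₁ a * x := Algebra.smul_def a x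
      rw [map_sum, h3] at h2
      rw [← h2]
      refine Finset.sum_congr rfl (fun i _ => ?_)
      rw [Algebra.smul_def, map_mul, map_pow]
      rfl
    have ha' : algebraMap A K₁ a ≠ 0 := fun h => ha0 (hinjA (h.trans (map_zero _).symm))
    refine ⟨fun i => algebraMap A K (c i) / algebraMap A K a, ?_⟩
    show x = ∑ i, (algebraMap A K (c i) / algebraMap A K a) • (ϖ : K₁) ^ (i : ℕ)
    have hx : x = (algebraMap A K₁ a)⁻¹ * ∑ i, algebraMap A K₁ (c i) * (ϖ : K₁) ^ (i : ℕ) := by
      rw [hc', inv_mul_cancel_left₀ ha']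
    rw [hx, Finset.mul_sum]
    refine Finset.sum_congr rfl (fun i _ => ?_)
    rw [Algebra.smul_def, map_div₀, ← IsScalarTower.algebraMap_apply A K K₁,
      ← IsScalarTower.algebraMap_apply A K K₁, div_eq_mul_inv]
    ring

end Structure

/-! ### Valuations in a compositum -/

section Comp

variable {B L M : Type u} [CommRing B] [IsDomain B] [IsDiscreteValuationRing B] [Field L]
  [Algebra B L] [IsFractionRing B L] [Field M] [Algebra L M] [Algebra B M] [IsScalarTower B L M]

theorem comp_core {πB : B} (hπB : maximalIdeal B = Ideal.span {πB}) {W : ValuationSubring M}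
    (hW : EtRam.Dominates B (algebraMap B M) W) {z : M} {e : ℕ} (he : e ≠ 0)
    (hz : W.valuation z ^ e = W.valuation (algebraMap B M πB)) :
    W.valuation z < 1 ∧
    (∀ c : Fin e → L, W.valuation (∑ i, c i • z ^ (i : ℕ)) < 1 →
      W.valuation (∑ i, c i • z ^ (i : ℕ)) ≤ W.valuation z) ∧
    LinearIndependent L (fun i : Fin e => z ^ (i : ℕ)) := by
  classical
  have hinjB : Function.Injective (algebraMap B M) := ASK.algebraMap_inj B L M
  have hπpos : 0 < W.valuation (algebraMap B M πB) := ASK.val_pi_pos hπB hinjB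
  have hπlt : W.valuation (algebraMap B M πB) < 1 := ASK.val_pi_lt_one hπB hW
  have hτ0 : W.valuation z ≠ 0 := by
    intro h
    rw [h, zero_pow he] at hz
    exact (ne_of_lt hπpos) hz
  have hτpos : 0 < W.valuation z := zero_lt_iff.mpr hτ0
  have hτlt : W.valuation z < 1 := by
    by_contra h
    have h1 : 1 ≤ W.valuation z := not_lt.mp h
    have h2 : 1 ≤ W.valuation z ^ e := one_le_pow₀ h1
    rw [hz] at h2
    exact absurd hπlt (not_lt.mpr h2)
  have hz0 : z ≠ 0 := (Valuation.ne_zero_iff _).mp hτ0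
  have hvalL : ∀ l : L, l ≠ 0 →
      ∃ k : ℤ, W.valuation (algebraMap L M l) = W.valuation z ^ ((e : ℤ) * k) := by
    intro l hl
    obtain ⟨u, k, hk⟩ := ASK.decomp hπB l hl
    refine ⟨k, ?_⟩
    rw [ASK.val_K hW l u k hk, ← hz, ← zpow_natCast, ← zpow_mul]
  have hkey : ∀ c : Fin e → L,
      (∀ i, W.valuation (c i • z ^ (i : ℕ)) ≤ W.valuation (∑ i, c i • z ^ (i : ℕ))) ∧
      ((∑ i, c i • z ^ (i : ℕ)) ≠ 0 →
        ∃ m : ℤ, W.valuation (∑ i, c i • z ^ (i : ℕ)) = W.valuation z ^ m) := by
    intro c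
    have hterm : ∀ i : Fin e, c i ≠ 0 → ∃ k : ℤ,
        W.valuation (c i • z ^ (i : ℕ)) = W.valuation z ^ ((e : ℤ) * k + ((i : ℕ) : ℤ)) := by
      intro i hi
      obtain ⟨k, hk⟩ := hvalL (c i) hi
      refine ⟨k, ?_⟩
      rw [Algebra.smul_def, map_mul, map_pow, hk, zpow_add₀ hτ0, zpow_natCast]
    have hd : ∀ i ∈ (Finset.univ : Finset (Fin e)), ∀ j ∈ (Finset.univ : Finset (Fin e)), i ≠ j →
        c j • z ^ (j : ℕ) ≠ 0 →
        W.valuation (c i • z ^ (i : ℕ)) ≠ W.valuation (c j • z ^ (j : ℕ)) := by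
      intro i _ j _ hij hj0 heq
      have hcj : c j ≠ 0 := by
        intro h
        rw [h, zero_smul] at hj0
        exact hj0 rfl
      by_cases hci : c i = 0
      · rw [hci, zero_smul, map_zero] at heq
        exact hj0 ((Valuation.zero_iff _).mp heq.symm)
      · obtain ⟨k, hk⟩ := hterm i hci
        obtain ⟨k', hk'⟩ := hterm j hcj
        rw [hk, hk'] at heq
        have h3 : (e : ℤ) * k + ((i : ℕ) : ℤ) = (e : ℤ) * k' + ((j : ℕ) : ℤ) :=
          zpow_right_injective₀ hτpos (ne_of_lt hτlt) heq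
        apply hij
        apply Fin.ext
        have h6 : ((i : ℕ) : ℤ) + (e : ℤ) * k = ((j : ℕ) : ℤ) + (e : ℤ) * k' := by
          rw [add_comm, h3, add_comm]
        have h7 : (((i : ℕ) : ℤ) + (e : ℤ) * k) % (e : ℤ) =
            (((j : ℕ) : ℤ) + (e : ℤ) * k') % (e : ℤ) := by rw [h6]
        rw [Int.add_mul_emod_self_left, Int.add_mul_emod_self_left,
          Int.emod_eq_of_lt (Int.natCast_nonneg _) (by exact_mod_cast i.2),
          Int.emod_eq_of_lt (Int.natCast_nonneg _) (by exact_mod_cast j.2)] at h7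
        exact_mod_cast h7
    have hle := ASK.val_le_sum W.valuation Finset.univ (fun i : Fin e => c i • z ^ (i : ℕ)) hd
    refine ⟨fun i => hle i (Finset.mem_univ i), ?_⟩
    intro hne
    obtain ⟨j, -, hmax⟩ := Finset.exists_max_image Finset.univ
      (fun i : Fin e => W.valuation (c i • z ^ (i : ℕ)))
      ⟨⟨0, Nat.pos_of_ne_zero he⟩, Finset.mem_univ _⟩
    have hub : W.valuation (∑ i, c i • z ^ (i : ℕ)) ≤ W.valuation (c j • z ^ (j : ℕ)) :=
      Valuation.map_sum_le _ (fun i hi => hmax i hi)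
    have heq : W.valuation (∑ i, c i • z ^ (i : ℕ)) = W.valuation (c j • z ^ (j : ℕ)) :=
      le_antisymm hub (hle j (Finset.mem_univ j))
    have hcj : c j ≠ 0 := by
      intro h
      rw [h, zero_smul, map_zero] at heq
      exact hne ((Valuation.zero_iff _).mp heq)
    obtain ⟨k, hk⟩ := hterm j hcj
    exact ⟨_, heq.trans hk⟩
  refine ⟨hτlt, fun c hc => ?_, ?_⟩
  · by_cases h0 : (∑ i, c i • z ^ (i : ℕ)) = 0
    · rw [h0, map_zero]; exact zero_le'
    · obtain ⟨m, hm⟩ := (hkey c).2 h0
      rw [hm] at hc ⊢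
      have hmpos : 0 < m := (zpow_lt_one_iff_right_of_lt_one₀ hτpos hτlt).mp hc
      calc W.valuation z ^ m ≤ W.valuation z ^ (1 : ℤ) :=
            zpow_le_zpow_right_of_le_one₀ hτpos hτlt.le (by omega)
        _ = W.valuation z := zpow_one _
  · rw [Fintype.linearIndependent_iff]
    intro c hc i
    have hc' : ∑ i, c i • z ^ (i : ℕ) = 0 := hc
    have h := (hkey c).1 i
    rw [hc', map_zero] at h
    have h0 : c i • z ^ (i : ℕ) = 0 := (Valuation.zero_iff _).mp (le_antisymm h zero_le')
    rw [Algebra.smul_def] at h0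
    rcases mul_eq_zero.mp h0 with h1 | h1
    · exact (map_eq_zero (algebraMap L M)).mp h1
    · exact absurd h1 (pow_ne_zero _ hz0)

end Comp

/-! ### Spanning and dimension -/

theorem finrank_le_of_span {K K₁ : Type u} [Field K] [Field K₁] [Algebra K K₁] {x₁ : K₁} {e : ℕ}
    (hspan : ∀ x : K₁, ∃ c : Fin e → K, x = ∑ i, c i • x₁ ^ (i : ℕ)) :
    Module.finrank K K₁ ≤ e := by
  have hS : Submodule.span K (Set.range fun i : Fin e => x₁ ^ (i : ℕ)) = ⊤ := by
    rw [eq_top_iff]
    intro x _
    obtain ⟨c, hc⟩ := hspan x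
    rw [hc]
    exact Submodule.sum_mem _ (fun i _ => Submodule.smul_mem _ _ (Submodule.subset_span ⟨i, rfl⟩))
  have h := finrank_range_le_card (R := K) (fun i : Fin e => x₁ ^ (i : ℕ))
  rw [Set.finrank, hS, finrank_top, Fintype.card_fin] at h
  exact h

theorem span_pow_eq_top {K L K₁ M : Type u} [Field K] [Field L] [Field K₁] [Field M]
    [Algebra K L] [Algebra K K₁] [Algebra K M] [Algebra L M] [Algebra K₁ M] [IsScalarTower K L M]
    [IsScalarTower K K₁ M]
    (hgen : Algebra.adjoin L (Set.range (algebraMap K₁ M)) = ⊤) {x₁ : K₁} {e : ℕ}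
    (hspan : ∀ x : K₁, ∃ c : Fin e → K, x = ∑ i, c i • x₁ ^ (i : ℕ)) (y : M) :
    ∃ c : Fin e → L, y = ∑ i, c i • (algebraMap K₁ M x₁) ^ (i : ℕ) := by
  let S : Submodule L M :=
    Submodule.span L (Set.range fun i : Fin e => (algebraMap K₁ M x₁) ^ (i : ℕ))
  have hfS : ∀ x : K₁, algebraMap K₁ M x ∈ S := by
    intro x
    obtain ⟨c, hc⟩ := hspan x
    rw [hc, map_sum]
    refine S.sum_mem (fun i _ => ?_)
    have h1 : algebraMap K₁ M (c i • x₁ ^ (i : ℕ)) =
        algebraMap K M (c i) * (algebraMap K₁ M x₁) ^ (i : ℕ) := by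
      rw [Algebra.smul_def, map_mul, map_pow, ← IsScalarTower.algebraMap_apply K K₁ M]
    have h2 : (algebraMap K L (c i)) • (algebraMap K₁ M x₁) ^ (i : ℕ) =
        algebraMap K M (c i) * (algebraMap K₁ M x₁) ^ (i : ℕ) := by
      rw [Algebra.smul_def, ← IsScalarTower.algebraMap_apply K L M]
    rw [h1, ← h2]
    exact S.smul_mem _ (Submodule.subset_span ⟨i, rfl⟩)
  have h1S : (1 : M) ∈ S := by
    have := hfS 1
    rwa [map_one] at this
  have hmul : ∀ a b : M, a ∈ S → b ∈ S → a * b ∈ S := by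
    intro a b ha hb
    refine Submodule.span_induction₂ (p := fun a b _ _ => a * b ∈ S) ?_ ?_ ?_ ?_ ?_ ?_ ?_ ha hb
    · rintro _ _ ⟨i, rfl⟩ ⟨j, rfl⟩
      show (algebraMap K₁ M x₁) ^ (i : ℕ) * (algebraMap K₁ M x₁) ^ (j : ℕ) ∈ S
      have h3 : (algebraMap K₁ M x₁) ^ (i : ℕ) * (algebraMap K₁ M x₁) ^ (j : ℕ) =
          algebraMap K₁ M (x₁ ^ ((i : ℕ) + (j : ℕ))) := by
        rw [map_pow, pow_add]
      rw [h3]
      exact hfS _
    · intro y _
      show (0 : M) * y ∈ S
      rw [zero_mul]; exact S.zero_mem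
    · intro x _
      show x * (0 : M) ∈ S
      rw [mul_zero]; exact S.zero_mem
    · intro x y w _ _ _ h1 h2
      show (x + y) * w ∈ S
      rw [add_mul]; exact S.add_mem h1 h2
    · intro x y w _ _ _ h1 h2
      show x * (y + w) ∈ S
      rw [mul_add]; exact S.add_mem h1 h2
    · intro r x y _ _ h
      show (r • x) * y ∈ S
      rw [smul_mul_assoc]; exact S.smul_mem r h
    · intro r x y _ _ h
      show x * (r • y) ∈ S
      rw [mul_smul_comm]; exact S.smul_mem r h
  have hle : Algebra.adjoin L (Set.range (algebraMap K₁ M)) ≤ S.toSubalgebra h1S hmul :=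
    Algebra.adjoin_le (by rintro _ ⟨x, rfl⟩; exact hfS x)
  have hy : y ∈ S := by
    have h4 : y ∈ S.toSubalgebra h1S hmul := hle (by rw [hgen]; exact Algebra.mem_top)
    exact h4
  obtain ⟨c, hc⟩ := (Submodule.mem_span_range_iff_exists_fun L).mp hy
  exact ⟨c, hc.symm⟩

/-! ### `L ⊗ K₁` is a field -/

theorem injective_of_quotient {K L K₁ M : Type u} [Field K] [Field L] [Field K₁] [Field M]
    [Algebra K L] [Algebra K K₁] [FiniteDimensional K K₁]
    (q : (L ⊗[K] K₁) →+* M) (hq : Function.Surjective q) (e : ℕ)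
    (hdim : Module.finrank K K₁ ≤ e)
    (h : ∀ (M : Type u) [Field M] [Algebra K M] [Algebra L M] [Algebra K₁ M] [IsScalarTower K L M]
      [IsScalarTower K K₁ M], Algebra.adjoin L (Set.range (algebraMap K₁ M)) = ⊤ →
      ∃ s : Fin e → M, LinearIndependent L s) :
    Function.Injective q := by
  letI algK : Algebra K M := (q.comp (algebraMap K (L ⊗[K] K₁))).toAlgebra
  letI algL : Algebra L M := (q.comp (algebraMap L (L ⊗[K] K₁))).toAlgebra
  letI algK₁ : Algebra K₁ M :=
    (q.comp (Algebra.TensorProduct.includeRight : K₁ →ₐ[K] L ⊗[K] K₁).toRingHom).toAlgebra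
  haveI : IsScalarTower K L M := IsScalarTower.of_algebraMap_eq (fun x => by
    show q (algebraMap K (L ⊗[K] K₁) x) = q (algebraMap L (L ⊗[K] K₁) (algebraMap K L x))
    rw [Algebra.TensorProduct.algebraMap_apply, Algebra.TensorProduct.algebraMap_apply]
    rfl)
  haveI : IsScalarTower K K₁ M := IsScalarTower.of_algebraMap_eq (fun x => by
    show q (algebraMap K (L ⊗[K] K₁) x) = q ((1 : L) ⊗ₜ[K] (algebraMap K K₁ x))
    rw [Algebra.TensorProduct.algebraMap_apply'])
  have hkey : ∀ t : L ⊗[K] K₁, q t ∈ Algebra.adjoin L (Set.range (algebraMap K₁ M)) := by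
    intro t
    induction t using TensorProduct.induction_on with
    | zero => rw [map_zero]; exact Subalgebra.zero_mem _
    | tmul l k =>
      have h1 : q (l ⊗ₜ[K] k) = l • algebraMap K₁ M k := by
        rw [Algebra.smul_def]
        show q (l ⊗ₜ[K] k) = q (algebraMap L (L ⊗[K] K₁) l) * q ((1 : L) ⊗ₜ[K] k)
        rw [← map_mul, Algebra.TensorProduct.algebraMap_apply,
          Algebra.TensorProduct.tmul_mul_tmul, mul_one, one_mul]
        rfl
      rw [h1]
      have hk : algebraMap K₁ M k ∈ Algebra.adjoin L (Set.range (algebraMap K₁ M)) :=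
        Algebra.subset_adjoin ⟨k, rfl⟩
      exact Subalgebra.smul_mem _ hk l
    | add a b ha hb => rw [map_add]; exact Subalgebra.add_mem _ ha hb
  have hgen : Algebra.adjoin L (Set.range (algebraMap K₁ M)) = ⊤ := by
    rw [eq_top_iff]
    intro y _
    obtain ⟨t, rfl⟩ := hq y
    exact hkey t
  obtain ⟨s, hs⟩ := h M hgen
  let ql : (L ⊗[K] K₁) →ₗ[L] M :=
    { toFun := q
      map_add' := map_add q
      map_smul' := fun l t => by
        show q (l • t) = l • q t
        rw [Algebra.smul_def, Algebra.smul_def, map_mul]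
        rfl }
  have hsurj : Function.Surjective ql := hq
  haveI : Module.Finite L M := Module.Finite.of_surjective ql hsurj
  have h1 : Module.finrank L (L ⊗[K] K₁) = Module.finrank K K₁ := Module.finrank_baseChange
  have h2 : e ≤ Module.finrank L M := by
    have h5 := hs.fintype_card_le_finrank
    rwa [Fintype.card_fin] at h5
  have h3 : Module.finrank L M ≤ Module.finrank L (L ⊗[K] K₁) :=
    LinearMap.finrank_le_finrank_of_surjective hsurj
  have h4 : Module.finrank L (L ⊗[K] K₁) = Module.finrank L M := by omega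
  have h6 : Function.Injective ql :=
    (LinearMap.injective_iff_surjective_of_finrank_eq_finrank h4).mpr hsurj
  exact h6

theorem isField_tensor_of_forall_quotient {K L K₁ : Type u} [Field K] [Field L] [Field K₁]
    [Algebra K L] [Algebra K K₁] [FiniteDimensional K K₁] (e : ℕ)
    (hdim : Module.finrank K K₁ ≤ e)
    (h : ∀ (M : Type u) [Field M] [Algebra K M] [Algebra L M] [Algebra K₁ M] [IsScalarTower K L M]
      [IsScalarTower K K₁ M], Algebra.adjoin L (Set.range (algebraMap K₁ M)) = ⊤ →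
      ∃ s : Fin e → M, LinearIndependent L s) :
    IsField (L ⊗[K] K₁) := by
  haveI : Nontrivial (L ⊗[K] K₁) := by
    apply Module.nontrivial_of_finrank_pos (R := L)
    rw [Module.finrank_baseChange]
    exact Module.finrank_pos
  obtain ⟨𝔪, h𝔪⟩ := Ideal.exists_maximal (L ⊗[K] K₁)
  letI : Field ((L ⊗[K] K₁) ⧸ 𝔪) := Ideal.Quotient.field 𝔪
  have hinj := injective_of_quotient (Ideal.Quotient.mk 𝔪) Ideal.Quotient.mk_surjective e hdim h
  exact MulEquiv.isField (Field.toIsField ((L ⊗[K] K₁) ⧸ 𝔪))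
    (RingEquiv.ofBijective (Ideal.Quotient.mk 𝔪) ⟨hinj, Ideal.Quotient.mk_surjective⟩).toMulEquiv

/-! ### Main theorem -/

theorem weakSolution_of_totRam (A B K L : Type u) [CommRing A] [IsDomain A]
    [IsDiscreteValuationRing A]
    [CommRing B] [IsDomain B] [IsDiscreteValuationRing B] [Algebra A B]
    [IsLocalHom (algebraMap A B)]
    (hinj : Function.Injective (algebraMap A B))
    [Field K] [Field L] [Algebra A K] [IsFractionRing A K] [Algebra B L] [IsFractionRing B L]
    [Algebra K L] [Algebra A L] [IsScalarTower A K L] [IsScalarTower A B L]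
    (hw : EtRam.IsWeaklyUnramified A B) (K₁ : Type u) [Field K₁] [Algebra K K₁]
    [FiniteDimensional K K₁] [Algebra.IsSeparable K K₁]
    (ht : EtRam.IsTotallyRamified A ((algebraMap K K₁).comp (algebraMap A K))) :
    IsField (L ⊗[K] K₁) ∧ EtRam.IsWeakSolution B K L K₁ := by
  obtain ⟨π, hπirr⟩ := IsDiscreteValuationRing.exists_irreducible A
  have hπ : maximalIdeal A = Ideal.span {π} := hπirr.maximalIdeal_eq
  have hπB : maximalIdeal B = Ideal.span {algebraMap A B π} := by
    have h1 : (maximalIdeal A).map (algebraMap A B) = maximalIdeal B := hw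
    rw [← h1, hπ, Ideal.map_span, Set.image_singleton]
  letI algAK₁ : Algebra A K₁ := ((algebraMap K K₁).comp (algebraMap A K)).toAlgebra
  haveI : IsScalarTower A K K₁ := IsScalarTower.of_algebraMap_eq (fun _ => rfl)
  have ht' : EtRam.IsTotallyRamified A (algebraMap A K₁) := ht
  obtain ⟨x₁, e, he, hval, hspan⟩ := totRam_structure (K := K) hπ ht'
  have hcore : ∀ (M : Type u) [Field M] [Algebra K M] [Algebra L M] [Algebra K₁ M]
      [IsScalarTower K L M] [IsScalarTower K K₁ M],
      Algebra.adjoin L (Set.range (algebraMap K₁ M)) = ⊤ →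
      ∀ W : ValuationSubring M, EtRam.Dominates B ((algebraMap L M).comp (algebraMap B L)) W →
      (W.valuation (algebraMap K₁ M x₁) < 1 ∧
       (∀ y : M, W.valuation y < 1 → W.valuation y ≤ W.valuation (algebraMap K₁ M x₁)) ∧
       LinearIndependent L (fun i : Fin e => (algebraMap K₁ M x₁) ^ (i : ℕ))) := by
    intro M _ _ _ _ _ _ hgen W hW
    letI algBM : Algebra B M := ((algebraMap L M).comp (algebraMap B L)).toAlgebra
    haveI : IsScalarTower B L M := IsScalarTower.of_algebraMap_eq (fun _ => rfl)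
    have hW' : EtRam.Dominates B (algebraMap B M) W := hW
    have hcompat : ∀ a : A,
        algebraMap K₁ M (algebraMap A K₁ a) = algebraMap B M (algebraMap A B a) := by
      intro a
      show algebraMap K₁ M (algebraMap K K₁ (algebraMap A K a)) =
        algebraMap L M (algebraMap B L (algebraMap A B a))
      rw [← IsScalarTower.algebraMap_apply K K₁ M, IsScalarTower.algebraMap_apply K L M,
        ← IsScalarTower.algebraMap_apply A K L, ← IsScalarTower.algebraMap_apply A B L]
    have hdomA : EtRam.Dominates A (algebraMap A K₁) (W.comap (algebraMap K₁ M)) := by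
      apply dominates_comap_of_comp
      refine ⟨fun a => ?_, fun a ha => ?_⟩
      · show algebraMap K₁ M (algebraMap A K₁ a) ∈ W
        rw [hcompat]; exact hW'.1 _
      · show W.valuation (algebraMap K₁ M (algebraMap A K₁ a)) < 1
        rw [hcompat]
        apply hW'.2
        rw [mem_maximalIdeal, mem_nonunits_iff] at ha ⊢
        exact fun h => ha (isUnit_of_map_unit (algebraMap A B) a h)
    have hz : W.valuation (algebraMap K₁ M x₁) ^ e =
        W.valuation (algebraMap B M (algebraMap A B π)) := by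
      have h1 := hval _ hdomA
      rw [← map_pow] at h1
      have h2 := (isEquiv_comap W (algebraMap K₁ M)).eq_iff.mp h1
      rw [Valuation.comap_apply, Valuation.comap_apply, map_pow, map_pow, hcompat] at h2
      exact h2.symm
    obtain ⟨hlt, hle, hli⟩ := comp_core (L := L) hπB hW' he hz
    refine ⟨hlt, fun y hy => ?_, hli⟩
    obtain ⟨c, rfl⟩ := span_pow_eq_top hgen hspan y
    exact hle c hy
  constructor
  · have hdim : Module.finrank K K₁ ≤ e := finrank_le_of_span hspan
    apply isField_tensor_of_forall_quotient e hdim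
    intro M _ _ _ _ _ _ hgen
    obtain ⟨W, hW⟩ := exists_dominates_of_local ((algebraMap L M).comp (algebraMap B L))
    exact ⟨_, (hcore M hgen W hW).2.2⟩
  · intro M _ _ _ _ _ _ hgen W hW
    obtain ⟨hlt, hle, -⟩ := hcore M hgen W hW
    exact (isWeaklyUnramified_comap_iff W (algebraMap K₁ M)).mpr
      (fun y hy => ⟨x₁, hlt, hle y hy⟩)

end Groth.Agent.H8.RI
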