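import Groth.Agent.Lib.Helper8.ASK.UN

set_option autoImplicit false
universe u

namespace Groth.Agent.H8.ASK

open IsLocalRing Polynomial

/-! ### Artin–Schreier extensions: field theory -/

section ASField

variable {K L : Type u} [Field K] [Field L] [Algebra K L] {p : ℕ}

theorem as_natDegree (hp : p.Prime) (ξ : K) : (X ^ p - X - C ξ : K[X]).natDegree = p := by
  rw [natDegree_sub_C]
  exact FiniteField.X_pow_card_sub_X_natDegree_eq K hp.one_lt

theorem as_monic (hp : p.Prime) (ξ : K) : (X ^ p - X - C ξ : K[X]).Monic := by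
  rw [sub_sub]
  apply monic_X_pow_sub
  rw [degree_X_add_C]
  exact_mod_cast hp.one_lt

theorem as_separable (hp : p.Prime) [CharP K p] (ξ : K) :
    (X ^ p - X - C ξ : K[X]).Separable := by
  rw [separable_def]
  have hd : derivative (X ^ p - X - C ξ : K[X]) = -1 := by
    rw [derivative_sub, derivative_sub, derivative_C, derivative_X, derivative_X_pow,
      CharP.cast_eq_zero K p, C_0, zero_mul, zero_sub, sub_zero]
  rw [hd]
  exact isCoprime_one_right.neg_right

theorem as_root (hp : p.Prime) [CharP K p] (ξ : K) (z : L)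
    (hz : z ^ p - z = algebraMap K L ξ) (i : ℕ) :
    aeval (z + (i : L)) (X ^ p - X - C ξ : K[X]) = 0 := by
  haveI := Fact.mk hp
  haveI : CharP L p := charP_of_injective_algebraMap (algebraMap K L).injective p
  have hi : (i : L) ^ p = i := by rw [← frobenius_def, map_natCast]
  rw [map_sub, map_sub, map_pow, aeval_X, aeval_C, add_pow_char, hi]
  linear_combination hz

theorem as_root0 (hp : p.Prime) [CharP K p] (ξ : K) (z : L)
    (hz : z ^ p - z = algebraMap K L ξ) : aeval z (X ^ p - X - C ξ : K[X]) = 0 := by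
  have := as_root hp ξ z hz 0
  rwa [Nat.cast_zero, add_zero] at this

theorem as_isIntegral (hp : p.Prime) [CharP K p] (ξ : K) (z : L)
    (hz : z ^ p - z = algebraMap K L ξ) : IsIntegral K z :=
  ⟨_, as_monic hp ξ, by rw [← aeval_def]; exact as_root0 hp ξ z hz⟩

theorem as_isSplittingField (hp : p.Prime) [CharP K p] (ξ : K) (z : L)
    (hz : z ^ p - z = algebraMap K L ξ) (hgen : IntermediateField.adjoin K {z} = ⊤) :
    (X ^ p - X - C ξ : K[X]).IsSplittingField K L := by
  classical
  haveI : CharP L p := charP_of_injective_algebraMap (algebraMap K L).injective p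
  have hf0 : (X ^ p - X - C ξ : K[X]) ≠ 0 := (as_monic hp ξ).ne_zero
  have hF0 : (X ^ p - X - C ξ : K[X]).map (algebraMap K L) ≠ 0 := Polynomial.map_ne_zero hf0
  have hFdeg : ((X ^ p - X - C ξ : K[X]).map (algebraMap K L)).natDegree = p := by
    rw [natDegree_map, as_natDegree hp ξ]
  have hroot : ∀ i : ℕ,
      z + (i : L) ∈ ((X ^ p - X - C ξ : K[X]).map (algebraMap K L)).roots := by
    intro i
    rw [mem_roots hF0, IsRoot.def, eval_map_algebraMap]
    exact as_root hp ξ z hz i
  constructor
  · rw [splits_iff_card_roots, hFdeg]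
    apply le_antisymm
    · have := card_roots' ((X ^ p - X - C ξ : K[X]).map (algebraMap K L))
      rwa [hFdeg] at this
    · have hcard : ((Finset.range p).image (fun i : ℕ => z + (i : L))).card = p := by
        rw [Finset.card_image_of_injOn, Finset.card_range]
        intro i hi j hj hij
        have h1 : (i : L) = j := add_left_cancel hij
        exact CharP.natCast_injOn_Iio L p (Finset.mem_range.mp hi) (Finset.mem_range.mp hj) h1
      have hle : ((Finset.range p).image (fun i : ℕ => z + (i : L))).val ≤
          ((X ^ p - X - C ξ : K[X]).map (algebraMap K L)).roots := by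
        rw [Multiset.le_iff_subset (Finset.nodup _)]
        intro x hx
        rw [Finset.mem_val, Finset.mem_image] at hx
        obtain ⟨i, _, rfl⟩ := hx
        exact hroot i
      calc p = ((Finset.range p).image (fun i : ℕ => z + (i : L))).card := hcard.symm
        _ = Multiset.card ((Finset.range p).image (fun i : ℕ => z + (i : L))).val := rfl
        _ ≤ _ := Multiset.card_le_card hle
  · rw [eq_top_iff, ← algebra_adjoin_eq_top z (as_isIntegral hp ξ z hz) hgen]
    apply Algebra.adjoin_mono
    rw [Set.singleton_subset_iff, mem_rootSet]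
    exact ⟨hf0, as_root0 hp ξ z hz⟩

theorem as_isGalois (hp : p.Prime) [CharP K p] (ξ : K) (z : L)
    (hz : z ^ p - z = algebraMap K L ξ) (hgen : IntermediateField.adjoin K {z} = ⊤) :
    IsGalois K L := by
  haveI := as_isSplittingField hp ξ z hz hgen
  exact IsGalois.of_separable_splitting_field (as_separable hp ξ)

theorem as_finrank (hp : p.Prime) [CharP K p] (ξ : K) (z : L)
    (hz : z ^ p - z = algebraMap K L ξ) (hgen : IntermediateField.adjoin K {z} = ⊤) :
    Module.finrank K L = 1 ∨ Module.finrank K L = p := by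
  classical
  haveI := Fact.mk hp
  haveI : CharP L p := charP_of_injective_algebraMap (algebraMap K L).injective p
  haveI hsf := as_isSplittingField hp ξ z hz hgen
  haveI : IsGalois K L := IsGalois.of_separable_splitting_field (as_separable hp ξ)
  haveI : FiniteDimensional K L :=
    Polynomial.IsSplittingField.finiteDimensional L (X ^ p - X - C ξ : K[X])
  have hroot0 := as_root0 hp ξ z hz
  have hint := as_isIntegral hp ξ z hz
  have hle : Module.finrank K L ≤ p := by
    rw [← IntermediateField.finrank_top', ← hgen, IntermediateField.adjoin.finrank hint]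
    have := natDegree_le_of_dvd (minpoly.dvd K z hroot0) (as_monic hp ξ).ne_zero
    rwa [as_natDegree hp ξ] at this
  have hpos : 0 < Module.finrank K L := Module.finrank_pos
  have key : ∀ σ : L ≃ₐ[K] L, ∃ n : ℤ, (n : L) = σ z - z := by
    intro σ
    rw [← mem_bot_iff_intCast p L, Subfield.mem_bot_iff_pow_eq_self L p, sub_pow_char]
    have h1 : (σ z) ^ p - σ z = algebraMap K L ξ := by
      rw [← map_pow, ← map_sub, hz, σ.commutes]
    linear_combination h1 - hz
  choose c hc using key
  have htr := trace_eq_sum_automorphisms (K := K) z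
  have hσ : ∀ σ : L ≃ₐ[K] L, σ z = z + (c σ : L) := fun σ => by rw [hc σ]; ring
  have hsum : ∑ σ : L ≃ₐ[K] L, σ z =
      (Module.finrank K L : L) * z + ((∑ σ : L ≃ₐ[K] L, c σ : ℤ) : L) := by
    rw [Finset.sum_congr rfl (fun σ _ => hσ σ), Finset.sum_add_distrib, Finset.sum_const,
      Finset.card_univ, nsmul_eq_mul, ← Nat.card_eq_fintype_card,
      IsGalois.card_aut_eq_finrank, Int.cast_sum]
  have hdz : (Module.finrank K L : L) * z =
      algebraMap K L (Algebra.trace K L z - ((∑ σ : L ≃ₐ[K] L, c σ : ℤ) : K)) := by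
    rw [map_sub, map_intCast, htr, hsum]
    ring
  by_cases hpd : p ∣ Module.finrank K L
  · right
    exact Nat.le_antisymm hle (Nat.le_of_dvd hpos hpd)
  · left
    have hd0 : ((Module.finrank K L : ℕ) : K) ≠ 0 :=
      fun h => hpd ((CharP.cast_eq_zero_iff K p _).mp h)
    have hdL : ((Module.finrank K L : ℕ) : L) ≠ 0 := by
      rw [← map_natCast (algebraMap K L)]
      exact (_root_.map_ne_zero _).mpr hd0
    have hzK : z ∈ (⊥ : IntermediateField K L) := by
      rw [IntermediateField.mem_bot]
      refine ⟨((Module.finrank K L : ℕ) : K)⁻¹ *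
        (Algebra.trace K L z - ((∑ σ : L ≃ₐ[K] L, c σ : ℤ) : K)), ?_⟩
      rw [map_mul, ← hdz, map_inv₀, map_natCast, inv_mul_cancel_left₀ hdL]
    have hbot : IntermediateField.adjoin K {z} = ⊥ :=
      IntermediateField.adjoin_simple_eq_bot_iff.mpr hzK
    rw [hgen] at hbot
    exact IntermediateField.bot_eq_top_iff_finrank_eq_one.mp hbot.symm

end ASField

/-! ### The four cases -/

section Cases

variable (p : ℕ) (A K L : Type u) [CommRing A] [IsDomain A] [IsDiscreteValuationRing A]
  [Field K] [Algebra A K] [Field L] [Algebra K L] [Algebra A L]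

/-- The "fierce" case: unique dominating valuation ring, weakly unramified with purely
inseparable residue extension of degree `p`. -/
def Case4 : Prop :=
  (∃ V : ValuationSubring L, EtRam.Dominates A (algebraMap A L) V) ∧
  (∀ V V' : ValuationSubring L, EtRam.Dominates A (algebraMap A L) V →
    EtRam.Dominates A (algebraMap A L) V' → V = V') ∧
  ∀ (V : ValuationSubring L) (h : EtRam.Dominates A (algebraMap A L) V),
    letI : Algebra A V := (RingHom.codRestrict (algebraMap A L) V h.1).toAlgebra
    ∀ [IsLocalHom (algebraMap A V)],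
      EtRam.IsWeaklyUnramified A V ∧
        IsPurelyInseparable (IsLocalRing.ResidueField A) (IsLocalRing.ResidueField V) ∧
        Module.finrank (IsLocalRing.ResidueField A) (IsLocalRing.ResidueField V) = p

/-- The four-way case distinction. -/
def Cases : Prop :=
  Module.finrank K L = 1 ∨
  (EtRam.IsUnramifiedExt A (algebraMap A L) ∧ Module.finrank K L = p) ∨
  (EtRam.IsTotallyRamified A (algebraMap A L) ∧ Module.finrank K L = p) ∨
  Case4 p A L

end Cases

section AS

variable {A K L : Type u} [CommRing A] [IsDomain A] [IsDiscreteValuationRing A] [Field K]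
  [Algebra A K] [IsFractionRing A K] [Field L] [Algebra K L] [Algebra A L] [IsScalarTower A K L]
  {p : ℕ} {π : A}

theorem pas_monic (hp : p.Prime) : (X ^ p - X : A[X]).Monic := by
  apply monic_X_pow_sub
  rw [degree_X]
  exact_mod_cast hp.one_lt

theorem pas_natDegree (hp : p.Prime) : (X ^ p - X : A[X]).natDegree = p := by
  have h1 : (X : A[X]).degree < (X ^ p : A[X]).degree := by
    rw [degree_X_pow, degree_X]
    exact_mod_cast hp.one_lt
  rw [natDegree_eq_of_degree_eq (degree_sub_eq_left_of_degree_lt h1), natDegree_X_pow]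

theorem pas_eval (z : L) : eval₂ (algebraMap A L) z (X ^ p - X : A[X]) = z ^ p - z := by
  rw [eval₂_sub, eval₂_pow, eval₂_X]

theorem charP_residue (hp : p.Prime) [CharP K p] : CharP (ResidueField A) p := by
  haveI : CharP A p := (algebraMap A K).charP (IsFractionRing.injective A K) p
  rw [CharP.charP_iff_prime_eq_zero hp, ← map_natCast (IsLocalRing.residue A),
    CharP.cast_eq_zero A p, map_zero]

theorem as_caseA (hp : p.Prime) (hπ : maximalIdeal A = Ideal.span {π}) [CharP K p] (ξ : K)
    (z : L) (hz : z ^ p - z = algebraMap K L ξ) (hgen : IntermediateField.adjoin K {z} = ⊤)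
    (a₀ : A) (ha₀ : algebraMap A K a₀ = ξ) :
    Module.finrank K L = 1 ∨
      (EtRam.IsUnramifiedExt A (algebraMap A L) ∧ Module.finrank K L = p) := by
  rcases as_finrank hp ξ z hz hgen with h | h
  · exact Or.inl h
  · right
    refine ⟨?_, h⟩
    haveI : CharP (ResidueField A) p := charP_residue (K := K) hp
    have D : UNData π (X ^ p - X : A[X]) ξ a₀ z :=
      { hπ := hπ
        hP := pas_monic hp
        hdeg := by rw [pas_natDegree hp]; exact hp.pos
        hξ := ha₀
        hz := by rw [pas_eval]; exact hz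
        hgen := hgen
        hsep := by
          rw [Polynomial.map_sub, Polynomial.map_sub, Polynomial.map_pow, Polynomial.map_X,
            Polynomial.map_C]
          exact as_separable hp _ }
    exact D.isUnramifiedExt

theorem as_caseB (hp : p.Prime) (hπ : maximalIdeal A = Ideal.span {π}) (ξ : K)
    (z : L) (hz : z ^ p - z = algebraMap K L ξ) (hgen : IntermediateField.adjoin K {z} = ⊤)
    (n : ℕ) (a : Aˣ) (hn : 0 < n) (hpn : ¬ p ∣ n)
    (hξ : ξ * algebraMap A K π ^ n = algebraMap A K (a : A)) :
    EtRam.IsTotallyRamified A (algebraMap A L) ∧ Module.finrank K L = p := by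
  have D : TRData π p (X ^ p - X : A[X]) ξ z n a :=
    { hπ := hπ
      hp := hp
      hP := pas_monic hp
      hdeg := pas_natDegree hp
      hz := by rw [pas_eval]; exact hz
      hgen := hgen
      hn := hn
      hpn := hpn
      hξ := hξ }
  exact ⟨D.isTotallyRamified, D.finrank_eq⟩

theorem as_caseC (hp : p.Prime) (hπ : maximalIdeal A = Ideal.span {π}) [CharP K p] (ξ : K)
    (z : L) (hz : z ^ p - z = algebraMap K L ξ) (hgen : IntermediateField.adjoin K {z} = ⊤)
    (n : ℕ) (a : A) (hn : 0 < n) (hpn : p ∣ n)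
    (ha : ∀ r : A, IsLocalRing.residue A a ≠ IsLocalRing.residue A r ^ p)
    (hξ : ξ * algebraMap A K π ^ n = algebraMap A K a) : Case4 p A L := by
  obtain ⟨m, rfl⟩ := hpn
  have hm : 0 < m := Nat.pos_of_ne_zero (by rintro rfl; simp at hn)
  haveI : CharP (ResidueField A) p := charP_residue (K := K) hp
  have D : FIData π p (X ^ p - X : A[X]) ξ z m a :=
    { hπ := hπ
      hp := hp
      hP := pas_monic hp
      hdeg := pas_natDegree hp
      hz := by rw [pas_eval]; exact hz
      hgen := hgen
      hm := hm
      ha := ha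
      hξ := hξ }
  exact D.case4

theorem as_cases_aux (hp : p.Prime) (hπ : maximalIdeal A = Ideal.span {π}) [CharP K p] :
    ∀ (n : ℕ) (ξ : K) (z : L), z ^ p - z = algebraMap K L ξ →
      IntermediateField.adjoin K {z} = ⊤ → ∀ a : Aˣ,
      ξ * algebraMap A K π ^ n = algebraMap A K (a : A) → Cases p A K L := by
  haveI := Fact.mk hp
  haveI : CharP L p := charP_of_injective_algebraMap (algebraMap K L).injective p
  have hπK : algebraMap A K π ≠ 0 := algK_pi_ne_zero hπ
  intro n
  induction n using Nat.strong_induction_on with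
  | _ n ih =>
    intro ξ z hz hgen a hξ
    rcases Nat.eq_zero_or_pos n with hn0 | hn
    · subst hn0
      rw [pow_zero, mul_one] at hξ
      rcases as_caseA hp hπ ξ z hz hgen (a : A) hξ.symm with h | h
      · exact Or.inl h
      · exact Or.inr (Or.inl h)
    by_cases hpn : p ∣ n
    swap
    · exact Or.inr (Or.inr (Or.inl (as_caseB hp hπ ξ z hz hgen n a hn hpn hξ)))
    by_cases hres : ∃ r : A, IsLocalRing.residue A (a : A) = IsLocalRing.residue A r ^ p
    swap
    · push Not at hres
      exact Or.inr (Or.inr (Or.inr (as_caseC hp hπ ξ z hz hgen n (a : A) hn hpn hres hξ)))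
    obtain ⟨r, hr⟩ := hres
    obtain ⟨m, rfl⟩ := hpn
    have hm : 0 < m := Nat.pos_of_ne_zero (by rintro rfl; simp at hn)
    obtain ⟨N, hN⟩ : ∃ N, p * m = N + m :=
      ⟨p * m - m, (Nat.sub_add_cancel (Nat.le_mul_of_pos_left m hp.pos)).symm⟩
    have hN1 : 1 ≤ N := by
      have : 2 * m ≤ p * m := Nat.mul_le_mul_right m hp.two_le
      omega
    obtain ⟨c, hc⟩ : ∃ c : K, c = algebraMap A K r * (algebraMap A K π ^ m)⁻¹ := ⟨_, rfl⟩
    have e1 : c ^ p * algebraMap A K π ^ (p * m) = algebraMap A K r ^ p := by
      rw [hc, mul_pow, inv_pow, ← pow_mul, mul_comm m p, mul_assoc,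
        inv_mul_cancel₀ (pow_ne_zero _ hπK), mul_one]
    have e2 : c * algebraMap A K π ^ (p * m) = algebraMap A K r * algebraMap A K π ^ N := by
      rw [hc, hN, pow_add]
      field_simp
    obtain ⟨a', ha'⟩ : ∃ a' : A, a' = (a : A) - r ^ p + r * π ^ N := ⟨_, rfl⟩
    have hξ' : (ξ - (c ^ p - c)) * algebraMap A K π ^ (p * m) = algebraMap A K a' := by
      rw [sub_mul, sub_mul, hξ, e1, e2, ha', map_add, map_sub, map_mul, map_pow, map_pow]
      ring
    have hz' : (z - algebraMap K L c) ^ p - (z - algebraMap K L c) =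
        algebraMap K L (ξ - (c ^ p - c)) := by
      rw [sub_pow_char, map_sub, map_sub, map_pow]
      linear_combination hz
    have hgen' : IntermediateField.adjoin K {z - algebraMap K L c} = ⊤ := by
      rw [eq_top_iff, ← hgen, IntermediateField.adjoin_simple_le_iff]
      have h1 : z - algebraMap K L c ∈ IntermediateField.adjoin K {z - algebraMap K L c} :=
        IntermediateField.mem_adjoin_simple_self K _
      have h2 : algebraMap K L c ∈ IntermediateField.adjoin K {z - algebraMap K L c} :=
        IntermediateField.algebraMap_mem _ c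
      have h3 := add_mem h1 h2
      rwa [sub_add_cancel] at h3
    have ha'mem : a' ∈ maximalIdeal A := by
      rw [← residue_eq_zero_iff, ha', map_add, map_sub, map_mul, map_pow, map_pow, hr, sub_self,
        zero_add, (residue_eq_zero_iff π).mpr (pi_mem hπ), zero_pow (by omega), mul_zero]
    by_cases ha'0 : a' = 0
    · have hξ0 : ξ - (c ^ p - c) = 0 := by
        rw [ha'0, map_zero] at hξ'
        rcases mul_eq_zero.mp hξ' with h | h
        · exact h
        · exact absurd h (pow_ne_zero _ hπK)
      rcases as_caseA hp hπ _ _ hz' hgen' 0 (by rw [map_zero, hξ0]) with h | h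
      · exact Or.inl h
      · exact Or.inr (Or.inl h)
    obtain ⟨j, u, hu⟩ := IsDiscreteValuationRing.eq_unit_mul_pow_irreducible ha'0
      (pi_irreducible hπ)
    have hj1 : 1 ≤ j := by
      rcases Nat.eq_zero_or_pos j with hj0 | hj
      · exfalso
        rw [hj0, pow_zero, mul_one] at hu
        rw [hu] at ha'mem
        exact (mem_nonunits_iff.mp ((mem_maximalIdeal _).mp ha'mem)) u.isUnit
      · exact hj
    rw [hu, map_mul, map_pow] at hξ'
    by_cases hjn : p * m ≤ j
    · obtain ⟨e, he⟩ : ∃ e, j = e + p * m := ⟨j - p * m, (Nat.sub_add_cancel hjn).symm⟩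
      have hξe : algebraMap A K ((u : A) * π ^ e) = ξ - (c ^ p - c) := by
        rw [he, pow_add, ← mul_assoc] at hξ'
        rw [map_mul, map_pow]
        exact (mul_right_cancel₀ (pow_ne_zero _ hπK) hξ').symm
      rcases as_caseA hp hπ _ _ hz' hgen' _ hξe with h | h
      · exact Or.inl h
      · exact Or.inr (Or.inl h)
    · rw [not_le] at hjn
      obtain ⟨e, he⟩ : ∃ e, p * m = e + j := ⟨p * m - j, (Nat.sub_add_cancel hjn.le).symm⟩
      have hξe : (ξ - (c ^ p - c)) * algebraMap A K π ^ e = algebraMap A K (u : A) := by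
        rw [he, pow_add, ← mul_assoc] at hξ'
        exact mul_right_cancel₀ (pow_ne_zero _ hπK) hξ'
      exact ih e (by omega) _ _ hz' hgen' u hξe

theorem as_cases (hp : p.Prime) (hπ : maximalIdeal A = Ideal.span {π}) [CharP K p] (ξ : K)
    (z : L) (hz : z ^ p - z = algebraMap K L ξ) (hgen : IntermediateField.adjoin K {z} = ⊤) :
    Cases p A K L := by
  have hπK : algebraMap A K π ≠ 0 := algK_pi_ne_zero hπ
  by_cases hξ0 : ξ = 0
  · rcases as_caseA hp hπ ξ z hz hgen 0 (by rw [map_zero, hξ0]) with h | h
    · exact Or.inl h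
    · exact Or.inr (Or.inl h)
  obtain ⟨u, k, hk⟩ := decomp hπ ξ hξ0
  by_cases hk0 : 0 ≤ k
  · obtain ⟨n, rfl⟩ := Int.eq_ofNat_of_zero_le hk0
    rcases as_caseA hp hπ ξ z hz hgen ((u : A) * π ^ n)
      (by rw [hk, map_mul, map_pow, zpow_natCast]) with h | h
    · exact Or.inl h
    · exact Or.inr (Or.inl h)
  · rw [not_le] at hk0
    obtain ⟨n, rfl⟩ : ∃ n : ℕ, k = -(n : ℤ) := ⟨(-k).toNat, by omega⟩
    apply as_cases_aux hp hπ n ξ z hz hgen u
    rw [hk, zpow_neg, zpow_natCast, mul_assoc, inv_mul_cancel₀ (pow_ne_zero _ hπK), mul_one]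

end AS

end Groth.Agent.H8.ASK
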