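import Mathlib
import Groth.Prelude.Def_EtRam
import Groth.Agent.Lib.Helper8.ASK.AS

/-!
# Epp's char `p` step, part A: pure algebra

* the Artin–Schreier operator `wp`, and `x^(p^h) - x = ℘(x + x^p + ...)`;
* a Galois extension of degree `p` in characteristic `p` is Artin–Schreier;
* the dichotomy coming from `κ_A = ⋂ κ_B^(p^n)`;
* the normal form of an element of `L` modulo `℘(L) + B`;
* Artin–Schreier reduction over a DVR with perfect residue field.
-/

set_option autoImplicit false
universe u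

namespace Groth.Agent.H8.Epp

open IsLocalRing

section Wp

variable {R S : Type*} [CommRing R] [CommRing S] (p : ℕ)

/-- The Artin–Schreier operator. -/
def wp (x : R) : R := x ^ p - x

theorem wp_def (x : R) : wp p x = x ^ p - x := rfl

theorem wp_map (f : R →+* S) (x : R) : f (wp p x) = wp p (f x) := by
  unfold wp; rw [map_sub, map_pow]

variable [Fact p.Prime] [CharP R p]

theorem wp_zero : wp p (0 : R) = 0 := by
  unfold wp; rw [zero_pow (Fact.out : p.Prime).ne_zero, sub_zero]

theorem wp_add (x y : R) : wp p (x + y) = wp p x + wp p y := by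
  unfold wp; rw [add_pow_char]; ring

theorem wp_sub (x y : R) : wp p (x - y) = wp p x - wp p y := by
  unfold wp; rw [sub_pow_char]; ring

theorem wp_sum {ι : Type*} (s : Finset ι) (f : ι → R) :
    wp p (∑ i ∈ s, f i) = ∑ i ∈ s, wp p (f i) := by
  classical
  induction s using Finset.induction_on with
  | empty => rw [Finset.sum_empty, Finset.sum_empty, wp_zero]
  | insert a s ha ih => rw [Finset.sum_insert ha, Finset.sum_insert ha, wp_add, ih]

/-- `x + x^p + ... + x^(p^(h-1))`. -/
def sh (h : ℕ) (x : R) : R := ∑ i ∈ Finset.range h, x ^ (p ^ i)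

theorem wp_sh (h : ℕ) (x : R) : wp p (sh p h x) = x ^ (p ^ h) - x := by
  induction h with
  | zero =>
    unfold sh
    rw [Finset.range_zero, Finset.sum_empty, wp_zero, pow_zero, pow_one, sub_self]
  | succ h ih =>
    unfold sh at ih ⊢
    rw [Finset.sum_range_succ, wp_add, ih]
    unfold wp
    rw [← pow_mul, ← pow_succ]
    ring

end Wp

/-! ### Galois of degree `p` in characteristic `p` is Artin–Schreier -/

theorem exists_as_generator (p : ℕ) (hp : p.Prime) (L M : Type u) [Field L] [Field M]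
    [Algebra L M] [CharP L p] [IsGalois L M] (hdeg : Module.finrank L M = p) :
    ∃ (z : M) (ξ : L), z ^ p - z = algebraMap L M ξ ∧ IntermediateField.adjoin L {z} = ⊤ := by
  classical
  haveI := Fact.mk hp
  haveI : CharP M p := charP_of_injective_algebraMap (algebraMap L M).injective p
  haveI : FiniteDimensional L M :=
    Module.finite_of_finrank_pos (by rw [hdeg]; exact hp.pos)
  have hcard : Nat.card (M ≃ₐ[L] M) = p := by rw [IsGalois.card_aut_eq_finrank, hdeg]
  haveI : IsCyclic (M ≃ₐ[L] M) := isCyclic_of_prime_card hcard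
  obtain ⟨σ, hσ⟩ := IsCyclic.exists_generator (α := M ≃ₐ[L] M)
  have hord : orderOf σ = p := by rw [orderOf_eq_card_of_forall_mem_zpowers hσ, hcard]
  obtain ⟨θ, hθ⟩ := Algebra.trace_surjective L M 1
  obtain ⟨f, hf⟩ : ∃ f : ℕ → M, f = fun i => (σ ^ i) θ := ⟨_, rfl⟩
  have hfs : ∀ i, σ (f i) = f (i + 1) := by
    intro i
    rw [hf]
    show σ ((σ ^ i) θ) = (σ ^ (i + 1)) θ
    rw [pow_succ']
    rfl
  have hf0 : f 0 = θ := by rw [hf]; show (σ ^ 0) θ = θ; rw [pow_zero]; rfl
  have hfp : f p = θ := by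
    rw [hf]; show (σ ^ p) θ = θ
    rw [← hord, pow_orderOf_eq_one]; rfl
  have hT : ∑ i ∈ Finset.range p, f i = 1 := by
    have h1 := trace_eq_sum_automorphisms (K := L) (L := M) θ
    rw [hθ, map_one] at h1
    rw [h1, ← IsCyclic.image_range_orderOf hσ, hord, Finset.sum_image, hf]
    intro i hi j hj hij
    apply pow_injOn_Iio_orderOf (x := σ)
    · rw [hord]; exact Finset.mem_range.mp hi
    · rw [hord]; exact Finset.mem_range.mp hj
    · exact hij
  have hpM : ((p : ℕ) : M) = 0 := CharP.cast_eq_zero M p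
  -- shifted sums
  have hS1 : ∑ i ∈ Finset.range p, f (i + 1) = 1 := by
    have h1 := Finset.sum_range_succ' f p
    have h2 := Finset.sum_range_succ f p
    rw [h2, hT, hfp, hf0] at h1
    exact (add_right_cancel h1).symm
  have hS2 : ∑ i ∈ Finset.range p, (((i + 1 : ℕ) : M)) * f (i + 1) =
      ∑ i ∈ Finset.range p, ((i : ℕ) : M) * f i := by
    have h1 := Finset.sum_range_succ' (fun i => ((i : ℕ) : M) * f i) p
    have h2 := Finset.sum_range_succ (fun i => ((i : ℕ) : M) * f i) p
    rw [h2, hpM, zero_mul, add_zero] at h1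
    simp only [Nat.cast_zero, zero_mul, add_zero] at h1
    exact h1.symm
  obtain ⟨z, hz⟩ : ∃ z : M, z = -∑ i ∈ Finset.range p, ((i : ℕ) : M) * f i := ⟨_, rfl⟩
  have hσz : σ z = z + 1 := by
    have h3 : σ z = -∑ i ∈ Finset.range p, ((i : ℕ) : M) * f (i + 1) := by
      rw [hz, map_neg, map_sum]
      congr 1
      apply Finset.sum_congr rfl
      intro i _
      rw [map_mul, map_natCast, hfs]
    have h4 : ∑ i ∈ Finset.range p, ((i : ℕ) : M) * f (i + 1) =
        ∑ i ∈ Finset.range p, (((i + 1 : ℕ) : M)) * f (i + 1) -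
          ∑ i ∈ Finset.range p, f (i + 1) := by
      rw [← Finset.sum_sub_distrib]
      apply Finset.sum_congr rfl
      intro i _
      push_cast
      ring
    rw [h3, h4, hS2, hS1, hz]
    ring
  have hfix : ∀ τ : M ≃ₐ[L] M, τ (z ^ p - z) = z ^ p - z := by
    have h5 : σ (z ^ p - z) = z ^ p - z := by
      rw [map_sub, map_pow, hσz, add_pow_char, one_pow]
      ring
    have h6 : σ ∈ MulAction.stabilizer (M ≃ₐ[L] M) (z ^ p - z) := h5
    intro τ
    have h7 : τ ∈ MulAction.stabilizer (M ≃ₐ[L] M) (z ^ p - z) :=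
      (Subgroup.zpowers_le.mpr h6) (hσ τ)
    exact h7
  obtain ⟨ξ, hξ⟩ := (IsGalois.mem_range_algebraMap_iff_fixed (F := L) (E := M) (z ^ p - z)).mpr hfix
  refine ⟨z, ξ, hξ.symm, ?_⟩
  haveI := IntermediateField.isSimpleOrder_of_finrank_prime L M (by rw [hdeg]; exact hp)
  rcases eq_bot_or_eq_top (IntermediateField.adjoin L {z}) with h | h
  · exfalso
    have h8 : z ∈ (⊥ : IntermediateField L M) := by
      rw [← h]; exact IntermediateField.mem_adjoin_simple_self L z
    have h9 := (IsGalois.mem_bot_iff_fixed (F := L) (E := M) z).mp h8 σ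
    rw [hσz] at h9
    exact one_ne_zero (add_left_cancel (a := z) (by rw [h9, add_zero]))
  · exact h

/-! ### The dichotomy -/

section Dich

variable (p : ℕ) [Fact p.Prime] {A B : Type u} [CommRing A] [IsLocalRing A] [CommRing B]
  [IsLocalRing B] [Algebra A B] [IsLocalHom (algebraMap A B)]

theorem dichotomy
    (hk : ∀ x : ResidueField B, (∀ n : ℕ, ∃ y : ResidueField B, y ^ (p ^ n) = x) ↔
      x ∈ Set.range (algebraMap (ResidueField A) (ResidueField B))) (b : B) :
    (∃ a : A, b - algebraMap A B a ∈ maximalIdeal B) ∨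
      (∃ (h : ℕ) (c : B), b - c ^ (p ^ h) ∈ maximalIdeal B ∧
        ∀ d : B, c - d ^ p ∉ maximalIdeal B) := by
  classical
  by_cases hx : ∀ n : ℕ, ∃ y : ResidueField B, y ^ (p ^ n) = residue B b
  · left
    obtain ⟨x₀, hx₀⟩ := (hk _).mp hx
    obtain ⟨a, rfl⟩ := residue_surjective x₀
    refine ⟨a, ?_⟩
    rw [← residue_eq_zero_iff, map_sub, ← hx₀, ResidueField.algebraMap_residue, sub_self]
  · right
    push Not at hx
    have hex : ∃ n : ℕ, ∀ y : ResidueField B, y ^ (p ^ n) ≠ residue B b := hx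
    have hspec := Nat.find_spec hex
    have hmin := fun m (hm : m < Nat.find hex) => Nat.find_min hex hm
    obtain ⟨n₀, hn₀⟩ : ∃ n₀, n₀ = Nat.find hex := ⟨_, rfl⟩
    rw [← hn₀] at hspec hmin
    rcases Nat.eq_zero_or_pos n₀ with h0 | hpos
    · exfalso
      rw [h0] at hspec
      exact hspec (residue B b) (by rw [pow_zero, pow_one])
    obtain ⟨h, rfl⟩ : ∃ h, n₀ = h + 1 := ⟨n₀ - 1, by omega⟩
    have h1 := hmin h (by omega)
    push Not at h1
    obtain ⟨y, hy⟩ := h1
    obtain ⟨c, rfl⟩ := residue_surjective y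
    refine ⟨h, c, ?_, ?_⟩
    · rw [← residue_eq_zero_iff, map_sub, map_pow, hy, sub_self]
    · intro d hd
      rw [← residue_eq_zero_iff, map_sub, map_pow, sub_eq_zero] at hd
      apply hspec (residue B d)
      rw [pow_succ', pow_mul, ← hd, hy]

theorem perfect_of_hk [CharP (ResidueField B) p]
    (hk : ∀ x : ResidueField B, (∀ n : ℕ, ∃ y : ResidueField B, y ^ (p ^ n) = x) ↔
      x ∈ Set.range (algebraMap (ResidueField A) (ResidueField B))) (a : A) :
    ∃ d : A, a - d ^ p ∈ maximalIdeal A := by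
  have hroots := (hk (algebraMap (ResidueField A) (ResidueField B) (residue A a))).mpr ⟨_, rfl⟩
  obtain ⟨y, hy⟩ := hroots 1
  rw [pow_one] at hy
  have hyr : ∀ n : ℕ, ∃ w : ResidueField B, w ^ (p ^ n) = y := by
    intro n
    obtain ⟨w, hw⟩ := hroots (n + 1)
    refine ⟨w, ?_⟩
    apply frobenius_inj (ResidueField B) p
    rw [frobenius_def, frobenius_def, hy, ← hw, ← pow_mul, ← pow_succ]
  obtain ⟨y₀, hy₀⟩ := (hk y).mp hyr
  obtain ⟨d, rfl⟩ := residue_surjective y₀
  refine ⟨d, ?_⟩
  rw [← residue_eq_zero_iff, map_sub, map_pow, sub_eq_zero]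
  apply (algebraMap (ResidueField A) (ResidueField B)).injective
  rw [map_pow, hy₀, hy]

end Dich

/-! ### Normal form -/

section NF

variable {B L : Type u} [CommRing B] [IsDomain B] [IsDiscreteValuationRing B]
  [Field L] [Algebra B L] [IsFractionRing B L] (p : ℕ)

/-- The value `c^(p^h) ϖ^(-j)` of a term `(j, c, h)`. -/
def termVal (ϖ : L) (t : ℕ × B × ℕ) : L := (algebraMap B L t.2.1) ^ (p ^ t.2.2) * (ϖ⁻¹) ^ t.1

/-- The terms are reduced, of height-zero coefficient, at distinct positions `1 ≤ j ≤ n`. -/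
def IsNF (n : ℕ) (S : Finset (ℕ × B × ℕ)) : Prop :=
  (∀ t ∈ S, 1 ≤ t.1 ∧ t.1 ≤ n ∧ (¬ p ∣ t.1 ∨ t.2.2 = 0) ∧
    ∀ d : B, t.2.1 - d ^ p ∉ maximalIdeal B) ∧
  (∀ t ∈ S, ∀ t' ∈ S, t.1 = t'.1 → t = t')

variable {p}

theorem IsNF.mono {n n' : ℕ} {S : Finset (ℕ × B × ℕ)} (h : IsNF p n S) (hn : n ≤ n') :
    IsNF p n' S :=
  ⟨fun t ht => ⟨(h.1 t ht).1, (h.1 t ht).2.1.trans hn, (h.1 t ht).2.2⟩, h.2⟩

variable (p)

theorem normal_form [Fact p.Prime] [CharP L p] {A K : Type u} [CommRing A] [Algebra A B]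
    [Field K] [Algebra A K] [Algebra K L] [Algebra A L] [IsScalarTower A K L] [IsScalarTower A B L]
    {πA : A} (hπ : maximalIdeal B = Ideal.span {algebraMap A B πA})
    (hdich : ∀ b : B, (∃ a : A, b - algebraMap A B a ∈ maximalIdeal B) ∨
      (∃ (h : ℕ) (c : B), b - c ^ (p ^ h) ∈ maximalIdeal B ∧
        ∀ d : B, c - d ^ p ∉ maximalIdeal B)) :
    ∀ (n : ℕ) (ξ : L) (b : B), ξ * (algebraMap A L πA) ^ n = algebraMap B L b →
      ∃ (y : L) (g : K) (S : Finset (ℕ × B × ℕ)) (β : B),
        ξ = wp p y + algebraMap K L g + ∑ t ∈ S, termVal p (algebraMap A L πA) t +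
          algebraMap B L β ∧ IsNF p n S := by
  classical
  have hp : p.Prime := Fact.out
  obtain ⟨ϖ, hϖ⟩ : ∃ ϖ : L, ϖ = algebraMap A L πA := ⟨_, rfl⟩
  have hϖB : ϖ = algebraMap B L (algebraMap A B πA) := by
    rw [hϖ, ← IsScalarTower.algebraMap_apply]
  have hπ0 : algebraMap A B πA ≠ 0 := by
    intro h0
    rw [h0] at hπ
    have : maximalIdeal B = ⊥ := by rw [hπ]; exact Ideal.span_singleton_eq_bot.mpr rfl
    exact IsDiscreteValuationRing.not_a_field B this
  have hϖ0 : ϖ ≠ 0 := by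
    rw [hϖB]
    exact fun h => hπ0 ((IsFractionRing.injective B L) (by rw [h, map_zero]))
  obtain ⟨I, hI⟩ : ∃ I : L, I = ϖ⁻¹ := ⟨_, rfl⟩
  have hϖI : ϖ * I = 1 := by rw [hI]; exact mul_inv_cancel₀ hϖ0
  rw [← hϖ]
  intro n
  induction n using Nat.strong_induction_on with
  | _ n ih =>
    intro ξ b hb
    rcases Nat.eq_zero_or_pos n with hn0 | hn
    · subst hn0
      rw [pow_zero, mul_one] at hb
      refine ⟨0, 0, ∅, b, ?_, ?_⟩
      · rw [wp_zero, map_zero, Finset.sum_empty, hb]; ring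
      · exact ⟨fun t ht => absurd ht (Finset.notMem_empty t),
          fun t ht => absurd ht (Finset.notMem_empty t)⟩
    obtain ⟨m, rfl⟩ : ∃ m, n = m + 1 := ⟨n - 1, by omega⟩
    have hξ : ξ = algebraMap B L b * I ^ (m + 1) := by
      rw [← hb, mul_assoc, ← mul_pow, hϖI, one_pow, mul_one]
    rcases hdich b with ⟨a, ha⟩ | ⟨h, c, hc, hcp⟩
    · -- coefficient in `A`
      rw [hπ, Ideal.mem_span_singleton'] at ha
      obtain ⟨b', hb'⟩ := ha
      have hbL : algebraMap B L b = algebraMap B L (algebraMap A B a) + algebraMap B L b' * ϖ := by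
        rw [hϖB, ← map_mul, hb', map_sub]; ring
      have hξ' : (algebraMap B L b' * I ^ m) * ϖ ^ m = algebraMap B L b' := by
        rw [mul_assoc, ← mul_pow, mul_comm I ϖ, hϖI, one_pow, mul_one]
      obtain ⟨y, g, S, β, hrep, hS⟩ := ih m (by omega) _ b' hξ'
      refine ⟨y, g + algebraMap A K a * ((algebraMap A K πA)⁻¹) ^ (m + 1), S, β, ?_, hS.mono (by omega)⟩
      have e1 : algebraMap K L (algebraMap A K a * ((algebraMap A K πA)⁻¹) ^ (m + 1)) =
          algebraMap B L (algebraMap A B a) * I ^ (m + 1) := by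
        rw [map_mul, map_pow, map_inv₀, ← IsScalarTower.algebraMap_apply A K L,
          ← IsScalarTower.algebraMap_apply A K L, ← hϖ, ← hI,
          IsScalarTower.algebraMap_apply A B L]
      rw [map_add, e1, hξ, hbL]
      rw [pow_succ] at *
      linear_combination hrep + (algebraMap B L b' * I ^ m) * hϖI
    · rw [hπ, Ideal.mem_span_singleton'] at hc
      obtain ⟨b', hb'⟩ := hc
      have hbL : algebraMap B L b = (algebraMap B L c) ^ (p ^ h) + algebraMap B L b' * ϖ := by
        rw [hϖB, ← map_mul, hb', map_sub, map_pow]; ring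
      by_cases hmove : p ∣ (m + 1) ∧ h ≠ 0
      · -- move the term down
        obtain ⟨⟨r, hr⟩, hh⟩ := hmove
        obtain ⟨h', rfl⟩ : ∃ h', h = h' + 1 := ⟨h - 1, by omega⟩
        have hr1 : 1 ≤ r := by
          rcases Nat.eq_zero_or_pos r with h0 | h0
          · rw [h0, mul_zero] at hr; omega
          · exact h0
        have hrm : r ≤ m := by
          have : 2 * r ≤ p * r := Nat.mul_le_mul_right r hp.two_le
          omega
        obtain ⟨k, hk⟩ : ∃ k, m = k + r := ⟨m - r, by omega⟩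
        obtain ⟨X, hX⟩ : ∃ X : L, X = (algebraMap B L c) ^ (p ^ h') * I ^ r := ⟨_, rfl⟩
        have hXp : X ^ p = (algebraMap B L c) ^ (p ^ (h' + 1)) * I ^ (m + 1) := by
          rw [hX, mul_pow, ← pow_mul, ← pow_mul, ← pow_succ, hr, mul_comm r p]
        have hξ'' : (X + algebraMap B L b' * I ^ m) * ϖ ^ m =
            algebraMap B L (c ^ (p ^ h') * (algebraMap A B πA) ^ k + b') := by
          have e2 : I ^ m * ϖ ^ m = 1 := by rw [← mul_pow, mul_comm I ϖ, hϖI, one_pow]
          have e3 : I ^ r * ϖ ^ m = ϖ ^ k := by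
            rw [hk, pow_add, mul_comm (ϖ ^ k), ← mul_assoc, ← mul_pow, mul_comm I ϖ, hϖI, one_pow,
              one_mul]
          rw [map_add, map_mul, map_pow, map_pow, ← hϖB, hX]
          linear_combination (algebraMap B L b') * e2 + (algebraMap B L c) ^ (p ^ h') * e3
        obtain ⟨y, g, S, β, hrep, hS⟩ := ih m (by omega) _ _ hξ''
        refine ⟨y + X, g, S, β, ?_, hS.mono (by omega)⟩
        rw [wp_add, hξ, hbL]
        have e4 : wp p X = X ^ p - X := rfl
        rw [e4, hXp]
        rw [pow_succ I m] at *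
        linear_combination hrep + (algebraMap B L b' * I ^ m) * hϖI
      · -- keep the term
        have hξ' : (algebraMap B L b' * I ^ m) * ϖ ^ m = algebraMap B L b' := by
          rw [mul_assoc, ← mul_pow, mul_comm I ϖ, hϖI, one_pow, mul_one]
        obtain ⟨y, g, S, β, hrep, hS⟩ := ih m (by omega) _ b' hξ'
        have hnew : ((m + 1, c, h) : ℕ × B × ℕ) ∉ S := by
          intro hmem
          have := (hS.1 _ hmem).2.1
          simp only at this
          omega
        refine ⟨y, g, insert (m + 1, c, h) S, β, ?_, ?_, ?_⟩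
        · rw [Finset.sum_insert hnew, hξ, hbL]
          have e5 : termVal p ϖ ((m + 1, c, h) : ℕ × B × ℕ) =
              (algebraMap B L c) ^ (p ^ h) * I ^ (m + 1) := by
            unfold termVal
            rw [hI]
          rw [e5]
          rw [pow_succ I m] at *
          linear_combination hrep + (algebraMap B L b' * I ^ m) * hϖI
        · intro t ht
          rcases Finset.mem_insert.mp ht with rfl | ht
          · refine ⟨by omega, le_rfl, ?_, hcp⟩
            by_contra hcon
            push Not at hcon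
            exact hmove ⟨hcon.1, hcon.2⟩
          · exact ⟨(hS.1 t ht).1, by have := (hS.1 t ht).2.1; omega, (hS.1 t ht).2.2⟩
        · intro t ht t' ht' htt
          rcases Finset.mem_insert.mp ht with rfl | ht
          · rcases Finset.mem_insert.mp ht' with rfl | ht'
            · rfl
            · have := (hS.1 t' ht').2.1
              simp only at htt
              omega
          · rcases Finset.mem_insert.mp ht' with rfl | ht'
            · have := (hS.1 t ht).2.1
              simp only at htt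
              omega
            · exact hS.2 t ht t' ht' htt

end NF

/-! ### Artin–Schreier reduction over a perfect residue field -/

section Perf

variable {R F : Type u} [CommRing R] [IsDomain R] [IsDiscreteValuationRing R] [Field F]
  [Algebra R F] [IsFractionRing R F] (p : ℕ) [Fact p.Prime] [CharP F p]

theorem as_reduce_perfect_aux {ϖ : R} (hϖ : maximalIdeal R = Ideal.span {ϖ})
    (hperf : ∀ a : R, ∃ d : R, a - d ^ p ∈ maximalIdeal R) :
    ∀ (n : ℕ) (g : F) (a : R), g * (algebraMap R F ϖ) ^ n = algebraMap R F a →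
      ∃ y : F, (∃ a₀ : R, g - wp p y = algebraMap R F a₀) ∨
        (∃ (r : ℕ) (u : Rˣ), 0 < r ∧ ¬ p ∣ r ∧
          (g - wp p y) * (algebraMap R F ϖ) ^ r = algebraMap R F (u : R)) := by
  have hp : p.Prime := Fact.out
  obtain ⟨P, hP⟩ : ∃ P : F, P = algebraMap R F ϖ := ⟨_, rfl⟩
  have hP0 : P ≠ 0 := by rw [hP]; exact ASK.algK_pi_ne_zero hϖ
  obtain ⟨I, hI⟩ : ∃ I : F, I = P⁻¹ := ⟨_, rfl⟩
  have hPI : P * I = 1 := by rw [hI]; exact mul_inv_cancel₀ hP0
  rw [← hP]
  intro n
  induction n using Nat.strong_induction_on with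
  | _ n ih =>
    intro g a ha
    rcases Nat.eq_zero_or_pos n with hn0 | hn
    · subst hn0
      rw [pow_zero, mul_one] at ha
      exact ⟨0, Or.inl ⟨a, by rw [wp_zero, sub_zero, ha]⟩⟩
    obtain ⟨m, rfl⟩ : ∃ m, n = m + 1 := ⟨n - 1, by omega⟩
    have hg : g = algebraMap R F a * I ^ (m + 1) := by
      rw [← ha, mul_assoc, ← mul_pow, hPI, one_pow, mul_one]
    by_cases hau : IsUnit a
    swap
    · have ham : a ∈ maximalIdeal R := (mem_maximalIdeal a).mpr (mem_nonunits_iff.mpr hau)
      rw [hϖ, Ideal.mem_span_singleton'] at ham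
      obtain ⟨a', ha'⟩ := ham
      have h1 : g * P ^ m = algebraMap R F a' := by
        rw [hg, ← ha', map_mul, ← hP, pow_succ]
        have e2 : I ^ m * P ^ m = 1 := by rw [← mul_pow, mul_comm I P, hPI, one_pow]
        linear_combination (algebraMap R F a' * P * I) * e2 + (algebraMap R F a') * hPI
      exact ih m (by omega) g a' h1
    by_cases hpn : p ∣ m + 1
    swap
    · exact ⟨0, Or.inr ⟨m + 1, hau.unit, by omega, hpn, by
        rw [wp_zero, sub_zero, ha]; rfl⟩⟩
    obtain ⟨r, hr⟩ := hpn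
    have hr1 : 1 ≤ r := by
      rcases Nat.eq_zero_or_pos r with h0 | h0
      · rw [h0, mul_zero] at hr; omega
      · exact h0
    have hrm : r ≤ m := by
      have : 2 * r ≤ p * r := Nat.mul_le_mul_right r hp.two_le
      omega
    obtain ⟨k, hk⟩ : ∃ k, m = k + r := ⟨m - r, by omega⟩
    obtain ⟨d, hd⟩ := hperf a
    rw [hϖ, Ideal.mem_span_singleton'] at hd
    obtain ⟨a', ha'⟩ := hd
    have haF : algebraMap R F a = (algebraMap R F d) ^ p + algebraMap R F a' * P := by
      rw [hP, ← map_mul, ha', map_sub, map_pow]; ring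
    obtain ⟨X, hX⟩ : ∃ X : F, X = algebraMap R F d * I ^ r := ⟨_, rfl⟩
    have hXp : X ^ p = (algebraMap R F d) ^ p * I ^ (m + 1) := by
      rw [hX, mul_pow, ← pow_mul, hr, mul_comm r p]
    have h1 : (X + algebraMap R F a' * I ^ m) * P ^ m =
        algebraMap R F (d * ϖ ^ k + a') := by
      have e2 : I ^ m * P ^ m = 1 := by rw [← mul_pow, mul_comm I P, hPI, one_pow]
      have e3 : I ^ r * P ^ m = P ^ k := by
        rw [hk, pow_add, mul_comm (P ^ k), ← mul_assoc, ← mul_pow, mul_comm I P, hPI, one_pow,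
          one_mul]
      rw [map_add, map_mul, map_pow, ← hP, hX]
      linear_combination (algebraMap R F a') * e2 + (algebraMap R F d) * e3
    obtain ⟨y, hy⟩ := ih m (by omega) _ _ h1
    refine ⟨y + X, ?_⟩
    have hkey : g - wp p (y + X) = (X + algebraMap R F a' * I ^ m) - wp p y := by
      rw [wp_add, hg, haF]
      have e4 : wp p X = X ^ p - X := rfl
      rw [e4, hXp, pow_succ I m]
      linear_combination (algebraMap R F a' * I ^ m) * hPI
    rw [hkey]
    exact hy

theorem as_reduce_perfect {ϖ : R} (hϖ : maximalIdeal R = Ideal.span {ϖ})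
    (hperf : ∀ a : R, ∃ d : R, a - d ^ p ∈ maximalIdeal R) (g : F) :
    ∃ y : F, (∃ a₀ : R, g - wp p y = algebraMap R F a₀) ∨
      (∃ (r : ℕ) (u : Rˣ), 0 < r ∧ ¬ p ∣ r ∧
        (g - wp p y) * (algebraMap R F ϖ) ^ r = algebraMap R F (u : R)) := by
  have hP0 : algebraMap R F ϖ ≠ 0 := ASK.algK_pi_ne_zero hϖ
  by_cases hg0 : g = 0
  · exact ⟨0, Or.inl ⟨0, by rw [hg0, wp_zero, sub_zero, map_zero]⟩⟩
  obtain ⟨u, k, hk⟩ := ASK.decomp hϖ g hg0
  by_cases hk0 : 0 ≤ k
  · obtain ⟨n, rfl⟩ := Int.eq_ofNat_of_zero_le hk0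
    exact ⟨0, Or.inl ⟨(u : R) * ϖ ^ n, by
      rw [wp_zero, sub_zero, hk, zpow_natCast, map_mul, map_pow]⟩⟩
  · rw [not_le] at hk0
    obtain ⟨n, rfl⟩ : ∃ n : ℕ, k = -(n : ℤ) := ⟨(-k).toNat, by omega⟩
    apply as_reduce_perfect_aux p hϖ hperf n g (u : R)
    rw [hk, zpow_neg, zpow_natCast, mul_assoc, inv_mul_cancel₀ (pow_ne_zero _ hP0), mul_one]

end Perf

end Groth.Agent.H8.Epp
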