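import Mathlib
import Groth.Prelude.Def_EtRam
import Groth.Agent.Lib.Helper8.ASK.TotRamSol

/-!
# Epp's char `p` step, part B: the structure of a compositum `L·K₂` with `K₂/K` totally ramified
-/

set_option autoImplicit false
universe u

namespace Groth.Agent.H8.Epp

open IsLocalRing

section Comp

variable {B L M : Type u} [CommRing B] [IsDomain B] [IsDiscreteValuationRing B] [Field L]
  [Algebra B L] [IsFractionRing B L] [Field M] [Algebra L M] [Algebra B M] [IsScalarTower B L M]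

/-- A refinement of `RI.comp_core` exporting the valuation of each summand. -/
theorem comp_core' {πB : B} (hπB : maximalIdeal B = Ideal.span {πB}) {W : ValuationSubring M}
    (hW : EtRam.Dominates B (algebraMap B M) W) {z : M} {e : ℕ} (he : e ≠ 0)
    (hz : W.valuation z ^ e = W.valuation (algebraMap B M πB)) (c : Fin e → L) :
    (∀ i, W.valuation (c i • z ^ (i : ℕ)) ≤ W.valuation (∑ i, c i • z ^ (i : ℕ))) ∧
    ((∑ i, c i • z ^ (i : ℕ)) ≠ 0 →
      ∃ m : ℤ, W.valuation (∑ i, c i • z ^ (i : ℕ)) = W.valuation z ^ m) ∧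
    (∀ i : Fin e, (i : ℕ) ≠ 0 → W.valuation (c i • z ^ (i : ℕ)) ≤ 1 →
      W.valuation (c i • z ^ (i : ℕ)) < 1) := by
  classical
  have hinjB : Function.Injective (algebraMap B M) := ASK.algebraMap_inj B L M
  have hπpos : 0 < W.valuation (algebraMap B M πB) := ASK.val_pi_pos hπB hinjB
  have hπlt : W.valuation (algebraMap B M πB) < 1 := ASK.val_pi_lt_one hπB hW
  have hτ0 : W.valuation z ≠ 0 := by
    intro h
    rw [h, zero_pow he] at hz
    exact (ne_of_lt hπpos) hz
  have hτpos : 0 < W.valuation z := zero_lt_iff.mpr hτ0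
  have hτlt : W.valuation z < 1 := by
    by_contra h
    have h1 : 1 ≤ W.valuation z := not_lt.mp h
    have h2 : 1 ≤ W.valuation z ^ e := one_le_pow₀ h1
    rw [hz] at h2
    exact absurd hπlt (not_lt.mpr h2)
  have hz0 : z ≠ 0 := (Valuation.ne_zero_iff _).mp hτ0
  have hvalL : ∀ l : L, l ≠ 0 →
      ∃ k : ℤ, W.valuation (algebraMap L M l) = W.valuation z ^ ((e : ℤ) * k) := by
    intro l hl
    obtain ⟨u, k, hk⟩ := ASK.decomp hπB l hl
    refine ⟨k, ?_⟩
    rw [ASK.val_K hW l u k hk, ← hz, ← zpow_natCast, ← zpow_mul]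
  have hterm : ∀ i : Fin e, c i ≠ 0 → ∃ k : ℤ,
      W.valuation (c i • z ^ (i : ℕ)) = W.valuation z ^ ((e : ℤ) * k + ((i : ℕ) : ℤ)) := by
    intro i hi
    obtain ⟨k, hk⟩ := hvalL (c i) hi
    refine ⟨k, ?_⟩
    rw [Algebra.smul_def, map_mul, map_pow, hk, zpow_add₀ hτ0, zpow_natCast]
  have hd : ∀ i ∈ (Finset.univ : Finset (Fin e)), ∀ j ∈ (Finset.univ : Finset (Fin e)), i ≠ j →
      c j • z ^ (j : ℕ) ≠ 0 →
      W.valuation (c i • z ^ (i : ℕ)) ≠ W.valuation (c j • z ^ (j : ℕ)) := by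
    intro i _ j _ hij hj0 heq
    have hcj : c j ≠ 0 := by
      intro h
      rw [h, zero_smul] at hj0
      exact hj0 rfl
    by_cases hci : c i = 0
    · rw [hci, zero_smul, map_zero] at heq
      exact hj0 ((Valuation.zero_iff _).mp heq.symm)
    · obtain ⟨k, hk⟩ := hterm i hci
      obtain ⟨k', hk'⟩ := hterm j hcj
      rw [hk, hk'] at heq
      have h3 : (e : ℤ) * k + ((i : ℕ) : ℤ) = (e : ℤ) * k' + ((j : ℕ) : ℤ) :=
        zpow_right_injective₀ hτpos (ne_of_lt hτlt) heq
      apply hij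
      apply Fin.ext
      have h6 : ((i : ℕ) : ℤ) + (e : ℤ) * k = ((j : ℕ) : ℤ) + (e : ℤ) * k' := by
        rw [add_comm, h3, add_comm]
      have h7 : (((i : ℕ) : ℤ) + (e : ℤ) * k) % (e : ℤ) =
          (((j : ℕ) : ℤ) + (e : ℤ) * k') % (e : ℤ) := by rw [h6]
      rw [Int.add_mul_emod_self_left, Int.add_mul_emod_self_left,
        Int.emod_eq_of_lt (Int.natCast_nonneg _) (by exact_mod_cast i.2),
        Int.emod_eq_of_lt (Int.natCast_nonneg _) (by exact_mod_cast j.2)] at h7
      exact_mod_cast h7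
  have hle := ASK.val_le_sum W.valuation Finset.univ (fun i : Fin e => c i • z ^ (i : ℕ)) hd
  refine ⟨fun i => hle i (Finset.mem_univ i), ?_, ?_⟩
  · intro hne
    obtain ⟨j, -, hmax⟩ := Finset.exists_max_image Finset.univ
      (fun i : Fin e => W.valuation (c i • z ^ (i : ℕ)))
      ⟨⟨0, Nat.pos_of_ne_zero he⟩, Finset.mem_univ _⟩
    have hub : W.valuation (∑ i, c i • z ^ (i : ℕ)) ≤ W.valuation (c j • z ^ (j : ℕ)) :=
      Valuation.map_sum_le _ (fun i hi => hmax i hi)
    have heq : W.valuation (∑ i, c i • z ^ (i : ℕ)) = W.valuation (c j • z ^ (j : ℕ)) :=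
      le_antisymm hub (hle j (Finset.mem_univ j))
    have hcj : c j ≠ 0 := by
      intro h
      rw [h, zero_smul, map_zero] at heq
      exact hne ((Valuation.zero_iff _).mp heq)
    obtain ⟨k, hk⟩ := hterm j hcj
    exact ⟨_, heq.trans hk⟩
  · intro i hi0 hi1
    by_cases hci : c i = 0
    · rw [hci, zero_smul, map_zero]
      exact zero_lt_one
    · obtain ⟨k, hk⟩ := hterm i hci
      refine lt_of_le_of_ne hi1 ?_
      rw [hk]
      intro h1
      have h2 : W.valuation z ^ ((e : ℤ) * k + ((i : ℕ) : ℤ)) = W.valuation z ^ (0 : ℤ) := by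
        rw [h1, zpow_zero]
      have h3 : (e : ℤ) * k + ((i : ℕ) : ℤ) = 0 :=
        zpow_right_injective₀ hτpos (ne_of_lt hτlt) h2
      have h4 : (((i : ℕ) : ℤ) + (e : ℤ) * k) % (e : ℤ) = 0 % (e : ℤ) := by
        rw [add_comm, h3]
      rw [Int.add_mul_emod_self_left,
        Int.emod_eq_of_lt (Int.natCast_nonneg _) (by exact_mod_cast i.2), Int.zero_emod] at h4
      exact hi0 (by exact_mod_cast h4)

end Comp

section Struct

/-- Compatibility of the two paths from `A` to the compositum. -/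
theorem compat (A B K L K₂ Λ : Type u) [CommRing A] [CommRing B] [Algebra A B]
    [Field K] [Field L] [Algebra A K] [Algebra B L] [Algebra K L] [Algebra A L]
    [IsScalarTower A K L] [IsScalarTower A B L] [Field K₂] [Algebra K K₂] [Algebra A K₂]
    [IsScalarTower A K K₂] [Field Λ] [Algebra K Λ] [Algebra L Λ] [Algebra K₂ Λ]
    [IsScalarTower K L Λ] [IsScalarTower K K₂ Λ] (a : A) :
    algebraMap K₂ Λ (algebraMap A K₂ a) = algebraMap L Λ (algebraMap B L (algebraMap A B a)) := by
  rw [IsScalarTower.algebraMap_apply A K K₂, ← IsScalarTower.algebraMap_apply K K₂ Λ,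
    IsScalarTower.algebraMap_apply K L Λ, ← IsScalarTower.algebraMap_apply A K L,
    ← IsScalarTower.algebraMap_apply A B L]

theorem dominates_A (A B K L K₂ Λ : Type u) [CommRing A] [CommRing B] [Algebra A B]
    [IsLocalRing A] [IsLocalRing B] [IsLocalHom (algebraMap A B)]
    [Field K] [Field L] [Algebra A K] [Algebra B L] [Algebra K L] [Algebra A L]
    [IsScalarTower A K L] [IsScalarTower A B L] [Field K₂] [Algebra K K₂] [Algebra A K₂]
    [IsScalarTower A K K₂] [Field Λ] [Algebra K Λ] [Algebra L Λ] [Algebra K₂ Λ]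
    [IsScalarTower K L Λ] [IsScalarTower K K₂ Λ] (W : ValuationSubring Λ)
    (hW : EtRam.Dominates B ((algebraMap L Λ).comp (algebraMap B L)) W) :
    EtRam.Dominates A (algebraMap A K₂) (W.comap (algebraMap K₂ Λ)) := by
  apply RI.dominates_comap_of_comp
  refine ⟨fun a => ?_, fun a ha => ?_⟩
  · show algebraMap K₂ Λ (algebraMap A K₂ a) ∈ W
    rw [compat A B K L K₂ Λ]; exact hW.1 _
  · show W.valuation (algebraMap K₂ Λ (algebraMap A K₂ a)) < 1
    rw [compat A B K L K₂ Λ]
    apply hW.2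
    rw [mem_maximalIdeal, mem_nonunits_iff] at ha ⊢
    exact fun h => ha (isUnit_of_map_unit (algebraMap A B) a h)

theorem compositum_structure (A B K L K₂ Λ : Type u) [CommRing A] [IsDomain A]
    [IsDiscreteValuationRing A]
    [CommRing B] [IsDomain B] [IsDiscreteValuationRing B] [Algebra A B] [IsLocalHom (algebraMap A B)]
    [Field K] [Field L] [Algebra A K] [IsFractionRing A K] [Algebra B L] [IsFractionRing B L]
    [Algebra K L] [Algebra A L] [IsScalarTower A K L] [IsScalarTower A B L]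
    [Field K₂] [Algebra K K₂] [Algebra A K₂] [IsScalarTower A K K₂]
    [FiniteDimensional K K₂] [Algebra.IsSeparable K K₂]
    [Field Λ] [Algebra K Λ] [Algebra L Λ] [Algebra K₂ Λ] [IsScalarTower K L Λ]
    [IsScalarTower K K₂ Λ] (hw : EtRam.IsWeaklyUnramified A B)
    (ht : EtRam.IsTotallyRamified A (algebraMap A K₂))
    (hgen : Algebra.adjoin L (Set.range (algebraMap K₂ Λ)) = ⊤)
    (W : ValuationSubring Λ)
    (hW : EtRam.Dominates B ((algebraMap L Λ).comp (algebraMap B L)) W) :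
    FiniteDimensional L Λ ∧
    ∃ x₂ : K₂, W.valuation (algebraMap K₂ Λ x₂) < 1 ∧
      (∀ y : Λ, W.valuation y < 1 → W.valuation y ≤ W.valuation (algebraMap K₂ Λ x₂)) ∧
      (∀ y : Λ, y ≠ 0 → ∃ m : ℤ, W.valuation y = W.valuation (algebraMap K₂ Λ x₂) ^ m) ∧
      (∀ y : Λ, W.valuation y ≤ 1 →
        ∃ b : B, W.valuation (y - algebraMap L Λ (algebraMap B L b)) < 1) := by
  classical
  obtain ⟨π, hπirr⟩ := IsDiscreteValuationRing.exists_irreducible A
  have hπ : maximalIdeal A = Ideal.span {π} := hπirr.maximalIdeal_eq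
  have hπB : maximalIdeal B = Ideal.span {algebraMap A B π} := by
    have h1 : (maximalIdeal A).map (algebraMap A B) = maximalIdeal B := hw
    rw [← h1, hπ, Ideal.map_span, Set.image_singleton]
  obtain ⟨x₁, e, he, hval, hspan⟩ := RI.totRam_structure (K := K) hπ ht
  letI algBM : Algebra B Λ := ((algebraMap L Λ).comp (algebraMap B L)).toAlgebra
  haveI : IsScalarTower B L Λ := IsScalarTower.of_algebraMap_eq (fun _ => rfl)
  have hW' : EtRam.Dominates B (algebraMap B Λ) W := hW
  have hdomA := dominates_A A B K L K₂ Λ W hW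
  have hz : W.valuation (algebraMap K₂ Λ x₁) ^ e =
      W.valuation (algebraMap B Λ (algebraMap A B π)) := by
    have h1 := hval _ hdomA
    rw [← map_pow] at h1
    have h2 := (RI.isEquiv_comap W (algebraMap K₂ Λ)).eq_iff.mp h1
    rw [Valuation.comap_apply, Valuation.comap_apply, map_pow, map_pow,
      compat A B K L K₂ Λ] at h2
    exact h2.symm
  have hrepr := RI.span_pow_eq_top hgen hspan
  have hcc := comp_core' (L := L) hπB hW' he hz
  obtain ⟨hlt, hle, -⟩ := RI.comp_core (L := L) hπB hW' he hz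
  refine ⟨?_, x₁, hlt, ?_, ?_, ?_⟩
  · -- finite dimensionality
    have hsurj : Function.Surjective
        (Fintype.linearCombination L (fun i : Fin e => (algebraMap K₂ Λ x₁) ^ (i : ℕ))) := by
      intro y
      obtain ⟨c, hc⟩ := hrepr y
      exact ⟨c, by rw [Fintype.linearCombination_apply, hc]⟩
    exact Module.Finite.of_surjective _ hsurj
  · intro y hy
    obtain ⟨c, rfl⟩ := hrepr y
    exact hle c hy
  · intro y hy
    obtain ⟨c, rfl⟩ := hrepr y
    exact (hcc c).2.1 hy
  · intro y hy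
    obtain ⟨c, rfl⟩ := hrepr y
    obtain ⟨h1, -, h3⟩ := hcc c
    have i0 : Fin e := ⟨0, Nat.pos_of_ne_zero he⟩
    have hrest : W.valuation (∑ i ∈ Finset.univ.erase (⟨0, Nat.pos_of_ne_zero he⟩ : Fin e),
        c i • (algebraMap K₂ Λ x₁) ^ (i : ℕ)) < 1 := by
      apply Valuation.map_sum_lt _ one_ne_zero
      intro i hi
      have hi0 : (i : ℕ) ≠ 0 := by
        intro h
        exact (Finset.mem_erase.mp hi).1 (Fin.ext h)
      exact h3 i hi0 ((h1 i).trans hy)
    have hsplit : ∑ i, c i • (algebraMap K₂ Λ x₁) ^ (i : ℕ) =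
        algebraMap L Λ (c ⟨0, Nat.pos_of_ne_zero he⟩) +
          ∑ i ∈ Finset.univ.erase (⟨0, Nat.pos_of_ne_zero he⟩ : Fin e),
            c i • (algebraMap K₂ Λ x₁) ^ (i : ℕ) := by
      rw [← Finset.add_sum_erase _ _ (Finset.mem_univ (⟨0, Nat.pos_of_ne_zero he⟩ : Fin e))]
      congr 1
      rw [Algebra.smul_def]
      show _ * (algebraMap K₂ Λ x₁) ^ 0 = _
      rw [pow_zero, mul_one]
    have hc0 : W.valuation (algebraMap L Λ (c ⟨0, Nat.pos_of_ne_zero he⟩)) ≤ 1 := by
      have h5 := h1 ⟨0, Nat.pos_of_ne_zero he⟩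
      rw [Algebra.smul_def] at h5
      have h6 : algebraMap L Λ (c ⟨0, Nat.pos_of_ne_zero he⟩) *
          (algebraMap K₂ Λ x₁) ^ ((⟨0, Nat.pos_of_ne_zero he⟩ : Fin e) : ℕ) =
          algebraMap L Λ (c ⟨0, Nat.pos_of_ne_zero he⟩) := by
        show _ * (algebraMap K₂ Λ x₁) ^ 0 = _
        rw [pow_zero, mul_one]
      rw [h6] at h5
      exact h5.trans hy
    obtain ⟨b, hb⟩ := ASK.mem_of_val_le_one hπB hW' _ hc0
    refine ⟨b, ?_⟩
    rw [hb, hsplit, add_sub_cancel_left]
    exact hrest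

end Struct

end Groth.Agent.H8.Epp
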