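import Groth.Agent.Lib.Helper8.ASK.Dom

set_option autoImplicit false
universe u

namespace Groth.Agent.H8.ASK

open IsLocalRing Polynomial

section TR

variable {A K L : Type u} [CommRing A] [IsDomain A] [IsDiscreteValuationRing A] [Field K]
  [Algebra A K] [IsFractionRing A K] [Field L] [Algebra K L] [Algebra A L] [IsScalarTower A K L]

theorem eval₂_monic_eq {P : A[X]} (hP : P.Monic) {p : ℕ} (hdeg : P.natDegree = p) (z : L) :
    eval₂ (algebraMap A L) z P =
      z ^ p + ∑ i ∈ Finset.range p, algebraMap A L (P.coeff i) * z ^ i := by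
  have hsum := hP.as_sum
  rw [hdeg] at hsum
  conv_lhs => rw [hsum]
  rw [eval₂_add, eval₂_pow, eval₂_X, eval₂_finset_sum]
  congr 1
  refine Finset.sum_congr rfl (fun i _ => ?_)
  rw [eval₂_mul, eval₂_C, eval₂_pow, eval₂_X]

/-- Hypotheses of the totally ramified case. -/
structure TRData (π : A) (p : ℕ) (P : A[X]) (ξ : K) (z : L) (n : ℕ) (a : Aˣ) : Prop where
  hπ : maximalIdeal A = Ideal.span {π}
  hp : p.Prime
  hP : P.Monic
  hdeg : P.natDegree = p
  hz : eval₂ (algebraMap A L) z P = algebraMap K L ξ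
  hgen : IntermediateField.adjoin K {z} = ⊤
  hn : 0 < n
  hpn : ¬ p ∣ n
  hξ : ξ * algebraMap A K π ^ n = algebraMap A K (a : A)

variable {π : A} {p : ℕ} {P : A[X]} {ξ : K} {z : L} {n : ℕ} {a : Aˣ} {V : ValuationSubring L}

namespace TRData

theorem xi_eq (D : TRData π p P ξ z n a) :
    ξ = algebraMap A K (a : A) * (algebraMap A K π) ^ (-(n : ℤ)) := by
  have h0 := algK_pi_ne_zero (K := K) D.hπ
  rw [zpow_neg, zpow_natCast, ← D.hξ]
  field_simp

theorem val_xi (D : TRData π p P ξ z n a) (hV : EtRam.Dominates A (algebraMap A L) V) :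
    V.valuation (algebraMap K L ξ) = V.valuation (algebraMap A L π) ^ (-(n : ℤ)) :=
  val_K hV ξ a _ D.xi_eq

theorem val_z (D : TRData π p P ξ z n a) (hV : EtRam.Dominates A (algebraMap A L) V) :
    1 < V.valuation z ∧ V.valuation z ^ p = V.valuation (algebraMap A L π) ^ (-(n : ℤ)) := by
  have hτ0 := val_pi_pos (V := V) D.hπ (algebraMap_inj A K L)
  have hτ1 := val_pi_lt_one D.hπ hV
  have h1 : 1 < V.valuation (eval₂ (algebraMap A L) z P) := by
    rw [D.hz, D.val_xi hV]
    exact one_lt_zpow_of_neg₀ hτ0 hτ1 (by have := D.hn; omega)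
  have h2 := one_lt_val_of_eval hV P z h1
  refine ⟨h2, ?_⟩
  rw [← val_eval_of_one_lt hV D.hP D.hdeg z h2, D.hz, D.val_xi hV]

theorem z_ne_zero (D : TRData π p P ξ z n a) : z ≠ 0 := by
  obtain ⟨V, hV⟩ := exists_dominates (algebraMap_inj A K L)
  intro h
  have := (D.val_z hV).1
  rw [h, map_zero] at this
  exact not_lt_zero' this

theorem term_pow (D : TRData π p P ξ z n a) (hV : EtRam.Dominates A (algebraMap A L) V)
    (c : K) (i : ℕ) :
    V.valuation (algebraMap K L c * z ^ i) ^ p =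
      V.valuation (algebraMap K L (c ^ p * ξ ^ i)) := by
  rw [map_mul, map_pow, mul_pow, ← pow_mul, mul_comm i p, pow_mul, (D.val_z hV).2,
    ← D.val_xi hV, map_mul (algebraMap K L), map_pow (algebraMap K L),
    map_pow (algebraMap K L), map_mul, map_pow, map_pow]

theorem term_pow_zpow (D : TRData π p P ξ z n a) (hV : EtRam.Dominates A (algebraMap A L) V)
    (c : K) (hc : c ≠ 0) (i : ℕ) :
    ∃ k : ℤ, V.valuation (algebraMap K L c * z ^ i) ^ p =
      V.valuation (algebraMap A L π) ^ (k * p - n * i) := by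
  obtain ⟨u, k, hk⟩ := decomp D.hπ c hc
  refine ⟨k, ?_⟩
  have hτ0 := val_pi_pos (V := V) D.hπ (algebraMap_inj A K L)
  rw [map_mul, map_pow, mul_pow, ← pow_mul, mul_comm i p, pow_mul, (D.val_z hV).2,
    val_K hV c u k hk, zpow_pow_nat, zpow_pow_nat, ← zpow_add₀ hτ0.ne']
  congr 1
  ring

theorem distinct (D : TRData π p P ξ z n a) (hV : EtRam.Dominates A (algebraMap A L) V)
    (c c' : K) (hc : c ≠ 0) (hc' : c' ≠ 0) (i j : ℕ) (hi : i < p) (hj : j < p)
    (h : V.valuation (algebraMap K L c * z ^ i) = V.valuation (algebraMap K L c' * z ^ j)) :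
    i = j := by
  have hτ0 := val_pi_pos (V := V) D.hπ (algebraMap_inj A K L)
  have hτ1 := val_pi_lt_one D.hπ hV
  obtain ⟨k, hk⟩ := D.term_pow_zpow hV c hc i
  obtain ⟨k', hk'⟩ := D.term_pow_zpow hV c' hc' j
  rw [h, hk'] at hk
  have hexp : k' * p - n * j = k * p - n * i := (zpow_right_inj₀ hτ0 hτ1.ne).mp hk
  have hdvd : (p : ℤ) ∣ (n : ℤ) * ((i : ℤ) - j) := ⟨k - k', by linear_combination hexp⟩
  rcases (Nat.prime_iff_prime_int.mp D.hp).dvd_or_dvd hdvd with h1 | h1
  · exact absurd (Int.natCast_dvd_natCast.mp h1) D.hpn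
  · have h2 := Int.eq_zero_of_abs_lt_dvd h1 (by rw [abs_lt]; constructor <;> omega)
    omega

theorem term_lt_one (D : TRData π p P ξ z n a) (hV : EtRam.Dominates A (algebraMap A L) V)
    (c : K) (i : ℕ) (hi0 : 0 < i) (hi : i < p)
    (h : V.valuation (algebraMap K L c * z ^ i) ≤ 1) :
    V.valuation (algebraMap K L c * z ^ i) < 1 := by
  have hτ1 := val_pi_lt_one D.hπ hV
  rcases lt_or_eq_of_le h with h | h
  · exact h
  exfalso
  by_cases hc : c = 0
  · rw [hc, map_zero, zero_mul, map_zero] at h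
    exact zero_ne_one h
  obtain ⟨k, hk⟩ := D.term_pow_zpow hV c hc i
  rw [h, one_pow] at hk
  have hexp : k * p - n * i = 0 := (zpow_eq_one_iff_right₀ zero_le' hτ1.ne).mp hk.symm
  have hdvd : (p : ℤ) ∣ (n : ℤ) * i := ⟨k, by linear_combination -hexp⟩
  rcases (Nat.prime_iff_prime_int.mp D.hp).dvd_or_dvd hdvd with h1 | h1
  · exact D.hpn (Int.natCast_dvd_natCast.mp h1)
  · have := Int.natCast_dvd_natCast.mp h1
    exact absurd (Nat.le_of_dvd hi0 this) (not_le.mpr hi)

theorem val_term_le (D : TRData π p P ξ z n a) (hV : EtRam.Dominates A (algebraMap A L) V)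
    (c : ℕ → K) : ∀ i ∈ Finset.range p, V.valuation (algebraMap K L (c i) * z ^ i) ≤
      V.valuation (∑ i ∈ Finset.range p, algebraMap K L (c i) * z ^ i) := by
  refine val_le_sum V.valuation (Finset.range p) (fun i => algebraMap K L (c i) * z ^ i) ?_
  intro i hi j hj hij hfj heq
  have hfj' : algebraMap K L (c j) * z ^ j ≠ 0 := hfj
  have heq' : V.valuation (algebraMap K L (c i) * z ^ i) =
      V.valuation (algebraMap K L (c j) * z ^ j) := heq
  have hcj : c j ≠ 0 := by
    intro h
    apply hfj'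
    rw [h, map_zero, zero_mul]
  by_cases hci : c i = 0
  · rw [hci, map_zero, zero_mul, map_zero] at heq'
    exact hfj' ((Valuation.zero_iff _).mp heq'.symm)
  · exact hij (D.distinct hV (c i) (c j) hci hcj i j (Finset.mem_range.mp hi)
      (Finset.mem_range.mp hj) heq')

theorem mem_iff (D : TRData π p P ξ z n a) (hV : EtRam.Dominates A (algebraMap A L) V)
    (c : ℕ → K) : (∑ i ∈ Finset.range p, algebraMap K L (c i) * z ^ i) ∈ V ↔
      ∀ i ∈ Finset.range p, ∃ b : A, algebraMap A K b = c i ^ p * ξ ^ i := by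
  constructor
  · intro hx i hi
    apply mem_of_val_le_one D.hπ hV
    rw [← D.term_pow hV]
    apply pow_le_one₀ zero_le'
    exact (D.val_term_le hV c i hi).trans ((V.valuation_le_one_iff _).mpr hx)
  · intro h
    rw [← V.valuation_le_one_iff]
    apply Valuation.map_sum_le
    intro i hi
    obtain ⟨b, hb⟩ := h i hi
    have h1 := D.term_pow hV (c i) i
    rw [← hb, ← IsScalarTower.algebraMap_apply] at h1
    rw [← pow_le_one_iff_of_nonneg zero_le' D.hp.ne_zero, h1]
    exact val_alg_le_one hV b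

theorem unique (D : TRData π p P ξ z n a) {V V' : ValuationSubring L}
    (hV : EtRam.Dominates A (algebraMap A L) V) (hV' : EtRam.Dominates A (algebraMap A L) V') :
    V = V' := by
  apply ValuationSubring.ext
  intro x
  obtain ⟨c, rfl⟩ := repr_z D.hP D.hdeg D.hp.pos ξ z D.hz D.hgen x
  rw [D.mem_iff hV c, D.mem_iff hV' c]

theorem finrank_eq (D : TRData π p P ξ z n a) : Module.finrank K L = p := by
  obtain ⟨V, hV⟩ := exists_dominates (algebraMap_inj A K L)
  apply finrank_eq_of_indep D.hP D.hdeg D.hp.pos ξ z D.hz D.hgen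
  intro c hc i hi
  have h1 := D.val_term_le hV c i hi
  rw [hc, map_zero] at h1
  have h2 : algebraMap K L (c i) * z ^ i = 0 :=
    (Valuation.zero_iff _).mp (le_antisymm h1 zero_le')
  rcases mul_eq_zero.mp h2 with h3 | h3
  · exact (map_eq_zero (algebraMap K L)).mp h3
  · exact absurd h3 (pow_ne_zero i D.z_ne_zero)

theorem residue_surj (D : TRData π p P ξ z n a) (hV : EtRam.Dominates A (algebraMap A L) V) :
    Function.Surjective (fun a : A =>
      IsLocalRing.residue V (RingHom.codRestrict (algebraMap A L) V hV.1 a)) := by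
  intro xbar
  obtain ⟨x, rfl⟩ := IsLocalRing.residue_surjective xbar
  obtain ⟨c, hc⟩ := repr_z D.hP D.hdeg D.hp.pos ξ z D.hz D.hgen (x : L)
  have hxV : (∑ i ∈ Finset.range p, algebraMap K L (c i) * z ^ i) ∈ V := hc ▸ x.2
  have hterm : ∀ i ∈ Finset.range p, V.valuation (algebraMap K L (c i) * z ^ i) ≤ 1 :=
    fun i hi => (D.val_term_le hV c i hi).trans ((V.valuation_le_one_iff _).mpr hxV)
  have h0mem : 0 ∈ Finset.range p := Finset.mem_range.mpr D.hp.pos
  have h0 : V.valuation (algebraMap K L (c 0)) ≤ 1 := by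
    have := hterm 0 h0mem
    rwa [pow_zero, mul_one] at this
  obtain ⟨b, hb⟩ := mem_of_val_le_one D.hπ hV (c 0) h0
  refine ⟨b, ?_⟩
  show IsLocalRing.residue V (RingHom.codRestrict (algebraMap A L) V hV.1 b) =
    IsLocalRing.residue V x
  symm
  apply Ideal.Quotient.eq.mpr
  rw [ValuationSubring.valuation_lt_one_iff]
  show V.valuation ((x : L) - algebraMap A L b) < 1
  have hsplit0 : ∑ i ∈ Finset.range p, algebraMap K L (c i) * z ^ i =
      algebraMap K L (c 0) * z ^ 0 +
        ∑ i ∈ (Finset.range p).erase 0, algebraMap K L (c i) * z ^ i :=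
    (Finset.add_sum_erase (Finset.range p) (fun i => algebraMap K L (c i) * z ^ i) h0mem).symm
  have hsplit : (x : L) - algebraMap A L b =
      ∑ i ∈ (Finset.range p).erase 0, algebraMap K L (c i) * z ^ i := by
    rw [hc, hsplit0, pow_zero, mul_one, ← hb, ← IsScalarTower.algebraMap_apply]
    ring
  rw [hsplit]
  apply Valuation.map_sum_lt _ one_ne_zero
  intro i hi
  rw [Finset.mem_erase, Finset.mem_range] at hi
  exact D.term_lt_one hV (c i) i (Nat.pos_of_ne_zero hi.1) hi.2
    (hterm i (Finset.mem_range.mpr hi.2))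

theorem isTotallyRamified (D : TRData π p P ξ z n a) :
    EtRam.IsTotallyRamified A (algebraMap A L) :=
  ⟨exists_dominates (algebraMap_inj A K L), fun _ _ hV hV' => D.unique hV hV',
    fun _ hV => D.residue_surj hV⟩

end TRData

end TR

end Groth.Agent.H8.ASK
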