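import Mathlib
import Groth.Prelude.Def_EtRam
import Groth.Agent.Lib.Helper8.ASK.TR

set_option autoImplicit false
universe u

namespace Groth.Agent.H8.PI

open IsLocalRing Polynomial

/-! ### Purely inseparable extensions of prime degree -/

theorem charP_of_purelyInsep {L M : Type*} [Field L] [Field M] [Algebra L M]
    [IsPurelyInseparable L M] {p : ℕ} (hp : p.Prime) (hdeg : Module.finrank L M = p) :
    CharP L p := by
  haveI : FiniteDimensional L M :=
    Module.finite_of_finrank_pos (by rw [hdeg]; exact hp.pos)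
  obtain ⟨q, hq⟩ := ExpChar.exists L
  haveI := hq
  obtain ⟨n, hn⟩ := IsPurelyInseparable.finrank_eq_pow (F := L) M q
  rw [hdeg] at hn
  cases hq with
  | zero =>
    exfalso
    rw [one_pow] at hn
    exact hp.ne_one hn
  | prime hq' =>
    have hn0 : n ≠ 0 := by
      rintro rfl
      rw [pow_zero] at hn
      exact hp.ne_one hn
    have hdvd : q ∣ p := by
      rw [hn]
      exact dvd_pow_self q hn0
    have hqp : q = p := (Nat.prime_dvd_prime_iff_eq hq' hp).mp hdvd
    subst hqp
    infer_instance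

theorem pow_mem_of_purelyInsep {L M : Type*} [Field L] [Field M] [Algebra L M]
    [IsPurelyInseparable L M] {p : ℕ} (hp : p.Prime) (hdeg : Module.finrank L M = p) (x : M) :
    ∃ y : L, algebraMap L M y = x ^ p := by
  haveI : CharP L p := charP_of_purelyInsep hp hdeg
  haveI : ExpChar L p := ExpChar.prime hp
  haveI : FiniteDimensional L M :=
    Module.finite_of_finrank_pos (by rw [hdeg]; exact hp.pos)
  obtain ⟨n, y, hmin⟩ := IsPurelyInseparable.minpoly_eq_X_pow_sub_C L p x
  have hint : IsIntegral L x := Algebra.IsIntegral.isIntegral x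
  have hdvd := minpoly.degree_dvd hint
  rw [hmin, natDegree_X_pow_sub_C, hdeg] at hdvd
  have hn : n ≤ 1 := by
    by_contra h
    have h2 : 2 ≤ n := by omega
    have h3 : p ^ 2 ∣ p := (pow_dvd_pow p h2).trans hdvd
    have h4 := Nat.le_of_dvd hp.pos h3
    nlinarith [hp.two_le]
  have hroot : x ^ p ^ n = algebraMap L M y := by
    have h0 := minpoly.aeval L x
    rw [hmin, map_sub, map_pow, aeval_X, aeval_C, sub_eq_zero] at h0
    exact h0
  interval_cases n
  · rw [pow_zero, pow_one] at hroot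
    exact ⟨y ^ p, by rw [map_pow, hroot]⟩
  · rw [pow_one] at hroot
    exact ⟨y, hroot.symm⟩

theorem adjoin_eq_top_of_notMem {L M : Type*} [Field L] [Field M] [Algebra L M] {p : ℕ}
    (hp : p.Prime) (hdeg : Module.finrank L M = p) (z : M)
    (hz : ∀ c : L, algebraMap L M c ≠ z) : IntermediateField.adjoin L {z} = ⊤ := by
  haveI := IntermediateField.isSimpleOrder_of_finrank_prime L M (by rw [hdeg]; exact hp)
  rcases eq_bot_or_eq_top (IntermediateField.adjoin L {z}) with h | h
  · exfalso
    rw [IntermediateField.adjoin_simple_eq_bot_iff, IntermediateField.mem_bot] at h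
    obtain ⟨c, hc⟩ := h
    exact hz c hc
  · exact h

theorem val_pow_eq {F Γ : Type*} [Field F] [LinearOrderedCommGroupWithZero Γ] (v : Valuation F Γ)
    {x ϖ b : F} {n p : ℕ} (hn : 2 ≤ n) (h : x ^ p = ϖ + ϖ ^ n * b) (h0 : 0 < v ϖ)
    (h1 : v ϖ < 1) (hb : v b ≤ 1) : v x ^ p = v ϖ := by
  rw [← map_pow, h]
  apply Valuation.map_add_eq_of_lt_left
  rw [map_mul, map_pow]
  calc v ϖ ^ n * v b ≤ v ϖ ^ n * 1 := mul_le_mul' le_rfl hb
    _ = v ϖ ^ n := mul_one _
    _ < v ϖ := pow_lt_self_of_lt_one₀ h0 h1 (by omega)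

/-! ### The pair of discrete valuation rings `B ⊆ C` -/

section DVR

variable {B C L M : Type u} [CommRing B] [IsDomain B] [IsDiscreteValuationRing B]
  [CommRing C] [IsDomain C] [IsDiscreteValuationRing C] [Algebra B C]
  [Field L] [Field M] [Algebra B L] [IsFractionRing B L] [Algebra C M] [IsFractionRing C M]
  [Algebra L M] [Algebra B M] [IsScalarTower B L M] [IsScalarTower B C M]

theorem dominates_of_tower [IsLocalHom (algebraMap B C)] {V : ValuationSubring M}
    (hV : EtRam.Dominates C (algebraMap C M) V) : EtRam.Dominates B (algebraMap B M) V := by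
  refine ⟨fun b => ?_, fun b hb => ?_⟩
  · rw [IsScalarTower.algebraMap_apply B C M]; exact hV.1 _
  · rw [IsScalarTower.algebraMap_apply B C M]
    apply hV.2
    rw [mem_maximalIdeal, mem_nonunits_iff] at hb ⊢
    exact fun h => hb (isUnit_of_map_unit (algebraMap B C) b h)

omit [IsDomain B] [IsDiscreteValuationRing B] [Algebra B C] [Field L] [Algebra B L]
  [IsFractionRing B L] [Algebra L M] [Algebra B M] [IsScalarTower B L M] [IsScalarTower B C M] in
theorem exists_dominates_C :
    ∃ V : ValuationSubring M, EtRam.Dominates C (algebraMap C M) V :=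
  ASK.exists_dominates (A := C) (L := M) (IsFractionRing.injective C M)

omit [IsDomain B] [IsDiscreteValuationRing B] [Algebra B C] [Field L] [Algebra B L]
  [IsFractionRing B L] [Algebra L M] [Algebra B M] [IsScalarTower B L M] [IsScalarTower B C M] in
theorem exists_of_val_le_one {ϖ : C} (hϖ : maximalIdeal C = Ideal.span {ϖ})
    {V : ValuationSubring M} (hV : EtRam.Dominates C (algebraMap C M) V) (x : M)
    (hx : V.valuation x ≤ 1) : ∃ c : C, algebraMap C M c = x :=
  ASK.mem_of_val_le_one (K := M) (L := M) hϖ hV x hx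

theorem dichotomy {p : ℕ} (hp : p.Prime) {πB : B} (hπB : maximalIdeal B = Ideal.span {πB})
    [IsLocalHom (algebraMap B C)]
    (hpow : ∀ x : M, ∃ y : L, algebraMap L M y = x ^ p) :
    maximalIdeal C = Ideal.span {algebraMap B C πB} ∨
    ∃ (ϖ : C) (u : Bˣ), maximalIdeal C = Ideal.span {ϖ} ∧
      algebraMap B C (u : B) * ϖ ^ p = algebraMap B C πB := by
  obtain ⟨ϖ, hϖirr⟩ := IsDiscreteValuationRing.exists_irreducible C
  have hϖ : maximalIdeal C = Ideal.span {ϖ} := hϖirr.maximalIdeal_eq
  have hinjCM : Function.Injective (algebraMap C M) := IsFractionRing.injective C M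
  have hinjBM : Function.Injective (algebraMap B M) := ASK.algebraMap_inj B L M
  obtain ⟨V, hV⟩ := exists_dominates_C (C := C) (M := M)
  have hVB : EtRam.Dominates B (algebraMap B M) V := dominates_of_tower hV
  obtain ⟨τ, hτ⟩ : ∃ τ, τ = V.valuation (algebraMap C M ϖ) := ⟨_, rfl⟩
  have hτpos : 0 < τ := by
    rw [hτ]; exact ASK.val_pi_pos hϖ hinjCM
  have hτlt : τ < 1 := by
    rw [hτ]; exact ASK.val_pi_lt_one hϖ hV
  have hπC0 : algebraMap B C πB ≠ 0 := by
    intro h
    apply ASK.algL_pi_ne_zero (L := M) hπB hinjBM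
    rw [IsScalarTower.algebraMap_apply B C M, h, map_zero]
  obtain ⟨e, uC, huC⟩ := IsDiscreteValuationRing.eq_unit_mul_pow_irreducible hπC0 hϖirr
  have hvπ : V.valuation (algebraMap B M πB) = τ ^ e := by
    rw [IsScalarTower.algebraMap_apply B C M, huC, map_mul, map_mul, map_pow, map_pow,
      ASK.val_unit hV uC, one_mul, hτ]
  obtain ⟨y, hy⟩ := hpow (algebraMap C M ϖ)
  have hϖM0 : algebraMap C M ϖ ≠ 0 := by
    intro h
    rw [hτ, h, map_zero] at hτpos
    exact lt_irrefl _ hτpos
  have hy0 : y ≠ 0 := by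
    rintro rfl
    rw [map_zero] at hy
    exact pow_ne_zero p hϖM0 hy.symm
  obtain ⟨u, k, hk⟩ := ASK.decomp hπB y hy0
  have hvy : V.valuation (algebraMap L M y) = (τ ^ e) ^ k := by
    rw [ASK.val_K hVB y u k hk, hvπ]
  have hpk : τ ^ (p : ℤ) = τ ^ ((e : ℤ) * k) := by
    rw [zpow_natCast, zpow_mul, zpow_natCast, ← hvy, hy, map_pow, hτ]
  have hpek : (p : ℤ) = (e : ℤ) * k := zpow_right_injective₀ hτpos (ne_of_lt hτlt) hpk
  have hp0 : (0 : ℤ) < p := by exact_mod_cast hp.pos
  have hk0 : 0 < k := by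
    by_contra h
    have h1 : (e : ℤ) * k ≤ 0 :=
      mul_nonpos_of_nonneg_of_nonpos (Int.natCast_nonneg e) (not_lt.mp h)
    linarith
  obtain ⟨k', rfl⟩ := Int.eq_ofNat_of_zero_le hk0.le
  have hek : e * k' = p := by exact_mod_cast hpek.symm
  rcases (Nat.dvd_prime hp).mp ⟨k', hek.symm⟩ with he | he
  · left
    rw [hϖ]
    apply Ideal.span_singleton_eq_span_singleton.mpr
    refine ⟨uC, ?_⟩
    rw [huC, he, pow_one, mul_comm]
  · right
    have hk1 : k' = 1 := by
      rw [he] at hek
      exact Nat.eq_of_mul_eq_mul_left hp.pos (by rw [hek, mul_one])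
    subst hk1
    have h1 : algebraMap C M (ϖ ^ p) = algebraMap C M (algebraMap B C ((u : B) * πB)) := by
      rw [map_pow, ← hy, hk, ← IsScalarTower.algebraMap_apply B C M,
        IsScalarTower.algebraMap_apply B L M, map_mul, map_mul]
      norm_num
    have h2 : ϖ ^ p = algebraMap B C ((u : B) * πB) := hinjCM h1
    refine ⟨ϖ, u⁻¹, hϖ, ?_⟩
    rw [h2, ← map_mul, ← mul_assoc, Units.inv_mul, one_mul]

/-- The totally ramified structure of `M/L` attached to a uniformizer of `C`. -/
theorem trData {p : ℕ} (hp : p.Prime) (hdeg : Module.finrank L M = p) {πB : B}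
    (hπB : maximalIdeal B = Ideal.span {πB}) [IsLocalHom (algebraMap B C)]
    {ϖ : C} {u : Bˣ} (hrel : algebraMap B C (u : B) * ϖ ^ p = algebraMap B C πB) :
    ASK.TRData (A := B) (K := L) (L := M) πB p (X ^ p)
      (algebraMap B L (u : B) / algebraMap B L πB) (algebraMap C M ϖ)⁻¹ 1 u := by
  have hinjBM : Function.Injective (algebraMap B M) := ASK.algebraMap_inj B L M
  have hπM0 : algebraMap B M πB ≠ 0 := ASK.algL_pi_ne_zero hπB hinjBM
  have hπL0 : algebraMap B L πB ≠ 0 := ASK.algK_pi_ne_zero hπB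
  have hrelM : algebraMap B M (u : B) * (algebraMap C M ϖ) ^ p = algebraMap B M πB := by
    rw [IsScalarTower.algebraMap_apply B C M, IsScalarTower.algebraMap_apply B C M πB, ← hrel,
      map_mul, map_pow]
  have huM0 : algebraMap B M (u : B) ≠ 0 := by
    intro h
    rw [h, zero_mul] at hrelM
    exact hπM0 hrelM.symm
  have hϖM0 : algebraMap C M ϖ ≠ 0 := by
    intro h
    rw [h, zero_pow hp.ne_zero, mul_zero] at hrelM
    exact hπM0 hrelM.symm
  have hzp : ((algebraMap C M ϖ)⁻¹) ^ p =
      algebraMap L M (algebraMap B L (u : B) / algebraMap B L πB) := by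
    rw [map_div₀, ← IsScalarTower.algebraMap_apply, ← IsScalarTower.algebraMap_apply, ← hrelM,
      inv_pow]
    field_simp
  refine ⟨hπB, hp, monic_X_pow p, natDegree_X_pow p, ?_, ?_, Nat.one_pos, ?_, ?_⟩
  · rw [eval₂_X_pow]; exact hzp
  · apply adjoin_eq_top_of_notMem hp hdeg
    intro c hc
    obtain ⟨V, hV⟩ := exists_dominates_C (C := C) (M := M)
    have hVB : EtRam.Dominates B (algebraMap B M) V := dominates_of_tower hV
    obtain ⟨τ, hτ⟩ : ∃ τ, τ = V.valuation (algebraMap C M ϖ) := ⟨_, rfl⟩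
    have hτ0 : τ ≠ 0 := by
      rw [hτ]; exact (Valuation.ne_zero_iff _).mpr hϖM0
    have hτpos : 0 < τ := zero_lt_iff.mpr hτ0
    have hvπ : V.valuation (algebraMap B M πB) = τ ^ p := by
      rw [← hrelM, map_mul, map_pow, ASK.val_unit hVB u, one_mul, hτ]
    have hτlt : τ < 1 := by
      by_contra h
      have h1 : 1 ≤ τ ^ p := one_le_pow₀ (not_lt.mp h)
      rw [← hvπ] at h1
      exact absurd (ASK.val_pi_lt_one hπB hVB) (not_lt.mpr h1)
    have hc0 : c ≠ 0 := by
      rintro rfl
      rw [map_zero] at hc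
      exact inv_ne_zero hϖM0 hc.symm
    obtain ⟨u', k, hk⟩ := ASK.decomp hπB c hc0
    have h1 : V.valuation (algebraMap L M c) = (τ ^ p) ^ k := by
      rw [ASK.val_K hVB c u' k hk, hvπ]
    rw [hc, map_inv₀, ← hτ] at h1
    have h2 : τ ^ (-1 : ℤ) = τ ^ ((p : ℤ) * k) := by
      rw [zpow_neg, zpow_one, h1, zpow_mul, zpow_natCast]
    have h3 : (-1 : ℤ) = (p : ℤ) * k := zpow_right_injective₀ hτpos (ne_of_lt hτlt) h2
    have h4 : (p : ℤ) ∣ 1 := ⟨-k, by linarith⟩
    have h5 : (p : ℤ) = 1 := Int.eq_one_of_dvd_one (by positivity) h4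
    have h6 : p = 1 := by exact_mod_cast h5
    exact hp.ne_one h6
  · exact hp.not_dvd_one
  · rw [pow_one, div_mul_cancel₀ _ hπL0]

theorem residue_surj {p : ℕ} (hp : p.Prime) (hdeg : Module.finrank L M = p) {πB : B}
    (hπB : maximalIdeal B = Ideal.span {πB}) [IsLocalHom (algebraMap B C)]
    {ϖ : C} {u : Bˣ} (hrel : algebraMap B C (u : B) * ϖ ^ p = algebraMap B C πB) (x : C) :
    ∃ b : B, x - algebraMap B C b ∈ maximalIdeal C := by
  have D := trData hp hdeg hπB hrel
  obtain ⟨V, hV⟩ := exists_dominates_C (C := C) (M := M)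
  have hVB : EtRam.Dominates B (algebraMap B M) V := dominates_of_tower hV
  obtain ⟨b, hb⟩ := D.residue_surj hVB (IsLocalRing.residue V ⟨algebraMap C M x, hV.1 x⟩)
  have hb' : IsLocalRing.residue V (RingHom.codRestrict (algebraMap B M) V hVB.1 b) =
      IsLocalRing.residue V ⟨algebraMap C M x, hV.1 x⟩ := hb
  have h1 := Ideal.Quotient.eq.mp hb'
  rw [ValuationSubring.valuation_lt_one_iff] at h1
  have h2 : V.valuation (algebraMap B M b - algebraMap C M x) < 1 := h1
  refine ⟨b, ?_⟩
  rw [mem_maximalIdeal, mem_nonunits_iff]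
  intro hu
  have h3 := ASK.val_unit hV hu.unit
  rw [IsUnit.unit_spec, map_sub, ← IsScalarTower.algebraMap_apply, Valuation.map_sub_swap] at h3
  exact (ne_of_lt h2) h3

theorem not_pow_residue {p : ℕ} (hp : p.Prime) (hdeg : Module.finrank L M = p) {πB : B}
    (hπB : maximalIdeal B = Ideal.span {πB}) [IsLocalHom (algebraMap B C)]
    {ϖ : C} {u : Bˣ} (hrel : algebraMap B C (u : B) * ϖ ^ p = algebraMap B C πB)
    (a : B) (ha : ∀ r : B, IsLocalRing.residue B a ≠ IsLocalRing.residue B r ^ p) :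
    ∀ r : C, IsLocalRing.residue C (algebraMap B C a) ≠ IsLocalRing.residue C r ^ p := by
  intro r h
  obtain ⟨b, hb⟩ := residue_surj hp hdeg hπB hrel r
  have h1 : IsLocalRing.residue C r = IsLocalRing.residue C (algebraMap B C b) := by
    rw [← sub_eq_zero, ← map_sub, residue_eq_zero_iff]; exact hb
  rw [h1, ← map_pow, ← map_pow, ← sub_eq_zero, ← map_sub, ← map_sub, residue_eq_zero_iff] at h
  have h3 : a - b ^ p ∈ maximalIdeal B := by
    rw [mem_maximalIdeal, mem_nonunits_iff] at h ⊢
    exact fun hu => h (hu.map _)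
  apply ha b
  rw [← map_pow, ← sub_eq_zero, ← map_sub, residue_eq_zero_iff]
  exact h3


/-- Case (2): `C = B[c]` when `c ^ p` is the uniformizer of `B`. -/
theorem adjoin_eq_top {p : ℕ} (hp : p.Prime) (hdeg : Module.finrank L M = p) {πB : B}
    (hπB : maximalIdeal B = Ideal.span {πB}) [IsLocalHom (algebraMap B C)]
    {c : C} (hc : c ^ p = algebraMap B C πB) : Algebra.adjoin B {c} = ⊤ := by
  have hrel : algebraMap B C ((1 : Bˣ) : B) * c ^ p = algebraMap B C πB := by
    rw [Units.val_one, map_one, one_mul, hc]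
  have D := trData hp hdeg hπB hrel
  have hinjCM : Function.Injective (algebraMap C M) := IsFractionRing.injective C M
  obtain ⟨V, hV⟩ := exists_dominates_C (C := C) (M := M)
  have hVB : EtRam.Dominates B (algebraMap B M) V := dominates_of_tower hV
  have hcM0 : algebraMap C M c ≠ 0 := by
    intro h
    have h1 : algebraMap B M πB = 0 := by
      rw [IsScalarTower.algebraMap_apply B C M, ← hc, map_pow, h, zero_pow hp.ne_zero]
    exact ASK.algL_pi_ne_zero hπB (ASK.algebraMap_inj B L M) h1
  rw [eq_top_iff]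
  intro x _
  obtain ⟨a, ha⟩ := ASK.repr_z D.hP D.hdeg D.hp.pos _ _ D.hz D.hgen (algebraMap C M x)
  have hxV : (∑ i ∈ Finset.range p, algebraMap L M (a i) * ((algebraMap C M c)⁻¹) ^ i) ∈ V := by
    rw [← ha]; exact hV.1 x
  have hterm : ∀ i ∈ Finset.range p,
      V.valuation (algebraMap L M (a i) * ((algebraMap C M c)⁻¹) ^ i) ≤ 1 :=
    fun i hi => (D.val_term_le hVB a i hi).trans ((V.valuation_le_one_iff _).mpr hxV)
  have key : ∀ i : ℕ, ∃ t ∈ Algebra.adjoin B {c},
      i < p → algebraMap C M t = algebraMap L M (a i) * ((algebraMap C M c)⁻¹) ^ i := by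
    intro i
    by_cases hi : i < p
    swap
    · exact ⟨0, Subalgebra.zero_mem _, fun h => absurd h hi⟩
    rcases Nat.eq_zero_or_pos i with rfl | hi0
    · have h0 := hterm 0 (Finset.mem_range.mpr hi)
      rw [pow_zero, mul_one] at h0
      obtain ⟨b, hb⟩ := ASK.mem_of_val_le_one hπB hVB (a 0) h0
      refine ⟨algebraMap B C b, Subalgebra.algebraMap_mem _ b, fun _ => ?_⟩
      rw [pow_zero, mul_one, ← hb, ← IsScalarTower.algebraMap_apply B C M,
        ← IsScalarTower.algebraMap_apply B L M]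
    · have hlt : V.valuation (algebraMap L M (a i)) < 1 := by
        by_contra hge
        rw [not_lt] at hge
        have h1 : 1 < V.valuation ((algebraMap C M c)⁻¹) ^ i :=
          one_lt_pow₀ (D.val_z hVB).1 hi0.ne'
        have h2 := hterm i (Finset.mem_range.mpr hi)
        rw [map_mul, map_pow] at h2
        have h3 : V.valuation ((algebraMap C M c)⁻¹) ^ i ≤
            V.valuation (algebraMap L M (a i)) * V.valuation ((algebraMap C M c)⁻¹) ^ i :=
          calc V.valuation ((algebraMap C M c)⁻¹) ^ i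
              = 1 * V.valuation ((algebraMap C M c)⁻¹) ^ i := (one_mul _).symm
            _ ≤ _ := mul_le_mul' hge le_rfl
        exact absurd (lt_of_lt_of_le h1 (h3.trans h2)) (lt_irrefl 1)
      obtain ⟨b, hb⟩ := ASK.mem_pi_of_val_lt_one hπB hVB (a i) hlt
      have hcmem : c ∈ Algebra.adjoin B {c} := Algebra.subset_adjoin (Set.mem_singleton c)
      have hbmem : algebraMap B C b ∈ Algebra.adjoin B {c} := Subalgebra.algebraMap_mem _ b
      refine ⟨algebraMap B C b * c ^ (p - i), mul_mem hbmem (pow_mem hcmem _), fun _ => ?_⟩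
      have e1 : algebraMap L M (algebraMap B L (πB * b)) =
          (algebraMap C M c) ^ p * algebraMap C M (algebraMap B C b) := by
        rw [← IsScalarTower.algebraMap_apply B L M, IsScalarTower.algebraMap_apply B C M,
          map_mul, map_mul, ← hc, map_pow]
      rw [map_mul, map_pow, ← hb, e1, inv_pow, pow_sub₀ _ hcM0 hi.le]
      ring
  choose t ht htx using key
  have hx : x = ∑ i ∈ Finset.range p, t i := by
    apply hinjCM
    rw [ha, map_sum]
    exact Finset.sum_congr rfl (fun i hi => (htx i (Finset.mem_range.mp hi)).symm)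
  rw [hx]
  exact Subalgebra.sum_mem _ (fun i _ => ht i)

end DVR

end Groth.Agent.H8.PI
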