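import Mathlib
import Groth.Prelude.Def_EtRam
import Groth.Agent.Lib.Helper8.ASK.PIa
import Groth.Agent.Lib.Helper8.TotRam.Crit

/-!
# Krasner-type approximation, part A: integrality bounds and bounded defect
-/

set_option autoImplicit false
universe u

namespace Groth.Agent.H8.Kr

open IsLocalRing Polynomial

section Loc

variable {B F₂ : Type u} [CommRing B] [IsDomain B] [IsDiscreteValuationRing B]
  [Field F₂] [Algebra B F₂]

omit [IsDomain B] [IsDiscreteValuationRing B] in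
theorem val_le_one_of_isIntegral [IsLocalRing B] {V : ValuationSubring F₂}
    (hV : EtRam.Dominates B (algebraMap B F₂) V) {z : F₂} (hz : IsIntegral B z) :
    V.valuation z ≤ 1 := by
  obtain ⟨f, hf, hz0⟩ := hz
  exact (V.valuation_le_one_iff _).mpr
    (TotRam.mem_of_integral_hom V (algebraMap B F₂) hV.1 z f hf hz0)

theorem exists_pow_mul_isIntegral (L : Type u) [Field L] [Algebra B L] [IsFractionRing B L]
    [Algebra L F₂] [IsScalarTower B L F₂] [FiniteDimensional L F₂] {ϖ : B} (hϖ : ϖ ∈ maximalIdeal B) (z : F₂) :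
    ∃ m : ℕ, IsIntegral B (algebraMap B F₂ ϖ ^ m * z) := by
  haveI : Algebra.IsAlgebraic B F₂ :=
    (IsFractionRing.comap_isAlgebraic_iff (A := B) (K := L) (C := F₂)).mpr inferInstance
  obtain ⟨y, hy, hw⟩ := (Algebra.IsAlgebraic.isAlgebraic (R := B) z).exists_integral_multiple
  obtain ⟨π, hπ⟩ := IsDiscreteValuationRing.exists_irreducible B
  obtain ⟨n, u, hu⟩ := IsDiscreteValuationRing.eq_unit_mul_pow_irreducible hy hπ
  rw [hπ.maximalIdeal_eq, Ideal.mem_span_singleton'] at hϖ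
  obtain ⟨t, ht⟩ := hϖ
  refine ⟨n, ?_⟩
  have hu1 : algebraMap B F₂ ((u⁻¹ : Bˣ) : B) * algebraMap B F₂ (u : B) = 1 := by
    rw [← map_mul, Units.inv_mul, map_one]
  have e : algebraMap B F₂ ϖ ^ n * z =
      algebraMap B F₂ (t ^ n * ((u⁻¹ : Bˣ) : B)) * (y • z) := by
    rw [Algebra.smul_def, ← ht, hu]
    simp only [map_mul, map_pow]
    linear_combination (-(algebraMap B F₂ t ^ n * algebraMap B F₂ π ^ n * z)) * hu1
  rw [e]
  exact isIntegral_algebraMap.mul hw

theorem loc (L : Type u) [Field L] [Algebra B L] [IsFractionRing B L]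
    [Algebra L F₂] [IsScalarTower B L F₂] [FiniteDimensional L F₂]
    [Module.Finite B (integralClosure B F₂)] {V : ValuationSubring F₂}
    (hV : EtRam.Dominates B (algebraMap B F₂) V) (y : F₂) (hy : V.valuation y ≤ 1) :
    ∃ d s : F₂, IsIntegral B d ∧ IsIntegral B s ∧ V.valuation s = 1 ∧ y * s = d := by
  classical
  haveI : IsFractionRing (integralClosure B F₂) F₂ :=
    integralClosure.isFractionRing_of_finite_extension L F₂
  haveI : IsNoetherianRing (integralClosure B F₂) := by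
    haveI : IsNoetherian B (integralClosure B F₂) := isNoetherian_of_isNoetherianRing_of_finite B _
    exact isNoetherian_of_tower B inferInstance
  haveI : Ring.DimensionLEOne (integralClosure B F₂) :=
    Ring.DimensionLEOne.of_isIntegral B (integralClosure B F₂)
  haveI hded : IsDedekindDomain (integralClosure B F₂) :=
    (isDedekindDomain_iff (integralClosure B F₂) F₂).mpr ⟨inferInstance, inferInstance, inferInstance,
      fun {x} hx => ⟨⟨x, isIntegral_trans x hx⟩, rfl⟩⟩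
  -- the prime of `B₂` below `V`
  have hB₂V : ∀ b : integralClosure B F₂, V.valuation (b : F₂) ≤ 1 := fun b =>
    val_le_one_of_isIntegral hV b.2
  let P : Ideal (integralClosure B F₂) :=
    { carrier := {b | V.valuation (b : F₂) < 1}
      add_mem' := fun {a b} ha hb => by
        show V.valuation ((a : F₂) + (b : F₂)) < 1
        exact lt_of_le_of_lt (V.valuation.map_add _ _) (max_lt ha hb)
      zero_mem' := by
        show V.valuation ((0 : F₂)) < 1
        rw [map_zero]; exact zero_lt_one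
      smul_mem' := fun c {b} hb => by
        show V.valuation ((c : F₂) * (b : F₂)) < 1
        rw [map_mul]
        calc V.valuation (c : F₂) * V.valuation (b : F₂) ≤ 1 * V.valuation (b : F₂) :=
              mul_le_mul' (hB₂V c) le_rfl
          _ = V.valuation (b : F₂) := one_mul _
          _ < 1 := hb }
  have hPmem : ∀ b : integralClosure B F₂, b ∈ P ↔ V.valuation (b : F₂) < 1 := fun b => Iff.rfl
  haveI hPprime : P.IsPrime := by
    refine ⟨?_, ?_⟩
    · intro h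
      have h1 : (1 : integralClosure B F₂) ∈ P := by rw [h]; exact Submodule.mem_top
      rw [hPmem] at h1
      simp at h1
    · intro a b hab
      rw [hPmem] at hab
      by_contra hcon
      rw [not_or, hPmem, hPmem, not_lt, not_lt] at hcon
      have h1 : V.valuation (a : F₂) = 1 := le_antisymm (hB₂V a) hcon.1
      have h2 : V.valuation (b : F₂) = 1 := le_antisymm (hB₂V b) hcon.2
      have h3 : V.valuation (((a * b : integralClosure B F₂)) : F₂) = 1 := by
        show V.valuation ((a : F₂) * (b : F₂)) = 1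
        rw [map_mul, h1, h2, one_mul]
      rw [h3] at hab
      exact lt_irrefl _ hab
  obtain ⟨π, hπ⟩ := IsDiscreteValuationRing.exists_irreducible B
  have hπm : π ∈ maximalIdeal B := by
    rw [hπ.maximalIdeal_eq]; exact Ideal.mem_span_singleton_self π
  have hinjB : Function.Injective (algebraMap B F₂) := ASK.algebraMap_inj B L F₂
  have hPbot : P ≠ ⊥ := by
    intro h
    have h1 : algebraMap B (integralClosure B F₂) π ∈ P := by
      rw [hPmem]
      exact hV.2 π hπm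
    rw [h, Ideal.mem_bot] at h1
    have h2 : algebraMap B F₂ π = 0 := by
      have := congrArg (fun b : integralClosure B F₂ => (b : F₂)) h1
      exact this
    exact hπ.ne_zero (hinjB (h2.trans (map_zero _).symm))
  have hS : P.primeCompl ≤ nonZeroDivisors (integralClosure B F₂) := P.primeCompl_le_nonZeroDivisors
  obtain ⟨C, hC⟩ : ∃ C : Subalgebra (integralClosure B F₂) F₂,
      C = Localization.subalgebra.ofField F₂ P.primeCompl hS := ⟨_, rfl⟩
  haveI : IsLocalization.AtPrime C P := by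
    rw [hC]; exact Localization.subalgebra.isLocalization_ofField F₂ P.primeCompl hS
  haveI : IsDiscreteValuationRing C :=
    IsLocalization.AtPrime.isDiscreteValuationRing_of_dedekind_domain (integralClosure B F₂) hPbot C
  have hCmem : ∀ x : F₂, x ∈ C ↔ ∃ (a s : integralClosure B F₂) (_ : s ∈ P.primeCompl),
      x = (a : F₂) * (s : F₂)⁻¹ := by
    intro x; rw [hC]; exact Iff.rfl
  have hsval : ∀ s : integralClosure B F₂, s ∈ P.primeCompl → V.valuation (s : F₂) = 1 := by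
    intro s hs
    have h1 : ¬ V.valuation (s : F₂) < 1 := fun h => hs ((hPmem s).mpr h)
    exact le_antisymm (hB₂V s) (not_lt.mp h1)
  have hCV : EtRam.Dominates C (algebraMap C F₂) V := by
    have hle : ∀ c : C, V.valuation (c : F₂) ≤ 1 := by
      intro c
      obtain ⟨a, s, hs, hx⟩ := (hCmem _).mp c.2
      rw [hx, map_mul, map_inv₀, hsval s hs, inv_one, mul_one]
      exact hB₂V a
    refine ⟨fun c => (V.valuation_le_one_iff _).mp (hle c), fun c hc => ?_⟩
    show V.valuation (c : F₂) < 1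
    rcases lt_or_eq_of_le (hle c) with h | h
    · exact h
    exfalso
    obtain ⟨a, s, hs, hx⟩ := (hCmem _).mp c.2
    have hva : V.valuation (a : F₂) = 1 := by
      rw [hx, map_mul, map_inv₀, hsval s hs, inv_one, mul_one] at h
      exact h
    have haP : a ∈ P.primeCompl := fun ha => by
      have ha' : a ∈ P := ha
      rw [hPmem, hva] at ha'
      exact lt_irrefl _ ha'
    have ha0 : (a : F₂) ≠ 0 := fun h0 => by
      rw [h0, map_zero] at hva; exact zero_ne_one hva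
    have hs0 : (s : F₂) ≠ 0 := fun h0 => by
      have := hsval s hs
      rw [h0, map_zero] at this; exact zero_ne_one this
    have hinvmem : (s : F₂) * (a : F₂)⁻¹ ∈ C := (hCmem _).mpr ⟨s, a, haP, rfl⟩
    have hunit : IsUnit c := by
      refine isUnit_iff_exists_inv.mpr ⟨⟨_, hinvmem⟩, ?_⟩
      apply Subtype.ext
      show (c : F₂) * ((s : F₂) * (a : F₂)⁻¹) = 1
      rw [hx]
      field_simp
    exact (mem_nonunits_iff.mp ((mem_maximalIdeal c).mp hc)) hunit
  obtain ⟨ϖ, hϖirr⟩ := IsDiscreteValuationRing.exists_irreducible C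
  obtain ⟨c, hc⟩ := PI.exists_of_val_le_one (C := C) (M := F₂) hϖirr.maximalIdeal_eq hCV y hy
  obtain ⟨a, s, hs, hx⟩ := (hCmem _).mp c.2
  have hs0 : (s : F₂) ≠ 0 := fun h0 => by
    have := hsval s hs
    rw [h0, map_zero] at this; exact zero_ne_one this
  refine ⟨(a : F₂), (s : F₂), a.2, s.2, hsval s hs, ?_⟩
  have hyc : y = (c : F₂) := hc.symm
  rw [hyc, hx, mul_assoc, inv_mul_cancel₀ hs0, mul_one]

end Loc

section BD

variable {B L F₂ : Type u} [CommRing B] [IsDomain B] [IsDiscreteValuationRing B]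
  [Field L] [Algebra B L] [IsFractionRing B L] [Field F₂] [Algebra L F₂] [Algebra B F₂]
  [IsScalarTower B L F₂] [FiniteDimensional L F₂]
  {R : Type u} [CommRing R] [Algebra L R]

theorem bd_step1 [Module.Finite B (integralClosure B F₂)] (ρ : R →ₐ[L] F₂) (p : ℕ) (θ : F₂)
    (hspan : ∀ y : F₂, ∃ c : ℕ → R, y = ∑ i ∈ Finset.range p, ρ (c i) * θ ^ i)
    {ϖ : B} (hϖ : ϖ ∈ maximalIdeal B) :
    ∃ k : ℕ, ∀ y : F₂, IsIntegral B y →
      ∃ c : ℕ → R, y = ∑ i ∈ Finset.range p, ρ (c i) * θ ^ i ∧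
        ∀ i < p, IsIntegral B (algebraMap B F₂ ϖ ^ k * ρ (c i)) := by
  classical
  obtain ⟨S, hS⟩ := (Module.finite_def (R := B) (M := integralClosure B F₂)).mp inferInstance
  choose cg hcg using fun g : integralClosure B F₂ => hspan (g : F₂)
  choose mg hmg using fun (g : integralClosure B F₂) (i : ℕ) =>
    exists_pow_mul_isIntegral L hϖ (ρ (cg g i))
  obtain ⟨k, hk⟩ : ∃ k, k = S.sup (fun g => (Finset.range p).sup (mg g)) := ⟨_, rfl⟩
  have hbR : ∀ b : B, ρ (algebraMap L R (algebraMap B L b)) = algebraMap B F₂ b := by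
    intro b
    rw [AlgHom.commutes, ← IsScalarTower.algebraMap_apply]
  refine ⟨k, fun y hy => ?_⟩
  have hmem : (⟨y, hy⟩ : integralClosure B F₂) ∈
      Submodule.span B (S : Set (integralClosure B F₂)) := by
    rw [hS]; exact Submodule.mem_top
  suffices h : ∀ g : integralClosure B F₂, g ∈ Submodule.span B (S : Set (integralClosure B F₂)) →
      ∃ c : ℕ → R, (g : F₂) = ∑ i ∈ Finset.range p, ρ (c i) * θ ^ i ∧
        ∀ i < p, IsIntegral B (algebraMap B F₂ ϖ ^ k * ρ (c i)) from h _ hmem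
  intro g hg
  induction hg using Submodule.span_induction with
  | mem g hgS =>
    refine ⟨cg g, hcg g, fun i hi => ?_⟩
    have hle : mg g i ≤ k := by
      rw [hk]
      exact (Finset.le_sup (f := mg g) (Finset.mem_range.mpr hi)).trans
        (Finset.le_sup (f := fun g => (Finset.range p).sup (mg g)) hgS)
    obtain ⟨d, hd⟩ := Nat.exists_eq_add_of_le hle
    have e : algebraMap B F₂ ϖ ^ k * ρ (cg g i) =
        algebraMap B F₂ (ϖ ^ d) * (algebraMap B F₂ ϖ ^ mg g i * ρ (cg g i)) := by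
      rw [hd, map_pow]; ring
    rw [e]
    exact isIntegral_algebraMap.mul (hmg g i)
  | zero =>
    refine ⟨fun _ => 0, ?_, fun i _ => ?_⟩
    · simp
    · rw [map_zero, mul_zero]; exact isIntegral_zero
  | add g₁ g₂ _ _ h₁ h₂ =>
    obtain ⟨c₁, hc₁, hi₁⟩ := h₁
    obtain ⟨c₂, hc₂, hi₂⟩ := h₂
    refine ⟨fun i => c₁ i + c₂ i, ?_, fun i hi => ?_⟩
    · show ((g₁ : F₂) + (g₂ : F₂)) = _
      rw [hc₁, hc₂, ← Finset.sum_add_distrib]
      refine Finset.sum_congr rfl (fun i _ => ?_)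
      rw [map_add, add_mul]
    · rw [map_add, mul_add]; exact (hi₁ i hi).add (hi₂ i hi)
  | smul b g _ h =>
    obtain ⟨c, hc, hi⟩ := h
    refine ⟨fun i => algebraMap L R (algebraMap B L b) * c i, ?_, fun i hi' => ?_⟩
    · show ((b • g : integralClosure B F₂) : F₂) = _
      rw [Subalgebra.coe_smul, Algebra.smul_def, hc, Finset.mul_sum]
      refine Finset.sum_congr rfl (fun i _ => ?_)
      rw [map_mul, hbR]; ring
    · rw [map_mul, hbR]
      have e : algebraMap B F₂ ϖ ^ k * (algebraMap B F₂ b * ρ (c i)) =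
          algebraMap B F₂ b * (algebraMap B F₂ ϖ ^ k * ρ (c i)) := by ring
      rw [e]
      exact isIntegral_algebraMap.mul (hi i hi')

theorem bd_step2 [Module.Finite B (integralClosure B F₂)] (ρ : R →ₐ[L] F₂) (p : ℕ) (θ : F₂)
    (hind : ∀ c : ℕ → R, ∑ i ∈ Finset.range p, ρ (c i) * θ ^ i = 0 → ∀ i < p, ρ (c i) = 0)
    (hpow : ∀ y : F₂, ∃ r : R, ρ r = y ^ p) (hp : p ≠ 0)
    {ϖ : B} (k : ℕ)
    (hk : ∀ y : F₂, IsIntegral B y →
      ∃ c : ℕ → R, y = ∑ i ∈ Finset.range p, ρ (c i) * θ ^ i ∧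
        ∀ i < p, IsIntegral B (algebraMap B F₂ ϖ ^ k * ρ (c i)))
    {V : ValuationSubring F₂} (hV : EtRam.Dominates B (algebraMap B F₂) V)
    (c : ℕ → R) (hy : V.valuation (∑ i ∈ Finset.range p, ρ (c i) * θ ^ i) ≤ 1) :
    ∀ i < p, V.valuation (algebraMap B F₂ ϖ ^ k * ρ (c i)) ≤ 1 := by
  intro i hi
  obtain ⟨d, s, hd, hs, hvs, hys⟩ := loc L hV _ hy
  obtain ⟨p', rfl⟩ : ∃ p', p = p' + 1 := Nat.exists_eq_succ_of_ne_zero hp
  obtain ⟨rs, hrs⟩ := hpow s
  have hd' : IsIntegral B (d * s ^ p') := hd.mul (hs.pow p')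
  obtain ⟨c', hc', hi'⟩ := hk _ hd'
  have h1 : ∑ j ∈ Finset.range (p' + 1), ρ (c j * rs - c' j) * θ ^ j = 0 := by
    have h0 : ∑ j ∈ Finset.range (p' + 1), ρ (c j * rs - c' j) * θ ^ j =
        (∑ j ∈ Finset.range (p' + 1), ρ (c j) * θ ^ j) * s ^ (p' + 1) - d * s ^ p' := by
      rw [hc', Finset.sum_mul, ← Finset.sum_sub_distrib]
      refine Finset.sum_congr rfl (fun j _ => ?_)
      rw [map_sub, map_mul, hrs]; ring
    rw [h0, ← hys]; ring
  have h2 := hind _ h1 i hi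
  have h3 : ρ (c i) * s ^ (p' + 1) = ρ (c' i) := by
    rw [map_sub, map_mul, hrs, sub_eq_zero] at h2; exact h2
  have hvs' : V.valuation (s ^ (p' + 1)) = 1 := by rw [map_pow, hvs, one_pow]
  calc V.valuation (algebraMap B F₂ ϖ ^ k * ρ (c i))
      = V.valuation (algebraMap B F₂ ϖ ^ k * ρ (c i)) * V.valuation (s ^ (p' + 1)) := by
        rw [hvs', mul_one]
    _ = V.valuation (algebraMap B F₂ ϖ ^ k * ρ (c' i)) := by rw [← map_mul, mul_assoc, h3]
    _ ≤ 1 := val_le_one_of_isIntegral hV (hi' i hi)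

theorem bd_core [Module.Finite B (integralClosure B F₂)] (ρ : R →ₐ[L] F₂)
    (hinv : ∀ r : R, ρ r ≠ 0 → ∃ r', ρ r * ρ r' = 1) (p : ℕ) (hp : p ≠ 0) (θ : F₂)
    (hspan : ∀ y : F₂, ∃ c : ℕ → R, y = ∑ i ∈ Finset.range p, ρ (c i) * θ ^ i)
    (hind : ∀ c : ℕ → R, ∑ i ∈ Finset.range p, ρ (c i) * θ ^ i = 0 → ∀ i < p, ρ (c i) = 0)
    (hpow : ∀ y : F₂, ∃ r : R, ρ r = y ^ p)
    {ϖ : B} (hϖ0 : ϖ ≠ 0) (hϖ : ϖ ∈ maximalIdeal B) :
    ∃ C : ℕ, ∀ (V : ValuationSubring F₂), EtRam.Dominates B (algebraMap B F₂) V →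
      ∀ (c : ℕ → R), ∀ i < p,
        V.valuation (ρ (c i) * θ ^ i * algebraMap B F₂ ϖ ^ C) ≤
          V.valuation (∑ j ∈ Finset.range p, ρ (c j) * θ ^ j) := by
  obtain ⟨k, hk⟩ := bd_step1 (B := B) ρ p θ hspan hϖ
  choose nθ hnθ using fun i : ℕ => exists_pow_mul_isIntegral L hϖ (θ ^ i)
  obtain ⟨n, hn⟩ : ∃ n, n = (Finset.range p).sup nθ := ⟨_, rfl⟩
  refine ⟨k + 1 + n, fun V hV c i hi => ?_⟩
  have hVϖ : V.valuation (algebraMap B F₂ ϖ) < 1 := hV.2 ϖ hϖ
  obtain ⟨ϖ', hϖ'⟩ : ∃ ϖ', ϖ' = algebraMap B F₂ ϖ := ⟨_, rfl⟩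
  have hϖ'0 : ϖ' ≠ 0 := by
    rw [hϖ']
    exact fun h => hϖ0 (ASK.algebraMap_inj B L F₂ (h.trans (map_zero _).symm))
  have hϖR : ρ (algebraMap L R (algebraMap B L ϖ)) = ϖ' := by
    rw [AlgHom.commutes, ← IsScalarTower.algebraMap_apply, hϖ']
  by_cases hci : ρ (c i) = 0
  · rw [hci, zero_mul, zero_mul, map_zero]; exact zero_le'
  by_contra hcon
  have hlt := not_le.mp hcon
  obtain ⟨r', hr'⟩ := hinv (c i) hci
  obtain ⟨rϖ, hrϖ⟩ := hinv (algebraMap L R (algebraMap B L ϖ)) (by rw [hϖR]; exact hϖ'0)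
  rw [hϖR] at hrϖ
  obtain ⟨c', hc'⟩ : ∃ c' : ℕ → R, c' = fun j => c j * (r' * rϖ ^ (k + 1)) := ⟨_, rfl⟩
  have hc'j : ∀ j, ρ (c' j) = ρ (c j) * (ρ r' * ρ rϖ ^ (k + 1)) := by
    intro j; rw [hc']; simp only [map_mul, map_pow]
  have hsum : ∑ j ∈ Finset.range p, ρ (c' j) * θ ^ j =
      (∑ j ∈ Finset.range p, ρ (c j) * θ ^ j) * (ρ r' * ρ rϖ ^ (k + 1)) := by
    rw [Finset.sum_mul]
    refine Finset.sum_congr rfl (fun j _ => ?_)
    rw [hc'j]; ring
  have hid : ρ (c i) * θ ^ i * ϖ' ^ (k + 1 + n) * (ρ r' * ρ rϖ ^ (k + 1)) = ϖ' ^ n * θ ^ i := by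
    have h1 : (ϖ' * ρ rϖ) ^ (k + 1) = 1 := by rw [hrϖ, one_pow]
    calc ρ (c i) * θ ^ i * ϖ' ^ (k + 1 + n) * (ρ r' * ρ rϖ ^ (k + 1))
        = (ρ (c i) * ρ r') * (ϖ' * ρ rϖ) ^ (k + 1) * (ϖ' ^ n * θ ^ i) := by ring
      _ = ϖ' ^ n * θ ^ i := by rw [hr', h1, one_mul, one_mul]
  have hu0 : ρ r' * ρ rϖ ^ (k + 1) ≠ 0 :=
    mul_ne_zero (right_ne_zero_of_mul_eq_one hr')
      (pow_ne_zero _ (right_ne_zero_of_mul_eq_one hrϖ))
  have hle1 : V.valuation (∑ j ∈ Finset.range p, ρ (c' j) * θ ^ j) ≤ 1 := by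
    rw [hsum, map_mul]
    have h2 : V.valuation (∑ j ∈ Finset.range p, ρ (c j) * θ ^ j) *
        V.valuation (ρ r' * ρ rϖ ^ (k + 1)) <
        V.valuation (ρ (c i) * θ ^ i * algebraMap B F₂ ϖ ^ (k + 1 + n)) *
          V.valuation (ρ r' * ρ rϖ ^ (k + 1)) :=
      mul_lt_mul_of_pos_right hlt (zero_lt_iff.mpr ((Valuation.ne_zero_iff _).mpr hu0))
    rw [← map_mul V.valuation (ρ (c i) * θ ^ i * algebraMap B F₂ ϖ ^ (k + 1 + n)), ← hϖ',
      hid] at h2
    refine h2.le.trans ?_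
    have hi2 : nθ i ≤ n := by
      rw [hn]; exact Finset.le_sup (f := nθ) (Finset.mem_range.mpr hi)
    obtain ⟨d, hd⟩ := Nat.exists_eq_add_of_le hi2
    have e : ϖ' ^ n * θ ^ i =
        algebraMap B F₂ (ϖ ^ d) * (algebraMap B F₂ ϖ ^ nθ i * θ ^ i) := by
      rw [hd, hϖ', map_pow]; ring
    rw [e]
    exact val_le_one_of_isIntegral hV (isIntegral_algebraMap.mul (hnθ i))
  have h3 := bd_step2 (B := B) ρ p θ hind hpow hp k hk hV c' hle1 i hi
  have h4 : algebraMap B F₂ ϖ ^ k * ρ (c' i) = ρ rϖ := by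
    rw [← hϖ', hc'j]
    calc ϖ' ^ k * (ρ (c i) * (ρ r' * ρ rϖ ^ (k + 1)))
        = (ρ (c i) * ρ r') * (ϖ' * ρ rϖ) ^ k * ρ rϖ := by ring
      _ = ρ rϖ := by rw [hr', hrϖ, one_pow, one_mul, one_mul]
  rw [h4] at h3
  have h6 : V.valuation ϖ' * V.valuation (ρ rϖ) = 1 := by rw [← map_mul, hrϖ, map_one]
  have h7 : V.valuation ϖ' * V.valuation (ρ rϖ) < 1 := by
    calc V.valuation ϖ' * V.valuation (ρ rϖ) ≤ V.valuation ϖ' * 1 := mul_le_mul' le_rfl h3
      _ = V.valuation ϖ' := mul_one _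
      _ < 1 := by rw [hϖ']; exact hVϖ
  rw [h6] at h7
  exact lt_irrefl _ h7

end BD

end Groth.Agent.H8.Kr
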