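import Mathlib
import Groth.Prelude.Def_EtRam
import Groth.Agent.Lib.Helper8.ASK.KrA
import Groth.Agent.Lib.Helper8.ASK.EppA
import Groth.Agent.Lib.Helper8.ASK.EppB

/-!
# Epp's char `p` step, part C: the certificate in a compositum
-/

set_option autoImplicit false
universe u

namespace Groth.Agent.H8.Epp

open IsLocalRing

/-! ### Distinct exponents -/

theorem expo_inj {B : Type u} [CommRing B] [IsDomain B] [IsDiscreteValuationRing B] {p : ℕ} (hp : p.Prime) {n e : ℕ}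
    {S : Finset (ℕ × B × ℕ)} (hS : IsNF p n S) (he : ∀ t ∈ S, t.2.2 < e)
    {t t' : ℕ × B × ℕ} (ht : t ∈ S) (ht' : t' ∈ S)
    (h : t.1 * p ^ (e - t.2.2) = t'.1 * p ^ (e - t'.2.2)) : t = t' := by
  wlog hle : t.2.2 ≤ t'.2.2 generalizing t t' with H
  · exact (H ht' ht h.symm (by omega)).symm
  obtain ⟨k, hk⟩ : ∃ k, t'.2.2 = t.2.2 + k := ⟨t'.2.2 - t.2.2, by omega⟩
  have h1 : e - t.2.2 = (e - t'.2.2) + k := by
    have := he t' ht'
    omega
  rw [h1, pow_add, ← mul_assoc, mul_right_comm] at h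
  have h2 : t.1 * p ^ k = t'.1 := Nat.eq_of_mul_eq_mul_right (pow_pos hp.pos _) h
  rcases Nat.eq_zero_or_pos k with hk0 | hk0
  · rw [hk0, pow_zero, mul_one] at h2
    exact hS.2 t ht t' ht' h2
  · exfalso
    have h3 : p ∣ t'.1 := by
      rw [← h2]
      exact Dvd.dvd.mul_left (dvd_pow_self p hk0.ne') _
    rcases (hS.1 t' ht').2.2.1 with h4 | h4
    · exact h4 h3
    · omega

/-! ### The fierce case: pure valuation theory -/

theorem fierce_core {Λ : Type u} [Field Λ] (p : ℕ) [Fact p.Prime] [CharP Λ p]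
    (W : ValuationSubring Λ) {ι : Type*} [DecidableEq ι] (S : Finset ι) (Cf : ι → Λ) (mf : ι → ℕ)
    (Q x β η : Λ) (hQpos : 0 < W.valuation Q) (hQlt : W.valuation Q < 1)
    (hx1 : W.valuation x < 1)
    (hxdisc : ∀ y : Λ, y ≠ 0 → ∃ m : ℤ, W.valuation y = W.valuation x ^ m)
    (hC : ∀ t ∈ S, W.valuation (Cf t) ≤ 1) (hβ : W.valuation β ≤ 1)
    (hη : η = ∑ t ∈ S, Cf t * (Q⁻¹) ^ (mf t) + β)
    (ts : ι) (hts : ts ∈ S) (hlt : ∀ t ∈ S, t ≠ ts → mf t < mf ts) (m'' : ℕ)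
    (hm'' : mf ts = p * m'') (hm1 : 1 ≤ m'')
    (hres : ∀ d' : Λ, W.valuation d' ≤ 1 → ¬ W.valuation (Cf ts - d' ^ p) < 1) :
    ∃ mm : ℕ, 1 ≤ mm ∧ W.valuation (η * x ^ (p * mm)) ≤ 1 ∧
      ∀ r : Λ, W.valuation r ≤ 1 → ¬ W.valuation (η * x ^ (p * mm) - r ^ p) < 1 := by
  have hp : p.Prime := Fact.out
  have hQ0 : Q ≠ 0 := (Valuation.ne_zero_iff _).mp hQpos.ne'
  have hQQ : ∀ m : ℕ, (Q⁻¹) ^ m * Q ^ m = 1 := by
    intro m
    rw [← mul_pow, inv_mul_cancel₀ hQ0, one_pow]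
  have hmts : 1 ≤ mf ts := by
    rw [hm'']
    exact Nat.mul_pos hp.pos hm1
  -- the remainder
  obtain ⟨ρ, hρ⟩ : ∃ ρ : Λ, ρ = (∑ t ∈ S.erase ts, Cf t * (Q⁻¹) ^ (mf t)) * Q ^ (mf ts) +
      β * Q ^ (mf ts) := ⟨_, rfl⟩
  have hηQ : η * Q ^ (mf ts) = Cf ts + ρ := by
    rw [hη, ← Finset.add_sum_erase S _ hts, hρ]
    linear_combination (Cf ts) * hQQ (mf ts)
  have hQpow : ∀ k : ℕ, 1 ≤ k → W.valuation (Q ^ k) < 1 := by
    intro k hk
    rw [map_pow]
    exact pow_lt_one₀ zero_le' hQlt (by omega)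
  have hρ1 : W.valuation ρ < 1 := by
    rw [hρ]
    apply Valuation.map_add_lt
    · rw [Finset.sum_mul]
      apply Valuation.map_sum_lt _ one_ne_zero
      intro t ht
      obtain ⟨hne, htS⟩ := Finset.mem_erase.mp ht
      obtain ⟨k, hk⟩ : ∃ k, mf ts = mf t + k := ⟨mf ts - mf t, by have := hlt t htS hne; omega⟩
      have hk1 : 1 ≤ k := by have := hlt t htS hne; omega
      have e1 : Cf t * (Q⁻¹) ^ (mf t) * Q ^ (mf ts) = Cf t * Q ^ k := by
        rw [hk, pow_add]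
        linear_combination (Cf t * Q ^ k) * hQQ (mf t)
      rw [e1, map_mul]
      calc W.valuation (Cf t) * W.valuation (Q ^ k) ≤ 1 * W.valuation (Q ^ k) :=
            mul_le_mul' (hC t htS) le_rfl
        _ = W.valuation (Q ^ k) := one_mul _
        _ < 1 := hQpow k hk1
    · rw [map_mul]
      calc W.valuation β * W.valuation (Q ^ (mf ts)) ≤ 1 * W.valuation (Q ^ (mf ts)) :=
            mul_le_mul' hβ le_rfl
        _ = W.valuation (Q ^ (mf ts)) := one_mul _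
        _ < 1 := hQpow _ hmts
  have hCρ : W.valuation (Cf ts + ρ) ≤ 1 :=
    Valuation.map_add_le _ (hC ts hts) hρ1.le
  -- the uniformizer
  have hxpos : 0 < W.valuation x := by
    rw [zero_lt_iff]
    intro h0
    obtain ⟨m, hm⟩ := hxdisc Q hQ0
    rw [h0] at hm
    rcases eq_or_ne m 0 with rfl | hm0
    · rw [zpow_zero] at hm
      exact hQlt.ne hm
    · rw [zero_zpow m hm0] at hm
      exact hQpos.ne' hm
  have hx0 : x ≠ 0 := (Valuation.ne_zero_iff _).mp hxpos.ne'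
  obtain ⟨εz, hεz⟩ := hxdisc Q hQ0
  have hεpos : 0 < εz := by
    have h1 : W.valuation x ^ εz < 1 := by rw [← hεz]; exact hQlt
    exact (zpow_lt_one_iff_right_of_lt_one₀ hxpos hx1).mp h1
  obtain ⟨εn, rfl⟩ := Int.eq_ofNat_of_zero_le hεpos.le
  rw [zpow_natCast] at hεz
  have hεn1 : 1 ≤ εn := by exact_mod_cast hεpos
  obtain ⟨u, hu⟩ : ∃ u : Λ, u = Q * (x ^ εn)⁻¹ := ⟨_, rfl⟩
  have hxε0 : x ^ εn ≠ 0 := pow_ne_zero _ hx0
  have hu1 : W.valuation u = 1 := by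
    rw [hu, map_mul, map_inv₀, map_pow, hεz]
    exact mul_inv_cancel₀ (pow_ne_zero _ hxpos.ne')
  have hu0 : u ≠ 0 := (Valuation.ne_zero_iff _).mp (by rw [hu1]; exact one_ne_zero)
  have hxQ : x ^ εn = Q * u⁻¹ := by
    rw [hu, mul_inv, inv_inv, ← mul_assoc, mul_inv_cancel₀ hQ0, one_mul]
  have huu : ∀ m : ℕ, (u⁻¹) ^ m * u ^ m = 1 := by
    intro m
    rw [← mul_pow, inv_mul_cancel₀ hu0, one_pow]
  have hupow : ∀ m : ℕ, W.valuation (u ^ m) = 1 := by
    intro m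
    rw [map_pow, hu1, one_pow]
  refine ⟨εn * m'', Nat.mul_pos hεn1 hm1, ?_, ?_⟩
  all_goals
    have hexp : x ^ (p * (εn * m'')) = Q ^ (mf ts) * (u⁻¹) ^ (mf ts) := by
      rw [hm'', ← mul_pow, ← hxQ, ← pow_mul]
      congr 1
      ring
    have hc'' : η * x ^ (p * (εn * m'')) = (Cf ts + ρ) * (u⁻¹) ^ (mf ts) := by
      rw [hexp, ← mul_assoc, hηQ]
  · rw [hc'', map_mul, map_pow, map_inv₀, hu1, inv_one, one_pow, mul_one]
    exact hCρ
  · intro r hr hcon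
    obtain ⟨d', hd'⟩ : ∃ d' : Λ, d' = u ^ m'' * r := ⟨_, rfl⟩
    have hd'p : d' ^ p = u ^ (mf ts) * r ^ p := by
      rw [hd', mul_pow, ← pow_mul, hm'', mul_comm m'' p]
    have hd'1 : W.valuation d' ≤ 1 := by
      rw [hd', map_mul, hupow, one_mul]
      exact hr
    have e2 : (Cf ts + ρ) - d' ^ p =
        u ^ (mf ts) * (η * x ^ (p * (εn * m'')) - r ^ p) := by
      rw [hc'', hd'p]
      linear_combination (-(Cf ts + ρ)) * huu (mf ts)
    have h3 : W.valuation ((Cf ts + ρ) - d' ^ p) < 1 := by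
      rw [e2, map_mul, hupow, one_mul]
      exact hcon
    have h4 : W.valuation (Cf ts - d' ^ p) < 1 := by
      have e3 : Cf ts - d' ^ p = ((Cf ts + ρ) - d' ^ p) - ρ := by ring
      rw [e3]
      exact Valuation.map_sub_lt _ h3 hρ1
    exact hres d' hd'1 h4

/-! ### The comparison of `π^{-j}` and `π₁^{-jq}` -/

theorem val_delta {Λ : Type u} [Field Λ] (W : ValuationSubring Λ) (P Q U : Λ) (q N' : ℕ)
    (hPpos : 0 < W.valuation P) (hPlt : W.valuation P < 1)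
    (hQq : Q ^ q = P * U) (hU1 : W.valuation U = 1)
    (hUsub : W.valuation (U - 1) ≤ W.valuation P ^ N') (j : ℕ) (hj : j ≤ N') :
    W.valuation ((P⁻¹) ^ j - (Q⁻¹) ^ (j * q)) ≤ 1 := by
  have hU0 : U ≠ 0 := (Valuation.ne_zero_iff _).mp (by rw [hU1]; exact one_ne_zero)
  have hUU : U ^ j * (U⁻¹) ^ j = 1 := by rw [← mul_pow, mul_inv_cancel₀ hU0, one_pow]
  have e0 : (Q⁻¹) ^ (j * q) = ((P * U)⁻¹) ^ j := by
    rw [mul_comm j, pow_mul, inv_pow Q q, hQq]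
  have e1 : (P⁻¹) ^ j - (Q⁻¹) ^ (j * q) = (U ^ j - 1) * ((P * U)⁻¹) ^ j := by
    rw [e0, mul_inv, mul_pow]
    linear_combination (-(P⁻¹) ^ j) * hUU
  have e2 : W.valuation (U ^ j - 1) ≤ W.valuation P ^ N' := by
    rw [← geom_sum_mul, map_mul]
    have h1 : W.valuation (∑ i ∈ Finset.range j, U ^ i) ≤ 1 := by
      apply Valuation.map_sum_le
      intro i _
      rw [map_pow, hU1, one_pow]
    calc _ ≤ 1 * W.valuation (U - 1) := mul_le_mul' h1 le_rfl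
      _ = W.valuation (U - 1) := one_mul _
      _ ≤ _ := hUsub
  obtain ⟨s, hs⟩ : ∃ s, N' = j + s := ⟨N' - j, by omega⟩
  rw [e1, map_mul, map_pow, map_inv₀, map_mul, hU1, mul_one]
  calc W.valuation (U ^ j - 1) * ((W.valuation P)⁻¹) ^ j
      ≤ W.valuation P ^ N' * ((W.valuation P)⁻¹) ^ j := mul_le_mul' e2 le_rfl
    _ = W.valuation P ^ s := by
        rw [hs, pow_add, mul_comm (W.valuation P ^ j), mul_assoc, ← mul_pow,
          mul_inv_cancel₀ hPpos.ne', one_pow, mul_one]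
    _ ≤ 1 := pow_le_one₀ zero_le' hPlt.le

/-! ### The certificate -/

theorem certificate (p : ℕ) [Fact p.Prime] (A B K L K₂ Λ : Type u) [CommRing A] [IsDomain A]
    [IsDiscreteValuationRing A]
    [CommRing B] [IsDomain B] [IsDiscreteValuationRing B] [Algebra A B] [IsLocalHom (algebraMap A B)]
    [Field K] [Field L] [Algebra A K] [IsFractionRing A K] [Algebra B L] [IsFractionRing B L]
    [Algebra K L] [Algebra A L] [IsScalarTower A K L] [IsScalarTower A B L]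
    [Field K₂] [Algebra K K₂] [Algebra A K₂] [IsScalarTower A K K₂]
    [FiniteDimensional K K₂] [Algebra.IsSeparable K K₂]
    [Field Λ] [Algebra K Λ] [Algebra L Λ] [Algebra K₂ Λ] [IsScalarTower K L Λ]
    [IsScalarTower K K₂ Λ] [CharP K p]
    (hw : EtRam.IsWeaklyUnramified A B)
    (ht : EtRam.IsTotallyRamified A (algebraMap A K₂))
    (hgen : Algebra.adjoin L (Set.range (algebraMap K₂ Λ)) = ⊤)
    (W : ValuationSubring Λ)
    (hW : EtRam.Dominates B ((algebraMap L Λ).comp (algebraMap B L)) W)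
    {πA : A} (hπ : maximalIdeal A = Ideal.span {πA})
    (ξ y₀ : L) (g : K) (S : Finset (ℕ × B × ℕ)) (β₀ : B) (n : ℕ)
    (hrep : ξ = wp p y₀ + algebraMap K L g + ∑ t ∈ S, termVal p (algebraMap A L πA) t +
      algebraMap B L β₀)
    (hS : IsNF p n S)
    (e N : ℕ) (he : ∀ t ∈ S, t.2.2 < e) (hN : n + 2 ≤ N)
    (π₁ b : K₂) (hb : IsIntegral A b)
    (hroot : π₁ ^ (p ^ e) = algebraMap A K₂ πA + algebraMap A K₂ πA ^ N * b)
    (yG g₀ : K₂) (hg₀ : IsIntegral A g₀) (hG : algebraMap K K₂ g = wp p yG + g₀) :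
    ∃ (x₂ : K₂) (Y : Λ), W.valuation (algebraMap K₂ Λ x₂) < 1 ∧
      (∀ y : Λ, W.valuation y < 1 → W.valuation y ≤ W.valuation (algebraMap K₂ Λ x₂)) ∧
      (W.valuation (algebraMap L Λ ξ - wp p Y) ≤ 1 ∨
        ∃ mm : ℕ, 1 ≤ mm ∧
          W.valuation ((algebraMap L Λ ξ - wp p Y) * (algebraMap K₂ Λ x₂) ^ (p * mm)) ≤ 1 ∧
          ∀ r : Λ, W.valuation r ≤ 1 →
            ¬ W.valuation ((algebraMap L Λ ξ - wp p Y) * (algebraMap K₂ Λ x₂) ^ (p * mm) -
              r ^ p) < 1) := by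
  classical
  have hp : p.Prime := Fact.out
  haveI : CharP Λ p := charP_of_injective_algebraMap (algebraMap K Λ).injective p
  letI algBΛ : Algebra B Λ := ((algebraMap L Λ).comp (algebraMap B L)).toAlgebra
  haveI : IsScalarTower B L Λ := IsScalarTower.of_algebraMap_eq (fun _ => rfl)
  have hW' : EtRam.Dominates B (algebraMap B Λ) W := hW
  have hπB : maximalIdeal B = Ideal.span {algebraMap A B πA} := by
    have h1 : (maximalIdeal A).map (algebraMap A B) = maximalIdeal B := hw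
    rw [← h1, hπ, Ideal.map_span, Set.image_singleton]
  obtain ⟨-, x₂, hx1, hxunif, hxdisc, hxres⟩ :=
    compositum_structure A B K L K₂ Λ hw ht hgen W hW
  have hdomA := dominates_A A B K L K₂ Λ W hW
  have hint : ∀ x : K₂, IsIntegral A x → W.valuation (algebraMap K₂ Λ x) ≤ 1 := by
    intro x hx
    have h1 := Kr.val_le_one_of_isIntegral hdomA hx
    have h2 : x ∈ W.comap (algebraMap K₂ Λ) :=
      ((W.comap (algebraMap K₂ Λ)).valuation_le_one_iff x).mp h1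
    exact (W.valuation_le_one_iff _).mpr h2
  have hB1 : ∀ b : B, W.valuation (algebraMap L Λ (algebraMap B L b)) ≤ 1 :=
    fun b => (W.valuation_le_one_iff _).mpr (hW.1 b)
  obtain ⟨P, hP⟩ : ∃ P : Λ, P = algebraMap L Λ (algebraMap A L πA) := ⟨_, rfl⟩
  have hP2 : P = algebraMap K₂ Λ (algebraMap A K₂ πA) := by
    rw [hP, compat A B K L K₂ Λ, ← IsScalarTower.algebraMap_apply A B L]
  have hPB : P = algebraMap B Λ (algebraMap A B πA) := by
    rw [hP, IsScalarTower.algebraMap_apply A B L]; rfl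
  have hPlt : W.valuation P < 1 := by rw [hPB]; exact ASK.val_pi_lt_one hπB hW'
  have hPpos : 0 < W.valuation P := by
    rw [hPB]; exact ASK.val_pi_pos hπB (ASK.algebraMap_inj B L Λ)
  have hP0 : P ≠ 0 := (Valuation.ne_zero_iff _).mp hPpos.ne'
  obtain ⟨Q, hQ⟩ : ∃ Q : Λ, Q = algebraMap K₂ Λ π₁ := ⟨_, rfl⟩
  obtain ⟨bΛ, hbΛ⟩ : ∃ bΛ : Λ, bΛ = algebraMap K₂ Λ b := ⟨_, rfl⟩
  have hbΛ1 : W.valuation bΛ ≤ 1 := by rw [hbΛ]; exact hint b hb
  obtain ⟨N', hN'⟩ : ∃ N', N = N' + 1 := ⟨N - 1, by omega⟩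
  obtain ⟨U, hU⟩ : ∃ U : Λ, U = 1 + P ^ N' * bΛ := ⟨_, rfl⟩
  have hQq : Q ^ (p ^ e) = P * U := by
    rw [hQ, ← map_pow, hroot, map_add, map_mul, map_pow, ← hP2, ← hbΛ, hU, hN', pow_succ]
    ring
  have hUsub : W.valuation (U - 1) ≤ W.valuation P ^ N' := by
    rw [hU, add_sub_cancel_left, map_mul, map_pow]
    calc _ ≤ W.valuation P ^ N' * 1 := mul_le_mul' le_rfl hbΛ1
      _ = _ := mul_one _
  have hPN'lt : W.valuation P ^ N' < 1 := pow_lt_one₀ zero_le' hPlt (by omega)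
  have hU1 : W.valuation U = 1 := by
    have h1 : W.valuation (U - 1) < 1 := lt_of_le_of_lt hUsub hPN'lt
    have h2 := Valuation.map_one_add_of_lt (v := W.valuation) h1
    rwa [add_sub_cancel] at h2
  have hQval : W.valuation Q ^ (p ^ e) = W.valuation P := by
    rw [← map_pow, hQq, map_mul, hU1, mul_one]
  have hq0 : p ^ e ≠ 0 := pow_ne_zero _ hp.ne_zero
  have hQpos : 0 < W.valuation Q := by
    rw [zero_lt_iff]
    intro h
    rw [h, zero_pow hq0] at hQval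
    exact hPpos.ne hQval
  have hQlt : W.valuation Q < 1 := by
    by_contra h
    have h1 : 1 ≤ W.valuation Q := not_lt.mp h
    have h2 : 1 ≤ W.valuation Q ^ (p ^ e) := one_le_pow₀ h1
    rw [hQval] at h2
    exact absurd hPlt (not_lt.mpr h2)
  have hδ : ∀ j : ℕ, j ≤ n → W.valuation ((P⁻¹) ^ j - (Q⁻¹) ^ (j * p ^ e)) ≤ 1 :=
    fun j hj => val_delta W P Q U (p ^ e) N' hPpos hPlt hQq hU1 hUsub j (by omega)
  -- the terms
  obtain ⟨Cf, hCf⟩ : ∃ Cf : ℕ × B × ℕ → Λ, Cf = fun t => algebraMap L Λ (algebraMap B L t.2.1) :=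
    ⟨_, rfl⟩
  obtain ⟨mf, hmf⟩ : ∃ mf : ℕ × B × ℕ → ℕ, mf = fun t => t.1 * p ^ (e - t.2.2) := ⟨_, rfl⟩
  have hCfa : ∀ t, Cf t = algebraMap L Λ (algebraMap B L t.2.1) := fun t => by rw [hCf]
  have hmfa : ∀ t, mf t = t.1 * p ^ (e - t.2.2) := fun t => by rw [hmf]
  have hC1 : ∀ t ∈ S, W.valuation (Cf t) ≤ 1 := fun t _ => by rw [hCfa]; exact hB1 _
  have hterm : ∀ t ∈ S, algebraMap L Λ (termVal p (algebraMap A L πA) t) =
      Cf t * (Q⁻¹) ^ (mf t) + wp p (sh p t.2.2 (Cf t * (Q⁻¹) ^ (mf t))) +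
        (Cf t) ^ (p ^ t.2.2) * ((P⁻¹) ^ t.1 - (Q⁻¹) ^ (t.1 * p ^ e)) := by
    intro t ht
    have hm : mf t * p ^ t.2.2 = t.1 * p ^ e := by
      rw [hmfa, mul_assoc, ← pow_add, Nat.sub_add_cancel (he t ht).le]
    unfold termVal
    rw [map_mul, map_pow, map_pow, map_inv₀, ← hP, ← hCfa, wp_sh, mul_pow, ← pow_mul, hm]
    ring
  obtain ⟨Y, hY⟩ : ∃ Y : Λ, Y = algebraMap L Λ y₀ + algebraMap K₂ Λ yG +
      ∑ t ∈ S, sh p t.2.2 (Cf t * (Q⁻¹) ^ (mf t)) := ⟨_, rfl⟩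
  obtain ⟨β, hβ⟩ : ∃ β : Λ, β = algebraMap K₂ Λ g₀ +
      ∑ t ∈ S, (Cf t) ^ (p ^ t.2.2) * ((P⁻¹) ^ t.1 - (Q⁻¹) ^ (t.1 * p ^ e)) +
      algebraMap L Λ (algebraMap B L β₀) := ⟨_, rfl⟩
  have hβ1 : W.valuation β ≤ 1 := by
    rw [hβ]
    apply Valuation.map_add_le _ (Valuation.map_add_le _ (hint g₀ hg₀) ?_) (hB1 β₀)
    apply Valuation.map_sum_le
    intro t ht
    rw [map_mul, map_pow]
    calc W.valuation (Cf t) ^ (p ^ t.2.2) * W.valuation ((P⁻¹) ^ t.1 - (Q⁻¹) ^ (t.1 * p ^ e))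
        ≤ 1 * 1 := mul_le_mul' (pow_le_one₀ zero_le' (hC1 t ht)) (hδ t.1 (hS.1 t ht).2.1)
      _ = 1 := one_mul _
  have hgΛ : algebraMap L Λ (algebraMap K L g) = wp p (algebraMap K₂ Λ yG) + algebraMap K₂ Λ g₀ := by
    rw [← IsScalarTower.algebraMap_apply K L Λ, IsScalarTower.algebraMap_apply K K₂ Λ, hG, map_add,
      wp_map]
  have hη : algebraMap L Λ ξ - wp p Y = ∑ t ∈ S, Cf t * (Q⁻¹) ^ (mf t) + β := by
    have hsum : ∑ t ∈ S, algebraMap L Λ (termVal p (algebraMap A L πA) t) =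
        ∑ t ∈ S, Cf t * (Q⁻¹) ^ (mf t) + ∑ t ∈ S, wp p (sh p t.2.2 (Cf t * (Q⁻¹) ^ (mf t))) +
          ∑ t ∈ S, (Cf t) ^ (p ^ t.2.2) * ((P⁻¹) ^ t.1 - (Q⁻¹) ^ (t.1 * p ^ e)) := by
      rw [← Finset.sum_add_distrib, ← Finset.sum_add_distrib]
      exact Finset.sum_congr rfl hterm
    rw [hrep, map_add, map_add, map_add, map_sum, hsum, hgΛ, wp_map, hY, wp_add, wp_add, wp_sum, hβ]
    ring
  refine ⟨x₂, Y, hx1, hxunif, ?_⟩
  rcases S.eq_empty_or_nonempty with hempty | hne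
  · left
    rw [hη, hempty, Finset.sum_empty, zero_add]
    exact hβ1
  · right
    obtain ⟨ts, hts, hmax⟩ := Finset.exists_max_image S mf hne
    have hlt : ∀ t ∈ S, t ≠ ts → mf t < mf ts := by
      intro t ht hne'
      refine lt_of_le_of_ne (hmax t ht) (fun h => hne' ?_)
      rw [hmfa, hmfa] at h
      exact expo_inj hp hS he ht hts h
    obtain ⟨m'', hm''⟩ : ∃ m'', mf ts = p * m'' := by
      obtain ⟨k, hk⟩ : ∃ k, e - ts.2.2 = k + 1 := ⟨e - ts.2.2 - 1, by have := he ts hts; omega⟩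
      refine ⟨ts.1 * p ^ k, ?_⟩
      rw [hmfa, hk, pow_succ]
      ring
    have hm1 : 1 ≤ m'' := by
      rcases Nat.eq_zero_or_pos m'' with h0 | h0
      · exfalso
        rw [h0, mul_zero, hmfa] at hm''
        have h2 := (hS.1 ts hts).1
        have h3 : 0 < ts.1 * p ^ (e - ts.2.2) := Nat.mul_pos (by omega) (pow_pos hp.pos _)
        omega
      · exact h0
    have hres : ∀ d' : Λ, W.valuation d' ≤ 1 → ¬ W.valuation (Cf ts - d' ^ p) < 1 := by
      intro d' hd'1 hcon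
      obtain ⟨d, hd⟩ := hxres d' hd'1
      have h1 : W.valuation (d' ^ p - (algebraMap L Λ (algebraMap B L d)) ^ p) < 1 := by
        rw [← sub_pow_char, map_pow]
        exact pow_lt_one₀ zero_le' hd hp.ne_zero
      have h2 : W.valuation (Cf ts - (algebraMap L Λ (algebraMap B L d)) ^ p) < 1 := by
        have e3 : Cf ts - (algebraMap L Λ (algebraMap B L d)) ^ p =
            (Cf ts - d' ^ p) + (d' ^ p - (algebraMap L Λ (algebraMap B L d)) ^ p) := by ring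
        rw [e3]
        exact Valuation.map_add_lt _ hcon h1
      have e4 : Cf ts - (algebraMap L Λ (algebraMap B L d)) ^ p =
          algebraMap B Λ (ts.2.1 - d ^ p) := by
        rw [hCfa, map_sub, map_pow]
        rfl
      rw [e4] at h2
      have hnm := (hS.1 ts hts).2.2.2 d
      have hunit : IsUnit (ts.2.1 - d ^ p) := by
        by_contra hnu
        exact hnm ((mem_maximalIdeal _).mpr (mem_nonunits_iff.mpr hnu))
      have h5 := ASK.val_unit hW' hunit.unit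
      rw [IsUnit.unit_spec] at h5
      exact h2.ne h5
    exact fierce_core p W S Cf mf Q (algebraMap K₂ Λ x₂) β _ hQpos hQlt hx1 hxdisc hC1 hβ1 hη
      ts hts hlt m'' hm'' hm1 hres

end Groth.Agent.H8.Epp
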