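import Mathlib
import Groth.Prelude.Def_EtRam
import Groth.Agent.Lib.Helper8.ASK.AS
import Groth.Agent.Lib.Helper8.ASK.GalClosure
import Groth.Agent.Lib.Helper8.ASK.TotRamSol
import Groth.Agent.Lib.Helper8.ASK.EppA
import Groth.Agent.Lib.Helper8.TotRam.Eis

/-!
# Epp's char `p` step, part D: from the certificate to weak unramifiedness; the tower `K ⊂ K₁ ⊂ K₂`
-/

set_option autoImplicit false
universe u

namespace Groth.Agent.H8.Epp

open IsLocalRing Polynomial

/-! ### From the certificate to weak unramifiedness -/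

theorem wu_of_certificate (p : ℕ) (hp : p.Prime) {Λ M' : Type u} [Field Λ] [Field M']
    [Algebra Λ M'] [CharP Λ p] (V : ValuationSubring Λ) [IsDiscreteValuationRing V] (x : Λ)
    (hx1 : V.valuation x < 1)
    (hxunif : ∀ y : Λ, V.valuation y < 1 → V.valuation y ≤ V.valuation x)
    (z' : M') (η : Λ) (hz' : z' ^ p - z' = algebraMap Λ M' η)
    (hgen : IntermediateField.adjoin Λ {z'} = ⊤)
    (hcert : V.valuation η ≤ 1 ∨ ∃ mm : ℕ, 1 ≤ mm ∧ V.valuation (η * x ^ (p * mm)) ≤ 1 ∧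
        ∀ r : Λ, V.valuation r ≤ 1 → ¬ V.valuation (η * x ^ (p * mm) - r ^ p) < 1)
    (W : ValuationSubring M') (hW : W.comap (algebraMap Λ M') = V) :
    ∀ y : M', W.valuation y < 1 → W.valuation y ≤ W.valuation (algebraMap Λ M' x) := by
  subst hW
  have hxV : x ∈ W.comap (algebraMap Λ M') :=
    ((W.comap (algebraMap Λ M')).valuation_le_one_iff x).mp hx1.le
  have hx0 : x ≠ 0 := by
    rintro rfl
    obtain ⟨ϖ, hϖ⟩ := IsDiscreteValuationRing.exists_irreducible (W.comap (algebraMap Λ M'))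
    have h1 : ϖ ∈ maximalIdeal (W.comap (algebraMap Λ M')) :=
      (mem_maximalIdeal _).mpr (mem_nonunits_iff.mpr hϖ.not_isUnit)
    have h2 := hxunif _ (((W.comap (algebraMap Λ M')).valuation_lt_one_iff ϖ).mp h1)
    rw [map_zero] at h2
    have h3 : (ϖ : Λ) = 0 := (Valuation.zero_iff _).mp (le_antisymm h2 zero_le')
    exact hϖ.ne_zero (Subtype.ext h3)
  obtain ⟨π, hπdef⟩ : ∃ π : W.comap (algebraMap Λ M'), π = ⟨x, hxV⟩ := ⟨_, rfl⟩
  have hπx : (π : Λ) = x := by rw [hπdef]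
  have hπ : maximalIdeal (W.comap (algebraMap Λ M')) = Ideal.span {π} :=
    (RI.maximalIdeal_eq_span_iff _ π (by rw [hπx]; exact hx0)).mpr
      ⟨by rw [hπx]; exact hx1, by rw [hπx]; exact hxunif⟩
  letI algVM : Algebra (W.comap (algebraMap Λ M')) M' :=
    ((algebraMap Λ M').comp (W.comap (algebraMap Λ M')).subtype).toAlgebra
  haveI : IsScalarTower (W.comap (algebraMap Λ M')) Λ M' :=
    IsScalarTower.of_algebraMap_eq (fun _ => rfl)
  have hdom : EtRam.Dominates (W.comap (algebraMap Λ M'))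
      (algebraMap (W.comap (algebraMap Λ M')) M') W := by
    refine ⟨fun a => a.2, fun a ha => ?_⟩
    have h1 := ((W.comap (algebraMap Λ M')).valuation_lt_one_iff a).mp ha
    exact (RI.isEquiv_comap W (algebraMap Λ M')).lt_one_iff_lt_one.mp h1
  have hπM : algebraMap (W.comap (algebraMap Λ M')) M' π = algebraMap Λ M' x := by
    rw [← hπx]; rfl
  have hπM0 : algebraMap Λ M' x ≠ 0 := (_root_.map_ne_zero _).mpr hx0
  letI algVW : Algebra (W.comap (algebraMap Λ M')) W :=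
    (RingHom.codRestrict (algebraMap (W.comap (algebraMap Λ M')) M') W hdom.1).toAlgebra
  haveI locW : IsLocalHom (algebraMap (W.comap (algebraMap Λ M')) W) :=
    RI.isLocalHom_of_dominates hdom
  have hfinal : EtRam.IsWeaklyUnramified (W.comap (algebraMap Λ M')) W →
      ∀ y : M', W.valuation y < 1 → W.valuation y ≤ W.valuation (algebraMap Λ M' x) := by
    intro hwu
    have h1 : RI.IsUnif W.valuation (algebraMap Λ M' x) := by
      have h2 := (RI.isWeaklyUnramified_iff W π hπ (by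
        show algebraMap (W.comap (algebraMap Λ M')) M' π ≠ 0
        rw [hπM]; exact hπM0)).mp hwu
      have h3 : ((algebraMap (W.comap (algebraMap Λ M')) W π : W) : M') = algebraMap Λ M' x := hπM
      rwa [h3] at h2
    exact h1.2
  rcases hcert with hη | ⟨mm, hmm, hc1, hc2⟩
  · have hηV : η ∈ W.comap (algebraMap Λ M') :=
      ((W.comap (algebraMap Λ M')).valuation_le_one_iff η).mp hη
    rcases ASK.as_caseA hp hπ η z' hz' hgen ⟨η, hηV⟩ rfl with h1 | ⟨hunr, -⟩
    · -- trivial extension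
      intro y hy
      have hsurj : Function.Surjective (algebraMap Λ M') := by
        have h2 : (⊥ : Subalgebra Λ M') = ⊤ := Subalgebra.bot_eq_top_iff_finrank_eq_one.mpr h1
        exact Algebra.surjective_algebraMap_iff.mpr h2.symm
      obtain ⟨l, rfl⟩ := hsurj y
      have h3 : (W.comap (algebraMap Λ M')).valuation l < 1 :=
        (RI.isEquiv_comap W (algebraMap Λ M')).lt_one_iff_lt_one.mpr hy
      have h4 := hxunif l h3
      exact (RI.isEquiv_comap W (algebraMap Λ M')).le_iff_le.mp h4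
    · obtain ⟨hwu, -⟩ := @hunr W hdom locW
      exact hfinal hwu
  · have haV : η * x ^ (p * mm) ∈ W.comap (algebraMap Λ M') :=
      ((W.comap (algebraMap Λ M')).valuation_le_one_iff _).mp hc1
    have hres : ∀ r : W.comap (algebraMap Λ M'),
        residue _ (⟨η * x ^ (p * mm), haV⟩ : W.comap (algebraMap Λ M')) ≠ residue _ r ^ p := by
      intro r hr
      rw [← map_pow, ← sub_eq_zero, ← map_sub, residue_eq_zero_iff] at hr
      have h1 := ((W.comap (algebraMap Λ M')).valuation_lt_one_iff _).mp hr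
      exact hc2 (r : Λ) (((W.comap (algebraMap Λ M')).valuation_le_one_iff _).mpr r.2) h1
    have h4 := ASK.as_caseC hp hπ η z' hz' hgen (p * mm)
      (⟨η * x ^ (p * mm), haV⟩ : W.comap (algebraMap Λ M')) (Nat.mul_pos hp.pos hmm)
      (dvd_mul_right p mm) hres (by
        show η * (π : Λ) ^ (p * mm) = η * x ^ (p * mm)
        rw [hπx])
    obtain ⟨hwu, -, -⟩ := @h4.2.2 W hdom locW
    exact hfinal hwu

/-! ### Transitivity of total ramification -/

theorem totRam_trans {A K₁ K₂ : Type u} [CommRing A] [IsLocalRing A]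
    [Field K₁] [Algebra A K₁] [Field K₂] [Algebra K₁ K₂] [Algebra A K₂] [IsScalarTower A K₁ K₂]
    (V₁ : ValuationSubring K₁) (hV₁ : EtRam.Dominates A (algebraMap A K₁) V₁)
    (ht₁ : EtRam.IsTotallyRamified A (algebraMap A K₁))
    (ht₂ : EtRam.IsTotallyRamified V₁ ((algebraMap K₁ K₂).comp V₁.subtype)) :
    EtRam.IsTotallyRamified A (algebraMap A K₂) := by
  obtain ⟨-, huniq₁, hres₁⟩ := ht₁
  obtain ⟨⟨V₂, hV₂⟩, huniq₂, hres₂⟩ := ht₂
  have hAK : ∀ a : A, algebraMap A K₂ a = algebraMap K₁ K₂ (algebraMap A K₁ a) :=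
    fun a => IsScalarTower.algebraMap_apply A K₁ K₂ a
  -- a valuation ring of `K₂` dominating `A` dominates `V₁`
  have hup : ∀ V' : ValuationSubring K₂, EtRam.Dominates A (algebraMap A K₂) V' →
      EtRam.Dominates V₁ ((algebraMap K₁ K₂).comp V₁.subtype) V' := by
    intro V' hV'
    have h1 : EtRam.Dominates A ((algebraMap K₁ K₂).comp (algebraMap A K₁)) V' := by
      refine ⟨fun a => ?_, fun a ha => ?_⟩
      · show algebraMap K₁ K₂ (algebraMap A K₁ a) ∈ V'
        rw [← hAK]; exact hV'.1 a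
      · show V'.valuation (algebraMap K₁ K₂ (algebraMap A K₁ a)) < 1
        rw [← hAK]; exact hV'.2 a ha
    have h2 : V'.comap (algebraMap K₁ K₂) = V₁ :=
      huniq₁ _ _ (RI.dominates_comap_of_comp h1) hV₁
    refine ⟨fun a => ?_, fun a ha => ?_⟩
    · show algebraMap K₁ K₂ (a : K₁) ∈ V'
      have h3 : (a : K₁) ∈ V'.comap (algebraMap K₁ K₂) := by rw [h2]; exact a.2
      exact h3
    · show V'.valuation (algebraMap K₁ K₂ (a : K₁)) < 1
      have h3 : V₁.valuation (a : K₁) < 1 := (V₁.valuation_lt_one_iff a).mp ha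
      have h4 : (V'.comap (algebraMap K₁ K₂)).valuation (a : K₁) < 1 := by rw [h2]; exact h3
      exact (RI.isEquiv_comap V' (algebraMap K₁ K₂)).lt_one_iff_lt_one.mp h4
  refine ⟨⟨V₂, ?_⟩, ?_, ?_⟩
  · refine ⟨fun a => ?_, fun a ha => ?_⟩
    · rw [hAK]
      exact hV₂.1 ⟨algebraMap A K₁ a, hV₁.1 a⟩
    · rw [hAK]
      have h1 : (⟨algebraMap A K₁ a, hV₁.1 a⟩ : V₁) ∈ maximalIdeal V₁ :=
        (V₁.valuation_lt_one_iff _).mpr (hV₁.2 a ha)
      exact hV₂.2 _ h1
  · intro V' V'' h' h''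
    exact huniq₂ V' V'' (hup V' h') (hup V'' h'')
  · intro V' h' y
    obtain ⟨a₁, ha₁⟩ := hres₂ V' (hup V' h') y
    obtain ⟨a, ha⟩ := hres₁ V₁ hV₁ (residue V₁ a₁)
    refine ⟨a, ?_⟩
    rw [← ha₁]
    show residue V' _ = residue V' _
    rw [← sub_eq_zero, ← map_sub, residue_eq_zero_iff]
    refine (V'.valuation_lt_one_iff _).mpr ?_
    have h1 : (RingHom.codRestrict (algebraMap A K₁) V₁ hV₁.1 a) - a₁ ∈ maximalIdeal V₁ := by
      rw [← residue_eq_zero_iff, map_sub, sub_eq_zero]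
      exact ha
    have h2 := (hup V' h').2 _ h1
    have e1 : ((RingHom.codRestrict (algebraMap A K₂) V' h'.1 a -
        RingHom.codRestrict ((algebraMap K₁ K₂).comp V₁.subtype) V' (hup V' h').1 a₁ : V') : K₂) =
        ((algebraMap K₁ K₂).comp V₁.subtype)
          ((RingHom.codRestrict (algebraMap A K₁) V₁ hV₁.1 a) - a₁) := by
      rw [map_sub]
      show algebraMap A K₂ a - algebraMap K₁ K₂ (a₁ : K₁) =
        algebraMap K₁ K₂ (algebraMap A K₁ a) - algebraMap K₁ K₂ (a₁ : K₁)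
      rw [hAK]
    rw [e1]
    exact h2

/-! ### Existence of an Artin–Schreier extension -/

theorem exists_as_ext (p : ℕ) (hp : p.Prime) (K₁ : Type u) [Field K₁] [CharP K₁ p] (ξ₁ : K₁) :
    ∃ (K₂ : Type u) (_ : Field K₂) (_ : Algebra K₁ K₂) (z : K₂),
      z ^ p - z = algebraMap K₁ K₂ ξ₁ ∧ IntermediateField.adjoin K₁ {z} = ⊤ := by
  haveI := Fact.mk hp
  have hfdeg : (X ^ p - X - C ξ₁ : K₁[X]).natDegree = p := ASK.as_natDegree hp ξ₁
  have hfmonic : (X ^ p - X - C ξ₁ : K₁[X]).Monic := ASK.as_monic hp ξ₁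
  have hsplit := IsSplittingField.splits (X ^ p - X - C ξ₁ : K₁[X]).SplittingField
    (X ^ p - X - C ξ₁ : K₁[X])
  have hdeg0 : ((X ^ p - X - C ξ₁ : K₁[X]).map
      (algebraMap K₁ (X ^ p - X - C ξ₁ : K₁[X]).SplittingField)).degree ≠ 0 := by
    rw [degree_map, degree_eq_natDegree hfmonic.ne_zero, hfdeg]
    exact_mod_cast hp.ne_zero
  obtain ⟨z, hz⟩ := hsplit.exists_eval_eq_zero hdeg0
  haveI : CharP (X ^ p - X - C ξ₁ : K₁[X]).SplittingField p :=
    charP_of_injective_algebraMap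
      (algebraMap K₁ (X ^ p - X - C ξ₁ : K₁[X]).SplittingField).injective p
  have hz' : z ^ p - z = algebraMap K₁ (X ^ p - X - C ξ₁ : K₁[X]).SplittingField ξ₁ := by
    rw [Polynomial.map_sub, Polynomial.map_sub, Polynomial.map_pow, Polynomial.map_X,
      Polynomial.map_C, eval_sub, eval_sub, eval_pow, eval_X, eval_C, sub_eq_zero] at hz
    exact hz
  refine ⟨(X ^ p - X - C ξ₁ : K₁[X]).SplittingField, inferInstance, inferInstance, z, hz', ?_⟩
  have h1 := IsSplittingField.adjoin_rootSet (X ^ p - X - C ξ₁ : K₁[X]).SplittingField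
    (X ^ p - X - C ξ₁ : K₁[X])
  have h2 : Algebra.adjoin K₁ ((X ^ p - X - C ξ₁ : K₁[X]).rootSet
      (X ^ p - X - C ξ₁ : K₁[X]).SplittingField) ≤
      (IntermediateField.adjoin K₁ {z}).toSubalgebra := by
    apply Algebra.adjoin_le
    intro x hx
    rw [mem_rootSet] at hx
    have hx' : x ^ p - x = algebraMap K₁ (X ^ p - X - C ξ₁ : K₁[X]).SplittingField ξ₁ := by
      have := hx.2
      rw [map_sub, map_sub, map_pow, aeval_X, aeval_C, sub_eq_zero] at this
      exact this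
    have h3 : ∃ n : ℤ, (n : (X ^ p - X - C ξ₁ : K₁[X]).SplittingField) = x - z := by
      rw [← mem_bot_iff_intCast p (X ^ p - X - C ξ₁ : K₁[X]).SplittingField,
        Subfield.mem_bot_iff_pow_eq_self (X ^ p - X - C ξ₁ : K₁[X]).SplittingField p, sub_pow_char]
      linear_combination hx' - hz'
    obtain ⟨n, hn⟩ := h3
    have h4 : x = z + (n : (X ^ p - X - C ξ₁ : K₁[X]).SplittingField) := by rw [hn]; ring
    show x ∈ IntermediateField.adjoin K₁ {z}
    rw [h4]
    exact add_mem (IntermediateField.mem_adjoin_simple_self K₁ z) (intCast_mem _ n)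
  rw [h1, top_le_iff] at h2
  rw [eq_top_iff]
  intro t _
  have h5 : t ∈ (IntermediateField.adjoin K₁ {z}).toSubalgebra := by
    rw [h2]; exact Algebra.mem_top
  exact h5

/-! ### The tower -/

theorem exists_tower (p : ℕ) (hp : p.Prime) (A K : Type u) [CommRing A] [IsDomain A]
    [IsDiscreteValuationRing A] [Field K] [Algebra A K] [IsFractionRing A K] [CharP K p]
    {πA : A} (hπ : maximalIdeal A = Ideal.span {πA})
    (hperf : ∀ a : A, ∃ d : A, a - d ^ p ∈ maximalIdeal A)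
    (e N : ℕ) (hN : 2 ≤ N) (g : K) :
    ∃ (K₂ : Type u) (_ : Field K₂) (_ : Algebra K K₂) (_ : Algebra A K₂) (_ : IsScalarTower A K K₂),
      FiniteDimensional K K₂ ∧ Algebra.IsSeparable K K₂ ∧
      EtRam.IsTotallyRamified A (algebraMap A K₂) ∧
      ∃ π₁ b yG g₀ : K₂, IsIntegral A b ∧
        π₁ ^ (p ^ e) = algebraMap A K₂ πA + algebraMap A K₂ πA ^ N * b ∧
        IsIntegral A g₀ ∧ algebraMap K K₂ g = wp p yG + g₀ := by
  haveI := Fact.mk hp
  haveI : CharP (ResidueField A) p := ASK.charP_residue (K := K) hp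
  obtain ⟨K₁, fK₁, algKK₁, algAK₁, towK₁, hfin, hsep, ht₁, πB, b, -, -, hbint, -, hroot, -⟩ :=
    TotRam.main p hp A K πA hπ N (by omega) e
  haveI : FiniteDimensional K K₁ :=
    Module.finite_of_finrank_pos (by rw [hfin]; exact pow_pos hp.pos e)
  haveI : CharP K₁ p := charP_of_injective_algebraMap (algebraMap K K₁).injective p
  have hbint' : IsIntegral A b := hbint
  obtain ⟨⟨V₁, hV₁⟩, huniq₁, hres₁⟩ := id ht₁
  have huniq' : ∀ V' : ValuationSubring K₁, EtRam.Dominates A (algebraMap A K₁) V' → V' = V₁ :=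
    fun V' h => huniq₁ V' V₁ h hV₁
  haveI : IsDiscreteValuationRing V₁ := BC.isDVR_of_dominates (L := K) hπ hV₁
  obtain ⟨ϖ₁, hϖ₁irr⟩ := IsDiscreteValuationRing.exists_irreducible V₁
  have hϖ₁ : maximalIdeal V₁ = Ideal.span {ϖ₁} := hϖ₁irr.maximalIdeal_eq
  have hperf₁ : ∀ a : V₁, ∃ d : V₁, a - d ^ p ∈ maximalIdeal V₁ := by
    intro a
    obtain ⟨a₀, ha₀⟩ := hres₁ V₁ hV₁ (residue V₁ a)
    obtain ⟨d₀, hd₀⟩ := hperf a₀
    refine ⟨RingHom.codRestrict (algebraMap A K₁) V₁ hV₁.1 d₀, ?_⟩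
    have h1 : RingHom.codRestrict (algebraMap A K₁) V₁ hV₁.1 (a₀ - d₀ ^ p) ∈ maximalIdeal V₁ :=
      (V₁.valuation_lt_one_iff _).mpr (hV₁.2 _ hd₀)
    rw [← residue_eq_zero_iff] at h1 ⊢
    rw [map_sub, map_pow] at h1
    rw [map_sub, map_pow, ← ha₀]
    rw [map_sub, map_pow] at h1
    exact h1
  obtain ⟨y, hy⟩ := as_reduce_perfect p hϖ₁ hperf₁ (algebraMap K K₁ g)
  rcases hy with ⟨a₀, ha₀⟩ | ⟨r, u, hr, hpr, hur⟩
  · -- no further extension needed
    refine ⟨K₁, fK₁, algKK₁, algAK₁, towK₁, inferInstance, hsep, ht₁, πB, b, y, (a₀ : K₁),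
      hbint', hroot, ?_, ?_⟩
    · exact (RI.isIntegral_iff_mem_of_unique hV₁ huniq' _).mpr a₀.2
    · have h1 : algebraMap V₁ K₁ a₀ = (a₀ : K₁) := rfl
      rw [← h1, ← ha₀]; ring
  · -- adjoin an Artin–Schreier root
    obtain ⟨ξ₁, hξ₁⟩ : ∃ ξ₁ : K₁, ξ₁ = algebraMap K K₁ g - wp p y := ⟨_, rfl⟩
    obtain ⟨K₂, fK₂, algK₁K₂, z, hz', hgen⟩ := exists_as_ext p hp K₁ ξ₁
    haveI : CharP K₂ p := charP_of_injective_algebraMap (algebraMap K₁ K₂).injective p
    letI algV₁K₂ : Algebra V₁ K₂ :=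
      ((algebraMap K₁ K₂).comp V₁.subtype).toAlgebra
    haveI : IsScalarTower V₁ K₁ K₂ := IsScalarTower.of_algebraMap_eq (fun _ => rfl)
    have hur' : ξ₁ * algebraMap V₁ K₁ ϖ₁ ^ r = algebraMap V₁ K₁ (u : V₁) := by rw [hξ₁]; exact hur
    obtain ⟨ht₂, hfin₂⟩ := ASK.as_caseB hp hϖ₁ ξ₁ z hz' hgen r u hr hpr hur'
    letI algAK₂ : Algebra A K₂ :=
      ((algebraMap K₁ K₂).comp (algebraMap A K₁)).toAlgebra
    haveI : IsScalarTower A K₁ K₂ := IsScalarTower.of_algebraMap_eq (fun _ => rfl)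
    letI algKK₂ : Algebra K K₂ :=
      ((algebraMap K₁ K₂).comp (algebraMap K K₁)).toAlgebra
    haveI : IsScalarTower K K₁ K₂ := IsScalarTower.of_algebraMap_eq (fun _ => rfl)
    haveI : IsScalarTower A K K₂ := IsScalarTower.of_algebraMap_eq (fun a => by
      show algebraMap K₁ K₂ (algebraMap A K₁ a) =
        algebraMap K₁ K₂ (algebraMap K K₁ (algebraMap A K a))
      rw [← IsScalarTower.algebraMap_apply A K K₁])
    haveI : FiniteDimensional K₁ K₂ :=
      Module.finite_of_finrank_pos (by rw [hfin₂]; exact hp.pos)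
    haveI : IsGalois K₁ K₂ := ASK.as_isGalois hp ξ₁ z hz' hgen
    haveI : Algebra.IsSeparable K K₁ := hsep
    have ht : EtRam.IsTotallyRamified A (algebraMap A K₂) :=
      totRam_trans V₁ hV₁ ht₁ ht₂
    refine ⟨K₂, fK₂, algKK₂, algAK₂, inferInstance,
      FiniteDimensional.trans K K₁ K₂,
      Algebra.IsSeparable.trans K K₁ K₂, ht,
      algebraMap K₁ K₂ πB, algebraMap K₁ K₂ b,
      algebraMap K₁ K₂ y + z, 0, ?_, ?_, isIntegral_zero, ?_⟩
    · exact hbint'.map (IsScalarTower.toAlgHom A K₁ K₂)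
    · rw [← map_pow, hroot, map_add, map_mul, map_pow]
      rfl
    · show algebraMap K₁ K₂ (algebraMap K K₁ g) = _
      have h6 : algebraMap K K₁ g = ξ₁ + wp p y := by rw [hξ₁]; ring
      rw [h6, map_add, ← hz', wp_add, wp_map, add_zero]
      unfold wp
      ring

end Groth.Agent.H8.Epp
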