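import Mathlib
import Groth.Prelude.Def_EtRam
import Groth.Agent.Lib.Helper8.ASK.EppC
import Groth.Agent.Lib.Helper8.ASK.EppD

/-!
# Epp's char `p` step, part E: assembly
-/

set_option autoImplicit false
universe u

namespace Groth.Agent.H8.Epp

open IsLocalRing

theorem weakSolution_of_data (p : ℕ) [Fact p.Prime] (A B C K L M K₂ : Type u)
    [CommRing A] [IsDomain A] [IsDiscreteValuationRing A]
    [CommRing B] [IsDomain B] [IsDiscreteValuationRing B]
    [CommRing C] [IsLocalRing C]
    [Algebra A B] [Algebra B C] [IsLocalHom (algebraMap A B)] [IsLocalHom (algebraMap B C)]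
    [Field K] [Field L] [Field M] [Algebra A K] [IsFractionRing A K] [Algebra B L]
    [IsFractionRing B L] [Algebra C M] [Algebra K L] [Algebra L M] [Algebra K M]
    [IsScalarTower K L M] [Algebra A L] [IsScalarTower A K L] [IsScalarTower A B L]
    [Algebra B M] [IsScalarTower B L M] [IsScalarTower B C M] [CharP K p]
    [Field K₂] [Algebra K K₂] [Algebra A K₂] [IsScalarTower A K K₂] [FiniteDimensional K K₂]
    [Algebra.IsSeparable K K₂]
    (hw : EtRam.IsWeaklyUnramified A B)
    (ht : EtRam.IsTotallyRamified A (algebraMap A K₂))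
    {πA : A} (hπ : maximalIdeal A = Ideal.span {πA})
    (ξ y₀ : L) (g : K) (S : Finset (ℕ × B × ℕ)) (β₀ : B) (n : ℕ)
    (hrep : ξ = wp p y₀ + algebraMap K L g + ∑ t ∈ S, termVal p (algebraMap A L πA) t +
      algebraMap B L β₀)
    (hS : IsNF p n S)
    (e N : ℕ) (he : ∀ t ∈ S, t.2.2 < e) (hN : n + 2 ≤ N)
    (π₁ b : K₂) (hb : IsIntegral A b)
    (hroot : π₁ ^ (p ^ e) = algebraMap A K₂ πA + algebraMap A K₂ πA ^ N * b)
    (yG g₀ : K₂) (hg₀ : IsIntegral A g₀) (hG : algebraMap K K₂ g = wp p yG + g₀)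
    (z : M) (hz : z ^ p - z = algebraMap L M ξ) (hzgen : IntermediateField.adjoin L {z} = ⊤) :
    EtRam.IsWeakSolution C K M K₂ := by
  intro M' _ _ _ _ _ _ hgen' W hW
  classical
  have hp : p.Prime := Fact.out
  haveI : CharP L p := charP_of_injective_algebraMap (algebraMap K L).injective p
  haveI : CharP M' p := charP_of_injective_algebraMap (algebraMap K M').injective p
  letI algLM' : Algebra L M' := ((algebraMap M M').comp (algebraMap L M)).toAlgebra
  haveI : IsScalarTower L M M' := IsScalarTower.of_algebraMap_eq (fun _ => rfl)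
  haveI : IsScalarTower K L M' := IsScalarTower.of_algebraMap_eq (fun k => by
    show algebraMap K M' k = algebraMap M M' (algebraMap L M (algebraMap K L k))
    rw [← IsScalarTower.algebraMap_apply K L M, ← IsScalarTower.algebraMap_apply K M M'])
  -- the subfield generated by `L` and `K₂`
  obtain ⟨Λ, hΛ⟩ : ∃ Λ : IntermediateField L M',
      Λ = IntermediateField.adjoin L (Set.range (algebraMap K₂ M')) := ⟨_, rfl⟩
  have hK₂Λ : ∀ k : K₂, algebraMap K₂ M' k ∈ Λ := fun k => by
    rw [hΛ]; exact IntermediateField.subset_adjoin L _ ⟨k, rfl⟩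
  letI algK₂Λ : Algebra K₂ Λ := (RingHom.codRestrict (algebraMap K₂ M') Λ hK₂Λ).toAlgebra
  haveI : IsScalarTower K₂ Λ M' := IsScalarTower.of_algebraMap_eq (fun _ => rfl)
  haveI : IsScalarTower K K₂ Λ := IsScalarTower.of_algebraMap_eq (fun k => Subtype.ext (by
    show algebraMap K M' k = algebraMap K₂ M' (algebraMap K K₂ k)
    exact IsScalarTower.algebraMap_apply K K₂ M' k))
  have hgenΛ : Algebra.adjoin L (Set.range (algebraMap K₂ Λ)) = ⊤ := by
    rw [eq_top_iff]
    rintro ⟨y, hy⟩ -
    have halg : ∀ x ∈ Set.range (algebraMap K₂ M'), IsAlgebraic L x := by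
      rintro _ ⟨k, rfl⟩
      have h1 : IsIntegral K k := Algebra.IsIntegral.isIntegral k
      have h2 : IsIntegral K (algebraMap K₂ M' k) := h1.map (IsScalarTower.toAlgHom K K₂ M')
      have h3 : IsIntegral L (algebraMap K₂ M' k) := h2.tower_top
      exact h3.isAlgebraic
    have hy' : y ∈ Algebra.adjoin L (Set.range (algebraMap K₂ M')) := by
      rw [← IntermediateField.adjoin_toSubalgebra_of_isAlgebraic halg, ← hΛ]; exact hy
    have key : ∀ y ∈ Algebra.adjoin L (Set.range (algebraMap K₂ M')),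
        ∃ h : y ∈ Λ, (⟨y, h⟩ : Λ) ∈ Algebra.adjoin L (Set.range (algebraMap K₂ Λ)) := by
      intro y hy
      induction hy using Algebra.adjoin_induction with
      | mem x hx =>
        obtain ⟨k, rfl⟩ := hx
        exact ⟨hK₂Λ k, Algebra.subset_adjoin ⟨k, rfl⟩⟩
      | algebraMap l =>
        exact ⟨Λ.algebraMap_mem l, Subalgebra.algebraMap_mem _ l⟩
      | add x y _ _ hx hy =>
        obtain ⟨h1, h2⟩ := hx
        obtain ⟨h3, h4⟩ := hy
        exact ⟨Λ.add_mem h1 h3, Subalgebra.add_mem _ h2 h4⟩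
      | mul x y _ _ hx hy =>
        obtain ⟨h1, h2⟩ := hx
        obtain ⟨h3, h4⟩ := hy
        exact ⟨Λ.mul_mem h1 h3, Subalgebra.mul_mem _ h2 h4⟩
    obtain ⟨_, h2⟩ := key y hy'
    exact h2
  obtain ⟨V, hVdef⟩ : ∃ V : ValuationSubring Λ, V = W.comap (algebraMap Λ M') := ⟨_, rfl⟩
  have hBW : EtRam.Dominates B
      ((algebraMap Λ M').comp ((algebraMap L Λ).comp (algebraMap B L))) W := by
    have hcmp : ∀ b : B, algebraMap Λ M' (algebraMap L Λ (algebraMap B L b)) =
        algebraMap M M' (algebraMap C M (algebraMap B C b)) := by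
      intro b
      show algebraMap M M' (algebraMap L M (algebraMap B L b)) = _
      rw [← IsScalarTower.algebraMap_apply B L M, IsScalarTower.algebraMap_apply B C M]
    refine ⟨fun b => ?_, fun b hb => ?_⟩
    · show algebraMap Λ M' (algebraMap L Λ (algebraMap B L b)) ∈ W
      rw [hcmp]; exact hW.1 _
    · show W.valuation (algebraMap Λ M' (algebraMap L Λ (algebraMap B L b))) < 1
      rw [hcmp]
      apply hW.2
      rw [mem_maximalIdeal, mem_nonunits_iff] at hb ⊢
      exact fun h => hb (isUnit_of_map_unit (algebraMap B C) b h)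
  have hV : EtRam.Dominates B ((algebraMap L Λ).comp (algebraMap B L)) V := by
    rw [hVdef]; exact RI.dominates_comap_of_comp hBW
  obtain ⟨x₂, Y, hx1, hxunif, hcert⟩ := certificate p A B K L K₂ Λ hw ht hgenΛ V hV hπ ξ y₀ g S
    β₀ n hrep hS e N he hN π₁ b hb hroot yG g₀ hg₀ hG
  obtain ⟨hfinΛ, -⟩ := compositum_structure A B K L K₂ Λ hw ht hgenΛ V hV
  haveI := hfinΛ
  have hπB : maximalIdeal B = Ideal.span {algebraMap A B πA} := by
    have h1 : (maximalIdeal A).map (algebraMap A B) = maximalIdeal B := hw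
    rw [← h1, hπ, Ideal.map_span, Set.image_singleton]
  letI algBΛ : Algebra B Λ := ((algebraMap L Λ).comp (algebraMap B L)).toAlgebra
  haveI : IsScalarTower B L Λ := IsScalarTower.of_algebraMap_eq (fun _ => rfl)
  haveI : IsDiscreteValuationRing V :=
    BC.isDVR_of_dominates (L := L) hπB (show EtRam.Dominates B (algebraMap B Λ) V from hV)
  haveI : CharP Λ p := charP_of_injective_algebraMap (algebraMap L Λ).injective p
  obtain ⟨z', hz'def⟩ : ∃ z' : M', z' = algebraMap M M' z - algebraMap Λ M' Y := ⟨_, rfl⟩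
  have hz' : z' ^ p - z' = algebraMap Λ M' (algebraMap L Λ ξ - wp p Y) := by
    rw [hz'def, sub_pow_char, map_sub, wp_map]
    have h1 : algebraMap Λ M' (algebraMap L Λ ξ) = algebraMap M M' (z ^ p - z) := by
      rw [hz]; rfl
    rw [h1, map_sub, map_pow]
    unfold wp
    ring
  have hgenz : IntermediateField.adjoin Λ {z'} = ⊤ := by
    rw [eq_top_iff]
    rintro y -
    obtain ⟨F, hF⟩ : ∃ F : IntermediateField Λ M', F = IntermediateField.adjoin Λ {z'} :=
      ⟨_, rfl⟩
    rw [← hF]
    have hzF : algebraMap M M' z ∈ F := by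
      have h1 : z' ∈ F := by rw [hF]; exact IntermediateField.mem_adjoin_simple_self Λ z'
      have h2 : algebraMap Λ M' Y ∈ F := F.algebraMap_mem Y
      have h3 := F.add_mem h1 h2
      rwa [hz'def, sub_add_cancel] at h3
    have hzint : IsIntegral L z := ASK.as_isIntegral hp ξ z hz
    have hMF : ∀ m : M, algebraMap M M' m ∈ F := by
      intro m
      have hm : m ∈ Algebra.adjoin L {z} := by
        rw [ASK.algebra_adjoin_eq_top z hzint hzgen]; exact Algebra.mem_top
      induction hm using Algebra.adjoin_induction with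
      | mem x hx => rw [Set.mem_singleton_iff.mp hx]; exact hzF
      | algebraMap l =>
        have h4 : algebraMap M M' (algebraMap L M l) = algebraMap Λ M' (algebraMap L Λ l) := rfl
        rw [h4]; exact F.algebraMap_mem _
      | add x y _ _ hx hy => rw [map_add]; exact F.add_mem hx hy
      | mul x y _ _ hx hy => rw [map_mul]; exact F.mul_mem hx hy
    have hy : y ∈ Algebra.adjoin M (Set.range (algebraMap K₂ M')) := by
      rw [hgen']; exact Algebra.mem_top
    induction hy using Algebra.adjoin_induction with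
    | mem x hx =>
      obtain ⟨k, rfl⟩ := hx
      have h4 : algebraMap K₂ M' k = algebraMap Λ M' (algebraMap K₂ Λ k) := rfl
      rw [h4]; exact F.algebraMap_mem _
    | algebraMap m => exact hMF m
    | add x y _ _ hx hy => exact F.add_mem hx hy
    | mul x y _ _ hx hy => exact F.mul_mem hx hy
  have hfinal := wu_of_certificate p hp V (algebraMap K₂ Λ x₂) hx1 hxunif z' _ hz' hgenz hcert W
    hVdef.symm
  refine (RI.isWeaklyUnramified_comap_iff W (algebraMap K₂ M')).mpr
    (fun y hy => ⟨x₂, ?_, hfinal y hy⟩)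
  have h5 := hx1
  rw [hVdef] at h5
  exact (RI.isEquiv_comap W (algebraMap Λ M')).lt_one_iff_lt_one.mp h5

theorem main (p : ℕ) (hp : p.Prime) (A B C K L M : Type u)
    [CommRing A] [IsDomain A] [IsDiscreteValuationRing A] [CommRing B] [IsDomain B]
    [IsDiscreteValuationRing B] [CommRing C] [IsDomain C] [IsDiscreteValuationRing C]
    [Algebra A B] [Algebra B C] [Algebra A C] [IsScalarTower A B C]
    (hAB : Function.Injective (algebraMap A B)) (hBC : Function.Injective (algebraMap B C))
    [IsLocalHom (algebraMap A B)] [IsLocalHom (algebraMap B C)]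
    [Field K] [Field L] [Field M] [Algebra A K] [IsFractionRing A K] [Algebra B L]
    [IsFractionRing B L]
    [Algebra C M] [IsFractionRing C M] [Algebra K L] [Algebra L M] [Algebra K M]
    [IsScalarTower K L M]
    [Algebra A L] [IsScalarTower A K L] [IsScalarTower A B L] [Algebra B M] [IsScalarTower B L M]
    [IsScalarTower B C M]
    [Algebra A M] [IsScalarTower A K M] [IsScalarTower A C M]
    (hw : EtRam.IsWeaklyUnramified A B) [CharP K p] [IsGalois L M]
    (hdeg : Module.finrank L M = p)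
    (hk : ∀ x : IsLocalRing.ResidueField B,
      (∀ n : ℕ, ∃ y : IsLocalRing.ResidueField B, y ^ (p ^ n) = x) ↔
      x ∈ Set.range (algebraMap (IsLocalRing.ResidueField A) (IsLocalRing.ResidueField B))) :
    ∃ (K₁ : Type u) (_ : Field K₁) (_ : Algebra K K₁), FiniteDimensional K K₁ ∧
      Algebra.IsSeparable K K₁ ∧
      EtRam.IsTotallyRamified A ((algebraMap K K₁).comp (algebraMap A K)) ∧
      EtRam.IsWeakSolution C K M K₁ := by
  haveI := Fact.mk hp
  haveI : CharP L p := charP_of_injective_algebraMap (algebraMap K L).injective p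
  haveI : CharP (ResidueField B) p := ASK.charP_residue (K := L) hp
  obtain ⟨z, ξ, hz, hzgen⟩ := exists_as_generator p hp L M hdeg
  obtain ⟨πA, hπirr⟩ := IsDiscreteValuationRing.exists_irreducible A
  have hπ : maximalIdeal A = Ideal.span {πA} := hπirr.maximalIdeal_eq
  have hπB : maximalIdeal B = Ideal.span {algebraMap A B πA} := by
    have h1 : (maximalIdeal A).map (algebraMap A B) = maximalIdeal B := hw
    rw [← h1, hπ, Ideal.map_span, Set.image_singleton]
  have hdich := dichotomy p hk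
  have hperf := perfect_of_hk p hk
  have hPL : algebraMap B L (algebraMap A B πA) = algebraMap A L πA :=
    (IsScalarTower.algebraMap_apply A B L πA).symm
  have hPL0 : algebraMap A L πA ≠ 0 := by
    rw [← hPL]; exact ASK.algK_pi_ne_zero hπB
  obtain ⟨n, b, hnb⟩ : ∃ (n : ℕ) (b : B), ξ * (algebraMap A L πA) ^ n = algebraMap B L b := by
    by_cases hξ0 : ξ = 0
    · exact ⟨0, 0, by rw [hξ0, zero_mul, map_zero]⟩
    obtain ⟨u, k, hk'⟩ := ASK.decomp hπB ξ hξ0
    rw [hPL] at hk'
    by_cases hk0 : 0 ≤ k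
    · obtain ⟨m, rfl⟩ := Int.eq_ofNat_of_zero_le hk0
      exact ⟨0, (u : B) * (algebraMap A B πA) ^ m, by
        rw [pow_zero, mul_one, hk', zpow_natCast, map_mul, map_pow, hPL]⟩
    · rw [not_le] at hk0
      obtain ⟨m, rfl⟩ : ∃ m : ℕ, k = -(m : ℤ) := ⟨(-k).toNat, by omega⟩
      refine ⟨m, u, ?_⟩
      rw [hk', zpow_neg, zpow_natCast, mul_assoc, inv_mul_cancel₀ (pow_ne_zero _ hPL0), mul_one]
  obtain ⟨y₀, g, S, β₀, hrep, hS⟩ := normal_form p (K := K) hπB hdich n ξ b hnb
  obtain ⟨e, he⟩ : ∃ e, ∀ t ∈ S, t.2.2 < e :=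
    ⟨S.sup (fun t => t.2.2) + 1, fun t ht =>
      Nat.lt_succ_of_le (Finset.le_sup (f := fun t : ℕ × B × ℕ => t.2.2) ht)⟩
  obtain ⟨K₂, fK₂, algKK₂, algAK₂, tow, hfin, hsep, ht, π₁, b₁, yG, g₀, hb₁, hroot, hg₀, hG⟩ :=
    exists_tower p hp A K hπ hperf e (n + 2) (by omega) g
  refine ⟨K₂, fK₂, algKK₂, hfin, hsep, ?_, ?_⟩
  · have h1 : (algebraMap K K₂).comp (algebraMap A K) = algebraMap A K₂ :=
      (IsScalarTower.algebraMap_eq A K K₂).symm
    rw [h1]; exact ht
  · exact weakSolution_of_data p A B C K L M K₂ hw ht hπ ξ y₀ g S β₀ n hrep hS e (n + 2) he le_rfl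
      π₁ b₁ hb₁ hroot yG g₀ hg₀ hG z hz hzgen

end Groth.Agent.H8.Epp
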