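import Groth.Agent.Lib.Helper8.ASK.Kum

set_option autoImplicit false
universe u

namespace Groth.Agent.H8.ASK

open IsLocalRing Polynomial

section Kum2

variable {A K L : Type u} [CommRing A] [IsDomain A] [IsDiscreteValuationRing A] [Field K]
  [Algebra A K] [IsFractionRing A K] [Field L] [Algebra K L] [Algebra A L] [IsScalarTower A K L]
  {π : A} {p : ℕ} {w : A} {P : A[X]}

theorem kum_finish (D : KumData π p w P) {ζK : K} (hζK : IsPrimitiveRoot ζK p) (N : ℕ)
    (ih : ∀ e < N, ∀ (ξ : K) (z : L), eval₂ (algebraMap A L) z P = algebraMap K L ξ →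
      IntermediateField.adjoin K {z} = ⊤ → ∀ a : Aˣ,
      ξ * algebraMap A K π ^ e = algebraMap A K (a : A) → Cases p A K L)
    (ξ : K) (z : L) (hz : eval₂ (algebraMap A L) z P = algebraMap K L ξ)
    (hgen : IntermediateField.adjoin K {z} = ⊤) (a₃ : A) (ha₃mem : a₃ ∈ maximalIdeal A)
    (hξ : ξ * algebraMap A K π ^ N = algebraMap A K a₃) : Cases p A K L := by
  have hπK := algK_pi_ne_zero (K := K) D.hπ
  by_cases h0 : a₃ = 0
  · have hξ0 : ξ = 0 := by
      rw [h0, map_zero] at hξ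
      rcases mul_eq_zero.mp hξ with h | h
      · exact h
      · exact absurd h (pow_ne_zero _ hπK)
    rcases kum_caseA D hζK ξ z hz hgen 0 (by rw [map_zero, hξ0]) with h | h
    · exact Or.inl h
    · exact Or.inr (Or.inl h)
  obtain ⟨j, u, hu⟩ := IsDiscreteValuationRing.eq_unit_mul_pow_irreducible h0
    (pi_irreducible D.hπ)
  have hj1 : 1 ≤ j := by
    rcases Nat.eq_zero_or_pos j with hj0 | hj
    · exfalso
      rw [hj0, pow_zero, mul_one] at hu
      rw [hu] at ha₃mem
      exact (mem_nonunits_iff.mp ((mem_maximalIdeal _).mp ha₃mem)) u.isUnit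
    · exact hj
  rw [hu, map_mul, map_pow] at hξ
  by_cases hjn : N ≤ j
  · obtain ⟨e, he⟩ : ∃ e, j = e + N := ⟨j - N, (Nat.sub_add_cancel hjn).symm⟩
    have hξe : algebraMap A K ((u : A) * π ^ e) = ξ := by
      rw [he, pow_add, ← mul_assoc] at hξ
      rw [map_mul, map_pow]
      exact (mul_right_cancel₀ (pow_ne_zero _ hπK) hξ).symm
    rcases kum_caseA D hζK ξ z hz hgen _ hξe with h | h
    · exact Or.inl h
    · exact Or.inr (Or.inl h)
  · rw [not_le] at hjn
    obtain ⟨e, he⟩ : ∃ e, N = e + j := ⟨N - j, (Nat.sub_add_cancel hjn.le).symm⟩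
    have hξe : ξ * algebraMap A K π ^ e = algebraMap A K (u : A) := by
      rw [he, pow_add, ← mul_assoc] at hξ
      exact mul_right_cancel₀ (pow_ne_zero _ hπK) hξ
    exact ih e (by omega) ξ z hz hgen u hξe

theorem kum_cases_aux (D : KumData π p w P) [CharP (ResidueField A) p] {ζK : K}
    (hζK : IsPrimitiveRoot ζK p) (u₀ : Aˣ) (e₀ : ℕ) (hw : w = u₀ * π ^ e₀) :
    ∀ (n : ℕ) (ξ : K) (z : L), eval₂ (algebraMap A L) z P = algebraMap K L ξ →
      IntermediateField.adjoin K {z} = ⊤ → ∀ a : Aˣ,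
      ξ * algebraMap A K π ^ n = algebraMap A K (a : A) → n < p * e₀ → Cases p A K L := by
  have hπK := algK_pi_ne_zero (K := K) D.hπ
  have hP := D.monic_P
  have hdeg := D.natDegree_P
  have hWK := D.algK_w_ne_zero (K := K)
  have hgw0 : algebraMap A L w ≠ 0 := by
    rw [IsScalarTower.algebraMap_apply A K L]
    exact (_root_.map_ne_zero _).mpr hWK
  intro n
  induction n using Nat.strong_induction_on with
  | _ n ih =>
    intro ξ z hz hgen a hξ hne
    rcases Nat.eq_zero_or_pos n with hn0 | hn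
    · subst hn0
      rw [pow_zero, mul_one] at hξ
      rcases kum_caseA D hζK ξ z hz hgen (a : A) hξ.symm with h | h
      · exact Or.inl h
      · exact Or.inr (Or.inl h)
    by_cases hpn : p ∣ n
    swap
    · exact Or.inr (Or.inr (Or.inl (kum_caseB D ξ z hz hgen n a hn hpn hξ)))
    by_cases hres : ∃ r : A, IsLocalRing.residue A (a : A) = IsLocalRing.residue A r ^ p
    swap
    · push Not at hres
      exact Or.inr (Or.inr (Or.inr (kum_caseC D ξ z hz hgen n (a : A) hn hpn hres hξ)))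
    obtain ⟨r, hr⟩ := hres
    obtain ⟨m, rfl⟩ := hpn
    have hm : 0 < m := Nat.pos_of_ne_zero (by rintro rfl; simp at hn)
    have hme : m < e₀ := Nat.lt_of_mul_lt_mul_left hne
    obtain ⟨t, ht⟩ : ∃ t, e₀ = m + t := ⟨e₀ - m, by omega⟩
    have ht1 : 1 ≤ t := by omega
    obtain ⟨c, hc⟩ : ∃ c : K, c = algebraMap A K r * (algebraMap A K π ^ m)⁻¹ := ⟨_, rfl⟩
    obtain ⟨υ, hυ⟩ : ∃ υ : A, υ = 1 + (u₀ : A) * r * π ^ t := ⟨_, rfl⟩
    have hυK : algebraMap A K υ = 1 + algebraMap A K w * c := by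
      rw [hυ, hc, hw, ht, map_add, map_one, map_mul, map_mul, map_mul, map_pow, map_pow, pow_add]
      field_simp
    have hυunit : IsUnit υ := by
      rw [← residue_ne_zero_iff_isUnit, hυ, map_add, map_one, map_mul, map_pow,
        (residue_eq_zero_iff π).mpr (pi_mem D.hπ), zero_pow (by omega), mul_zero, add_zero]
      exact one_ne_zero
    obtain ⟨υu, hυu⟩ : ∃ υu : Aˣ, (υu : A) = υ := ⟨hυunit.unit, rfl⟩
    have hυK0 : algebraMap A K υ ≠ 0 := by
      intro h
      rw [← hυu] at h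
      exact υu.ne_zero (IsFractionRing.injective A K (h.trans (map_zero _).symm))
    obtain ⟨Pc, hPc⟩ : ∃ Pc : K, Pc = eval₂ (algebraMap A K) c P := ⟨_, rfl⟩
    have hPc_expand : Pc = c ^ p +
        ∑ i ∈ Finset.range p, algebraMap A K (P.coeff i) * c ^ i := by
      rw [hPc]
      exact eval₂_monic_eq hP hdeg c
    have hKI := D.eval_identity (algebraMap A K) c
    rw [← hPc, ← hυK] at hKI
    obtain ⟨a₂, ha₂⟩ : ∃ a₂ : A, a₂ = (a : A) - r ^ p -
        ∑ j ∈ Finset.range p, P.coeff j * r ^ j * π ^ (p * m - j * m) := ⟨_, rfl⟩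
    have e1 : c ^ p * algebraMap A K π ^ (p * m) = algebraMap A K r ^ p := by
      rw [hc, mul_pow, inv_pow, ← pow_mul, mul_comm m p, mul_assoc,
        inv_mul_cancel₀ (pow_ne_zero _ hπK), mul_one]
    have e2 : ∀ j ∈ Finset.range p,
        algebraMap A K (P.coeff j) * c ^ j * algebraMap A K π ^ (p * m) =
          algebraMap A K (P.coeff j * r ^ j * π ^ (p * m - j * m)) := by
      intro j hj
      have hjp := Finset.mem_range.mp hj
      have hjm : j * m ≤ p * m := Nat.mul_le_mul_right m hjp.le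
      have hNj : p * m - j * m + m * j = p * m := by
        rw [mul_comm m j]
        omega
      conv_lhs => rw [← hNj]
      rw [hc, mul_pow, inv_pow, ← pow_mul, pow_add, map_mul, map_mul, map_pow, map_pow]
      field_simp
    have h_a₂ : (ξ - Pc) * algebraMap A K π ^ (p * m) = algebraMap A K a₂ := by
      rw [sub_mul, hξ, hPc_expand, add_mul, e1, Finset.sum_mul, Finset.sum_congr rfl e2, ha₂,
        map_sub, map_sub, map_pow, map_sum]
      ring
    have ha₂mem : a₂ ∈ maximalIdeal A := by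
      rw [← residue_eq_zero_iff, ha₂, map_sub, map_sub, map_pow, hr, sub_self, zero_sub,
        neg_eq_zero, map_sum]
      apply Finset.sum_eq_zero
      intro j hj
      have hjp := Finset.mem_range.mp hj
      have hlt : j * m < p * m := Nat.mul_lt_mul_of_lt_of_le hjp le_rfl hm
      rw [map_mul, map_pow _ π, (residue_eq_zero_iff π).mpr (pi_mem D.hπ),
        zero_pow (by omega), mul_zero]
    obtain ⟨a₃, ha₃⟩ : ∃ a₃ : A, a₃ = a₂ * ((υu⁻¹ : Aˣ) : A) ^ p := ⟨_, rfl⟩
    obtain ⟨ξ₂, hξ₂⟩ : ∃ ξ₂ : K, ξ₂ = (ξ - Pc) * (algebraMap A K υ ^ p)⁻¹ := ⟨_, rfl⟩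
    have hξ₂' : ξ₂ * algebraMap A K π ^ (p * m) = algebraMap A K a₃ := by
      rw [ha₃, map_mul, map_pow, map_units_inv' (algebraMap A K) υu, hυu, inv_pow, ← h_a₂, hξ₂]
      ring
    have ha₃mem : a₃ ∈ maximalIdeal A := by
      rw [ha₃]
      exact Ideal.mul_mem_right _ _ ha₂mem
    obtain ⟨Υ, hΥdef⟩ : ∃ Υ : L, Υ = algebraMap K L (algebraMap A K υ) := ⟨_, rfl⟩
    have hΥ : Υ = 1 + algebraMap A L w * algebraMap K L c := by
      rw [hΥdef, hυK, map_add, map_one, map_mul, ← IsScalarTower.algebraMap_apply]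
    have hΥ0 : Υ ≠ 0 := by
      rw [hΥdef]
      exact (_root_.map_ne_zero _).mpr hυK0
    obtain ⟨z₂, hz₂def⟩ : ∃ z₂ : L, z₂ = (z - algebraMap K L c) * Υ⁻¹ := ⟨_, rfl⟩
    have hz₂ : eval₂ (algebraMap A L) z₂ P = algebraMap K L ξ₂ := by
      have h1 := D.eval_identity (algebraMap A L) z₂
      have h2 := D.eval_identity (algebraMap A L) z
      rw [hz] at h2
      have h3 := congrArg (algebraMap K L) hKI
      rw [map_mul, map_pow, map_sub, map_pow, map_one, ← IsScalarTower.algebraMap_apply,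
        ← hΥdef] at h3
      have h4 : 1 + algebraMap A L w * z₂ = (1 + algebraMap A L w * z) * Υ⁻¹ := by
        calc 1 + algebraMap A L w * z₂
            = (Υ + algebraMap A L w * (z - algebraMap K L c)) * Υ⁻¹ := by
              rw [hz₂def, add_mul, mul_inv_cancel₀ hΥ0]
              ring
          _ = (1 + algebraMap A L w * z) * Υ⁻¹ := by
              congr 1
              rw [hΥ]
              ring
      apply mul_left_cancel₀ (pow_ne_zero p hgw0)
      rw [h1, h4, mul_pow, hξ₂, map_mul, map_sub, map_inv₀, map_pow, ← hΥdef, inv_pow]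
      have h5 : (1 + algebraMap A L w * z) ^ p * (Υ ^ p)⁻¹ - 1 =
          ((1 + algebraMap A L w * z) ^ p - Υ ^ p) * (Υ ^ p)⁻¹ := by
        rw [sub_mul, mul_inv_cancel₀ (pow_ne_zero p hΥ0)]
      rw [h5, ← mul_assoc]
      congr 1
      linear_combination h3 - h2
    have hgen₂ : IntermediateField.adjoin K {z₂} = ⊤ :=
      adjoin_affine_eq_top z z₂ (-c * (algebraMap A K υ)⁻¹) ((algebraMap A K υ)⁻¹)
        (inv_ne_zero hυK0)
        (by rw [hz₂def, hΥdef, map_mul, map_neg, map_inv₀]; ring) hgen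
    exact kum_finish D hζK (p * m)
      (fun e he ξ' z' hz' hgen' a' h' => ih e he ξ' z' hz' hgen' a' h' (by omega))
      ξ₂ z₂ hz₂ hgen₂ a₃ ha₃mem hξ₂'

theorem kum_cases_of_root (D : KumData π p w P) [CharP (ResidueField A) p] {ζK : K}
    (hζK : IsPrimitiveRoot ζK p) (u₀ : Aˣ) (e₀ : ℕ) (hw : w = u₀ * π ^ e₀) :
    ∀ (η : K) (y : L), y ^ p = algebraMap K L η →
      IntermediateField.adjoin K {y} = ⊤ → Cases p A K L := by
  intro η y hy hgen
  have hπK := algK_pi_ne_zero (K := K) D.hπ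
  have hπL : algebraMap A L π ≠ 0 := algL_pi_ne_zero D.hπ (algebraMap_inj A K L)
  have hWK := D.algK_w_ne_zero (K := K)
  have hgw0 : algebraMap A L w ≠ 0 := by
    rw [IsScalarTower.algebraMap_apply A K L]
    exact (_root_.map_ne_zero _).mpr hWK
  by_cases hη0 : η = 0
  · left
    have hy0 : y = 0 := by
      rw [hη0, map_zero] at hy
      exact (pow_eq_zero_iff D.hp.ne_zero).mp hy
    have hbot : IntermediateField.adjoin K {y} = ⊥ :=
      IntermediateField.adjoin_simple_eq_bot_iff.mpr (by rw [hy0]; exact zero_mem _)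
    rw [hgen] at hbot
    exact IntermediateField.bot_eq_top_iff_finrank_eq_one.mp hbot.symm
  obtain ⟨u, k, hk⟩ := decomp D.hπ η hη0
  by_cases hpk : (p : ℤ) ∣ k
  swap
  · -- totally ramified
    right; right; left
    obtain ⟨t, ht⟩ : ∃ t : ℕ, k < ((p * t : ℕ) : ℤ) :=
      ⟨k.toNat + 1, by
        have h1 := Nat.le_mul_of_pos_left (k.toNat + 1) D.hp.pos
        omega⟩
    obtain ⟨n, hn⟩ : ∃ n : ℕ, (n : ℤ) = ((p * t : ℕ) : ℤ) - k :=
      ⟨(((p * t : ℕ) : ℤ) - k).toNat, by omega⟩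
    have hn0 : 0 < n := by omega
    have hpn : ¬ p ∣ n := by
      intro h
      have h1 : (p : ℤ) ∣ (n : ℤ) := Int.natCast_dvd_natCast.mpr h
      have h2 : (p : ℤ) ∣ ((p * t : ℕ) : ℤ) := ⟨t, by push_cast; ring⟩
      have h3 := dvd_sub h2 h1
      rw [hn, sub_sub_cancel] at h3
      exact hpk h3
    have T : TRData π p (X ^ p : A[X]) (η * (algebraMap A K π ^ (p * t))⁻¹)
        (y * (algebraMap A L π ^ t)⁻¹) n u :=
      { hπ := D.hπ
        hp := D.hp
        hP := monic_X_pow p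
        hdeg := natDegree_X_pow p
        hz := by
          rw [eval₂_X_pow, mul_pow, hy, inv_pow, ← pow_mul, map_mul, map_inv₀, map_pow,
            ← IsScalarTower.algebraMap_apply, mul_comm t p]
        hgen := adjoin_affine_eq_top y _ 0 ((algebraMap A K π ^ t)⁻¹)
          (inv_ne_zero (pow_ne_zero _ hπK))
          (by rw [map_zero, zero_add, map_inv₀, map_pow, ← IsScalarTower.algebraMap_apply,
            mul_comm]) hgen
        hn := hn0
        hpn := hpn
        hξ := by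
          rw [hk, ← zpow_natCast (algebraMap A K π) n,
            ← zpow_natCast (algebraMap A K π) (p * t), ← zpow_neg, mul_assoc, mul_assoc,
            ← zpow_add₀ hπK, ← zpow_add₀ hπK]
          have h0 : k + (-((p * t : ℕ) : ℤ) + (n : ℤ)) = 0 := by omega
          rw [h0, zpow_zero, mul_one] }
    exact ⟨T.isTotallyRamified, T.finrank_eq⟩
  obtain ⟨k', rfl⟩ := hpk
  obtain ⟨y₁, hy₁def⟩ : ∃ y₁ : L, y₁ = y * algebraMap K L (algebraMap A K π ^ (-k')) :=
    ⟨_, rfl⟩
  have hy₁ : y₁ ^ p = algebraMap A L (u : A) := by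
    rw [hy₁def, mul_pow, hy, ← map_pow, ← map_mul, hk, IsScalarTower.algebraMap_apply A K L]
    congr 1
    rw [← zpow_natCast (algebraMap A K π ^ (-k')) p, ← zpow_mul, mul_assoc, ← zpow_add₀ hπK]
    have h0 : (p : ℤ) * k' + -k' * (p : ℤ) = 0 := by ring
    rw [h0, zpow_zero, mul_one]
  have hgen₁ : IntermediateField.adjoin K {y₁} = ⊤ :=
    adjoin_affine_eq_top y y₁ 0 (algebraMap A K π ^ (-k')) (zpow_ne_zero _ hπK)
      (by rw [hy₁def, map_zero, zero_add, mul_comm]) hgen
  by_cases hres : ∃ r : A, IsLocalRing.residue A (u : A) = IsLocalRing.residue A r ^ p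
  swap
  · -- fierce
    push Not at hres
    right; right; right
    have F : FIData π p (X ^ p : A[X]) (algebraMap A K (u : A) * (algebraMap A K π ^ p)⁻¹)
        (y₁ * (algebraMap A L π)⁻¹) 1 (u : A) :=
      { hπ := D.hπ
        hp := D.hp
        hP := monic_X_pow p
        hdeg := natDegree_X_pow p
        hz := by
          rw [eval₂_X_pow, mul_pow, hy₁, inv_pow, map_mul, map_inv₀, map_pow,
            ← IsScalarTower.algebraMap_apply, ← IsScalarTower.algebraMap_apply]
        hgen := adjoin_affine_eq_top y₁ _ 0 ((algebraMap A K π)⁻¹) (inv_ne_zero hπK)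
          (by rw [map_zero, zero_add, map_inv₀, ← IsScalarTower.algebraMap_apply, mul_comm])
          hgen₁
        hm := Nat.one_pos
        ha := hres
        hξ := by
          rw [mul_one, mul_assoc, inv_mul_cancel₀ (pow_ne_zero _ hπK), mul_one] }
    exact F.case4
  obtain ⟨r, hr⟩ := hres
  have hrunit : IsUnit r := by
    rw [← residue_ne_zero_iff_isUnit]
    intro h0
    have h1 : IsLocalRing.residue A (u : A) = 0 := by rw [hr, h0, zero_pow D.hp.ne_zero]
    exact (residue_ne_zero_iff_isUnit _).mpr u.isUnit h1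
  obtain ⟨ru, hru⟩ : ∃ ru : Aˣ, (ru : A) = r := ⟨hrunit.unit, rfl⟩
  obtain ⟨ε, hε⟩ : ∃ ε : A, ε = (u : A) * ((ru⁻¹ : Aˣ) : A) ^ p - 1 := ⟨_, rfl⟩
  have hεmem : ε ∈ maximalIdeal A := by
    rw [← residue_eq_zero_iff, hε, map_sub, map_one, map_mul, map_pow, hr, ← hru, ← mul_pow,
      ← map_mul, Units.mul_inv, map_one, one_pow, sub_self]
  have hgr0 : algebraMap A L r ≠ 0 := by
    rw [← hru]
    intro h
    exact ru.ne_zero (algebraMap_inj A K L (h.trans (map_zero _).symm))
  obtain ⟨z₂, hz₂def⟩ : ∃ z₂ : L,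
      z₂ = (y₁ * (algebraMap A L r)⁻¹ - 1) * (algebraMap A L w)⁻¹ := ⟨_, rfl⟩
  obtain ⟨ξ₂, hξ₂⟩ : ∃ ξ₂ : K, ξ₂ = algebraMap A K ε * (algebraMap A K w ^ p)⁻¹ := ⟨_, rfl⟩
  have hz₂ : eval₂ (algebraMap A L) z₂ P = algebraMap K L ξ₂ := by
    have h1 := D.eval_identity (algebraMap A L) z₂
    have h2 : 1 + algebraMap A L w * z₂ = y₁ * (algebraMap A L r)⁻¹ := by
      rw [hz₂def, mul_comm _ (algebraMap A L w)⁻¹, ← mul_assoc, mul_inv_cancel₀ hgw0, one_mul]
      ring
    apply mul_left_cancel₀ (pow_ne_zero p hgw0)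
    rw [h1, h2, mul_pow, hy₁, inv_pow, hξ₂, map_mul, map_inv₀, map_pow,
      ← IsScalarTower.algebraMap_apply A K L w, mul_comm (algebraMap K L (algebraMap A K ε)),
      mul_inv_cancel_left₀ (pow_ne_zero p hgw0),
      ← IsScalarTower.algebraMap_apply, hε, map_sub, map_one, map_mul, map_pow,
      map_units_inv' (algebraMap A L) ru, hru, inv_pow]
  have hgen₂ : IntermediateField.adjoin K {z₂} = ⊤ :=
    adjoin_affine_eq_top y₁ z₂ (-(algebraMap A K w)⁻¹)
      ((algebraMap A K r)⁻¹ * (algebraMap A K w)⁻¹)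
      (mul_ne_zero (inv_ne_zero (by
        intro h
        apply hgr0
        rw [IsScalarTower.algebraMap_apply A K L, h, map_zero])) (inv_ne_zero hWK))
      (by
        rw [hz₂def, map_neg, map_mul, map_inv₀, map_inv₀, ← IsScalarTower.algebraMap_apply,
          ← IsScalarTower.algebraMap_apply]
        ring) hgen₁
  by_cases hε0 : ε = 0
  · rcases kum_caseA D hζK ξ₂ z₂ hz₂ hgen₂ 0
      (by rw [map_zero, hξ₂, hε0, map_zero, zero_mul]) with h | h
    · exact Or.inl h
    · exact Or.inr (Or.inl h)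
  have hWp : algebraMap A K w ^ p =
      algebraMap A K ((u₀ : A) ^ p) * algebraMap A K π ^ (p * e₀) := by
    rw [hw, map_mul, mul_pow, map_pow, map_pow, ← pow_mul, mul_comm e₀ p]
  have hu₀K : algebraMap A K ((u₀ : A) ^ p) ≠ 0 := by
    rw [map_pow]
    apply pow_ne_zero
    intro h
    exact u₀.ne_zero (IsFractionRing.injective A K (h.trans (map_zero _).symm))
  have hu₀K' : algebraMap A K (u₀ : A) ≠ 0 := by
    intro h
    exact u₀.ne_zero (IsFractionRing.injective A K (h.trans (map_zero _).symm))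
  have hξ₂' : ξ₂ * algebraMap A K π ^ (p * e₀) =
      algebraMap A K (ε * ((u₀⁻¹ : Aˣ) : A) ^ p) := by
    rw [hξ₂, hWp, map_mul, map_pow _ ((u₀⁻¹ : Aˣ) : A), map_units_inv' (algebraMap A K) u₀,
      map_pow, mul_inv, inv_pow, mul_assoc, mul_assoc, inv_mul_cancel₀ (pow_ne_zero _ hπK),
      mul_one]
  have hmem : ε * ((u₀⁻¹ : Aˣ) : A) ^ p ∈ maximalIdeal A := Ideal.mul_mem_right _ _ hεmem
  exact kum_finish D hζK (p * e₀)
    (fun e he ξ' z' hz' hgen' a' h' =>
      kum_cases_aux D hζK u₀ e₀ hw e ξ' z' hz' hgen' a' h' he)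
    ξ₂ z₂ hz₂ hgen₂ _ hmem hξ₂'

theorem kum_cases (D : KumData π p w P) [CharP (ResidueField A) p] {ζK : K}
    (hζK : IsPrimitiveRoot ζK p) (ξ : K) (z : L)
    (hz : eval₂ (algebraMap A L) z P = algebraMap K L ξ)
    (hgen : IntermediateField.adjoin K {z} = ⊤) : Cases p A K L := by
  obtain ⟨e₀, u₀, hw⟩ := IsDiscreteValuationRing.eq_unit_mul_pow_irreducible D.hw0
    (pi_irreducible D.hπ)
  exact kum_cases_of_root D hζK u₀ e₀ hw _ _ (D.y_pow ξ z hz) (D.y_gen z hgen)

open Polynomial in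
theorem kum_main (p : ℕ) (hp : p.Prime) [CharZero K] [CharP (IsLocalRing.ResidueField A) p]
    (ζ : A) (hζ : aeval ζ (cyclotomic p ℤ) = 0) (P : A[X])
    (hP : C ((1 - ζ) ^ p) * P = (1 + C (1 - ζ) * X) ^ p - 1) (π : A)
    (hπ : IsLocalRing.maximalIdeal A = Ideal.span {π})
    (ξ : K) (z : L) (hz : aeval z P = algebraMap K L ξ)
    (hgen : IntermediateField.adjoin K {z} = ⊤) :
    IsGalois K L ∧ Cases p A K L ∧
      ((∃ a : A, algebraMap A K a = ξ) → Module.finrank K L = 1 ∨
        (EtRam.IsUnramifiedExt A (algebraMap A L) ∧ Module.finrank K L = p)) ∧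
      (∀ (n : ℕ) (a : Aˣ), 0 < n → ¬ p ∣ n →
        ξ * algebraMap A K π ^ n = algebraMap A K a →
        EtRam.IsTotallyRamified A (algebraMap A L) ∧ Module.finrank K L = p) ∧
      (∀ (n : ℕ) (a : A), 0 < n → p ∣ n →
        (∀ r : A, IsLocalRing.residue A a ≠ IsLocalRing.residue A r ^ p) →
        ξ * algebraMap A K π ^ n = algebraMap A K a → Case4 p A L) := by
  haveI := Fact.mk hp
  have hp0 : ((p : ℕ) : A) ≠ 0 := by
    intro h
    have h1 := congrArg (algebraMap A K) h
    rw [map_natCast, map_zero] at h1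
    exact hp.ne_zero (Nat.cast_eq_zero.mp h1)
  have hζ' := isPrimitiveRoot_of_aeval hp0 ζ hζ
  have hwmem : 1 - ζ ∈ maximalIdeal A := by
    rw [← residue_eq_zero_iff]
    have h1 : (IsLocalRing.residue A (1 - ζ)) ^ p = 0 := by
      rw [map_sub, map_one, sub_pow_char, one_pow, ← map_pow, hζ'.pow_eq_one, map_one, sub_self]
    exact (pow_eq_zero_iff hp.ne_zero).mp h1
  have D : KumData π p (1 - ζ) P :=
    { hπ := hπ
      hp := hp
      hw0 := sub_ne_zero.mpr (hζ'.ne_one hp.one_lt).symm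
      hwmem := hwmem
      hunit := exists_unit_p hp hζ'
      hP := hP }
  have hζK := hζ'.map_of_injective (IsFractionRing.injective A K)
  have hz' : eval₂ (algebraMap A L) z P = algebraMap K L ξ := by
    rw [← aeval_def]
    exact hz
  exact ⟨kum_isGalois hp hζK _ _ (D.y_pow ξ z hz') (D.y_gen z hgen),
    kum_cases D hζK ξ z hz' hgen,
    fun ⟨a, ha⟩ => kum_caseA D hζK ξ z hz' hgen a ha,
    fun n a hn hpn hξ => kum_caseB D ξ z hz' hgen n a hn hpn hξ,
    fun n a hn hpn ha hξ => kum_caseC D ξ z hz' hgen n a hn hpn ha hξ⟩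

end Kum2

end Groth.Agent.H8.ASK
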