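import Mathlib
import Groth.Prelude.Def_EtRam

/-!
# Epp's mixed characteristic step, part A: pure algebra and valuation theory

Throughout `ϖ` is an element with `ϖ^(p-1) = -p` (Dwork's parameter) and `E ξ = 1 + ϖ^p ξ`.

* the binomial identity `(1+t)^p = 1 + t^p + p t (1 + t s)`;
* `F1`: `1 + t^p = (1+t)^p (1 + ϖ^(p-1) t θ)` with `θ ≡ 1 mod t`, for `t` in the maximal ideal;
* the "deep" reduction `E (z^(p^h)) = Z^p · E z · E β`, `β` integral;
* leading terms of products of `E`'s;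
* from a leading term to the certificate.
-/

set_option autoImplicit false
universe u

namespace Groth.Agent.H8.Mix

open Polynomial IsLocalRing

/-! ### The binomial identity -/

theorem exists_binom_poly (p : ℕ) (hp : p.Prime) :
    ∃ s : ℤ[X], (1 + X : ℤ[X]) ^ p = 1 + X ^ p + (p : ℤ[X]) * X * (1 + X * s) := by
  obtain ⟨r, hr⟩ := exists_add_pow_prime_eq hp (1 : ℤ[X]) X
  rw [one_pow, mul_one] at hr
  have h1 : r.coeff 0 = 1 := by
    have h2 := congrArg (fun f : ℤ[X] => f.coeff 1) hr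
    have h3 : ((p : ℤ[X]) * X * r).coeff 1 = (p : ℤ) * r.coeff 0 := by
      rw [mul_assoc, coeff_natCast_mul, coeff_X_mul]
    have hp1 : ¬ (1 : ℕ) = p := hp.one_lt.ne
    simp only [coeff_one_add_X_pow, Nat.choose_one_right, coeff_add, coeff_one, coeff_X_pow,
      one_ne_zero, if_false, hp1, zero_add, h3] at h2
    have hp0 : (p : ℤ) ≠ 0 := by exact_mod_cast hp.ne_zero
    have h4 : (p : ℤ) * 1 = (p : ℤ) * r.coeff 0 := by rw [mul_one]; exact h2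
    exact (mul_left_cancel₀ hp0 h4).symm
  have h5 : X ∣ r - 1 := by
    rw [X_dvd_iff, coeff_sub, h1, coeff_one_zero, sub_self]
  obtain ⟨s, hs⟩ := h5
  refine ⟨s, ?_⟩
  rw [hr, ← hs]
  ring

theorem exists_binom (p : ℕ) (hp : p.Prime) {R : Type*} [CommRing R] (t : R) :
    ∃ s : R, (1 + t) ^ p = 1 + t ^ p + (p : R) * t * (1 + t * s) := by
  obtain ⟨s, hs⟩ := exists_binom_poly p hp
  refine ⟨aeval t s, ?_⟩
  have h := congrArg (aeval t) hs
  simpa using h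

/-! ### `F1` in a local ring -/

theorem isUnit_one_add {R : Type*} [CommRing R] [IsLocalRing R] (t : R)
    (ht : t ∈ maximalIdeal R) : IsUnit (1 + t) := by
  by_contra h
  have h1 : 1 + t ∈ maximalIdeal R := (mem_maximalIdeal _).mpr (mem_nonunits_iff.mpr h)
  have h2 : (1 : R) ∈ maximalIdeal R := by
    have := Ideal.sub_mem _ h1 ht
    rwa [add_sub_cancel_right] at this
  exact (Ideal.ne_top_iff_one _).mp (Ideal.IsMaximal.ne_top inferInstance) h2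

theorem F1_ring {R : Type*} [CommRing R] [IsLocalRing R] (p : ℕ) (hp : p.Prime) (ϖ : R)
    (hϖ : ϖ ^ (p - 1) = -(p : R)) (t : R) (ht : t ∈ maximalIdeal R) :
    ∃ θ r : R, θ = 1 + t * r ∧ 1 + t ^ p = (1 + t) ^ p * (1 + ϖ ^ (p - 1) * t * θ) := by
  obtain ⟨s, hs⟩ := exists_binom p hp t
  obtain ⟨ui, hui⟩ : ∃ ui : R, (1 + t) ^ p * ui = 1 :=
    ((isUnit_one_add t ht).pow p).exists_right_inv
  have htp : t ^ p = t * t ^ (p - 1) := by
    rw [← pow_succ', Nat.sub_add_cancel hp.one_lt.le]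
  refine ⟨(1 + t * s) * ui, (s - t ^ (p - 1) - (p : R) * (1 + t * s)) * ui, ?_, ?_⟩
  · linear_combination hui - ui * hs - ui * htp
  · linear_combination (-1 : R) * hs - (ϖ ^ (p - 1) * t * (1 + t * s)) * hui -
      (t * (1 + t * s)) * hϖ

/-! ### The `E`-calculus in a valued field -/

section Field

variable {Λ : Type*} [Field Λ] (W : ValuationSubring Λ)

/-- `E ξ = 1 + ϖ^p ξ`. -/
def E (ϖ : Λ) (p : ℕ) (ξ : Λ) : Λ := 1 + ϖ ^ p * ξ

theorem E_mul (ϖ : Λ) (p : ℕ) (a b : Λ) :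
    E ϖ p a * E ϖ p b = E ϖ p (a + b + ϖ ^ p * a * b) := by
  unfold E; ring

theorem E_zero (ϖ : Λ) (p : ℕ) : E ϖ p 0 = 1 := by
  unfold E; rw [mul_zero, add_zero]

theorem val_E (ϖ : Λ) (p : ℕ) (a : Λ) (h : W.valuation (ϖ ^ p * a) < 1) :
    W.valuation (E ϖ p a) = 1 := by
  unfold E
  exact Valuation.map_one_add_of_lt (v := W.valuation) h

theorem E_ne_zero (ϖ : Λ) (p : ℕ) (a : Λ) (h : W.valuation (ϖ ^ p * a) < 1) : E ϖ p a ≠ 0 := by
  intro h0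
  have := val_E W ϖ p a h
  rw [h0, map_zero] at this
  exact zero_ne_one this

theorem val_p_lt (p : ℕ) (hp : p.Prime) (ϖ : Λ) (hϖ : ϖ ^ (p - 1) = -(p : Λ))
    (hϖlt : W.valuation ϖ < 1) : W.valuation (p : Λ) < 1 := by
  have h1 : (p : Λ) = -ϖ ^ (p - 1) := by rw [hϖ, neg_neg]
  rw [h1, Valuation.map_neg, map_pow]
  exact pow_lt_one₀ zero_le' hϖlt (by have := hp.two_le; omega)

theorem F1_field (p : ℕ) (hp : p.Prime) (ϖ : Λ) (hϖ : ϖ ^ (p - 1) = -(p : Λ))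
    (hϖ1 : W.valuation ϖ ≤ 1) (z : Λ) (hz : W.valuation (ϖ * z) < 1) :
    ∃ θ : Λ, W.valuation (θ - 1) ≤ W.valuation (ϖ * z) ∧ 1 + ϖ * z ≠ 0 ∧
      E ϖ p (z ^ p) = (1 + ϖ * z) ^ p * E ϖ p (z * θ) := by
  have htW : ϖ * z ∈ W := (W.valuation_le_one_iff _).mp hz.le
  have hϖW : ϖ ∈ W := (W.valuation_le_one_iff _).mp hϖ1
  obtain ⟨t', ht'⟩ : ∃ t' : W, (t' : Λ) = ϖ * z := ⟨⟨ϖ * z, htW⟩, rfl⟩
  obtain ⟨ϖ', hϖ'⟩ : ∃ ϖ' : W, (ϖ' : Λ) = ϖ := ⟨⟨ϖ, hϖW⟩, rfl⟩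
  have htm : t' ∈ maximalIdeal W := by
    rw [W.valuation_lt_one_iff, ht']; exact hz
  have hϖ'' : ϖ' ^ (p - 1) = -(p : W) := by
    apply Subtype.ext
    push_cast
    rw [hϖ', hϖ]
  obtain ⟨θ', r', hθ, hid⟩ := F1_ring p hp ϖ' hϖ'' t' htm
  have hθΛ : (θ' : Λ) = 1 + ϖ * z * (r' : Λ) := by
    rw [hθ]
    push_cast
    rw [ht']
  have hidΛ : 1 + (ϖ * z) ^ p = (1 + ϖ * z) ^ p * (1 + ϖ ^ (p - 1) * (ϖ * z) * (θ' : Λ)) := by
    have := Subtype.ext_iff.mp hid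
    push_cast at this
    rw [ht', hϖ'] at this
    exact this
  have hr1 : W.valuation (r' : Λ) ≤ 1 := (W.valuation_le_one_iff _).mpr r'.2
  refine ⟨(θ' : Λ), ?_, ?_, ?_⟩
  · rw [hθΛ, add_sub_cancel_left, map_mul]
    calc W.valuation (ϖ * z) * W.valuation (r' : Λ) ≤ W.valuation (ϖ * z) * 1 :=
          mul_le_mul' le_rfl hr1
      _ = _ := mul_one _
  · intro h0
    have h1 := Valuation.map_one_add_of_lt (v := W.valuation) hz
    rw [h0, map_zero] at h1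
    exact zero_ne_one h1
  · have hpp : ϖ ^ p = ϖ ^ (p - 1) * ϖ := by
      rw [← pow_succ, Nat.sub_add_cancel hp.one_lt.le]
    unfold E
    rw [show ϖ ^ p * z ^ p = (ϖ * z) ^ p from (mul_pow _ _ _).symm, hidΛ, hpp]
    ring

theorem deep_step (p : ℕ) (hp : p.Prime) (ϖ : Λ) (hϖ : ϖ ^ (p - 1) = -(p : Λ))
    (hϖ1 : W.valuation ϖ ≤ 1) (z : Λ) (hz : W.valuation (ϖ * z) < 1)
    (hz2 : W.valuation (ϖ * z ^ 2) ≤ 1) :
    ∃ β : Λ, W.valuation β ≤ 1 ∧ 1 + ϖ * z ≠ 0 ∧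
      E ϖ p (z ^ p) = (1 + ϖ * z) ^ p * (E ϖ p z * E ϖ p β) := by
  obtain ⟨θ, hθ, hne, hid⟩ := F1_field W p hp ϖ hϖ hϖ1 z hz
  have hpz : W.valuation (ϖ ^ p * z) < 1 := by
    have hpp : ϖ ^ p = ϖ ^ (p - 1) * ϖ := by
      rw [← pow_succ, Nat.sub_add_cancel hp.one_lt.le]
    rw [hpp, mul_assoc, map_mul, map_pow]
    calc W.valuation ϖ ^ (p - 1) * W.valuation (ϖ * z) ≤ 1 * W.valuation (ϖ * z) :=
          mul_le_mul' (pow_le_one₀ zero_le' hϖ1) le_rfl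
      _ = W.valuation (ϖ * z) := one_mul _
      _ < 1 := hz
  have hE1 : W.valuation (E ϖ p z) = 1 := val_E W ϖ p z hpz
  have hE0 : E ϖ p z ≠ 0 := E_ne_zero W ϖ p z hpz
  refine ⟨z * (θ - 1) * (E ϖ p z)⁻¹, ?_, hne, ?_⟩
  · rw [map_mul, map_mul, map_inv₀, hE1, inv_one, mul_one]
    calc W.valuation z * W.valuation (θ - 1) ≤ W.valuation z * W.valuation (ϖ * z) :=
          mul_le_mul' le_rfl hθ
      _ = W.valuation (ϖ * z ^ 2) := by rw [← map_mul]; congr 1; ring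
      _ ≤ 1 := hz2
  · rw [hid]
    congr 1
    have h1 : E ϖ p z * (E ϖ p z)⁻¹ = 1 := mul_inv_cancel₀ hE0
    unfold E at h1 ⊢
    linear_combination (-(ϖ ^ p * z * (θ - 1))) * h1

theorem deep_pow (p : ℕ) (hp : p.Prime) (ϖ : Λ) (hϖ : ϖ ^ (p - 1) = -(p : Λ))
    (hϖlt : W.valuation ϖ < 1) :
    ∀ (h : ℕ) (z : Λ), 1 ≤ W.valuation z →
      (1 ≤ h → W.valuation ϖ * W.valuation z ^ (2 * p ^ (h - 1)) ≤ 1) →
      ∃ Z β : Λ, Z ≠ 0 ∧ W.valuation β ≤ 1 ∧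
        E ϖ p (z ^ (p ^ h)) = Z ^ p * (E ϖ p z * E ϖ p β) := by
  intro h
  induction h with
  | zero =>
    intro z _ _
    refine ⟨1, 0, one_ne_zero, by rw [map_zero]; exact zero_le', ?_⟩
    rw [pow_zero, pow_one, one_pow, one_mul, E_zero, mul_one]
  | succ h ih =>
    intro z hz1 hdeep
    have hd := hdeep (by omega)
    rw [Nat.add_sub_cancel] at hd
    obtain ⟨z', hz'⟩ : ∃ z' : Λ, z' = z ^ (p ^ h) := ⟨_, rfl⟩
    have hz'2 : W.valuation (ϖ * z' ^ 2) ≤ 1 := by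
      rw [hz', ← pow_mul, map_mul, map_pow, mul_comm (p ^ h) 2]
      exact hd
    have hz'lt : W.valuation (ϖ * z') < 1 := by
      by_contra hcon
      have h1 : 1 ≤ W.valuation (ϖ * z') := not_lt.mp hcon
      have h2 : 1 ≤ W.valuation (ϖ * z') ^ 2 := one_le_pow₀ h1
      have h3 : W.valuation (ϖ * z') ^ 2 = W.valuation ϖ * W.valuation (ϖ * z' ^ 2) := by
        rw [← map_pow, ← map_mul]; congr 1; ring
      rw [h3] at h2
      have h4 : W.valuation ϖ * W.valuation (ϖ * z' ^ 2) < 1 :=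
        calc W.valuation ϖ * W.valuation (ϖ * z' ^ 2) ≤ W.valuation ϖ * 1 :=
              mul_le_mul' le_rfl hz'2
          _ = W.valuation ϖ := mul_one _
          _ < 1 := hϖlt
      exact absurd h2 (not_le.mpr h4)
    obtain ⟨β₁, hβ₁, hne, hid⟩ := deep_step W p hp ϖ hϖ hϖlt.le z' hz'lt hz'2
    obtain ⟨Z, β₂, hZ, hβ₂, hid₂⟩ := ih z hz1 (fun hh => by
      have h5 : W.valuation z ^ (2 * p ^ (h - 1)) ≤ W.valuation z ^ (2 * p ^ h) :=
        pow_le_pow_right₀ hz1 (Nat.mul_le_mul_left 2 (Nat.pow_le_pow_right hp.pos (by omega)))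
      calc W.valuation ϖ * W.valuation z ^ (2 * p ^ (h - 1))
          ≤ W.valuation ϖ * W.valuation z ^ (2 * p ^ h) := mul_le_mul' le_rfl h5
        _ ≤ 1 := hd)
    have hϖp1 : W.valuation (ϖ ^ p) ≤ 1 := by
      rw [map_pow]; exact pow_le_one₀ zero_le' hϖlt.le
    refine ⟨(1 + ϖ * z') * Z, β₂ + β₁ + ϖ ^ p * β₂ * β₁, mul_ne_zero hne hZ, ?_, ?_⟩
    · apply Valuation.map_add_le _ (Valuation.map_add_le _ hβ₂ hβ₁)
      rw [map_mul, map_mul]
      calc W.valuation (ϖ ^ p) * W.valuation β₂ * W.valuation β₁ ≤ 1 * 1 * 1 :=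
            mul_le_mul' (mul_le_mul' hϖp1 hβ₂) hβ₁
        _ = 1 := by rw [one_mul, one_mul]
    · have e1 : z ^ (p ^ (h + 1)) = z' ^ p := by rw [hz', ← pow_mul, pow_succ]
      rw [← hz'] at hid₂
      rw [e1, hid, hid₂, ← E_mul, mul_pow]
      ring

/-! ### Leading terms -/

/-- `η` has leading term `y`. -/
def Lead (η y : Λ) : Prop := W.valuation (η - y) < W.valuation y

variable {W}

theorem Lead.val_eq {η y : Λ} (h : Lead W η y) : W.valuation η = W.valuation y :=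
  Valuation.map_eq_of_sub_lt _ h

theorem Lead.refl {y : Λ} (hy : y ≠ 0) : Lead W y y := by
  unfold Lead
  rw [sub_self, map_zero]
  exact zero_lt_iff.mpr ((Valuation.ne_zero_iff _).mpr hy)

theorem lead_mul (ϖ : Λ) (p : ℕ) {a b y : Λ} (ha : Lead W a y)
    (hb : W.valuation b < W.valuation y) (hy : W.valuation (ϖ ^ p * y) ≤ 1) :
    Lead W (a + b + ϖ ^ p * a * b) y := by
  unfold Lead
  have e1 : a + b + ϖ ^ p * a * b - y = (a - y) + b + ϖ ^ p * a * b := by ring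
  rw [e1]
  apply Valuation.map_add_lt _ (Valuation.map_add_lt _ ha hb)
  rw [map_mul]
  have h1 : W.valuation (ϖ ^ p * a) ≤ 1 := by
    rw [map_mul, ha.val_eq, ← map_mul]; exact hy
  calc W.valuation (ϖ ^ p * a) * W.valuation b ≤ 1 * W.valuation b := mul_le_mul' h1 le_rfl
    _ = W.valuation b := one_mul _
    _ < W.valuation y := hb

theorem lead_prod (ϖ : Λ) (p : ℕ) {ι : Type*} [DecidableEq ι] (y : ι → Λ) (ys : Λ)
    (hys : W.valuation (ϖ ^ p * ys) ≤ 1) :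
    ∀ S : Finset ι, (∀ t ∈ S, W.valuation (y t) < W.valuation ys) → ∀ a : Λ, Lead W a ys →
      ∃ η : Λ, E ϖ p a * ∏ t ∈ S, E ϖ p (y t) = E ϖ p η ∧ Lead W η ys := by
  intro S
  induction S using Finset.induction_on with
  | empty =>
    intro _ a ha
    exact ⟨a, by rw [Finset.prod_empty, mul_one], ha⟩
  | insert t S ht ih =>
    intro hS a ha
    have h1 := lead_mul ϖ p ha (hS t (Finset.mem_insert_self t S)) hys
    obtain ⟨η, hη, hlead⟩ := ih (fun t' ht' => hS t' (Finset.mem_insert_of_mem ht')) _ h1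
    refine ⟨η, ?_, hlead⟩
    rw [Finset.prod_insert ht, ← mul_assoc, E_mul, hη]

variable (W)

/-! ### The certificate -/

/-- The certificate: `η` is integral, or `η x^(p·mm)` is a unit whose residue is not a `p`-th power. -/
def Cert (p : ℕ) (x η : Λ) : Prop :=
  W.valuation η ≤ 1 ∨ ∃ mm : ℕ, 1 ≤ mm ∧ W.valuation (η * x ^ (p * mm)) ≤ 1 ∧
    ∀ r : Λ, W.valuation r ≤ 1 → ¬ W.valuation (η * x ^ (p * mm) - r ^ p) < 1

theorem cert_of_lead (p : ℕ) (Q x C η : Λ) (hQpos : 0 < W.valuation Q)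
    (hQlt : W.valuation Q < 1) (hx1 : W.valuation x < 1)
    (hxdisc : ∀ y : Λ, y ≠ 0 → ∃ m : ℤ, W.valuation y = W.valuation x ^ m)
    (hC : W.valuation C ≤ 1) (m'' : ℕ) (hm1 : 1 ≤ m'') (hp0 : 0 < p)
    (hlead : Lead W η (C * (Q⁻¹) ^ (p * m'')))
    (hres : ∀ d' : Λ, W.valuation d' ≤ 1 → ¬ W.valuation (C - d' ^ p) < 1) :
    Cert W p x η := by
  right
  have hQ0 : Q ≠ 0 := (Valuation.ne_zero_iff _).mp hQpos.ne'
  obtain ⟨mf, hmf⟩ : ∃ mf : ℕ, mf = p * m'' := ⟨_, rfl⟩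
  rw [← hmf] at hlead
  have hQQ : ∀ m : ℕ, (Q⁻¹) ^ m * Q ^ m = 1 := by
    intro m
    rw [← mul_pow, inv_mul_cancel₀ hQ0, one_pow]
  have hmts : 1 ≤ mf := by rw [hmf]; exact Nat.mul_pos hp0 hm1
  obtain ⟨ρ, hρ⟩ : ∃ ρ : Λ, ρ = (η - C * (Q⁻¹) ^ mf) * Q ^ mf := ⟨_, rfl⟩
  have hηQ : η * Q ^ mf = C + ρ := by
    rw [hρ]
    linear_combination C * hQQ mf
  have hρ1 : W.valuation ρ < 1 := by
    rw [hρ, map_mul]
    have h1 : W.valuation (C * (Q⁻¹) ^ mf) * W.valuation (Q ^ mf) = W.valuation C := by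
      rw [← map_mul, mul_assoc, hQQ, mul_one]
    have hQm0 : W.valuation (Q ^ mf) ≠ 0 := (Valuation.ne_zero_iff _).mpr (pow_ne_zero _ hQ0)
    calc W.valuation (η - C * (Q⁻¹) ^ mf) * W.valuation (Q ^ mf)
        < W.valuation (C * (Q⁻¹) ^ mf) * W.valuation (Q ^ mf) :=
          mul_lt_mul_of_pos_right hlead (zero_lt_iff.mpr hQm0)
      _ = W.valuation C := h1
      _ ≤ 1 := hC
  have hCρ : W.valuation (C + ρ) ≤ 1 := Valuation.map_add_le _ hC hρ1.le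
  have hxpos : 0 < W.valuation x := by
    rw [zero_lt_iff]
    intro h0
    obtain ⟨m, hm⟩ := hxdisc Q hQ0
    rw [h0] at hm
    rcases eq_or_ne m 0 with rfl | hm0
    · rw [zpow_zero] at hm
      exact hQlt.ne hm
    · rw [zero_zpow m hm0] at hm
      exact hQpos.ne' hm
  have hx0 : x ≠ 0 := (Valuation.ne_zero_iff _).mp hxpos.ne'
  obtain ⟨εz, hεz⟩ := hxdisc Q hQ0
  have hεpos : 0 < εz := by
    have h1 : W.valuation x ^ εz < 1 := by rw [← hεz]; exact hQlt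
    exact (zpow_lt_one_iff_right_of_lt_one₀ hxpos hx1).mp h1
  obtain ⟨εn, rfl⟩ := Int.eq_ofNat_of_zero_le hεpos.le
  rw [zpow_natCast] at hεz
  have hεn1 : 1 ≤ εn := by exact_mod_cast hεpos
  obtain ⟨u, hu⟩ : ∃ u : Λ, u = Q * (x ^ εn)⁻¹ := ⟨_, rfl⟩
  have hxε0 : x ^ εn ≠ 0 := pow_ne_zero _ hx0
  have hu1 : W.valuation u = 1 := by
    rw [hu, map_mul, map_inv₀, map_pow, hεz]
    exact mul_inv_cancel₀ (pow_ne_zero _ hxpos.ne')
  have hu0 : u ≠ 0 := (Valuation.ne_zero_iff _).mp (by rw [hu1]; exact one_ne_zero)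
  have hxQ : x ^ εn = Q * u⁻¹ := by
    rw [hu, mul_inv, inv_inv, ← mul_assoc, mul_inv_cancel₀ hQ0, one_mul]
  have huu : ∀ m : ℕ, (u⁻¹) ^ m * u ^ m = 1 := by
    intro m
    rw [← mul_pow, inv_mul_cancel₀ hu0, one_pow]
  have hupow : ∀ m : ℕ, W.valuation (u ^ m) = 1 := by
    intro m
    rw [map_pow, hu1, one_pow]
  refine ⟨εn * m'', Nat.mul_pos hεn1 hm1, ?_, ?_⟩
  all_goals
    have hexp : x ^ (p * (εn * m'')) = Q ^ mf * (u⁻¹) ^ mf := by
      rw [hmf, ← mul_pow, ← hxQ, ← pow_mul]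
      congr 1
      ring
    have hc'' : η * x ^ (p * (εn * m'')) = (C + ρ) * (u⁻¹) ^ mf := by
      rw [hexp, ← mul_assoc, hηQ]
  · rw [hc'', map_mul, map_pow, map_inv₀, hu1, inv_one, one_pow, mul_one]
    exact hCρ
  · intro r hr hcon
    obtain ⟨d', hd'⟩ : ∃ d' : Λ, d' = u ^ m'' * r := ⟨_, rfl⟩
    have hd'p : d' ^ p = u ^ mf * r ^ p := by
      rw [hd', mul_pow, ← pow_mul, hmf, mul_comm m'' p]
    have hd'1 : W.valuation d' ≤ 1 := by
      rw [hd', map_mul, hupow, one_mul]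
      exact hr
    have e2 : (C + ρ) - d' ^ p = u ^ mf * (η * x ^ (p * (εn * m'')) - r ^ p) := by
      rw [hc'', hd'p]
      linear_combination (-(C + ρ)) * huu mf
    have h3 : W.valuation ((C + ρ) - d' ^ p) < 1 := by
      rw [e2, map_mul, hupow, one_mul]
      exact hcon
    have h4 : W.valuation (C - d' ^ p) < 1 := by
      have e3 : C - d' ^ p = ((C + ρ) - d' ^ p) - ρ := by ring
      rw [e3]
      exact Valuation.map_sub_lt _ h3 hρ1
    exact hres d' hd'1 h4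

theorem cert_of_unit (p : ℕ) (hp : p.Prime) (ϖ x G : Λ) (hϖ : ϖ ^ (p - 1) = -(p : Λ))
    (hϖlt : W.valuation ϖ < 1) (hϖ0 : ϖ ≠ 0) (hx1 : W.valuation x < 1)
    (hxdisc : ∀ y : Λ, y ≠ 0 → ∃ m : ℤ, W.valuation y = W.valuation x ^ m)
    (hG1 : W.valuation G ≤ 1)
    (hres : ∀ d' : Λ, W.valuation d' ≤ 1 → ¬ W.valuation (G - d' ^ p) < 1) :
    ∃ η : Λ, G = E ϖ p η ∧ Cert W p x η := by
  have hϖpos : 0 < W.valuation ϖ := zero_lt_iff.mpr ((Valuation.ne_zero_iff _).mpr hϖ0)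
  have hϖp0 : ϖ ^ p ≠ 0 := pow_ne_zero _ hϖ0
  refine ⟨(G - 1) * (ϖ ^ p)⁻¹, ?_, Or.inr ?_⟩
  · unfold E
    rw [mul_comm (G - 1), ← mul_assoc, mul_inv_cancel₀ hϖp0, one_mul]
    ring
  have hxpos : 0 < W.valuation x := by
    rw [zero_lt_iff]
    intro h0
    obtain ⟨m, hm⟩ := hxdisc ϖ hϖ0
    rw [h0] at hm
    rcases eq_or_ne m 0 with rfl | hm0
    · rw [zpow_zero] at hm
      exact hϖlt.ne hm
    · rw [zero_zpow m hm0] at hm
      exact hϖpos.ne' hm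
  have hx0 : x ≠ 0 := (Valuation.ne_zero_iff _).mp hxpos.ne'
  obtain ⟨εz, hεz⟩ := hxdisc ϖ hϖ0
  have hεpos : 0 < εz := by
    have h1 : W.valuation x ^ εz < 1 := by rw [← hεz]; exact hϖlt
    exact (zpow_lt_one_iff_right_of_lt_one₀ hxpos hx1).mp h1
  obtain ⟨εn, rfl⟩ := Int.eq_ofNat_of_zero_le hεpos.le
  rw [zpow_natCast] at hεz
  have hεn1 : 1 ≤ εn := by exact_mod_cast hεpos
  obtain ⟨u, hu⟩ : ∃ u : Λ, u = ϖ * (x ^ εn)⁻¹ := ⟨_, rfl⟩
  have hxε0 : x ^ εn ≠ 0 := pow_ne_zero _ hx0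
  have hu1 : W.valuation u = 1 := by
    rw [hu, map_mul, map_inv₀, map_pow, hεz]
    exact mul_inv_cancel₀ (pow_ne_zero _ hxpos.ne')
  have hu0 : u ≠ 0 := (Valuation.ne_zero_iff _).mp (by rw [hu1]; exact one_ne_zero)
  have hϖu : ϖ = x ^ εn * u := by
    rw [hu, mul_comm ϖ, ← mul_assoc, mul_inv_cancel₀ hxε0, one_mul]
  have hkey : (G - 1) * (ϖ ^ p)⁻¹ * x ^ (p * εn) = (G - 1) * (u⁻¹) ^ p := by
    have h1 : ϖ ^ p = x ^ (p * εn) * u ^ p := by
      rw [hϖu, mul_pow, ← pow_mul, mul_comm εn p]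
    have hx0' : x ^ (p * εn) ≠ 0 := pow_ne_zero _ hx0
    have hup0 : u ^ p ≠ 0 := pow_ne_zero _ hu0
    rw [h1, inv_pow]
    field_simp
  have huinv1 : W.valuation ((u⁻¹) ^ p) = 1 := by
    rw [map_pow, map_inv₀, hu1, inv_one, one_pow]
  have hG1' : W.valuation (G - 1) ≤ 1 :=
    Valuation.map_sub_le (v := W.valuation) hG1 (by rw [map_one])
  refine ⟨εn, hεn1, ?_, ?_⟩
  · rw [hkey, map_mul, huinv1, mul_one]; exact hG1'
  · intro r hr hcon
    rw [hkey] at hcon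
    obtain ⟨d', hd'⟩ : ∃ d' : Λ, d' = 1 + r * u := ⟨_, rfl⟩
    obtain ⟨s, hs⟩ := exists_binom p hp (r * u)
    have hru1 : W.valuation (r * u) ≤ 1 := by rw [map_mul, hu1, mul_one]; exact hr
    have hd'1 : W.valuation d' ≤ 1 := by
      rw [hd']
      exact Valuation.map_add_le _ (by rw [map_one]) hru1
    -- `s` is integral since it lies in the valuation ring
    have hsW : ∃ s' : Λ, W.valuation s' ≤ 1 ∧
        (1 + r * u) ^ p = 1 + (r * u) ^ p + (p : Λ) * (r * u) * (1 + r * u * s') := by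
      have hruW : r * u ∈ W := (W.valuation_le_one_iff _).mp hru1
      obtain ⟨s₀, hs₀⟩ := exists_binom p hp (⟨r * u, hruW⟩ : W)
      refine ⟨(s₀ : Λ), (W.valuation_le_one_iff _).mpr s₀.2, ?_⟩
      have := Subtype.ext_iff.mp hs₀
      push_cast at this
      exact this
    obtain ⟨s', hs'1, hs'⟩ := hsW
    have hplt := val_p_lt W p hp ϖ hϖ hϖlt
    have h1 : W.valuation (d' ^ p - 1 - (r * u) ^ p) < 1 := by
      rw [hd', hs']
      have e1 : 1 + (r * u) ^ p + (p : Λ) * (r * u) * (1 + r * u * s') - 1 - (r * u) ^ p =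
          (p : Λ) * ((r * u) * (1 + r * u * s')) := by ring
      rw [e1, map_mul]
      have h2 : W.valuation ((r * u) * (1 + r * u * s')) ≤ 1 := by
        rw [map_mul]
        have h3 : W.valuation (1 + r * u * s') ≤ 1 := by
          apply Valuation.map_add_le _ (by rw [map_one])
          rw [map_mul]
          calc W.valuation (r * u) * W.valuation s' ≤ 1 * 1 := mul_le_mul' hru1 hs'1
            _ = 1 := one_mul _
        calc W.valuation (r * u) * W.valuation (1 + r * u * s') ≤ 1 * 1 := mul_le_mul' hru1 h3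
          _ = 1 := one_mul _
      calc W.valuation (p : Λ) * W.valuation ((r * u) * (1 + r * u * s'))
          ≤ W.valuation (p : Λ) * 1 := mul_le_mul' le_rfl h2
        _ = W.valuation (p : Λ) := mul_one _
        _ < 1 := hplt
    have h4 : W.valuation (G - 1 - (r * u) ^ p) < 1 := by
      have e2 : G - 1 - (r * u) ^ p = u ^ p * ((G - 1) * (u⁻¹) ^ p - r ^ p) := by
        have huu : u ^ p * (u⁻¹) ^ p = 1 := by rw [← mul_pow, mul_inv_cancel₀ hu0, one_pow]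
        rw [mul_pow]
        linear_combination (-(G - 1)) * huu
      rw [e2, map_mul, map_pow, hu1, one_pow, one_mul]
      exact hcon
    have h5 : W.valuation (G - d' ^ p) < 1 := by
      have e3 : G - d' ^ p = (G - 1 - (r * u) ^ p) - (d' ^ p - 1 - (r * u) ^ p) := by ring
      rw [e3]
      exact Valuation.map_sub_lt _ h4 h1
    exact hres d' hd'1 h5

end Field

end Groth.Agent.H8.Mix
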