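import Mathlib
import Groth.Agent.Lib.Helper8.ASK.MixA

/-!
# Epp's mixed characteristic step, part B: the multiplicative normal form in a valued field
-/

set_option autoImplicit false
universe u

namespace Groth.Agent.H8.Mix

open Polynomial IsLocalRing

section NF

variable {Λ : Type*} [Field Λ] (W : ValuationSubring Λ) (p : ℕ)

/-- The value `c^(p^h) x^(-n)` of a term `(n, c, h)`. -/
def tv (x : Λ) (t : ℕ × Λ × ℕ) : Λ := t.2.1 ^ (p ^ t.2.2) * (x⁻¹) ^ t.1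

/-- `c` is not a `p`-th power modulo the maximal ideal. -/
def NonPth (c : Λ) : Prop := ∀ d : Λ, W.valuation d ≤ 1 → ¬ W.valuation (c - d ^ p) < 1

/-- Normal form condition. -/
def IsNFv (n : ℕ) (S : Finset (ℕ × Λ × ℕ)) : Prop :=
  (∀ t ∈ S, 1 ≤ t.1 ∧ t.1 ≤ n ∧ (¬ p ∣ t.1 ∨ t.2.2 = 0) ∧ W.valuation t.2.1 ≤ 1 ∧
    NonPth W p t.2.1) ∧
  (∀ t ∈ S, ∀ t' ∈ S, t.1 = t'.1 → t = t')

/-- The dichotomy for residues. -/
def Dich {K₂ : Type*} [Field K₂] (ι : K₂ →+* Λ) : Prop :=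
  ∀ b : Λ, W.valuation b ≤ 1 →
    (∃ a : K₂, W.valuation (b - ι a) < 1) ∨
    (∃ (h : ℕ) (c : Λ), W.valuation c ≤ 1 ∧ W.valuation (b - c ^ (p ^ h)) < 1 ∧ NonPth W p c)

variable {W p}

theorem IsNFv.mono {n n' : ℕ} {S : Finset (ℕ × Λ × ℕ)} (h : IsNFv W p n S) (hn : n ≤ n') :
    IsNFv W p n' S :=
  ⟨fun t ht => ⟨(h.1 t ht).1, (h.1 t ht).2.1.trans hn, (h.1 t ht).2.2⟩, h.2⟩

theorem NonPth.val_eq_one (hp0 : p ≠ 0) {c : Λ} (h : NonPth W p c) (hc : W.valuation c ≤ 1) :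
    W.valuation c = 1 := by
  refine le_antisymm hc (not_lt.mp (fun hlt => ?_))
  apply h 0 (by rw [map_zero]; exact zero_le_one)
  rw [zero_pow hp0, sub_zero]
  exact hlt

theorem NonPth.congr {c c' : Λ} (h : NonPth W p c) (hcc : W.valuation (c' - c) < 1) :
    NonPth W p c' := by
  intro d hd hcon
  apply h d hd
  have e : c - d ^ p = (c' - d ^ p) - (c' - c) := by ring
  rw [e]
  exact Valuation.map_sub_lt _ hcon hcc

theorem E_split (ϖ : Λ) (p : ℕ) (ξ a : Λ) (h0 : E ϖ p a ≠ 0) :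
    E ϖ p ξ = E ϖ p a * E ϖ p ((ξ - a) * (E ϖ p a)⁻¹) := by
  have h : E ϖ p a * (E ϖ p a)⁻¹ = 1 := mul_inv_cancel₀ h0
  unfold E at h ⊢
  linear_combination (-(ϖ ^ p * (ξ - a))) * h

theorem peel (ϖ x a₀ ξ : Λ) (m : ℕ) (ha : W.valuation (ϖ ^ p * a₀) < 1)
    (hξ : W.valuation ((ξ - a₀) * x ^ m) ≤ 1) :
    ∃ ξ' : Λ, E ϖ p ξ = E ϖ p a₀ * E ϖ p ξ' ∧ W.valuation (ξ' * x ^ m) ≤ 1 := by
  have h1 := val_E W ϖ p a₀ ha
  have h0 := E_ne_zero W ϖ p a₀ ha
  refine ⟨(ξ - a₀) * (E ϖ p a₀)⁻¹, E_split ϖ p ξ a₀ h0, ?_⟩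
  have e : (ξ - a₀) * (E ϖ p a₀)⁻¹ * x ^ m = (ξ - a₀) * x ^ m * (E ϖ p a₀)⁻¹ := by ring
  rw [e, map_mul, map_inv₀, h1, inv_one, mul_one]
  exact hξ

theorem val_head_lt (ϖp c P : Λ) (n : ℕ) (hP0 : P ≠ 0) (hc : W.valuation c ≤ 1)
    (hlt : W.valuation ϖp < W.valuation P ^ n) :
    W.valuation (ϖp * (c * (P⁻¹) ^ n)) < 1 := by
  have h1 : W.valuation (ϖp * (c * (P⁻¹) ^ n)) * W.valuation P ^ n =
      W.valuation ϖp * W.valuation c := by
    rw [← map_pow, ← map_mul, ← map_mul]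
    congr 1
    have : (P⁻¹) ^ n * P ^ n = 1 := by rw [← mul_pow, inv_mul_cancel₀ hP0, one_pow]
    linear_combination (ϖp * c) * this
  by_contra hcon
  have h2 : 1 ≤ W.valuation (ϖp * (c * (P⁻¹) ^ n)) := not_lt.mp hcon
  have h3 : W.valuation P ^ n ≤ W.valuation ϖp * W.valuation c := by
    rw [← h1]
    calc W.valuation P ^ n = 1 * W.valuation P ^ n := (one_mul _).symm
      _ ≤ _ := mul_le_mul' h2 le_rfl
  have h4 : W.valuation ϖp * W.valuation c ≤ W.valuation ϖp := by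
    calc _ ≤ W.valuation ϖp * 1 := mul_le_mul' le_rfl hc
      _ = _ := mul_one _
  exact absurd (lt_of_le_of_lt (h3.trans h4) hlt) (lt_irrefl _)

theorem nf (hp : p.Prime) (ϖ : Λ) (hϖ : ϖ ^ (p - 1) = -(p : Λ)) (hϖlt : W.valuation ϖ < 1)
    {K₂ : Type*} [Field K₂] (ι : K₂ →+* Λ) (ϖ₂ x₂ : K₂) (hϖ₂ : ι ϖ₂ = ϖ)
    (hx1 : W.valuation (ι x₂) < 1) (hx0 : x₂ ≠ 0)
    (hxunif : ∀ y : Λ, W.valuation y < 1 → W.valuation y ≤ W.valuation (ι x₂))
    (hdich : Dich W p ι) :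
    ∀ (n : ℕ) (ξ : Λ), W.valuation (ϖ ^ p) < W.valuation (ι x₂) ^ n →
      W.valuation (ξ * (ι x₂) ^ n) ≤ 1 →
      ∃ (Y : Λ) (g : K₂) (S : Finset (ℕ × Λ × ℕ)) (β : Λ), Y ≠ 0 ∧ g ≠ 0 ∧ W.valuation β ≤ 1 ∧
        E ϖ p ξ = Y ^ p * ι g * (∏ t ∈ S, E ϖ p (tv p (ι x₂) t)) * E ϖ p β ∧
        IsNFv W p n S := by
  classical
  obtain ⟨x, hx⟩ : ∃ x : Λ, x = ι x₂ := ⟨_, rfl⟩
  rw [← hx] at hx1 hxunif ⊢
  have hxne : x ≠ 0 := by rw [hx]; exact (map_ne_zero ι).mpr hx0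
  have hxpos : 0 < W.valuation x := zero_lt_iff.mpr ((Valuation.ne_zero_iff _).mpr hxne)
  obtain ⟨I, hI⟩ : ∃ I : Λ, I = x⁻¹ := ⟨_, rfl⟩
  have hxI : x * I = 1 := by rw [hI]; exact mul_inv_cancel₀ hxne
  have hvI : W.valuation I * W.valuation x = 1 := by rw [← map_mul, mul_comm, hxI, map_one]
  have hϖp1 : W.valuation (ϖ ^ p) ≤ 1 := by
    rw [map_pow]; exact pow_le_one₀ zero_le' hϖlt.le
  intro n
  induction n using Nat.strong_induction_on with
  | _ n ih =>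
    intro ξ hT hb
    rcases Nat.eq_zero_or_pos n with hn0 | hn
    · subst hn0
      rw [pow_zero, mul_one] at hb
      refine ⟨1, 1, ∅, ξ, one_ne_zero, one_ne_zero, hb, ?_, ?_⟩
      · rw [one_pow, map_one, Finset.prod_empty]; ring
      · exact ⟨fun t ht => absurd ht (Finset.notMem_empty t),
          fun t ht => absurd ht (Finset.notMem_empty t)⟩
    obtain ⟨m, rfl⟩ : ∃ m, n = m + 1 := ⟨n - 1, by omega⟩
    obtain ⟨b, hbdef⟩ : ∃ b : Λ, b = ξ * x ^ (m + 1) := ⟨_, rfl⟩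
    rw [← hbdef] at hb
    have hξ : ξ = b * I ^ (m + 1) := by
      rw [hbdef, mul_assoc, ← mul_pow, hxI, one_pow, mul_one]
    have hTm : W.valuation (ϖ ^ p) < W.valuation x ^ m := by
      refine lt_of_lt_of_le hT ?_
      rw [pow_succ]
      calc W.valuation x ^ m * W.valuation x ≤ W.valuation x ^ m * 1 :=
            mul_le_mul' le_rfl hx1.le
        _ = _ := mul_one _
    have hhead : ∀ c' : Λ, W.valuation c' ≤ 1 → W.valuation (b - c') < 1 →
        W.valuation (ϖ ^ p * (c' * I ^ (m + 1))) < 1 ∧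
        W.valuation ((ξ - c' * I ^ (m + 1)) * x ^ m) ≤ 1 := by
      intro c' hc' hbc
      constructor
      · rw [hI]
        exact val_head_lt (ϖ ^ p) c' x (m + 1) hxne hc' hT
      · have e : (ξ - c' * I ^ (m + 1)) * x ^ m = (b - c') * I := by
          have h3 : I ^ (m + 1) * x ^ m = I := by
            rw [pow_succ, mul_right_comm, ← mul_pow, mul_comm I x, hxI, one_pow, one_mul]
          rw [hξ]
          linear_combination (b - c') * h3
        rw [e, map_mul]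
        calc W.valuation (b - c') * W.valuation I ≤ W.valuation x * W.valuation I :=
              mul_le_mul' (hxunif _ hbc) le_rfl
          _ = 1 := by rw [mul_comm]; exact hvI
    rcases hdich b hb with ⟨a, ha⟩ | ⟨h, c, hc1, hbc, hcp⟩
    · -- residue in the constants
      have hιa : W.valuation (ι a) ≤ 1 := by
        have e : ι a = b - (b - ι a) := by ring
        rw [e]
        exact Valuation.map_sub_le (v := W.valuation) hb ha.le
      obtain ⟨h1, h2⟩ := hhead (ι a) hιa ha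
      obtain ⟨ξ', hE, hξ'⟩ := peel (W := W) ϖ x (ι a * I ^ (m + 1)) ξ m h1 h2
      obtain ⟨Y, g, S, β, hY, hg, hβ, hrep, hS⟩ := ih m (by omega) ξ' hTm hξ'
      obtain ⟨g', hg'⟩ : ∃ g' : K₂, g' = 1 + ϖ₂ ^ p * (a * (x₂⁻¹) ^ (m + 1)) := ⟨_, rfl⟩
      have hιg' : ι g' = E ϖ p (ι a * I ^ (m + 1)) := by
        rw [hg', hI, hx]
        unfold E
        rw [map_add, map_one, map_mul, map_pow, map_mul, map_pow, map_inv₀, hϖ₂]
      have hg'0 : g' ≠ 0 := by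
        intro h0
        have h3 := E_ne_zero W ϖ p _ h1
        rw [← hιg', h0, map_zero] at h3
        exact h3 rfl
      refine ⟨Y, g * g', S, β, hY, mul_ne_zero hg hg'0, hβ, ?_, hS.mono (by omega)⟩
      rw [hE, hrep, map_mul, hιg']
      ring
    · have hcp1 : W.valuation (c ^ (p ^ h)) ≤ 1 := by
        rw [map_pow]; exact pow_le_one₀ zero_le' hc1
      obtain ⟨h1, h2⟩ := hhead (c ^ (p ^ h)) hcp1 hbc
      obtain ⟨ξ', hE, hξ'⟩ := peel (W := W) ϖ x (c ^ (p ^ h) * I ^ (m + 1)) ξ m h1 h2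
      by_cases hmove : p ∣ (m + 1) ∧ h ≠ 0
      · -- move the term down
        obtain ⟨⟨r, hr⟩, hh⟩ := hmove
        obtain ⟨h', rfl⟩ : ∃ h', h = h' + 1 := ⟨h - 1, by omega⟩
        have hr1 : 1 ≤ r := by
          rcases Nat.eq_zero_or_pos r with h0 | h0
          · rw [h0, mul_zero] at hr; omega
          · exact h0
        have hrm : r ≤ m := by
          have : 2 * r ≤ p * r := Nat.mul_le_mul_right r hp.two_le
          omega
        obtain ⟨k, hk⟩ : ∃ k, m = k + r := ⟨m - r, by omega⟩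
        obtain ⟨z, hz⟩ : ∃ z : Λ, z = c ^ (p ^ h') * I ^ r := ⟨_, rfl⟩
        have hzp : z ^ p = c ^ (p ^ (h' + 1)) * I ^ (m + 1) := by
          rw [hz, mul_pow, ← pow_mul, ← pow_mul, ← pow_succ, hr, mul_comm r p]
        have hϖz : W.valuation (ϖ * z) < 1 := by
          by_contra hcon
          have h3 : 1 ≤ W.valuation (ϖ * z) := not_lt.mp hcon
          have h4 : 1 ≤ W.valuation (ϖ * z) ^ p := one_le_pow₀ h3
          rw [← map_pow, mul_pow, hzp] at h4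
          exact absurd h1 (not_lt.mpr h4)
        obtain ⟨θ, hθ, hne, hF1⟩ := F1_field W p hp ϖ hϖ hϖlt.le z hϖz
        have hθ1 : W.valuation θ ≤ 1 := by
          have e : θ = (θ - 1) + 1 := by ring
          rw [e]
          exact Valuation.map_add_le _ (hθ.trans hϖz.le) (by rw [map_one])
        obtain ⟨ξ'', hξ''⟩ : ∃ ξ'' : Λ, ξ'' = z * θ + ξ' + ϖ ^ p * (z * θ) * ξ' := ⟨_, rfl⟩
        have hzxm : W.valuation (z * x ^ m) ≤ 1 := by
          have e : z * x ^ m = c ^ (p ^ h') * x ^ k := by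
            have h3 : I ^ r * x ^ r = 1 := by rw [← mul_pow, mul_comm, hxI, one_pow]
            rw [hz, hk, pow_add]
            linear_combination (c ^ (p ^ h') * x ^ k) * h3
          rw [e, map_mul, map_pow, map_pow]
          calc _ ≤ (1 : W.ValueGroup) * 1 :=
                mul_le_mul' (pow_le_one₀ zero_le' hc1) (pow_le_one₀ zero_le' hx1.le)
            _ = 1 := one_mul _
        have hϖpz : W.valuation (ϖ ^ p * (z * θ)) ≤ 1 := by
          have hpp : ϖ ^ p = ϖ ^ (p - 1) * ϖ := by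
            rw [← pow_succ, Nat.sub_add_cancel hp.one_lt.le]
          have e : ϖ ^ p * (z * θ) = ϖ ^ (p - 1) * (ϖ * z) * θ := by rw [hpp]; ring
          rw [e, map_mul, map_mul, map_pow]
          calc _ ≤ (1 : W.ValueGroup) * 1 * 1 :=
                mul_le_mul' (mul_le_mul' (pow_le_one₀ zero_le' hϖlt.le) hϖz.le) hθ1
            _ = 1 := by rw [one_mul, one_mul]
        have hξ''b : W.valuation (ξ'' * x ^ m) ≤ 1 := by
          have e : ξ'' * x ^ m =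
              z * x ^ m * θ + ξ' * x ^ m + ϖ ^ p * (z * θ) * (ξ' * x ^ m) := by
            rw [hξ'']; ring
          rw [e]
          apply Valuation.map_add_le _ (Valuation.map_add_le _ ?_ hξ') ?_
          · rw [map_mul]
            calc _ ≤ (1 : W.ValueGroup) * 1 := mul_le_mul' hzxm hθ1
              _ = 1 := one_mul _
          · rw [map_mul]
            calc _ ≤ (1 : W.ValueGroup) * 1 := mul_le_mul' hϖpz hξ'
              _ = 1 := one_mul _
        obtain ⟨Y, g, S, β, hY, hg, hβ, hrep, hS⟩ := ih m (by omega) ξ'' hTm hξ''b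
        refine ⟨(1 + ϖ * z) * Y, g, S, β, mul_ne_zero hne hY, hg, hβ, ?_, hS.mono (by omega)⟩
        have hE2 : E ϖ p (z * θ) * E ϖ p ξ' = E ϖ p ξ'' := by rw [E_mul, hξ'']
        rw [hE, ← hzp, hF1, mul_assoc, hE2, hrep, mul_pow]
        ring
      · -- keep the term
        obtain ⟨Y, g, S, β, hY, hg, hβ, hrep, hS⟩ := ih m (by omega) ξ' hTm hξ'
        have hnew : ((m + 1, c, h) : ℕ × Λ × ℕ) ∉ S := by
          intro hmem
          have := (hS.1 _ hmem).2.1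
          simp only at this
          omega
        refine ⟨Y, g, insert (m + 1, c, h) S, β, hY, hg, hβ, ?_, ?_, ?_⟩
        · have e5 : tv p x ((m + 1, c, h) : ℕ × Λ × ℕ) = c ^ (p ^ h) * I ^ (m + 1) := by
            unfold tv
            rw [hI]
          rw [Finset.prod_insert hnew, hE, hrep, e5]
          ring
        · intro t ht
          rcases Finset.mem_insert.mp ht with rfl | ht
          · refine ⟨by omega, le_rfl, ?_, hc1, hcp⟩
            by_contra hcon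
            push Not at hcon
            exact hmove ⟨hcon.1, hcon.2⟩
          · exact ⟨(hS.1 t ht).1, by have := (hS.1 t ht).2.1; omega, (hS.1 t ht).2.2⟩
        · intro t ht t' ht' htt
          rcases Finset.mem_insert.mp ht with rfl | ht
          · rcases Finset.mem_insert.mp ht' with rfl | ht'
            · rfl
            · have := (hS.1 t' ht').2.1
              simp only at htt
              omega
          · rcases Finset.mem_insert.mp ht' with rfl | ht'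
            · have := (hS.1 t ht).2.1
              simp only at htt
              omega
            · exact hS.2 t ht t' ht' htt

theorem round (hp : p.Prime) (ϖ : Λ) (hϖ : ϖ ^ (p - 1) = -(p : Λ)) (hϖlt : W.valuation ϖ < 1)
    (hϖ0 : ϖ ≠ 0)
    {K₂ : Type*} [Field K₂] (ι : K₂ →+* Λ) (ϖ₂ x₂ : K₂) (hϖ₂ : ι ϖ₂ = ϖ)
    (hx1 : W.valuation (ι x₂) < 1) (hx0 : x₂ ≠ 0)
    (hxunif : ∀ y : Λ, W.valuation y < 1 → W.valuation y ≤ W.valuation (ι x₂))
    (hxdisc : ∀ y : Λ, y ≠ 0 → ∃ m : ℤ, W.valuation y = W.valuation (ι x₂) ^ m)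
    (hdich : Dich W p ι) (G : Λ) (hG : G ≠ 0) :
    ∃ (Y : Λ) (g : K₂), Y ≠ 0 ∧ g ≠ 0 ∧
      ((∃ G₀ : Λ, G = Y ^ p * ι g * G₀ ∧ W.valuation G₀ ≤ 1 ∧ NonPth W p G₀) ∨
       (∃ (n : ℕ) (S : Finset (ℕ × Λ × ℕ)) (β : Λ), W.valuation β ≤ 1 ∧
          W.valuation (ϖ ^ p) < W.valuation (ι x₂) ^ n ∧
          G = Y ^ p * ι g * (∏ t ∈ S, E ϖ p (tv p (ι x₂) t)) * E ϖ p β ∧ IsNFv W p n S)) := by
  classical
  obtain ⟨x, hx⟩ : ∃ x : Λ, x = ι x₂ := ⟨_, rfl⟩
  have hxne : x ≠ 0 := by rw [hx]; exact (map_ne_zero ι).mpr hx0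
  have hxpos : 0 < W.valuation x := zero_lt_iff.mpr ((Valuation.ne_zero_iff _).mpr hxne)
  have hxv0 : W.valuation (ι x₂) ≠ 0 := by rw [← hx]; exact hxpos.ne'
  have hxpos' : 0 < W.valuation (ι x₂) := by rw [← hx]; exact hxpos
  obtain ⟨mG, hmG⟩ := hxdisc G hG
  obtain ⟨G', hG'⟩ : ∃ G' : Λ, G' = G * (ι (x₂ ^ mG))⁻¹ := ⟨_, rfl⟩
  have hιx : ι (x₂ ^ mG) = x ^ mG := by rw [map_zpow₀, hx]
  have hxm0 : x ^ mG ≠ 0 := zpow_ne_zero _ hxne
  have hGG' : G = ι (x₂ ^ mG) * G' := by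
    rw [hG', hιx, mul_comm G, ← mul_assoc, mul_inv_cancel₀ hxm0, one_mul]
  have hG'1 : W.valuation G' = 1 := by
    rw [hG', map_mul, map_inv₀, hιx, map_zpow₀, hmG, ← hx]
    exact mul_inv_cancel₀ (zpow_ne_zero _ hxpos.ne')
  have hx2m0 : x₂ ^ mG ≠ 0 := zpow_ne_zero _ hx0
  have hunitE : ∀ G₁ : Λ, W.valuation (G₁ - 1) < 1 →
      ∃ (Y : Λ) (g : K₂) (n : ℕ) (S : Finset (ℕ × Λ × ℕ)) (β : Λ), Y ≠ 0 ∧ g ≠ 0 ∧
        W.valuation β ≤ 1 ∧ W.valuation (ϖ ^ p) < W.valuation (ι x₂) ^ n ∧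
        G₁ = Y ^ p * ι g * (∏ t ∈ S, E ϖ p (tv p (ι x₂) t)) * E ϖ p β ∧ IsNFv W p n S := by
    intro G₁ hG₁
    have hϖp0 : ϖ ^ p ≠ 0 := pow_ne_zero _ hϖ0
    have hϖplt : W.valuation (ϖ ^ p) < 1 := by
      rw [map_pow]; exact pow_lt_one₀ zero_le' hϖlt hp.ne_zero
    obtain ⟨T, hT⟩ := hxdisc (ϖ ^ p) hϖp0
    have hTpos : 0 < T := by
      have h1 : W.valuation (ι x₂) ^ T < 1 := by rw [← hT]; exact hϖplt
      exact (zpow_lt_one_iff_right_of_lt_one₀ hxpos' hx1).mp h1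
    obtain ⟨n, rfl⟩ : ∃ n : ℕ, T = (n : ℤ) + 1 := ⟨(T - 1).toNat, by omega⟩
    have hT' : W.valuation (ϖ ^ p) = W.valuation (ι x₂) ^ (n + 1) := by
      rw [hT, ← Nat.cast_succ, zpow_natCast]
    obtain ⟨ξ, hξ⟩ : ∃ ξ : Λ, ξ = (G₁ - 1) * (ϖ ^ p)⁻¹ := ⟨_, rfl⟩
    have hEξ : E ϖ p ξ = G₁ := by
      unfold E
      rw [hξ, mul_comm (G₁ - 1), ← mul_assoc, mul_inv_cancel₀ hϖp0, one_mul]
      ring
    have hlt : W.valuation (ϖ ^ p) < W.valuation (ι x₂) ^ n := by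
      rw [hT', pow_succ]
      calc W.valuation (ι x₂) ^ n * W.valuation (ι x₂) < W.valuation (ι x₂) ^ n * 1 :=
            mul_lt_mul_of_pos_left hx1 (pow_pos hxpos' n)
        _ = _ := mul_one _
    have hpole : W.valuation (ξ * (ι x₂) ^ n) ≤ 1 := by
      have h0 : W.valuation ((ϖ ^ p)⁻¹ * (ι x₂) ^ (n + 1)) = 1 := by
        rw [map_mul, map_inv₀, hT', map_pow]
        exact inv_mul_cancel₀ (pow_ne_zero _ hxv0)
      have h1 : W.valuation (ξ * (ι x₂) ^ n) * W.valuation (ι x₂) = W.valuation (G₁ - 1) := by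
        rw [← map_mul]
        have e : ξ * (ι x₂) ^ n * ι x₂ = (G₁ - 1) * ((ϖ ^ p)⁻¹ * (ι x₂) ^ (n + 1)) := by
          rw [hξ, pow_succ]; ring
        rw [e, map_mul, h0, mul_one]
      by_contra hcon
      have h2 : 1 < W.valuation (ξ * (ι x₂) ^ n) := not_le.mp hcon
      have h3 : W.valuation (ι x₂) < W.valuation (G₁ - 1) := by
        rw [← h1]
        calc W.valuation (ι x₂) = 1 * W.valuation (ι x₂) := (one_mul _).symm
          _ < _ := mul_lt_mul_of_pos_right h2 hxpos'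
      exact absurd (hxunif _ hG₁) (not_le.mpr h3)
    obtain ⟨Y, g, S, β, hY, hg, hβ, hrep, hS⟩ :=
      nf hp ϖ hϖ hϖlt ι ϖ₂ x₂ hϖ₂ hx1 hx0 hxunif hdich n ξ hlt hpole
    exact ⟨Y, g, n, S, β, hY, hg, hβ, hlt, by rw [← hEξ, hrep], hS⟩
  rcases hdich G' hG'1.le with ⟨a, ha⟩ | ⟨h, c, hc1, hGc, hcp⟩
  · have hιa1 : W.valuation (ι a) = 1 := by
      rw [← hG'1]
      apply Valuation.map_eq_of_sub_lt
      rw [Valuation.map_sub_swap, hG'1]
      exact ha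
    have ha0 : a ≠ 0 := by
      rintro rfl
      rw [map_zero, map_zero] at hιa1
      exact zero_ne_one hιa1
    have hιa0 : ι a ≠ 0 := (map_ne_zero ι).mpr ha0
    have e : G' = ι a * (G' * (ι a)⁻¹) := by
      rw [mul_comm G', ← mul_assoc, mul_inv_cancel₀ hιa0, one_mul]
    obtain ⟨Y, g, n, S, β, hY, hg, hβ, hlt, hrep, hS⟩ := hunitE (G' * (ι a)⁻¹) (by
      have e' : G' * (ι a)⁻¹ - 1 = (G' - ι a) * (ι a)⁻¹ := by
        rw [sub_mul, mul_inv_cancel₀ hιa0]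
      rw [e', map_mul, map_inv₀, hιa1, inv_one, mul_one]
      exact ha)
    refine ⟨Y, x₂ ^ mG * a * g, hY, mul_ne_zero (mul_ne_zero hx2m0 ha0) hg,
      Or.inr ⟨n, S, β, hβ, hlt, ?_, hS⟩⟩
    rw [hGG', map_mul, map_mul]
    linear_combination (ι (x₂ ^ mG)) * e + (ι (x₂ ^ mG) * ι a) * hrep
  · have hc1' : W.valuation c = 1 := hcp.val_eq_one hp.ne_zero hc1
    have hc0 : c ≠ 0 := by
      rintro rfl
      rw [map_zero] at hc1'
      exact zero_ne_one hc1'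
    rcases Nat.eq_zero_or_pos h with rfl | hpos
    · rw [pow_zero, pow_one] at hGc
      refine ⟨1, x₂ ^ mG, one_ne_zero, hx2m0, Or.inl ⟨G', ?_, hG'1.le, hcp.congr hGc⟩⟩
      rw [one_pow, one_mul]
      exact hGG'
    · obtain ⟨h', rfl⟩ : ∃ h', h = h' + 1 := ⟨h - 1, by omega⟩
      have hcph0 : c ^ (p ^ (h' + 1)) ≠ 0 := pow_ne_zero _ hc0
      have hcph1 : W.valuation (c ^ (p ^ (h' + 1))) = 1 := by rw [map_pow, hc1', one_pow]
      have e : G' = c ^ (p ^ (h' + 1)) * (G' * (c ^ (p ^ (h' + 1)))⁻¹) := by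
        rw [mul_comm G', ← mul_assoc, mul_inv_cancel₀ hcph0, one_mul]
      obtain ⟨Y, g, n, S, β, hY, hg, hβ, hlt, hrep, hS⟩ :=
        hunitE (G' * (c ^ (p ^ (h' + 1)))⁻¹) (by
          have e' : G' * (c ^ (p ^ (h' + 1)))⁻¹ - 1 =
              (G' - c ^ (p ^ (h' + 1))) * (c ^ (p ^ (h' + 1)))⁻¹ := by
            rw [sub_mul, mul_inv_cancel₀ hcph0]
          rw [e', map_mul, map_inv₀, hcph1, inv_one, mul_one]
          exact hGc)
      refine ⟨c ^ (p ^ h') * Y, x₂ ^ mG * g, mul_ne_zero (pow_ne_zero _ hc0) hY,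
        mul_ne_zero hx2m0 hg, Or.inr ⟨n, S, β, hβ, hlt, ?_, hS⟩⟩
      have e2 : (c ^ (p ^ h')) ^ p = c ^ (p ^ (h' + 1)) := by rw [← pow_mul, ← pow_succ]
      rw [hGG', map_mul, mul_pow, e2]
      linear_combination (ι (x₂ ^ mG)) * e + (ι (x₂ ^ mG) * c ^ (p ^ (h' + 1))) * hrep

end NF

end Groth.Agent.H8.Mix
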