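import Mathlib
import Groth.Agent.Lib.Helper8.ASK.MixB

/-!
# Epp's mixed characteristic step, part C: the reduction between the two rounds and the
final certificate, in a valued field
-/

set_option autoImplicit false
universe u

namespace Groth.Agent.H8.Mix

open Polynomial IsLocalRing

theorem le_one_of_pow_le_one {Γ : Type*} [LinearOrderedCommGroupWithZero Γ] {a : Γ} {n : ℕ}
    (hn : n ≠ 0) (h : a ^ n ≤ 1) : a ≤ 1 := by
  by_contra hcon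
  exact absurd (one_lt_pow₀ (not_le.mp hcon) hn) (not_lt.mpr h)

theorem lt_one_of_pow_lt_one {Γ : Type*} [LinearOrderedCommGroupWithZero Γ] {a : Γ} {n : ℕ}
    (h : a ^ n < 1) : a < 1 := by
  by_contra hcon
  exact absurd (one_le_pow₀ (not_lt.mp hcon)) (not_le.mpr h)

section VF

variable {Λ : Type*} [Field Λ] (W : ValuationSubring Λ) (p : ℕ)

/-- `y` has pole order at most `T/2`. -/
def Deep (ϖ y : Λ) : Prop := W.valuation (ϖ ^ p) * W.valuation y ^ 2 ≤ 1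

variable {W p}

theorem Deep.mono {ϖ y y' : Λ} (h : Deep W p ϖ y) (hle : W.valuation y' ≤ W.valuation y) :
    Deep W p ϖ y' := by
  unfold Deep at *
  calc W.valuation (ϖ ^ p) * W.valuation y' ^ 2
      ≤ W.valuation (ϖ ^ p) * W.valuation y ^ 2 :=
        mul_le_mul' le_rfl (pow_le_pow_left₀ zero_le' hle 2)
    _ ≤ 1 := h

theorem deep_of_le_one {ϖ y : Λ} (hϖ : W.valuation (ϖ ^ p) ≤ 1) (hy : W.valuation y ≤ 1) :
    Deep W p ϖ y := by
  unfold Deep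
  calc _ ≤ (1 : W.ValueGroup) * 1 := mul_le_mul' hϖ (pow_le_one₀ zero_le' hy)
    _ = 1 := one_mul 1

theorem deep_mul {ϖ a b : Λ} (hϖ : W.valuation (ϖ ^ p) ≤ 1) (ha : Deep W p ϖ a)
    (hb : Deep W p ϖ b) : Deep W p ϖ (a + b + ϖ ^ p * a * b) := by
  have h3 : Deep W p ϖ (ϖ ^ p * a * b) := by
    unfold Deep at *
    have e : W.valuation (ϖ ^ p) * W.valuation (ϖ ^ p * a * b) ^ 2 =
        W.valuation (ϖ ^ p) * (W.valuation (ϖ ^ p) * W.valuation a ^ 2) *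
          (W.valuation (ϖ ^ p) * W.valuation b ^ 2) := by
      have e0 : ϖ ^ p * (ϖ ^ p * a * b) ^ 2 = ϖ ^ p * (ϖ ^ p * a ^ 2) * (ϖ ^ p * b ^ 2) := by
        ring
      calc W.valuation (ϖ ^ p) * W.valuation (ϖ ^ p * a * b) ^ 2
          = W.valuation (ϖ ^ p * (ϖ ^ p * a * b) ^ 2) := by
            rw [map_mul W.valuation (ϖ ^ p) ((ϖ ^ p * a * b) ^ 2),
              map_pow W.valuation (ϖ ^ p * a * b) 2]
        _ = W.valuation (ϖ ^ p * (ϖ ^ p * a ^ 2) * (ϖ ^ p * b ^ 2)) := by rw [e0]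
        _ = _ := by
            rw [map_mul W.valuation (ϖ ^ p * (ϖ ^ p * a ^ 2)) (ϖ ^ p * b ^ 2),
              map_mul W.valuation (ϖ ^ p) (ϖ ^ p * a ^ 2), map_mul W.valuation (ϖ ^ p) (a ^ 2),
              map_mul W.valuation (ϖ ^ p) (b ^ 2), map_pow W.valuation a 2,
              map_pow W.valuation b 2]
    rw [e]
    calc _ ≤ (1 : W.ValueGroup) * 1 * 1 := mul_le_mul' (mul_le_mul' hϖ ha) hb
      _ = 1 := by rw [one_mul, one_mul]
  have h4 := Valuation.map_add W.valuation (a + b) (ϖ ^ p * a * b)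
  have h5 := Valuation.map_add W.valuation a b
  rcases le_max_iff.mp h4 with h6 | h6
  · rcases le_max_iff.mp (h6.trans h5) with h7 | h7
    · exact ha.mono h7
    · exact hb.mono h7
  · exact h3.mono h6

theorem deep_term {ϖ c P : Λ} {n : ℕ} (hP0 : P ≠ 0) (hc : W.valuation c ≤ 1)
    (hle : W.valuation (ϖ ^ p) ≤ W.valuation P ^ (2 * n)) :
    Deep W p ϖ (c * (P⁻¹) ^ n) := by
  unfold Deep
  have e1 : W.valuation P ^ (2 * n) * W.valuation (c * (P⁻¹) ^ n) ^ 2 = W.valuation c ^ 2 := by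
    rw [← map_pow, ← map_pow, ← map_mul, ← map_pow]
    congr 1
    have h1 : (P⁻¹) ^ n * P ^ n = 1 := by rw [← mul_pow, inv_mul_cancel₀ hP0, one_pow]
    rw [mul_pow, pow_mul' P 2 n]
    linear_combination (c ^ 2 * ((P⁻¹) ^ n * P ^ n + 1)) * h1
  calc W.valuation (ϖ ^ p) * W.valuation (c * (P⁻¹) ^ n) ^ 2
      ≤ W.valuation P ^ (2 * n) * W.valuation (c * (P⁻¹) ^ n) ^ 2 := mul_le_mul' hle le_rfl
    _ = W.valuation c ^ 2 := e1
    _ ≤ 1 := pow_le_one₀ zero_le' hc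

theorem inv_pow_root {P Q : Λ} {q : ℕ} (hQ : Q ^ q = P) (n : ℕ) :
    (Q⁻¹) ^ (n * q) = (P⁻¹) ^ n := by
  rw [mul_comm, pow_mul, inv_pow, hQ]

theorem exists_pole_of_deep (ϖ x Ξ : Λ) (hϖplt : W.valuation (ϖ ^ p) < 1)
    (hx1 : W.valuation x < 1) (hx0 : x ≠ 0)
    (hxdisc : ∀ y : Λ, y ≠ 0 → ∃ m : ℤ, W.valuation y = W.valuation x ^ m)
    (hΞ : Deep W p ϖ Ξ) :
    ∃ n₂ : ℕ, W.valuation (Ξ * x ^ n₂) ≤ 1 ∧ W.valuation (ϖ ^ p) ≤ W.valuation x ^ (2 * n₂) ∧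
      W.valuation (ϖ ^ p) < W.valuation x ^ n₂ := by
  have hxpos : 0 < W.valuation x := zero_lt_iff.mpr ((Valuation.ne_zero_iff _).mpr hx0)
  by_cases hΞ0 : Ξ = 0
  · refine ⟨0, ?_, ?_, ?_⟩
    · rw [hΞ0, zero_mul, map_zero]; exact zero_le_one
    · rw [mul_zero, pow_zero]; exact hϖplt.le
    · rw [pow_zero]; exact hϖplt
  obtain ⟨m, hm⟩ := hxdisc Ξ hΞ0
  by_cases hm0 : 0 ≤ m
  · have h1 : W.valuation Ξ ≤ 1 := by
      rw [hm]; exact (zpow_le_one_iff_right_of_lt_one₀ hxpos hx1).mpr hm0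
    refine ⟨0, ?_, ?_, ?_⟩
    · rw [pow_zero, mul_one]; exact h1
    · rw [mul_zero, pow_zero]; exact hϖplt.le
    · rw [pow_zero]; exact hϖplt
  · obtain ⟨k, hk⟩ : ∃ k : ℕ, m = -(k : ℤ) := ⟨(-m).toNat, by omega⟩
    have hk1 : 1 ≤ k := by omega
    have hvΞ : W.valuation Ξ = (W.valuation x ^ k)⁻¹ := by rw [hm, hk, zpow_neg, zpow_natCast]
    have hxk0 : W.valuation x ^ k ≠ 0 := pow_ne_zero _ hxpos.ne'
    have h2 : W.valuation (ϖ ^ p) ≤ W.valuation x ^ (2 * k) := by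
      unfold Deep at hΞ
      rw [hvΞ] at hΞ
      have h3 : W.valuation (ϖ ^ p) =
          W.valuation (ϖ ^ p) * ((W.valuation x ^ k)⁻¹) ^ 2 * (W.valuation x ^ k) ^ 2 := by
        rw [mul_assoc, ← mul_pow, inv_mul_cancel₀ hxk0, one_pow, mul_one]
      rw [pow_mul' (W.valuation x) 2 k, h3]
      calc _ ≤ 1 * (W.valuation x ^ k) ^ 2 := mul_le_mul' hΞ le_rfl
        _ = _ := one_mul _
    refine ⟨k, ?_, h2, ?_⟩
    · rw [map_mul, map_pow, hvΞ, inv_mul_cancel₀ hxk0]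
    · have hxk1 : W.valuation x ^ k < 1 := pow_lt_one₀ zero_le' hx1 (by omega)
      refine lt_of_le_of_lt h2 ?_
      rw [two_mul, pow_add]
      calc W.valuation x ^ k * W.valuation x ^ k < W.valuation x ^ k * 1 :=
            mul_lt_mul_of_pos_left hxk1 (pow_pos hxpos k)
        _ = _ := mul_one _

/-! ### The reduction between the rounds -/

theorem reduce1 (hp : p.Prime) (ϖ : Λ) (hϖ : ϖ ^ (p - 1) = -(p : Λ))
    (hϖlt : W.valuation ϖ < 1)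
    {ι₀ : Type*} (C : ι₀ → Λ) (n h : ι₀ → ℕ) (P Q : Λ) (e : ℕ) (hQ : Q ^ (p ^ e) = P)
    (hP0 : P ≠ 0) :
    ∀ S : Finset ι₀, (∀ i ∈ S, h i < e) → (∀ i ∈ S, W.valuation (C i) ≤ 1) →
      (∀ i ∈ S, W.valuation (ϖ ^ p) < W.valuation P ^ (n i)) →
      ∃ (Y₁ Ξ : Λ), Y₁ ≠ 0 ∧ Deep W p ϖ Ξ ∧
        ∏ i ∈ S, E ϖ p (C i ^ (p ^ h i) * (P⁻¹) ^ (n i)) =
          Y₁ ^ p * (∏ i ∈ S.filter
            (fun i => h i = 0 ∧ W.valuation P ^ (2 * n i) < W.valuation (ϖ ^ p)),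
            E ϖ p (C i * (P⁻¹) ^ (n i))) * E ϖ p Ξ := by
  classical
  have hϖp1 : W.valuation (ϖ ^ p) ≤ 1 := by
    rw [map_pow]; exact pow_le_one₀ zero_le' hϖlt.le
  intro S
  induction S using Finset.induction_on with
  | empty =>
    intro _ _ _
    refine ⟨1, 0, one_ne_zero, ?_, ?_⟩
    · unfold Deep
      rw [map_zero, zero_pow two_ne_zero, mul_zero]
      exact zero_le_one
    · rw [Finset.filter_empty, Finset.prod_empty, Finset.prod_empty, E_zero]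
      ring
  | insert i S hi ih =>
    intro hhe hC hn
    obtain ⟨Y₁, Ξ, hY₁, hΞ, hrep⟩ := ih (fun j hj => hhe j (Finset.mem_insert_of_mem hj))
      (fun j hj => hC j (Finset.mem_insert_of_mem hj))
      (fun j hj => hn j (Finset.mem_insert_of_mem hj))
    have hhi := hhe i (Finset.mem_insert_self i S)
    have hCi := hC i (Finset.mem_insert_self i S)
    have hni := hn i (Finset.mem_insert_self i S)
    rw [Finset.prod_insert hi, Finset.filter_insert]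
    by_cases hcase : h i = 0 ∧ W.valuation P ^ (2 * n i) < W.valuation (ϖ ^ p)
    · rw [if_pos hcase, Finset.prod_insert (fun hmem => hi (Finset.mem_of_mem_filter i hmem))]
      refine ⟨Y₁, Ξ, hY₁, hΞ, ?_⟩
      rw [hrep, hcase.1, pow_zero, pow_one]
      ring
    · rw [if_neg hcase]
      rcases Nat.eq_zero_or_pos (h i) with h0 | hpos
      · have hnd : W.valuation (ϖ ^ p) ≤ W.valuation P ^ (2 * n i) := by
          by_contra hcon
          exact hcase ⟨h0, not_le.mp hcon⟩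
        have hyd : Deep W p ϖ (C i * (P⁻¹) ^ (n i)) := deep_term hP0 hCi hnd
        refine ⟨Y₁, C i * (P⁻¹) ^ (n i) + Ξ + ϖ ^ p * (C i * (P⁻¹) ^ (n i)) * Ξ, hY₁,
          deep_mul hϖp1 hyd hΞ, ?_⟩
        rw [hrep, h0, pow_zero, pow_one, ← E_mul]
        ring
      · obtain ⟨h', hh'⟩ : ∃ h', h i = h' + 1 := ⟨h i - 1, by omega⟩
        obtain ⟨e', he'⟩ : ∃ e', e = e' + 1 := ⟨e - 1, by omega⟩
        obtain ⟨z, hz⟩ : ∃ z : Λ, z = C i ^ (p ^ h') * (Q⁻¹) ^ (n i * p ^ e') := ⟨_, rfl⟩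
        have hzp : z ^ p = C i ^ (p ^ h i) * (P⁻¹) ^ (n i) := by
          have e1 : p ^ h' * p = p ^ (h i) := by rw [hh', pow_succ]
          have e2 : n i * p ^ e' * p = n i * p ^ e := by rw [he', pow_succ, mul_assoc]
          rw [hz, mul_pow, ← pow_mul, ← pow_mul, e1, e2, inv_pow_root hQ]
        have hlt1 : W.valuation (ϖ ^ p * z ^ p) < 1 := by
          rw [hzp]
          exact val_head_lt (ϖ ^ p) (C i ^ (p ^ h i)) P (n i) hP0
            (by rw [map_pow]; exact pow_le_one₀ zero_le' hCi) hni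
        have hϖz : W.valuation (ϖ * z) < 1 := by
          apply lt_one_of_pow_lt_one (n := p)
          rw [← map_pow, mul_pow]
          exact hlt1
        obtain ⟨θ, hθ, hne, hF1⟩ := F1_field W p hp ϖ hϖ hϖlt.le z hϖz
        have hθ1 : W.valuation θ ≤ 1 := by
          have e : θ = (θ - 1) + 1 := by ring
          rw [e]
          exact Valuation.map_add_le _ (hθ.trans hϖz.le) (by rw [map_one])
        have hzd : Deep W p ϖ z := by
          unfold Deep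
          apply le_one_of_pow_le_one hp.ne_zero
          obtain ⟨k, hk⟩ : ∃ k, p = k + 2 := ⟨p - 2, by have := hp.two_le; omega⟩
          have e3 : (ϖ ^ p * z ^ 2) ^ p = (ϖ ^ p) ^ k * (ϖ ^ p * z ^ p) ^ 2 := by
            have e4 : (ϖ ^ p) ^ p = (ϖ ^ p) ^ k * (ϖ ^ p) ^ 2 := by rw [← pow_add, ← hk]
            rw [mul_pow, mul_pow, e4, ← pow_mul z 2 p, ← pow_mul z p 2, mul_comm 2 p]
            ring
          have e5 : (W.valuation (ϖ ^ p) * W.valuation z ^ 2) ^ p =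
              W.valuation ((ϖ ^ p * z ^ 2) ^ p) := by
            rw [map_pow W.valuation (ϖ ^ p * z ^ 2) p, map_mul W.valuation (ϖ ^ p) (z ^ 2),
              map_pow W.valuation z 2]
          rw [e5, e3, map_mul, map_pow W.valuation (ϖ ^ p) k,
            map_pow W.valuation (ϖ ^ p * z ^ p) 2]
          calc _ ≤ (1 : W.ValueGroup) * 1 :=
                mul_le_mul' (pow_le_one₀ zero_le' hϖp1) (pow_le_one₀ zero_le' hlt1.le)
            _ = 1 := one_mul _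
        have hzθd : Deep W p ϖ (z * θ) := by
          apply hzd.mono
          rw [map_mul]
          calc W.valuation z * W.valuation θ ≤ W.valuation z * 1 := mul_le_mul' le_rfl hθ1
            _ = _ := mul_one _
        refine ⟨(1 + ϖ * z) * Y₁, z * θ + Ξ + ϖ ^ p * (z * θ) * Ξ, mul_ne_zero hne hY₁,
          deep_mul hϖp1 hzθd hΞ, ?_⟩
        rw [hrep, ← hzp, hF1, ← E_mul, mul_pow]
        ring

/-! ### The final certificate -/

theorem cert_of_terms (hp : p.Prime) (ϖ x : Λ) (hϖ : ϖ ^ (p - 1) = -(p : Λ))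
    (hϖlt : W.valuation ϖ < 1) (hx1 : W.valuation x < 1)
    (hxdisc : ∀ y : Λ, y ≠ 0 → ∃ m : ℤ, W.valuation y = W.valuation x ^ m)
    {ι₀ : Type*} (S : Finset ι₀) (z : ι₀ → Λ) (h : ι₀ → ℕ) (U β G : Λ) (hU : U ≠ 0)
    (hz1 : ∀ i ∈ S, 1 ≤ W.valuation (z i))
    (hdeep : ∀ i ∈ S, 1 ≤ h i → W.valuation ϖ * W.valuation (z i) ^ (2 * p ^ (h i - 1)) ≤ 1)
    (hβ : W.valuation β ≤ 1)
    (hG : G = U ^ p * (∏ i ∈ S, E ϖ p (z i ^ (p ^ h i))) * E ϖ p β)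
    (hlead : S = ∅ ∨ ∃ s ∈ S, (∀ i ∈ S, i ≠ s → W.valuation (z i) < W.valuation (z s)) ∧
      W.valuation (ϖ ^ p * z s) ≤ 1 ∧
      ∃ (C Q : Λ) (m'' : ℕ), z s = C * (Q⁻¹) ^ (p * m'') ∧ 1 ≤ m'' ∧ 0 < W.valuation Q ∧
        W.valuation Q < 1 ∧ W.valuation C ≤ 1 ∧ NonPth W p C) :
    ∃ U' η : Λ, U' ≠ 0 ∧ G = U' ^ p * E ϖ p η ∧ Cert W p x η := by
  classical
  have key : ∀ i : ι₀, ∃ Z β' : Λ, i ∈ S → (Z ≠ 0 ∧ W.valuation β' ≤ 1 ∧
      E ϖ p (z i ^ (p ^ h i)) = Z ^ p * (E ϖ p (z i) * E ϖ p β')) := by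
    intro i
    by_cases hi : i ∈ S
    · obtain ⟨Z, β', hZ, hβ', hid⟩ :=
        deep_pow W p hp ϖ hϖ hϖlt (h i) (z i) (hz1 i hi) (hdeep i hi)
      exact ⟨Z, β', fun _ => ⟨hZ, hβ', hid⟩⟩
    · exact ⟨1, 0, fun h' => absurd h' hi⟩
  choose Zf βf hZβ using key
  have hprod : ∏ i ∈ S, E ϖ p (z i ^ (p ^ h i)) =
      (∏ i ∈ S, Zf i) ^ p * ((∏ i ∈ S, E ϖ p (z i)) * ∏ i ∈ S, E ϖ p (βf i)) := by
    rw [← Finset.prod_pow, ← Finset.prod_mul_distrib, ← Finset.prod_mul_distrib]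
    exact Finset.prod_congr rfl (fun i hi => (hZβ i hi).2.2)
  have hZ0 : ∏ i ∈ S, Zf i ≠ 0 := Finset.prod_ne_zero_iff.mpr (fun i hi => (hZβ i hi).1)
  rcases hlead with hS | ⟨s, hs, hlt, hys, C, Q, m'', hzs, hm1, hQpos, hQlt, hC, hCp⟩
  · subst hS
    refine ⟨U, β, hU, ?_, Or.inl hβ⟩
    rw [hG, Finset.prod_empty, mul_one]
  · have hC1 : W.valuation C = 1 := hCp.val_eq_one hp.ne_zero hC
    have hzs1 : 1 < W.valuation (z s) := by
      rw [hzs, map_mul, hC1, one_mul, map_pow, map_inv₀]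
      exact one_lt_pow₀ ((one_lt_inv₀ hQpos).mpr hQlt) (Nat.mul_ne_zero hp.ne_zero (by omega))
    have hzs0 : z s ≠ 0 := by
      intro h0
      rw [h0, map_zero] at hzs1
      exact absurd hzs1 (not_lt.mpr zero_le_one)
    obtain ⟨η₁, hη₁, hl₁⟩ := lead_prod (W := W) ϖ p z (z s) hys (S.erase s)
      (fun t ht => hlt t (Finset.mem_of_mem_erase ht) (Finset.ne_of_mem_erase ht)) (z s)
      (Lead.refl hzs0)
    obtain ⟨η₂, hη₂, hl₂⟩ := lead_prod (W := W) ϖ p βf (z s) hys S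
      (fun t ht => lt_of_le_of_lt (hZβ t ht).2.1 hzs1) η₁ hl₁
    have hl₃ := lead_mul (W := W) ϖ p hl₂ (lt_of_le_of_lt hβ hzs1) hys
    refine ⟨U * ∏ i ∈ S, Zf i, η₂ + β + ϖ ^ p * η₂ * β, mul_ne_zero hU hZ0, ?_, ?_⟩
    · have e1 : ∏ i ∈ S, E ϖ p (z i) = E ϖ p (z s) * ∏ i ∈ S.erase s, E ϖ p (z i) :=
        (Finset.mul_prod_erase S (fun i => E ϖ p (z i)) hs).symm
      rw [hG, hprod, e1, hη₁, hη₂, ← E_mul, mul_pow]
      ring
    · rw [hzs] at hl₃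
      exact cert_of_lead W p Q x C _ hQpos hQlt hx1 hxdisc hC m'' hm1 hp.pos hl₃ hCp

theorem final_R (hp : p.Prime) (ϖ x : Λ) (hϖ : ϖ ^ (p - 1) = -(p : Λ))
    (hϖlt : W.valuation ϖ < 1) (hx1 : W.valuation x < 1)
    (hxdisc : ∀ y : Λ, y ≠ 0 → ∃ m : ℤ, W.valuation y = W.valuation x ^ m)
    {ι₀ ι₂ : Type*} (S₀ : Finset ι₀) (C₀ : ι₀ → Λ) (n₀ : ι₀ → ℕ) (P Q : Λ) (e : ℕ) (he : 1 ≤ e)
    (hQ : Q ^ (p ^ e) = P) (hP0 : P ≠ 0) (hP1 : W.valuation P < 1)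
    (hS₀ : ∀ t ∈ S₀, 1 ≤ n₀ t ∧ W.valuation (C₀ t) ≤ 1 ∧ NonPth W p (C₀ t) ∧
      W.valuation (ϖ ^ p) < W.valuation P ^ (n₀ t) ∧
      W.valuation P ^ (2 * n₀ t) < W.valuation (ϖ ^ p))
    (hinj₀ : ∀ t ∈ S₀, ∀ t' ∈ S₀, n₀ t = n₀ t' → t = t')
    (S₂ : Finset ι₂) (c₂ : ι₂ → Λ) (n₂ h₂ : ι₂ → ℕ) (x₁ X : Λ) (e' : ℕ)
    (hX : X ^ (p ^ e') = x₁) (hx₁0 : x₁ ≠ 0) (hx₁1 : W.valuation x₁ < 1)
    (hS₂ : ∀ t ∈ S₂, 1 ≤ n₂ t ∧ (¬ p ∣ n₂ t ∨ h₂ t = 0) ∧ W.valuation (c₂ t) ≤ 1 ∧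
      NonPth W p (c₂ t) ∧ h₂ t < e' ∧ W.valuation (ϖ ^ p) ≤ W.valuation x₁ ^ (2 * n₂ t))
    (hinj₂ : ∀ t ∈ S₂, ∀ t' ∈ S₂, n₂ t = n₂ t' → t = t')
    (U₀ β G : Λ) (hU₀ : U₀ ≠ 0) (hβ : W.valuation β ≤ 1)
    (hG : G = U₀ ^ p * (∏ t ∈ S₀, E ϖ p (C₀ t * (P⁻¹) ^ (n₀ t))) *
      (∏ t ∈ S₂, E ϖ p ((c₂ t) ^ (p ^ (h₂ t)) * (x₁⁻¹) ^ (n₂ t))) * E ϖ p β) :
    ∃ U' η : Λ, U' ≠ 0 ∧ G = U' ^ p * E ϖ p η ∧ Cert W p x η := by
  classical
  have hp0 : p ≠ 0 := hp.ne_zero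
  have hϖp1 : W.valuation (ϖ ^ p) ≤ 1 := by
    rw [map_pow]; exact pow_le_one₀ zero_le' hϖlt.le
  have hQ0 : Q ≠ 0 := by
    rintro rfl
    rw [zero_pow (pow_ne_zero _ hp0)] at hQ
    exact hP0 hQ.symm
  have hX0 : X ≠ 0 := by
    rintro rfl
    rw [zero_pow (pow_ne_zero _ hp0)] at hX
    exact hx₁0 hX.symm
  have hQpos : 0 < W.valuation Q := zero_lt_iff.mpr ((Valuation.ne_zero_iff _).mpr hQ0)
  have hXpos : 0 < W.valuation X := zero_lt_iff.mpr ((Valuation.ne_zero_iff _).mpr hX0)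
  have hQlt : W.valuation Q < 1 := by
    apply lt_one_of_pow_lt_one (n := p ^ e)
    rw [← map_pow, hQ]
    exact hP1
  have hXlt : W.valuation X < 1 := by
    apply lt_one_of_pow_lt_one (n := p ^ e')
    rw [← map_pow, hX]
    exact hx₁1
  have hPpos : 0 < W.valuation P := zero_lt_iff.mpr ((Valuation.ne_zero_iff _).mpr hP0)
  have hpowinv : ∀ (Y : Λ) (k : ℕ), 0 < W.valuation Y → W.valuation Y < 1 →
      1 ≤ W.valuation ((Y⁻¹) ^ k) := by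
    intro Y k hpos hlt
    rw [map_pow, map_inv₀]
    exact one_le_pow₀ ((one_le_inv₀ hpos).mpr hlt.le)
  -- the terms
  obtain ⟨z₀, hz₀def⟩ : ∃ z₀ : ι₀ → Λ, z₀ = fun t => C₀ t * (Q⁻¹) ^ (n₀ t * p ^ e) := ⟨_, rfl⟩
  obtain ⟨mf, hmfdef⟩ : ∃ mf : ι₂ → ℕ, mf = fun t => n₂ t * p ^ (e' - h₂ t) := ⟨_, rfl⟩
  obtain ⟨z₂, hz₂def⟩ : ∃ z₂ : ι₂ → Λ, z₂ = fun t => c₂ t * (X⁻¹) ^ (mf t) := ⟨_, rfl⟩
  have hz₀a : ∀ t, z₀ t = C₀ t * (Q⁻¹) ^ (n₀ t * p ^ e) := fun t => by rw [hz₀def]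
  have hmfa : ∀ t, mf t = n₂ t * p ^ (e' - h₂ t) := fun t => by rw [hmfdef]
  have hz₂a : ∀ t, z₂ t = c₂ t * (X⁻¹) ^ (mf t) := fun t => by rw [hz₂def]
  have hz₀ : ∀ t, z₀ t = C₀ t * (P⁻¹) ^ (n₀ t) := fun t => by rw [hz₀a, inv_pow_root hQ]
  have hz₂ : ∀ t ∈ S₂, z₂ t ^ (p ^ h₂ t) = c₂ t ^ (p ^ h₂ t) * (x₁⁻¹) ^ (n₂ t) := by
    intro t ht
    have hlt := (hS₂ t ht).2.2.2.2.1
    have e1 : mf t * p ^ h₂ t = n₂ t * p ^ e' := by
      rw [hmfa, mul_assoc, ← pow_add, Nat.sub_add_cancel hlt.le]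
    rw [hz₂a, mul_pow, ← pow_mul, e1, inv_pow_root hX]
  have hC₀1 : ∀ t ∈ S₀, W.valuation (C₀ t) = 1 := fun t ht =>
    (hS₀ t ht).2.2.1.val_eq_one hp0 (hS₀ t ht).2.1
  have hc₂1 : ∀ t ∈ S₂, W.valuation (c₂ t) = 1 := fun t ht =>
    (hS₂ t ht).2.2.2.1.val_eq_one hp0 (hS₂ t ht).2.2.1
  have hvz₀ : ∀ t ∈ S₀, W.valuation (z₀ t) = ((W.valuation P)⁻¹) ^ (n₀ t) := by
    intro t ht
    rw [hz₀, map_mul, hC₀1 t ht, one_mul, map_pow, map_inv₀]
  have hvz₂ : ∀ t ∈ S₂, W.valuation (z₂ t) = ((W.valuation X)⁻¹) ^ (mf t) := by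
    intro t ht
    rw [hz₂a, map_mul, hc₂1 t ht, one_mul, map_pow, map_inv₀]
  have hz₂deep : ∀ t ∈ S₂, Deep W p ϖ (z₂ t ^ (p ^ h₂ t)) := by
    intro t ht
    rw [hz₂ t ht]
    exact deep_term hx₁0 (by rw [map_pow]; exact pow_le_one₀ zero_le' (hS₂ t ht).2.2.1)
      (hS₂ t ht).2.2.2.2.2
  have hz₂ge : ∀ t ∈ S₂, 1 ≤ W.valuation (z₂ t) := by
    intro t ht
    rw [hvz₂ t ht]
    exact one_le_pow₀ ((one_le_inv₀ hXpos).mpr hXlt.le)
  have hz₂le : ∀ t ∈ S₂, W.valuation (z₂ t) ≤ W.valuation (z₂ t ^ (p ^ h₂ t)) := by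
    intro t ht
    rw [map_pow]
    exact le_self_pow₀ (hz₂ge t ht) (pow_ne_zero _ hp0)
  have hmf_inj : ∀ t ∈ S₂, ∀ t' ∈ S₂, mf t = mf t' → t = t' := by
    intro t ht t' ht' hmm
    wlog hle : h₂ t ≤ h₂ t' generalizing t t' with H
    · exact (H t' ht' t ht hmm.symm (by omega)).symm
    obtain ⟨k, hk⟩ : ∃ k, h₂ t' = h₂ t + k := ⟨h₂ t' - h₂ t, by omega⟩
    have h1 : e' - h₂ t = (e' - h₂ t') + k := by
      have := (hS₂ t' ht').2.2.2.2.1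
      omega
    rw [hmfa, hmfa, h1, pow_add, ← mul_assoc, mul_right_comm] at hmm
    have h2 : n₂ t * p ^ k = n₂ t' := Nat.eq_of_mul_eq_mul_right (pow_pos hp.pos _) hmm
    rcases Nat.eq_zero_or_pos k with hk0 | hk0
    · rw [hk0, pow_zero, mul_one] at h2
      exact hinj₂ t ht t' ht' h2
    · exfalso
      have h3 : p ∣ n₂ t' := by
        rw [← h2]
        exact Dvd.dvd.mul_left (dvd_pow_self p hk0.ne') _
      rcases (hS₂ t' ht').2.1 with h4 | h4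
      · exact h4 h3
      · omega
  -- the combined family
  obtain ⟨z, hzdef⟩ : ∃ z : ι₀ ⊕ ι₂ → Λ, z = Sum.elim z₀ z₂ := ⟨_, rfl⟩
  obtain ⟨hh, hhdef⟩ : ∃ hh : ι₀ ⊕ ι₂ → ℕ, hh = Sum.elim (fun _ => 0) h₂ := ⟨_, rfl⟩
  have hzl : ∀ t, z (Sum.inl t) = z₀ t := fun t => by rw [hzdef]; rfl
  have hzr : ∀ t, z (Sum.inr t) = z₂ t := fun t => by rw [hzdef]; rfl
  have hhl : ∀ t, hh (Sum.inl t) = 0 := fun t => by rw [hhdef]; rfl
  have hhr : ∀ t, hh (Sum.inr t) = h₂ t := fun t => by rw [hhdef]; rfl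
  have hprodS : ∏ i ∈ S₀.disjSum S₂, E ϖ p (z i ^ (p ^ hh i)) =
      (∏ t ∈ S₀, E ϖ p (C₀ t * (P⁻¹) ^ (n₀ t))) *
        ∏ t ∈ S₂, E ϖ p ((c₂ t) ^ (p ^ (h₂ t)) * (x₁⁻¹) ^ (n₂ t)) := by
    rw [Finset.prod_disjSum]
    congr 1
    · refine Finset.prod_congr rfl (fun t _ => ?_)
      rw [hzl, hhl, pow_zero, pow_one, hz₀]
    · refine Finset.prod_congr rfl (fun t ht => ?_)
      rw [hzr, hhr, hz₂ t ht]
  have hG' : G = U₀ ^ p * (∏ i ∈ S₀.disjSum S₂, E ϖ p (z i ^ (p ^ hh i))) * E ϖ p β := by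
    rw [hG, hprodS]
    ring
  refine cert_of_terms hp ϖ x hϖ hϖlt hx1 hxdisc (S₀.disjSum S₂) z hh U₀ β G hU₀ ?_ ?_ hβ hG' ?_
  · -- all terms have value at least one
    intro i hi
    rcases Finset.mem_disjSum.mp hi with ⟨t, ht, rfl⟩ | ⟨t, ht, rfl⟩
    · rw [hzl, hvz₀ t ht]
      exact one_le_pow₀ ((one_le_inv₀ hPpos).mpr hP1.le)
    · rw [hzr]
      exact hz₂ge t ht
  · -- deepness
    intro i hi h1
    rcases Finset.mem_disjSum.mp hi with ⟨t, ht, rfl⟩ | ⟨t, ht, rfl⟩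
    · rw [hhl] at h1
      omega
    · rw [hhr] at h1
      rw [hzr, hhr]
      apply le_one_of_pow_le_one hp0
      have e1 : (ϖ * z₂ t ^ (2 * p ^ (h₂ t - 1))) ^ p = ϖ ^ p * (z₂ t ^ (p ^ h₂ t)) ^ 2 := by
        obtain ⟨h', hh'⟩ : ∃ h', h₂ t = h' + 1 := ⟨h₂ t - 1, by omega⟩
        rw [mul_pow, ← pow_mul, ← pow_mul, hh', Nat.add_sub_cancel, pow_succ]
        congr 2
        ring
      have e2 : (W.valuation ϖ * W.valuation (z₂ t) ^ (2 * p ^ (h₂ t - 1))) ^ p =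
          W.valuation ((ϖ * z₂ t ^ (2 * p ^ (h₂ t - 1))) ^ p) := by
        rw [map_pow W.valuation (ϖ * z₂ t ^ (2 * p ^ (h₂ t - 1))) p,
          map_mul W.valuation ϖ (z₂ t ^ (2 * p ^ (h₂ t - 1))),
          map_pow W.valuation (z₂ t) (2 * p ^ (h₂ t - 1))]
      rw [e2, e1, map_mul, map_pow W.valuation (z₂ t ^ (p ^ h₂ t)) 2]
      exact hz₂deep t ht
  · -- the leading term
    by_cases hne₀ : S₀.Nonempty
    · obtain ⟨ts, hts, hmax⟩ := Finset.exists_max_image S₀ n₀ hne₀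
      obtain ⟨hn1, hCle, hCnp, hpole, hshallow⟩ := hS₀ ts hts
      right
      refine ⟨Sum.inl ts, Finset.inl_mem_disjSum.mpr hts, ?_, ?_, C₀ ts, Q,
        n₀ ts * p ^ (e - 1), ?_, Nat.mul_pos hn1 (pow_pos hp.pos _), hQpos, hQlt, hCle, hCnp⟩
      · intro i hi hne
        rcases Finset.mem_disjSum.mp hi with ⟨t, ht, rfl⟩ | ⟨t, ht, rfl⟩
        · have hlt : n₀ t < n₀ ts :=
            lt_of_le_of_ne (hmax t ht) (fun h => hne (by rw [hinj₀ t ht ts hts h]))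
          rw [hzl, hzl, hvz₀ t ht, hvz₀ ts hts]
          exact pow_lt_pow_right₀ ((one_lt_inv₀ hPpos).mpr hP1) hlt
        · rw [hzl, hzr]
          by_contra hcon
          have hcon' : W.valuation (z₀ ts) ≤ W.valuation (z₂ t) := not_lt.mp hcon
          have hA : W.valuation P ^ (2 * n₀ ts) * W.valuation (z₀ ts) ^ 2 = 1 := by
            rw [hvz₀ ts hts, ← pow_mul, mul_comm (n₀ ts) 2, ← mul_pow,
              mul_inv_cancel₀ hPpos.ne', one_pow]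
          have hb1 : 1 ≤ W.valuation (z₂ t ^ (p ^ h₂ t)) := (hz₂ge t ht).trans (hz₂le t ht)
          have hbpos : 0 < W.valuation (z₂ t ^ (p ^ h₂ t)) ^ 2 :=
            pow_pos (lt_of_lt_of_le zero_lt_one hb1) 2
          have hd := hz₂deep t ht
          unfold Deep at hd
          have : (1 : W.ValueGroup) < 1 :=
            calc (1 : W.ValueGroup) = W.valuation P ^ (2 * n₀ ts) * W.valuation (z₀ ts) ^ 2 :=
                  hA.symm
              _ ≤ W.valuation P ^ (2 * n₀ ts) * W.valuation (z₂ t ^ (p ^ h₂ t)) ^ 2 :=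
                  mul_le_mul' le_rfl (pow_le_pow_left₀ zero_le' (hcon'.trans (hz₂le t ht)) 2)
              _ < W.valuation (ϖ ^ p) * W.valuation (z₂ t ^ (p ^ h₂ t)) ^ 2 :=
                  mul_lt_mul_of_pos_right hshallow hbpos
              _ ≤ 1 := hd
          exact lt_irrefl _ this
      · rw [hzl, hz₀]
        exact (val_head_lt (ϖ ^ p) (C₀ ts) P (n₀ ts) hP0 hCle hpole).le
      · rw [hzl, hz₀a]
        obtain ⟨e'', he''⟩ : ∃ e'', e = e'' + 1 := ⟨e - 1, by omega⟩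
        rw [he'', Nat.add_sub_cancel, pow_succ]
        congr 2
        ring
    · rw [Finset.not_nonempty_iff_eq_empty] at hne₀
      by_cases hne₂ : S₂.Nonempty
      · obtain ⟨ts, hts, hmax⟩ := Finset.exists_max_image S₂ mf hne₂
        obtain ⟨hn1, -, hcle, hcnp, hhlt, -⟩ := hS₂ ts hts
        right
        refine ⟨Sum.inr ts, Finset.inr_mem_disjSum.mpr hts, ?_, ?_, c₂ ts, X,
          n₂ ts * p ^ (e' - h₂ ts - 1), ?_, Nat.mul_pos hn1 (pow_pos hp.pos _), hXpos, hXlt,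
          hcle, hcnp⟩
        · intro i hi hne
          rcases Finset.mem_disjSum.mp hi with ⟨t, ht, rfl⟩ | ⟨t, ht, rfl⟩
          · exfalso
            rw [hne₀] at ht
            exact absurd ht (Finset.notMem_empty t)
          · have hlt : mf t < mf ts :=
              lt_of_le_of_ne (hmax t ht) (fun h => hne (by rw [hmf_inj t ht ts hts h]))
            rw [hzr, hzr, hvz₂ t ht, hvz₂ ts hts]
            exact pow_lt_pow_right₀ ((one_lt_inv₀ hXpos).mpr hXlt) hlt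
        · rw [hzr, map_mul]
          apply le_one_of_pow_le_one two_ne_zero
          have hd := hz₂deep ts hts
          unfold Deep at hd
          rw [mul_pow, sq (W.valuation (ϖ ^ p)), mul_assoc]
          calc W.valuation (ϖ ^ p) * (W.valuation (ϖ ^ p) * W.valuation (z₂ ts) ^ 2)
              ≤ 1 * (W.valuation (ϖ ^ p) * W.valuation (z₂ ts ^ (p ^ h₂ ts)) ^ 2) :=
                mul_le_mul' hϖp1 (mul_le_mul' le_rfl
                  (pow_le_pow_left₀ zero_le' (hz₂le ts hts) 2))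
            _ = W.valuation (ϖ ^ p) * W.valuation (z₂ ts ^ (p ^ h₂ ts)) ^ 2 := one_mul _
            _ ≤ 1 := hd
        · rw [hzr, hz₂a, hmfa]
          obtain ⟨e'', he''⟩ : ∃ e'', e' - h₂ ts = e'' + 1 := ⟨e' - h₂ ts - 1, by omega⟩
          rw [he'', Nat.add_sub_cancel, pow_succ]
          congr 2
          ring
      · rw [Finset.not_nonempty_iff_eq_empty] at hne₂
        left
        apply Finset.eq_empty_of_forall_notMem
        intro i hi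
        rcases Finset.mem_disjSum.mp hi with ⟨t, ht, -⟩ | ⟨t, ht, -⟩
        · rw [hne₀] at ht
          exact absurd ht (Finset.notMem_empty t)
        · rw [hne₂] at ht
          exact absurd ht (Finset.notMem_empty t)

end VF

end Groth.Agent.H8.Mix
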