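import Mathlib
import Groth.Agent.Lib.Helper8.ASK.MixC
import Groth.Agent.Lib.Helper8.ASK.Kum2
import Groth.Agent.Lib.Helper8.ASK.EppD

/-!
# Epp's mixed characteristic step, part D: Kummer generators, and from the certificate to weak
unramifiedness
-/

set_option autoImplicit false
universe u

namespace Groth.Agent.H8.Mix

open Polynomial IsLocalRing

theorem exists_kummer_generator (p : ℕ) (hp : p.Prime) (L M : Type u) [Field L] [Field M]
    [Algebra L M] [IsGalois L M] (hdeg : Module.finrank L M = p) (ζ : L)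
    (hζ : IsPrimitiveRoot ζ p) :
    ∃ (y₀ : M) (G : L), G ≠ 0 ∧ y₀ ^ p = algebraMap L M G ∧
      IntermediateField.adjoin L {y₀} = ⊤ := by
  haveI := Fact.mk hp
  haveI : FiniteDimensional L M :=
    Module.finite_of_finrank_pos (by rw [hdeg]; exact hp.pos)
  have hcard : Nat.card (M ≃ₐ[L] M) = p := by rw [IsGalois.card_aut_eq_finrank, hdeg]
  haveI : IsCyclic (M ≃ₐ[L] M) := isCyclic_of_prime_card hcard
  have hK : (primitiveRoots (Module.finrank L M) L).Nonempty :=
    ⟨ζ, by rw [hdeg, mem_primitiveRoots hp.pos]; exact hζ⟩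
  obtain ⟨α, ⟨G, hG⟩, hα⟩ := exists_root_adjoin_eq_top_of_isCyclic L M hK
  rw [hdeg] at hG
  refine ⟨α, G, ?_, hG.symm, hα⟩
  rintro rfl
  rw [map_zero] at hG
  have hα0 : α = 0 := (pow_eq_zero_iff hp.ne_zero).mp hG.symm
  have hbot : IntermediateField.adjoin L {α} = ⊥ := by
    rw [hα0]; exact IntermediateField.adjoin_zero
  rw [hα] at hbot
  have h1 := IntermediateField.bot_eq_top_iff_finrank_eq_one.mp hbot.symm
  rw [hdeg] at h1
  exact hp.one_lt.ne' h1

theorem exists_kum_poly {R : Type*} [CommRing R] (p : ℕ) (hp : p.Prime) (w : R)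
    (hw : (p : R) = -w ^ (p - 1)) :
    ∃ P : R[X], C (w ^ p) * P = (1 + C w * X) ^ p - 1 := by
  obtain ⟨r, hr⟩ := exists_add_pow_prime_eq hp (1 : R[X]) (C w * X)
  refine ⟨X ^ p - X * r, ?_⟩
  have hpw : (p : R[X]) * C w = -(C w) ^ p := by
    rw [← C_eq_natCast, ← C_mul, hw, neg_mul, ← pow_succ, Nat.sub_add_cancel hp.one_lt.le, C_neg,
      C_pow]
  rw [hr, C_pow, one_pow]
  linear_combination (-(X * r)) * hpw

theorem charP_residue_of_mem {R : Type*} [CommRing R] [IsLocalRing R] (p : ℕ) (hp : p.Prime)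
    (h : (p : R) ∈ maximalIdeal R) : CharP (ResidueField R) p := by
  have hpres : ((p : ℕ) : ResidueField R) = 0 := by
    rw [← map_natCast (residue R), residue_eq_zero_iff]
    exact h
  obtain ⟨q, hq⟩ := CharP.exists (ResidueField R)
  have hdvd : q ∣ p := (CharP.cast_eq_zero_iff (ResidueField R) q p).mp hpres
  rcases (Nat.dvd_prime hp).mp hdvd with h1 | h1
  · exfalso
    subst h1
    exact CharP.char_ne_one (ResidueField R) 1 rfl
  · subst h1
    exact hq

theorem wu_of_cert (p : ℕ) (hp : p.Prime) {Λ M' : Type u} [Field Λ] [Field M']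
    [Algebra Λ M'] [CharZero Λ] (V : ValuationSubring Λ) [IsDiscreteValuationRing V] (x : Λ)
    (hx1 : V.valuation x < 1)
    (hxunif : ∀ y : Λ, V.valuation y < 1 → V.valuation y ≤ V.valuation x)
    (ϖ ζ : Λ) (hϖ : ϖ ^ (p - 1) = -(p : Λ)) (hϖlt : V.valuation ϖ < 1)
    (hζ : IsPrimitiveRoot ζ p)
    (y' : M') (η : Λ) (hy' : y' ^ p = algebraMap Λ M' (E ϖ p η))
    (hgen : IntermediateField.adjoin Λ {y'} = ⊤)
    (hcert : Cert V p x η)
    (W : ValuationSubring M') (hW : W.comap (algebraMap Λ M') = V) :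
    ∀ y : M', W.valuation y < 1 → W.valuation y ≤ W.valuation (algebraMap Λ M' x) := by
  subst hW
  have hxV : x ∈ W.comap (algebraMap Λ M') :=
    ((W.comap (algebraMap Λ M')).valuation_le_one_iff x).mp hx1.le
  have hx0 : x ≠ 0 := by
    rintro rfl
    obtain ⟨ϖ', hϖ'⟩ := IsDiscreteValuationRing.exists_irreducible (W.comap (algebraMap Λ M'))
    have h1 : ϖ' ∈ maximalIdeal (W.comap (algebraMap Λ M')) :=
      (mem_maximalIdeal _).mpr (mem_nonunits_iff.mpr hϖ'.not_isUnit)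
    have h2 := hxunif _ (((W.comap (algebraMap Λ M')).valuation_lt_one_iff ϖ').mp h1)
    rw [map_zero] at h2
    have h3 : (ϖ' : Λ) = 0 := (Valuation.zero_iff _).mp (le_antisymm h2 zero_le')
    exact hϖ'.ne_zero (Subtype.ext h3)
  obtain ⟨π, hπdef⟩ : ∃ π : W.comap (algebraMap Λ M'), π = ⟨x, hxV⟩ := ⟨_, rfl⟩
  have hπx : (π : Λ) = x := by rw [hπdef]
  have hπ : maximalIdeal (W.comap (algebraMap Λ M')) = Ideal.span {π} :=
    (RI.maximalIdeal_eq_span_iff _ π (by rw [hπx]; exact hx0)).mpr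
      ⟨by rw [hπx]; exact hx1, by rw [hπx]; exact hxunif⟩
  letI algVM : Algebra (W.comap (algebraMap Λ M')) M' :=
    ((algebraMap Λ M').comp (W.comap (algebraMap Λ M')).subtype).toAlgebra
  haveI : IsScalarTower (W.comap (algebraMap Λ M')) Λ M' :=
    IsScalarTower.of_algebraMap_eq (fun _ => rfl)
  have hdom : EtRam.Dominates (W.comap (algebraMap Λ M'))
      (algebraMap (W.comap (algebraMap Λ M')) M') W := by
    refine ⟨fun a => a.2, fun a ha => ?_⟩
    have h1 := ((W.comap (algebraMap Λ M')).valuation_lt_one_iff a).mp ha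
    exact (RI.isEquiv_comap W (algebraMap Λ M')).lt_one_iff_lt_one.mp h1
  have hπM : algebraMap (W.comap (algebraMap Λ M')) M' π = algebraMap Λ M' x := by
    rw [← hπx]; rfl
  have hπM0 : algebraMap Λ M' x ≠ 0 := (_root_.map_ne_zero _).mpr hx0
  letI algVW : Algebra (W.comap (algebraMap Λ M')) W :=
    (RingHom.codRestrict (algebraMap (W.comap (algebraMap Λ M')) M') W hdom.1).toAlgebra
  haveI locW : IsLocalHom (algebraMap (W.comap (algebraMap Λ M')) W) :=
    RI.isLocalHom_of_dominates hdom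
  have hfinal : EtRam.IsWeaklyUnramified (W.comap (algebraMap Λ M')) W →
      ∀ y : M', W.valuation y < 1 → W.valuation y ≤ W.valuation (algebraMap Λ M' x) := by
    intro hwu
    have h1 : RI.IsUnif W.valuation (algebraMap Λ M' x) := by
      have h2 := (RI.isWeaklyUnramified_iff W π hπ (by
        show algebraMap (W.comap (algebraMap Λ M')) M' π ≠ 0
        rw [hπM]; exact hπM0)).mp hwu
      have h3 : ((algebraMap (W.comap (algebraMap Λ M')) W π : W) : M') = algebraMap Λ M' x := hπM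
      rwa [h3] at h2
    exact h1.2
  -- the Kummer data
  have hp0Λ : (p : Λ) ≠ 0 := by exact_mod_cast hp.ne_zero
  have hϖ0 : ϖ ≠ 0 := by
    rintro rfl
    rw [zero_pow (by have := hp.two_le; omega)] at hϖ
    exact hp0Λ (neg_eq_zero.mp hϖ.symm)
  have hϖV : ϖ ∈ W.comap (algebraMap Λ M') :=
    ((W.comap (algebraMap Λ M')).valuation_le_one_iff ϖ).mp hϖlt.le
  obtain ⟨w, hwdef⟩ : ∃ w : W.comap (algebraMap Λ M'), w = ⟨ϖ, hϖV⟩ := ⟨_, rfl⟩
  have hwϖ : (w : Λ) = ϖ := by rw [hwdef]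
  have hw : ((p : ℕ) : W.comap (algebraMap Λ M')) = -w ^ (p - 1) := by
    apply Subtype.ext
    push_cast
    rw [hwϖ, hϖ, neg_neg]
  have hw0 : w ≠ 0 := by
    intro h0
    rw [h0] at hwϖ
    exact hϖ0 hwϖ.symm
  have hwmem : w ∈ maximalIdeal (W.comap (algebraMap Λ M')) := by
    rw [(W.comap (algebraMap Λ M')).valuation_lt_one_iff, hwϖ]
    exact hϖlt
  obtain ⟨P, hP⟩ := exists_kum_poly p hp w hw
  have hpmem : ((p : ℕ) : W.comap (algebraMap Λ M')) ∈
      maximalIdeal (W.comap (algebraMap Λ M')) := by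
    rw [hw]
    exact Ideal.neg_mem_iff _ |>.mpr (Ideal.pow_mem_of_mem _ hwmem _ (by have := hp.two_le; omega))
  haveI : CharP (ResidueField (W.comap (algebraMap Λ M'))) p := charP_residue_of_mem p hp hpmem
  have D : ASK.KumData π p w P :=
    { hπ := hπ
      hp := hp
      hw0 := hw0
      hwmem := hwmem
      hunit := ⟨-1, by rw [hw, Units.val_neg, Units.val_one, neg_one_mul]⟩
      hP := hP }
  obtain ⟨ϖ', hϖ'def⟩ : ∃ ϖ' : M', ϖ' = algebraMap Λ M' ϖ := ⟨_, rfl⟩
  have hϖ'0 : ϖ' ≠ 0 := by rw [hϖ'def]; exact (_root_.map_ne_zero _).mpr hϖ0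
  have hfw : algebraMap (W.comap (algebraMap Λ M')) M' w = ϖ' := by
    rw [hϖ'def, ← hwϖ]; rfl
  obtain ⟨z', hz'def⟩ : ∃ z' : M', z' = (y' - 1) * ϖ'⁻¹ := ⟨_, rfl⟩
  have hyz : 1 + ϖ' * z' = y' := by
    rw [hz'def, mul_comm (y' - 1), ← mul_assoc, mul_inv_cancel₀ hϖ'0, one_mul]
    ring
  have hz : eval₂ (algebraMap (W.comap (algebraMap Λ M')) M') z' P = algebraMap Λ M' η := by
    have h := D.eval_identity (algebraMap (W.comap (algebraMap Λ M')) M') z'
    rw [hfw, hyz, hy'] at h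
    have h2 : algebraMap Λ M' (E ϖ p η) - 1 = ϖ' ^ p * algebraMap Λ M' η := by
      unfold E
      rw [map_add, map_one, map_mul, map_pow, ← hϖ'def]
      ring
    rw [h2] at h
    exact mul_left_cancel₀ (pow_ne_zero p hϖ'0) h
  have hgenz : IntermediateField.adjoin Λ {z'} = ⊤ := by
    refine ASK.adjoin_affine_eq_top y' z' (-ϖ⁻¹) (ϖ⁻¹) (inv_ne_zero hϖ0) ?_ hgen
    rw [hz'def, map_neg, map_inv₀, ← hϖ'def]
    ring
  rcases hcert with hη | ⟨mm, hmm, hc1, hc2⟩
  · have hηV : η ∈ W.comap (algebraMap Λ M') :=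
      ((W.comap (algebraMap Λ M')).valuation_le_one_iff η).mp hη
    rcases ASK.kum_caseA D hζ η z' hz hgenz ⟨η, hηV⟩ rfl with h1 | ⟨hunr, -⟩
    · intro y hy
      have hsurj : Function.Surjective (algebraMap Λ M') := by
        have h2 : (⊥ : Subalgebra Λ M') = ⊤ := Subalgebra.bot_eq_top_iff_finrank_eq_one.mpr h1
        exact Algebra.surjective_algebraMap_iff.mpr h2.symm
      obtain ⟨l, rfl⟩ := hsurj y
      have h3 : (W.comap (algebraMap Λ M')).valuation l < 1 :=
        (RI.isEquiv_comap W (algebraMap Λ M')).lt_one_iff_lt_one.mpr hy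
      have h4 := hxunif l h3
      exact (RI.isEquiv_comap W (algebraMap Λ M')).le_iff_le.mp h4
    · obtain ⟨hwu, -⟩ := @hunr W hdom locW
      exact hfinal hwu
  · have haV : η * x ^ (p * mm) ∈ W.comap (algebraMap Λ M') :=
      ((W.comap (algebraMap Λ M')).valuation_le_one_iff _).mp hc1
    have hres : ∀ r : W.comap (algebraMap Λ M'),
        residue _ (⟨η * x ^ (p * mm), haV⟩ : W.comap (algebraMap Λ M')) ≠ residue _ r ^ p := by
      intro r hr
      rw [← map_pow, ← sub_eq_zero, ← map_sub, residue_eq_zero_iff] at hr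
      have h1 := ((W.comap (algebraMap Λ M')).valuation_lt_one_iff _).mp hr
      exact hc2 (r : Λ) (((W.comap (algebraMap Λ M')).valuation_le_one_iff _).mpr r.2) h1
    have h4 := ASK.kum_caseC D η z' hz hgenz (p * mm)
      (⟨η * x ^ (p * mm), haV⟩ : W.comap (algebraMap Λ M')) (Nat.mul_pos hp.pos hmm)
      (dvd_mul_right p mm) hres (by
        show η * (π : Λ) ^ (p * mm) = η * x ^ (p * mm)
        rw [hπx])
    obtain ⟨hwu, -, -⟩ := @h4.2.2 W hdom locW
    exact hfinal hwu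

end Groth.Agent.H8.Mix
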