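import Mathlib
import Groth.Prelude.Def_EtRam
import Groth.Agent.Lib.Helper8.ASK.MixD
import Groth.Agent.Lib.Helper8.ASK.EppB
import Groth.Agent.Lib.Helper8.ASK.GalClosure

/-!
# Epp's mixed characteristic step, part E: from certificates in all composita to a weak solution
-/

set_option autoImplicit false
universe u

namespace Groth.Agent.H8.Mix

open IsLocalRing

theorem weakSolution_of_cert (p : ℕ) (hp : p.Prime) (A B C K L M K₃ : Type u)
    [CommRing A] [IsDomain A] [IsDiscreteValuationRing A]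
    [CommRing B] [IsDomain B] [IsDiscreteValuationRing B]
    [CommRing C] [IsLocalRing C]
    [Algebra A B] [Algebra B C] [IsLocalHom (algebraMap A B)] [IsLocalHom (algebraMap B C)]
    [Field K] [Field L] [Field M] [Algebra A K] [IsFractionRing A K] [Algebra B L]
    [IsFractionRing B L] [Algebra C M] [Algebra K L] [Algebra L M] [Algebra K M]
    [IsScalarTower K L M] [Algebra A L] [IsScalarTower A K L] [IsScalarTower A B L]
    [Algebra B M] [IsScalarTower B L M] [IsScalarTower B C M] [CharZero K]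
    [Field K₃] [Algebra K K₃] [Algebra A K₃] [IsScalarTower A K K₃] [FiniteDimensional K K₃]
    (hw : EtRam.IsWeaklyUnramified A B)
    (ht : EtRam.IsTotallyRamified A (algebraMap A K₃))
    (ζ ϖ : A) (hζ : IsPrimitiveRoot ζ p) (hϖ : ϖ ^ (p - 1) = -(p : A))
    (hϖm : ϖ ∈ maximalIdeal A)
    (G : L) (y₀ : M) (hy₀ : y₀ ^ p = algebraMap L M G)
    (hgen₀ : IntermediateField.adjoin L {y₀} = ⊤)
    (hcert : ∀ (Λ : Type u) [Field Λ] [Algebra K Λ] [Algebra L Λ] [Algebra K₃ Λ]
      [IsScalarTower K L Λ] [IsScalarTower K K₃ Λ],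
      Algebra.adjoin L (Set.range (algebraMap K₃ Λ)) = ⊤ →
      ∀ (V : ValuationSubring Λ), EtRam.Dominates B ((algebraMap L Λ).comp (algebraMap B L)) V →
      ∀ x : Λ, V.valuation x < 1 →
        (∀ y : Λ, y ≠ 0 → ∃ m : ℤ, V.valuation y = V.valuation x ^ m) →
        ∃ U η : Λ, U ≠ 0 ∧
          algebraMap L Λ G = U ^ p * E (algebraMap L Λ (algebraMap A L ϖ)) p η ∧
          Cert V p x η) :
    EtRam.IsWeakSolution C K M K₃ := by
  intro M' _ _ _ _ _ _ hgen' W hW
  classical
  haveI : Algebra.IsSeparable K K₃ := inferInstance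
  letI algLM' : Algebra L M' := ((algebraMap M M').comp (algebraMap L M)).toAlgebra
  haveI : IsScalarTower L M M' := IsScalarTower.of_algebraMap_eq (fun _ => rfl)
  haveI : IsScalarTower K L M' := IsScalarTower.of_algebraMap_eq (fun k => by
    show algebraMap K M' k = algebraMap M M' (algebraMap L M (algebraMap K L k))
    rw [← IsScalarTower.algebraMap_apply K L M, ← IsScalarTower.algebraMap_apply K M M'])
  -- the subfield generated by `L` and `K₃`
  obtain ⟨Λ, hΛ⟩ : ∃ Λ : IntermediateField L M',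
      Λ = IntermediateField.adjoin L (Set.range (algebraMap K₃ M')) := ⟨_, rfl⟩
  have hK₂Λ : ∀ k : K₃, algebraMap K₃ M' k ∈ Λ := fun k => by
    rw [hΛ]; exact IntermediateField.subset_adjoin L _ ⟨k, rfl⟩
  letI algK₂Λ : Algebra K₃ Λ := (RingHom.codRestrict (algebraMap K₃ M') Λ hK₂Λ).toAlgebra
  haveI : IsScalarTower K₃ Λ M' := IsScalarTower.of_algebraMap_eq (fun _ => rfl)
  haveI : IsScalarTower K K₃ Λ := IsScalarTower.of_algebraMap_eq (fun k => Subtype.ext (by
    show algebraMap K M' k = algebraMap K₃ M' (algebraMap K K₃ k)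
    exact IsScalarTower.algebraMap_apply K K₃ M' k))
  have hgenΛ : Algebra.adjoin L (Set.range (algebraMap K₃ Λ)) = ⊤ := by
    rw [eq_top_iff]
    rintro ⟨y, hy⟩ -
    have halg : ∀ x ∈ Set.range (algebraMap K₃ M'), IsAlgebraic L x := by
      rintro _ ⟨k, rfl⟩
      have h1 : IsIntegral K k := Algebra.IsIntegral.isIntegral k
      have h2 : IsIntegral K (algebraMap K₃ M' k) := h1.map (IsScalarTower.toAlgHom K K₃ M')
      have h3 : IsIntegral L (algebraMap K₃ M' k) := h2.tower_top
      exact h3.isAlgebraic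
    have hy' : y ∈ Algebra.adjoin L (Set.range (algebraMap K₃ M')) := by
      rw [← IntermediateField.adjoin_toSubalgebra_of_isAlgebraic halg, ← hΛ]; exact hy
    have key : ∀ y ∈ Algebra.adjoin L (Set.range (algebraMap K₃ M')),
        ∃ h : y ∈ Λ, (⟨y, h⟩ : Λ) ∈ Algebra.adjoin L (Set.range (algebraMap K₃ Λ)) := by
      intro y hy
      induction hy using Algebra.adjoin_induction with
      | mem x hx =>
        obtain ⟨k, rfl⟩ := hx
        exact ⟨hK₂Λ k, Algebra.subset_adjoin ⟨k, rfl⟩⟩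
      | algebraMap l =>
        exact ⟨Λ.algebraMap_mem l, Subalgebra.algebraMap_mem _ l⟩
      | add x y _ _ hx hy =>
        obtain ⟨h1, h2⟩ := hx
        obtain ⟨h3, h4⟩ := hy
        exact ⟨Λ.add_mem h1 h3, Subalgebra.add_mem _ h2 h4⟩
      | mul x y _ _ hx hy =>
        obtain ⟨h1, h2⟩ := hx
        obtain ⟨h3, h4⟩ := hy
        exact ⟨Λ.mul_mem h1 h3, Subalgebra.mul_mem _ h2 h4⟩
    obtain ⟨_, h2⟩ := key y hy'
    exact h2
  obtain ⟨V, hVdef⟩ : ∃ V : ValuationSubring Λ, V = W.comap (algebraMap Λ M') := ⟨_, rfl⟩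
  have hBW : EtRam.Dominates B
      ((algebraMap Λ M').comp ((algebraMap L Λ).comp (algebraMap B L))) W := by
    have hcmp : ∀ b : B, algebraMap Λ M' (algebraMap L Λ (algebraMap B L b)) =
        algebraMap M M' (algebraMap C M (algebraMap B C b)) := by
      intro b
      show algebraMap M M' (algebraMap L M (algebraMap B L b)) = _
      rw [← IsScalarTower.algebraMap_apply B L M, IsScalarTower.algebraMap_apply B C M]
    refine ⟨fun b => ?_, fun b hb => ?_⟩
    · show algebraMap Λ M' (algebraMap L Λ (algebraMap B L b)) ∈ W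
      rw [hcmp]; exact hW.1 _
    · show W.valuation (algebraMap Λ M' (algebraMap L Λ (algebraMap B L b))) < 1
      rw [hcmp]
      apply hW.2
      rw [mem_maximalIdeal, mem_nonunits_iff] at hb ⊢
      exact fun h => hb (isUnit_of_map_unit (algebraMap B C) b h)
  have hV : EtRam.Dominates B ((algebraMap L Λ).comp (algebraMap B L)) V := by
    rw [hVdef]; exact RI.dominates_comap_of_comp hBW
  obtain ⟨hfinΛ, x₂, hx1, hxunif, hxdisc, -⟩ :=
    Epp.compositum_structure A B K L K₃ Λ hw ht hgenΛ V hV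
  haveI := hfinΛ
  obtain ⟨πA, hπirr⟩ := IsDiscreteValuationRing.exists_irreducible A
  have hπ : maximalIdeal A = Ideal.span {πA} := hπirr.maximalIdeal_eq
  have hπB : maximalIdeal B = Ideal.span {algebraMap A B πA} := by
    have h1 : (maximalIdeal A).map (algebraMap A B) = maximalIdeal B := hw
    rw [← h1, hπ, Ideal.map_span, Set.image_singleton]
  letI algBΛ : Algebra B Λ := ((algebraMap L Λ).comp (algebraMap B L)).toAlgebra
  haveI : IsScalarTower B L Λ := IsScalarTower.of_algebraMap_eq (fun _ => rfl)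
  haveI : IsDiscreteValuationRing V :=
    BC.isDVR_of_dominates (L := L) hπB (show EtRam.Dominates B (algebraMap B Λ) V from hV)
  haveI : CharZero L := charZero_of_injective_algebraMap (algebraMap K L).injective
  haveI : CharZero Λ := charZero_of_injective_algebraMap (algebraMap L Λ).injective
  obtain ⟨U, η, hU, hGU, hc⟩ := hcert Λ hgenΛ V hV (algebraMap K₃ Λ x₂) hx1 hxdisc
  obtain ⟨ϖΛ, hϖΛdef⟩ : ∃ ϖΛ : Λ, ϖΛ = algebraMap L Λ (algebraMap A L ϖ) := ⟨_, rfl⟩
  rw [← hϖΛdef] at hGU
  have hϖΛ : ϖΛ ^ (p - 1) = -(p : Λ) := by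
    rw [hϖΛdef, ← map_pow, ← map_pow, hϖ, map_neg, map_neg, map_natCast, map_natCast]
  have hϖlt : V.valuation ϖΛ < 1 := by
    rw [hϖΛdef, IsScalarTower.algebraMap_apply A B L ϖ]
    apply hV.2
    rw [mem_maximalIdeal, mem_nonunits_iff] at hϖm ⊢
    exact fun h => hϖm (isUnit_of_map_unit (algebraMap A B) ϖ h)
  have hζΛ : IsPrimitiveRoot (algebraMap L Λ (algebraMap A L ζ)) p :=
    (hζ.map_of_injective (ASK.algebraMap_inj A K L)).map_of_injective (algebraMap L Λ).injective
  have hUM : algebraMap Λ M' U ≠ 0 := (_root_.map_ne_zero _).mpr hU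
  obtain ⟨y', hy'def⟩ : ∃ y' : M', y' = algebraMap M M' y₀ * (algebraMap Λ M' U)⁻¹ := ⟨_, rfl⟩
  have hy' : y' ^ p = algebraMap Λ M' (E ϖΛ p η) := by
    have h1 : (algebraMap M M' y₀) ^ p = algebraMap Λ M' (algebraMap L Λ G) := by
      rw [← map_pow, hy₀]; rfl
    rw [hy'def, mul_pow, h1, hGU, map_mul, map_pow, inv_pow,
      mul_comm ((algebraMap Λ M' U) ^ p), mul_assoc, mul_inv_cancel₀ (pow_ne_zero _ hUM), mul_one]
  have hgeny : IntermediateField.adjoin Λ {y'} = ⊤ := by
    rw [eq_top_iff]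
    rintro y -
    obtain ⟨F, hF⟩ : ∃ F : IntermediateField Λ M', F = IntermediateField.adjoin Λ {y'} :=
      ⟨_, rfl⟩
    rw [← hF]
    have hzF : algebraMap M M' y₀ ∈ F := by
      have h1 : y' ∈ F := by rw [hF]; exact IntermediateField.mem_adjoin_simple_self Λ y'
      have h2 : algebraMap Λ M' U ∈ F := F.algebraMap_mem U
      have h3 := F.mul_mem h1 h2
      rwa [hy'def, mul_assoc, inv_mul_cancel₀ hUM, mul_one] at h3
    have hzint : IsIntegral L y₀ := ASK.kum_isIntegral hp G y₀ hy₀
    have hMF : ∀ m : M, algebraMap M M' m ∈ F := by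
      intro m
      have hm : m ∈ Algebra.adjoin L {y₀} := by
        rw [ASK.algebra_adjoin_eq_top y₀ hzint hgen₀]; exact Algebra.mem_top
      induction hm using Algebra.adjoin_induction with
      | mem x hx => rw [Set.mem_singleton_iff.mp hx]; exact hzF
      | algebraMap l =>
        have h4 : algebraMap M M' (algebraMap L M l) = algebraMap Λ M' (algebraMap L Λ l) := rfl
        rw [h4]; exact F.algebraMap_mem _
      | add x y _ _ hx hy => rw [map_add]; exact F.add_mem hx hy
      | mul x y _ _ hx hy => rw [map_mul]; exact F.mul_mem hx hy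
    have hy : y ∈ Algebra.adjoin M (Set.range (algebraMap K₃ M')) := by
      rw [hgen']; exact Algebra.mem_top
    induction hy using Algebra.adjoin_induction with
    | mem x hx =>
      obtain ⟨k, rfl⟩ := hx
      have h4 : algebraMap K₃ M' k = algebraMap Λ M' (algebraMap K₃ Λ k) := rfl
      rw [h4]; exact F.algebraMap_mem _
    | algebraMap m => exact hMF m
    | add x y _ _ hx hy => exact F.add_mem hx hy
    | mul x y _ _ hx hy => exact F.mul_mem hx hy
  have hfinal := wu_of_cert p hp V (algebraMap K₃ Λ x₂) hx1 hxunif ϖΛ _ hϖΛ hϖlt hζΛ y' η hy'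
    hgeny hc W hVdef.symm
  refine (RI.isWeaklyUnramified_comap_iff W (algebraMap K₃ M')).mpr
    (fun y hy => ⟨x₂, ?_, hfinal y hy⟩)
  have h5 := hx1
  rw [hVdef] at h5
  exact (RI.isEquiv_comap W (algebraMap Λ M')).lt_one_iff_lt_one.mp h5

end Groth.Agent.H8.Mix
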