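import Mathlib
import Groth.Prelude.Def_EtRam
import Groth.Agent.Lib.Helper8.ASK.MixE
import Groth.Agent.Lib.Helper8.ASK.EppA
import Groth.Agent.Lib.Helper8.ASK.TotRamSol

/-!
# Epp's mixed characteristic step, part F: glue between the valued field statements and the
web of discrete valuation rings
-/

set_option autoImplicit false
universe u

namespace Groth.Agent.H8.Mix

open IsLocalRing TensorProduct

theorem val_pow_sub_pow_lt {Λ : Type*} [Field Λ] (W : ValuationSubring Λ) (p : ℕ) {d e : Λ}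
    (hd : W.valuation d ≤ 1) (he : W.valuation e ≤ 1) (hde : W.valuation (d - e) < 1) :
    W.valuation (d ^ p - e ^ p) < 1 := by
  rw [← geom_sum₂_mul, map_mul]
  have h1 : W.valuation (∑ i ∈ Finset.range p, d ^ i * e ^ (p - 1 - i)) ≤ 1 := by
    apply Valuation.map_sum_le
    intro i _
    rw [map_mul, map_pow, map_pow]
    calc _ ≤ (1 : W.ValueGroup) * 1 :=
          mul_le_mul' (pow_le_one₀ zero_le' hd) (pow_le_one₀ zero_le' he)
      _ = 1 := one_mul _
  calc _ ≤ 1 * W.valuation (d - e) := mul_le_mul' h1 le_rfl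
    _ = _ := one_mul _
    _ < 1 := hde

/-! ### Elements of `B` in a field over `L` -/

section BΛ

variable {B L Λ : Type u} [CommRing B] [IsDomain B] [IsDiscreteValuationRing B] [Field L]
  [Algebra B L] [IsFractionRing B L] [Field Λ] [Algebra L Λ]

theorem exists_B_of_val_le_one (V : ValuationSubring Λ)
    (hV : EtRam.Dominates B ((algebraMap L Λ).comp (algebraMap B L)) V) (l : L)
    (h : V.valuation (algebraMap L Λ l) ≤ 1) : ∃ b : B, algebraMap B L b = l := by
  obtain ⟨π, hπirr⟩ := IsDiscreteValuationRing.exists_irreducible B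
  have hπB : maximalIdeal B = Ideal.span {π} := hπirr.maximalIdeal_eq
  letI algBΛ : Algebra B Λ := ((algebraMap L Λ).comp (algebraMap B L)).toAlgebra
  haveI : IsScalarTower B L Λ := IsScalarTower.of_algebraMap_eq (fun _ => rfl)
  have hV' : EtRam.Dominates B (algebraMap B Λ) V := hV
  exact ASK.mem_of_val_le_one hπB hV' l h

theorem val_unit_B (V : ValuationSubring Λ)
    (hV : EtRam.Dominates B ((algebraMap L Λ).comp (algebraMap B L)) V) (b : B)
    (hb : b ∉ maximalIdeal B) : V.valuation (algebraMap L Λ (algebraMap B L b)) = 1 := by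
  letI algBΛ : Algebra B Λ := ((algebraMap L Λ).comp (algebraMap B L)).toAlgebra
  haveI : IsScalarTower B L Λ := IsScalarTower.of_algebraMap_eq (fun _ => rfl)
  have hV' : EtRam.Dominates B (algebraMap B Λ) V := hV
  have hunit : IsUnit b := by
    by_contra hnu
    exact hb ((mem_maximalIdeal _).mpr (mem_nonunits_iff.mpr hnu))
  have h5 := ASK.val_unit hV' hunit.unit
  rw [IsUnit.unit_spec] at h5
  exact h5

theorem nonpth_of_B (p : ℕ) (V : ValuationSubring Λ)
    (hV : EtRam.Dominates B ((algebraMap L Λ).comp (algebraMap B L)) V)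
    (hxres : ∀ y : Λ, V.valuation y ≤ 1 →
      ∃ b : B, V.valuation (y - algebraMap L Λ (algebraMap B L b)) < 1)
    (c : B) (hc : ∀ d : B, c - d ^ p ∉ maximalIdeal B) :
    NonPth V p (algebraMap L Λ (algebraMap B L c)) := by
  intro d hd hcon
  obtain ⟨d₀, hd₀⟩ := hxres d hd
  have hd₀1 : V.valuation (algebraMap L Λ (algebraMap B L d₀)) ≤ 1 :=
    (V.valuation_le_one_iff _).mpr (hV.1 d₀)
  have h1 := val_pow_sub_pow_lt V p hd hd₀1 hd₀
  have h2 : V.valuation (algebraMap L Λ (algebraMap B L c) -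
      (algebraMap L Λ (algebraMap B L d₀)) ^ p) < 1 := by
    have e : algebraMap L Λ (algebraMap B L c) - (algebraMap L Λ (algebraMap B L d₀)) ^ p =
        (algebraMap L Λ (algebraMap B L c) - d ^ p) +
          (d ^ p - (algebraMap L Λ (algebraMap B L d₀)) ^ p) := by ring
    rw [e]
    exact Valuation.map_add_lt _ hcon h1
  have e2 : algebraMap L Λ (algebraMap B L c) - (algebraMap L Λ (algebraMap B L d₀)) ^ p =
      algebraMap L Λ (algebraMap B L (c - d₀ ^ p)) := by
    rw [map_sub, map_sub, map_pow, map_pow]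
  rw [e2, val_unit_B V hV _ (hc d₀)] at h2
  exact lt_irrefl _ h2

theorem B_of_nonpth (p : ℕ) (V : ValuationSubring Λ)
    (hV : EtRam.Dominates B ((algebraMap L Λ).comp (algebraMap B L)) V) (c : B)
    (h : NonPth V p (algebraMap L Λ (algebraMap B L c))) :
    ∀ d : B, c - d ^ p ∉ maximalIdeal B := by
  intro d hd
  apply h (algebraMap L Λ (algebraMap B L d)) ((V.valuation_le_one_iff _).mpr (hV.1 d))
  have e2 : algebraMap L Λ (algebraMap B L c) - (algebraMap L Λ (algebraMap B L d)) ^ p =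
      algebraMap L Λ (algebraMap B L (c - d ^ p)) := by
    rw [map_sub, map_sub, map_pow, map_pow]
  rw [e2]
  exact hV.2 _ hd

theorem comap_eq_comap {Λ' : Type u} [Field Λ'] [Algebra L Λ'] (V : ValuationSubring Λ)
    (hV : EtRam.Dominates B ((algebraMap L Λ).comp (algebraMap B L)) V)
    (V' : ValuationSubring Λ')
    (hV' : EtRam.Dominates B ((algebraMap L Λ').comp (algebraMap B L)) V') :
    V.comap (algebraMap L Λ) = V'.comap (algebraMap L Λ') := by
  ext l
  rw [ValuationSubring.mem_comap, ValuationSubring.mem_comap]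
  constructor
  · intro h
    obtain ⟨b, rfl⟩ := exists_B_of_val_le_one V hV l ((V.valuation_le_one_iff _).mpr h)
    exact hV'.1 b
  · intro h
    obtain ⟨b, rfl⟩ := exists_B_of_val_le_one V' hV' l ((V'.valuation_le_one_iff _).mpr h)
    exact hV.1 b

theorem isEquiv_L {Λ' : Type u} [Field Λ'] [Algebra L Λ'] (V : ValuationSubring Λ)
    (hV : EtRam.Dominates B ((algebraMap L Λ).comp (algebraMap B L)) V)
    (V' : ValuationSubring Λ')
    (hV' : EtRam.Dominates B ((algebraMap L Λ').comp (algebraMap B L)) V') :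
    (V.valuation.comap (algebraMap L Λ)).IsEquiv (V'.valuation.comap (algebraMap L Λ')) := by
  have e1 := RI.isEquiv_comap V (algebraMap L Λ)
  have e2 := RI.isEquiv_comap V' (algebraMap L Λ')
  rw [comap_eq_comap V hV V' hV'] at e1
  exact e1.symm.trans e2

/-- Transfer of `NonPth` along an embedding of fields over `L`. -/
theorem nonpth_transfer (p : ℕ) {Λ' : Type u} [Field Λ'] [Algebra L Λ'] (V : ValuationSubring Λ)
    (hV : EtRam.Dominates B ((algebraMap L Λ).comp (algebraMap B L)) V)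
    (hxres : ∀ y : Λ, V.valuation y ≤ 1 →
      ∃ b : B, V.valuation (y - algebraMap L Λ (algebraMap B L b)) < 1)
    (V' : ValuationSubring Λ')
    (hV' : EtRam.Dominates B ((algebraMap L Λ').comp (algebraMap B L)) V')
    (hxres' : ∀ y : Λ', V'.valuation y ≤ 1 →
      ∃ b : B, V'.valuation (y - algebraMap L Λ' (algebraMap B L b)) < 1)
    (j : Λ →+* Λ') (hjL : ∀ l : L, j (algebraMap L Λ l) = algebraMap L Λ' l)
    (hEq : V.valuation.IsEquiv (V'.valuation.comap j))
    (c : Λ) (hc1 : V.valuation c ≤ 1) (hc : NonPth V p c) : NonPth V' p (j c) := by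
  obtain ⟨c₀, hc₀⟩ := hxres c hc1
  have h1 : NonPth V p (algebraMap L Λ (algebraMap B L c₀)) := by
    apply hc.congr
    rw [Valuation.map_sub_swap]
    exact hc₀
  have h2 := B_of_nonpth p V hV c₀ h1
  have h3 := nonpth_of_B p V' hV' hxres' c₀ h2
  apply h3.congr
  have e : j c - algebraMap L Λ' (algebraMap B L c₀) =
      j (c - algebraMap L Λ (algebraMap B L c₀)) := by
    rw [map_sub, hjL]
  rw [e]
  exact hEq.lt_one_iff_lt_one.mp hc₀

end BΛ

/-! ### The dichotomy in a compositum -/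

theorem dich_of_struct {A B K L K₂ Λ : Type u} [CommRing A] [CommRing B] [IsDomain B]
    [IsDiscreteValuationRing B] [Algebra A B]
    [Field K] [Field L] [Algebra A K] [Algebra B L] [IsFractionRing B L] [Algebra K L]
    [Algebra A L]
    [IsScalarTower A K L] [IsScalarTower A B L] [Field K₂] [Algebra K K₂] [Algebra A K₂]
    [IsScalarTower A K K₂] [Field Λ] [Algebra K Λ] [Algebra L Λ] [Algebra K₂ Λ]
    [IsScalarTower K L Λ] [IsScalarTower K K₂ Λ] (p : ℕ) (V : ValuationSubring Λ)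
    (hV : EtRam.Dominates B ((algebraMap L Λ).comp (algebraMap B L)) V)
    (hxres : ∀ y : Λ, V.valuation y ≤ 1 →
      ∃ b : B, V.valuation (y - algebraMap L Λ (algebraMap B L b)) < 1)
    (hdichB : ∀ b : B, (∃ a : A, b - algebraMap A B a ∈ maximalIdeal B) ∨
      (∃ (h : ℕ) (c : B), b - c ^ (p ^ h) ∈ maximalIdeal B ∧
        ∀ d : B, c - d ^ p ∉ maximalIdeal B)) :
    Dich V p (algebraMap K₂ Λ) := by
  intro b hb
  obtain ⟨b₀, hb₀⟩ := hxres b hb
  rcases hdichB b₀ with ⟨a, ha⟩ | ⟨h, c, hc, hcp⟩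
  · left
    refine ⟨algebraMap A K₂ a, ?_⟩
    rw [Epp.compat A B K L K₂ Λ]
    have e : b - algebraMap L Λ (algebraMap B L (algebraMap A B a)) =
        (b - algebraMap L Λ (algebraMap B L b₀)) +
          algebraMap L Λ (algebraMap B L (b₀ - algebraMap A B a)) := by
      rw [map_sub, map_sub]; ring
    rw [e]
    exact Valuation.map_add_lt _ hb₀ (hV.2 _ ha)
  · right
    refine ⟨h, algebraMap L Λ (algebraMap B L c), (V.valuation_le_one_iff _).mpr (hV.1 c), ?_,
      nonpth_of_B p V hV hxres c hcp⟩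
    have e : b - (algebraMap L Λ (algebraMap B L c)) ^ (p ^ h) =
        (b - algebraMap L Λ (algebraMap B L b₀)) +
          algebraMap L Λ (algebraMap B L (b₀ - c ^ (p ^ h))) := by
      rw [map_sub, map_sub, map_pow, map_pow]; ring
    rw [e]
    exact Valuation.map_add_lt _ hb₀ (hV.2 _ hc)

/-! ### Uniqueness of the dominating valuation ring of a compositum -/

theorem unique_dominating (A B K L K₂ Λ : Type u) [CommRing A] [IsDomain A]
    [IsDiscreteValuationRing A]
    [CommRing B] [IsDomain B] [IsDiscreteValuationRing B] [Algebra A B] [IsLocalHom (algebraMap A B)]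
    [Field K] [Field L] [Algebra A K] [IsFractionRing A K] [Algebra B L] [IsFractionRing B L]
    [Algebra K L] [Algebra A L] [IsScalarTower A K L] [IsScalarTower A B L]
    [Field K₂] [Algebra K K₂] [Algebra A K₂] [IsScalarTower A K K₂]
    [FiniteDimensional K K₂] [Algebra.IsSeparable K K₂]
    [Field Λ] [Algebra K Λ] [Algebra L Λ] [Algebra K₂ Λ] [IsScalarTower K L Λ]
    [IsScalarTower K K₂ Λ] (hw : EtRam.IsWeaklyUnramified A B)
    (ht : EtRam.IsTotallyRamified A (algebraMap A K₂))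
    (hgen : Algebra.adjoin L (Set.range (algebraMap K₂ Λ)) = ⊤)
    (V V' : ValuationSubring Λ)
    (hV : EtRam.Dominates B ((algebraMap L Λ).comp (algebraMap B L)) V)
    (hV' : EtRam.Dominates B ((algebraMap L Λ).comp (algebraMap B L)) V') : V = V' := by
  classical
  obtain ⟨π, hπirr⟩ := IsDiscreteValuationRing.exists_irreducible A
  have hπ : maximalIdeal A = Ideal.span {π} := hπirr.maximalIdeal_eq
  have hπB : maximalIdeal B = Ideal.span {algebraMap A B π} := by
    have h1 : (maximalIdeal A).map (algebraMap A B) = maximalIdeal B := hw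
    rw [← h1, hπ, Ideal.map_span, Set.image_singleton]
  obtain ⟨x₁, e, he, hval, hspan⟩ := RI.totRam_structure (K := K) hπ ht
  letI algBM : Algebra B Λ := ((algebraMap L Λ).comp (algebraMap B L)).toAlgebra
  haveI : IsScalarTower B L Λ := IsScalarTower.of_algebraMap_eq (fun _ => rfl)
  have hrepr := RI.span_pow_eq_top hgen hspan
  obtain ⟨z, hzdef⟩ : ∃ z : Λ, z = algebraMap K₂ Λ x₁ := ⟨_, rfl⟩
  obtain ⟨πL, hπLdef⟩ : ∃ πL : L, πL = algebraMap B L (algebraMap A B π) := ⟨_, rfl⟩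
  have key : ∀ U : ValuationSubring Λ,
      EtRam.Dominates B ((algebraMap L Λ).comp (algebraMap B L)) U →
      ∀ c : Fin e → L, (∑ i, c i • z ^ (i : ℕ)) ∈ U ↔
        ∀ i : Fin e, ∃ b : B, algebraMap B L b = (c i) ^ e * πL ^ (i : ℕ) := by
    intro U hU c
    have hU' : EtRam.Dominates B (algebraMap B Λ) U := hU
    have hdomA := Epp.dominates_A A B K L K₂ Λ U hU
    have hz : U.valuation z ^ e = U.valuation (algebraMap B Λ (algebraMap A B π)) := by
      have h1 := hval _ hdomA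
      rw [← map_pow] at h1
      have h2 := (RI.isEquiv_comap U (algebraMap K₂ Λ)).eq_iff.mp h1
      rw [Valuation.comap_apply, Valuation.comap_apply, map_pow, map_pow,
        Epp.compat A B K L K₂ Λ] at h2
      rw [hzdef]
      exact h2.symm
    have hterm : ∀ i : Fin e, U.valuation (c i • z ^ (i : ℕ)) ^ e =
        U.valuation (algebraMap L Λ ((c i) ^ e * πL ^ (i : ℕ))) := by
      intro i
      have e1 : algebraMap B Λ (algebraMap A B π) = algebraMap L Λ πL := by rw [hπLdef]; rfl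
      have e2 : (c i • z ^ (i : ℕ)) ^ e = algebraMap L Λ (c i ^ e) * (z ^ e) ^ (i : ℕ) := by
        rw [Algebra.smul_def, mul_pow, map_pow, ← pow_mul, ← pow_mul, mul_comm (i : ℕ) e]
      calc U.valuation (c i • z ^ (i : ℕ)) ^ e = U.valuation ((c i • z ^ (i : ℕ)) ^ e) :=
            (map_pow _ _ _).symm
        _ = U.valuation (algebraMap L Λ (c i ^ e)) * (U.valuation z ^ e) ^ (i : ℕ) := by
            rw [e2, map_mul, map_pow U.valuation (z ^ e), map_pow U.valuation z e]
        _ = U.valuation (algebraMap L Λ (c i ^ e)) *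
              U.valuation (algebraMap L Λ πL) ^ (i : ℕ) := by rw [hz, e1]
        _ = _ := by
            rw [map_mul (algebraMap L Λ), map_pow (algebraMap L Λ) πL, map_mul U.valuation,
              map_pow U.valuation (algebraMap L Λ πL)]
    have hcc := Epp.comp_core' (L := L) (z := z) hπB hU' he hz c
    constructor
    · intro hmem i
      have h1 : U.valuation (∑ i, c i • z ^ (i : ℕ)) ≤ 1 := (U.valuation_le_one_iff _).mpr hmem
      have h2 : U.valuation (c i • z ^ (i : ℕ)) ≤ 1 := (hcc.1 i).trans h1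
      have h3 : U.valuation (algebraMap L Λ ((c i) ^ e * πL ^ (i : ℕ))) ≤ 1 := by
        rw [← hterm i]
        exact pow_le_one₀ zero_le' h2
      exact exists_B_of_val_le_one U hU _ h3
    · intro hall
      apply (U.valuation_le_one_iff _).mp
      apply Valuation.map_sum_le
      intro i _
      obtain ⟨b, hb⟩ := hall i
      apply le_one_of_pow_le_one he
      rw [hterm i, ← hb]
      exact (U.valuation_le_one_iff _).mpr (hU.1 b)
  ext y
  obtain ⟨c, rfl⟩ := hrepr y
  rw [← hzdef]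
  exact (key V hV c).trans (key V' hV' c).symm

/-! ### Embedding a compositum -/

theorem exists_embedding {K L K₂ Λ₁ Λ' : Type u} [Field K] [Field L] [Field K₂] [Field Λ₁]
    [Field Λ'] [Algebra K L] [Algebra K K₂]
    [Algebra K Λ₁] [Algebra L Λ₁] [Algebra K₂ Λ₁] [IsScalarTower K L Λ₁] [IsScalarTower K K₂ Λ₁]
    [Algebra K Λ'] [Algebra L Λ'] [Algebra K₂ Λ'] [IsScalarTower K L Λ'] [IsScalarTower K K₂ Λ']
    (hF : IsField (L ⊗[K] K₂))
    (hgen : Algebra.adjoin L (Set.range (algebraMap K₂ Λ₁)) = ⊤) :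
    ∃ j : Λ₁ →+* Λ', (∀ l : L, j (algebraMap L Λ₁ l) = algebraMap L Λ' l) ∧
      (∀ k : K₂, j (algebraMap K₂ Λ₁ k) = algebraMap K₂ Λ' k) := by
  obtain ⟨φ₁, hφ₁⟩ : ∃ φ₁ : L ⊗[K] K₂ →ₐ[K] Λ₁, φ₁ = Algebra.TensorProduct.productMap
      (IsScalarTower.toAlgHom K L Λ₁) (IsScalarTower.toAlgHom K K₂ Λ₁) := ⟨_, rfl⟩
  obtain ⟨φ', hφ'⟩ : ∃ φ' : L ⊗[K] K₂ →ₐ[K] Λ', φ' = Algebra.TensorProduct.productMap
      (IsScalarTower.toAlgHom K L Λ') (IsScalarTower.toAlgHom K K₂ Λ') := ⟨_, rfl⟩
  have h1 : ∀ (l : L) (k : K₂), φ₁ (l ⊗ₜ k) = algebraMap L Λ₁ l * algebraMap K₂ Λ₁ k := by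
    intro l k
    rw [hφ₁, Algebra.TensorProduct.productMap_apply_tmul]
    rfl
  have h1' : ∀ (l : L) (k : K₂), φ' (l ⊗ₜ k) = algebraMap L Λ' l * algebraMap K₂ Λ' k := by
    intro l k
    rw [hφ', Algebra.TensorProduct.productMap_apply_tmul]
    rfl
  have hinj : Function.Injective φ₁ := by
    rw [injective_iff_map_eq_zero]
    intro a ha
    by_contra ha0
    obtain ⟨b, hb⟩ := hF.mul_inv_cancel ha0
    have h2 := congrArg φ₁ hb
    rw [map_mul, ha, zero_mul, map_one] at h2
    exact zero_ne_one h2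
  have hsurj : Function.Surjective φ₁ := by
    intro y
    have hy : y ∈ Algebra.adjoin L (Set.range (algebraMap K₂ Λ₁)) := by
      rw [hgen]; exact Algebra.mem_top
    induction hy using Algebra.adjoin_induction with
    | mem x hx =>
      obtain ⟨k, rfl⟩ := hx
      exact ⟨1 ⊗ₜ k, by rw [h1, map_one, one_mul]⟩
    | algebraMap l => exact ⟨l ⊗ₜ 1, by rw [h1, map_one, mul_one]⟩
    | add x y _ _ hx hy =>
      obtain ⟨a, rfl⟩ := hx
      obtain ⟨b, rfl⟩ := hy
      exact ⟨a + b, map_add _ _ _⟩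
    | mul x y _ _ hx hy =>
      obtain ⟨a, rfl⟩ := hx
      obtain ⟨b, rfl⟩ := hy
      exact ⟨a * b, map_mul _ _ _⟩
  obtain ⟨eqv, heqv⟩ : ∃ eqv : (L ⊗[K] K₂) ≃+* Λ₁, ∀ t, eqv t = φ₁ t :=
    ⟨RingEquiv.ofBijective φ₁ ⟨hinj, hsurj⟩, fun _ => rfl⟩
  refine ⟨(φ' : L ⊗[K] K₂ →+* Λ').comp (eqv.symm : Λ₁ →+* L ⊗[K] K₂), ?_, ?_⟩
  · intro l
    have h3 : eqv.symm (algebraMap L Λ₁ l) = l ⊗ₜ 1 := by
      apply eqv.injective
      rw [RingEquiv.apply_symm_apply, heqv, h1, map_one, mul_one]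
    show φ' (eqv.symm (algebraMap L Λ₁ l)) = _
    rw [h3, h1', map_one, mul_one]
  · intro k
    have h3 : eqv.symm (algebraMap K₂ Λ₁ k) = 1 ⊗ₜ k := by
      apply eqv.injective
      rw [RingEquiv.apply_symm_apply, heqv, h1, map_one, one_mul]
    show φ' (eqv.symm (algebraMap K₂ Λ₁ k)) = _
    rw [h3, h1', map_one, one_mul]

/-! ### Adjoining roots -/

open Polynomial in
theorem exists_roots (F : Type u) [Field F] (a b : F) (m n : ℕ) (hm : 0 < m) (hn : 0 < n) :
    ∃ (F' : Type u) (_ : Field F') (_ : Algebra F F') (_ : FiniteDimensional F F') (α β : F'),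
      α ^ m = algebraMap F F' a ∧ β ^ n = algebraMap F F' b := by
  obtain ⟨α, hα⟩ := IsAlgClosed.exists_pow_nat_eq (algebraMap F (AlgebraicClosure F) a) hm
  obtain ⟨β, hβ⟩ := IsAlgClosed.exists_pow_nat_eq (algebraMap F (AlgebraicClosure F) b) hn
  have hαi : IsIntegral F α :=
    ⟨X ^ m - C a, monic_X_pow_sub_C a hm.ne', by
      rw [eval₂_sub, eval₂_X_pow, eval₂_C, hα, sub_self]⟩
  have hβi : IsIntegral F β :=
    ⟨X ^ n - C b, monic_X_pow_sub_C b hn.ne', by
      rw [eval₂_sub, eval₂_X_pow, eval₂_C, hβ, sub_self]⟩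
  haveI := IntermediateField.finiteDimensional_adjoin_pair hαi hβi
  have hαm : α ∈ IntermediateField.adjoin F ({α, β} : Set (AlgebraicClosure F)) :=
    IntermediateField.subset_adjoin F _ (Set.mem_insert α {β})
  have hβm : β ∈ IntermediateField.adjoin F ({α, β} : Set (AlgebraicClosure F)) :=
    IntermediateField.subset_adjoin F _ (Set.mem_insert_of_mem α rfl)
  exact ⟨IntermediateField.adjoin F ({α, β} : Set (AlgebraicClosure F)), inferInstance,
    inferInstance, inferInstance, ⟨α, hαm⟩, ⟨β, hβm⟩, Subtype.ext hα, Subtype.ext hβ⟩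

/-! ### Existence of a compositum -/

theorem exists_compositum (K L K₂ : Type u) [Field K] [Field L] [Field K₂] [Algebra K L]
    [Algebra K K₂] [FiniteDimensional K K₂] :
    ∃ (Λ : Type u) (_ : Field Λ) (_ : Algebra K Λ) (_ : Algebra L Λ) (_ : Algebra K₂ Λ)
      (_ : IsScalarTower K L Λ) (_ : IsScalarTower K K₂ Λ),
      Algebra.adjoin L (Set.range (algebraMap K₂ Λ)) = ⊤ := by
  haveI : Nontrivial (L ⊗[K] K₂) := by
    apply Module.nontrivial_of_finrank_pos (R := L)
    rw [Module.finrank_baseChange]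
    exact Module.finrank_pos
  obtain ⟨𝔪, h𝔪⟩ := Ideal.exists_maximal (L ⊗[K] K₂)
  letI : Field ((L ⊗[K] K₂) ⧸ 𝔪) := Ideal.Quotient.field 𝔪
  letI algK₁ : Algebra K₂ ((L ⊗[K] K₂) ⧸ 𝔪) :=
    ((Ideal.Quotient.mk 𝔪).comp
      (Algebra.TensorProduct.includeRight : K₂ →ₐ[K] L ⊗[K] K₂).toRingHom).toAlgebra
  have t1 : IsScalarTower K L ((L ⊗[K] K₂) ⧸ 𝔪) := inferInstance
  have t2 : IsScalarTower K K₂ ((L ⊗[K] K₂) ⧸ 𝔪) := IsScalarTower.of_algebraMap_eq (fun x => by
    show Ideal.Quotient.mk 𝔪 (algebraMap K (L ⊗[K] K₂) x) =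
      Ideal.Quotient.mk 𝔪 ((1 : L) ⊗ₜ[K] (algebraMap K K₂ x))
    rw [Algebra.TensorProduct.algebraMap_apply'])
  refine ⟨(L ⊗[K] K₂) ⧸ 𝔪, inferInstance, inferInstance, inferInstance, algK₁, t1, t2, ?_⟩
  have hkey : ∀ t : L ⊗[K] K₂,
      Ideal.Quotient.mk 𝔪 t ∈
        Algebra.adjoin L (Set.range (algebraMap K₂ ((L ⊗[K] K₂) ⧸ 𝔪))) := by
    intro t
    induction t using TensorProduct.induction_on with
    | zero => rw [map_zero]; exact Subalgebra.zero_mem _
    | tmul l k =>
      have h1 : Ideal.Quotient.mk 𝔪 (l ⊗ₜ[K] k) = l • algebraMap K₂ ((L ⊗[K] K₂) ⧸ 𝔪) k := by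
        rw [Algebra.smul_def]
        show Ideal.Quotient.mk 𝔪 (l ⊗ₜ[K] k) =
          Ideal.Quotient.mk 𝔪 (algebraMap L (L ⊗[K] K₂) l) *
            Ideal.Quotient.mk 𝔪 ((1 : L) ⊗ₜ[K] k)
        rw [← map_mul, Algebra.TensorProduct.algebraMap_apply,
          Algebra.TensorProduct.tmul_mul_tmul, mul_one, one_mul]
        rfl
      rw [h1]
      have hk : algebraMap K₂ ((L ⊗[K] K₂) ⧸ 𝔪) k ∈
          Algebra.adjoin L (Set.range (algebraMap K₂ ((L ⊗[K] K₂) ⧸ 𝔪))) :=
        Algebra.subset_adjoin ⟨k, rfl⟩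
      exact Subalgebra.smul_mem _ hk l
    | add a b ha hb => rw [map_add]; exact Subalgebra.add_mem _ ha hb
  rw [eq_top_iff]
  intro y _
  obtain ⟨t, rfl⟩ := Ideal.Quotient.mk_surjective y
  exact hkey t

end Groth.Agent.H8.Mix
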