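import Mathlib
import Groth.Prelude.Def_EtRam
import Groth.Agent.Lib.Helper8.ASK.MixF

/-!
# Epp's mixed characteristic step, part G: the main theorem
-/

set_option autoImplicit false
universe u

namespace Groth.Agent.H8.Mix

open IsLocalRing TensorProduct

/-- `reduce1` with the set of kept terms made abstract. -/
theorem reduce1' {Λ : Type*} [Field Λ] {W : ValuationSubring Λ} {p : ℕ} (hp : p.Prime) (ϖ : Λ)
    (hϖ : ϖ ^ (p - 1) = -(p : Λ)) (hϖlt : W.valuation ϖ < 1)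
    {ι₀ : Type*} (C : ι₀ → Λ) (n h : ι₀ → ℕ) (P Q : Λ) (e : ℕ) (hQ : Q ^ (p ^ e) = P)
    (hP0 : P ≠ 0) (S : Finset ι₀) (hhe : ∀ i ∈ S, h i < e)
    (hC : ∀ i ∈ S, W.valuation (C i) ≤ 1)
    (hn : ∀ i ∈ S, W.valuation (ϖ ^ p) < W.valuation P ^ (n i)) :
    ∃ (Y₁ Ξ : Λ) (S₀ : Finset ι₀), Y₁ ≠ 0 ∧ Deep W p ϖ Ξ ∧ S₀ ⊆ S ∧
      (∀ i ∈ S₀, h i = 0 ∧ W.valuation P ^ (2 * n i) < W.valuation (ϖ ^ p)) ∧
      ∏ i ∈ S, E ϖ p (C i ^ (p ^ h i) * (P⁻¹) ^ (n i)) =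
        Y₁ ^ p * (∏ i ∈ S₀, E ϖ p (C i * (P⁻¹) ^ (n i))) * E ϖ p Ξ := by
  obtain ⟨Y₁, Ξ, hY₁, hΞ, hrep⟩ := reduce1 hp ϖ hϖ hϖlt C n h P Q e hQ hP0 S hhe hC hn
  exact ⟨Y₁, Ξ, _, hY₁, hΞ, Finset.filter_subset _ _,
    fun i hi => (Finset.mem_filter.mp hi).2, hrep⟩

section Web

variable (p : ℕ) (hp : p.Prime) (A B C K L M : Type u)
  [CommRing A] [IsDomain A] [IsDiscreteValuationRing A]
  [CommRing B] [IsDomain B] [IsDiscreteValuationRing B]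
  [CommRing C] [IsLocalRing C]
  [Algebra A B] [Algebra B C] [IsLocalHom (algebraMap A B)] [IsLocalHom (algebraMap B C)]
  [Field K] [Field L] [Field M] [Algebra A K] [IsFractionRing A K] [Algebra B L]
  [IsFractionRing B L] [Algebra C M] [Algebra K L] [Algebra L M] [Algebra K M]
  [IsScalarTower K L M] [Algebra A L] [IsScalarTower A K L] [IsScalarTower A B L]
  [Algebra B M] [IsScalarTower B L M] [IsScalarTower B C M] [CharZero K]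

include hp in
theorem main_N (hw : EtRam.IsWeaklyUnramified A B)
    (ζ ϖ : A) (hζ : IsPrimitiveRoot ζ p) (hϖ : ϖ ^ (p - 1) = -(p : A))
    (hϖm : ϖ ∈ maximalIdeal A)
    (hTR : ∀ (K₁ : Type u) [Field K₁] [Algebra K K₁] [FiniteDimensional K K₁],
      EtRam.IsTotallyRamified A ((algebraMap K K₁).comp (algebraMap A K)))
    (G : L) (y₀ : M) (hy₀ : y₀ ^ p = algebraMap L M G)
    (hgen₀ : IntermediateField.adjoin L {y₀} = ⊤)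
    (W_L : ValuationSubring L)
    (hW_L : EtRam.Dominates B ((algebraMap L L).comp (algebraMap B L)) W_L)
    (Y : L) (g : K) (G₀ : L) (hY : Y ≠ 0) (hg : g ≠ 0)
    (hrep : G = Y ^ p * algebraMap K L g * G₀)
    (hG₀ : W_L.valuation G₀ ≤ 1) (hG₀p : NonPth W_L p G₀) :
    ∃ (K₁ : Type u) (_ : Field K₁) (_ : Algebra K K₁), FiniteDimensional K K₁ ∧
      EtRam.IsWeakSolution C K M K₁ := by
  obtain ⟨K₃, fK₃, aK₃, finK₃, γ, -, hγ, -⟩ := exists_roots K g 1 p 1 hp.pos one_pos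
  letI algAK₃ : Algebra A K₃ := ((algebraMap K K₃).comp (algebraMap A K)).toAlgebra
  haveI : IsScalarTower A K K₃ := IsScalarTower.of_algebraMap_eq (fun _ => rfl)
  have ht₃ : EtRam.IsTotallyRamified A (algebraMap A K₃) := hTR K₃
  refine ⟨K₃, fK₃, aK₃, finK₃, ?_⟩
  apply weakSolution_of_cert p hp A B C K L M K₃ hw ht₃ ζ ϖ hζ hϖ hϖm G y₀ hy₀ hgen₀
  intro Λ _ _ _ _ _ _ hgenΛ V hV x hx1 hxdisc
  haveI : Algebra.IsSeparable K K₃ := inferInstance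
  obtain ⟨-, x₂, -, -, -, hxres⟩ := Epp.compositum_structure A B K L K₃ Λ hw ht₃ hgenΛ V hV
  obtain ⟨g₀, hg₀⟩ := exists_B_of_val_le_one W_L hW_L G₀ hG₀
  have h1 : NonPth W_L p (algebraMap L L (algebraMap B L g₀)) := by
    rw [hg₀]; exact hG₀p
  have h2 := B_of_nonpth p W_L hW_L g₀ h1
  have h3 : NonPth V p (algebraMap L Λ G₀) := by
    rw [← hg₀]; exact nonpth_of_B p V hV hxres g₀ h2
  haveI : CharZero L := charZero_of_injective_algebraMap (algebraMap K L).injective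
  haveI : CharZero Λ := charZero_of_injective_algebraMap (algebraMap L Λ).injective
  obtain ⟨ϖΛ, hϖΛdef⟩ : ∃ ϖΛ : Λ, ϖΛ = algebraMap L Λ (algebraMap A L ϖ) := ⟨_, rfl⟩
  have hϖΛ : ϖΛ ^ (p - 1) = -(p : Λ) := by
    rw [hϖΛdef, ← map_pow, ← map_pow, hϖ, map_neg, map_neg, map_natCast, map_natCast]
  have hϖlt : V.valuation ϖΛ < 1 := by
    rw [hϖΛdef, IsScalarTower.algebraMap_apply A B L ϖ]
    apply hV.2
    rw [mem_maximalIdeal, mem_nonunits_iff] at hϖm ⊢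
    exact fun h => hϖm (isUnit_of_map_unit (algebraMap A B) ϖ h)
  have hp0Λ : (p : Λ) ≠ 0 := by exact_mod_cast hp.ne_zero
  have hϖ0 : ϖΛ ≠ 0 := by
    intro h0
    rw [h0, zero_pow (by have := hp.two_le; omega)] at hϖΛ
    exact hp0Λ (neg_eq_zero.mp hϖΛ.symm)
  have hG₀1 : V.valuation (algebraMap L Λ G₀) ≤ 1 := by
    rw [← hg₀]; exact (V.valuation_le_one_iff _).mpr (hV.1 g₀)
  obtain ⟨η, hη, hcert⟩ := cert_of_unit V p hp ϖΛ x (algebraMap L Λ G₀) hϖΛ hϖlt hϖ0 hx1 hxdisc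
    hG₀1 h3
  have hγ0 : γ ≠ 0 := by
    rintro rfl
    rw [zero_pow hp.ne_zero] at hγ
    exact hg ((map_eq_zero _).mp hγ.symm)
  refine ⟨algebraMap L Λ Y * algebraMap K₃ Λ γ, η,
    mul_ne_zero ((map_ne_zero _).mpr hY) ((map_ne_zero _).mpr hγ0), ?_, hcert⟩
  have e1 : algebraMap L Λ (algebraMap K L g) = (algebraMap K₃ Λ γ) ^ p := by
    rw [← map_pow, hγ, ← IsScalarTower.algebraMap_apply K L Λ,
      ← IsScalarTower.algebraMap_apply K K₃ Λ]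
  rw [← hϖΛdef, ← hη, hrep, map_mul, map_mul, map_pow, mul_pow, e1]

include hp in
theorem main_R2 (K₂ Λ₁ : Type u)
    [Field K₂] [Algebra K K₂] [Algebra A K₂] [IsScalarTower A K K₂] [FiniteDimensional K K₂]
    [Field Λ₁] [Algebra K Λ₁] [Algebra L Λ₁] [Algebra K₂ Λ₁] [IsScalarTower K L Λ₁]
    [IsScalarTower K K₂ Λ₁]
    (hAB : Function.Injective (algebraMap A B))
    (hw : EtRam.IsWeaklyUnramified A B)
    (ζ ϖ : A) (hζ : IsPrimitiveRoot ζ p) (hϖ : ϖ ^ (p - 1) = -(p : A))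
    (hϖm : ϖ ∈ maximalIdeal A)
    (hTR : ∀ (K₁ : Type u) [Field K₁] [Algebra K K₁] [FiniteDimensional K K₁],
      EtRam.IsTotallyRamified A ((algebraMap K K₁).comp (algebraMap A K)))
    (G : L) (y₀ : M) (hy₀ : y₀ ^ p = algebraMap L M G)
    (hgen₀ : IntermediateField.adjoin L {y₀} = ⊤)
    (ht₂ : EtRam.IsTotallyRamified A (algebraMap A K₂))
    (hgen₁ : Algebra.adjoin L (Set.range (algebraMap K₂ Λ₁)) = ⊤)
    (V₁ : ValuationSubring Λ₁)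
    (hV₁ : EtRam.Dominates B ((algebraMap L Λ₁).comp (algebraMap B L)) V₁)
    (x_K : K) (Q₂ : K₂) (e : ℕ) (he : 1 ≤ e) (hQ₂ : Q₂ ^ (p ^ e) = algebraMap K K₂ x_K)
    (hxK0 : x_K ≠ 0) (ϖ₁ P₁ : Λ₁) (hϖ₁def : ϖ₁ = algebraMap L Λ₁ (algebraMap A L ϖ))
    (hP₁def : P₁ = algebraMap L Λ₁ (algebraMap K L x_K))
    (hxK1 : V₁.valuation P₁ < 1)
    (S₀ : Finset (ℕ × L × ℕ))
    (hS₀ : ∀ t ∈ S₀, 1 ≤ t.1 ∧
      (∃ b : B, algebraMap B L b = t.2.1 ∧ ∀ d : B, b - d ^ p ∉ maximalIdeal B) ∧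
      V₁.valuation (ϖ₁ ^ p) < V₁.valuation P₁ ^ t.1 ∧
      V₁.valuation P₁ ^ (2 * t.1) < V₁.valuation (ϖ₁ ^ p))
    (hinj₀ : ∀ t ∈ S₀, ∀ t' ∈ S₀, t.1 = t'.1 → t = t')
    (x₁ : K₂) (hx₁0 : x₁ ≠ 0) (hx₁1 : V₁.valuation (algebraMap K₂ Λ₁ x₁) < 1)
    (n₂ : ℕ) (S₂ : Finset (ℕ × Λ₁ × ℕ)) (hS₂ : IsNFv V₁ p n₂ S₂)
    (hdeep₂ : V₁.valuation (ϖ₁ ^ p) ≤ V₁.valuation (algebraMap K₂ Λ₁ x₁) ^ (2 * n₂))
    (U₁ : Λ₁) (g₂ : K₂) (β₂ : Λ₁) (hU₁ : U₁ ≠ 0) (hg₂ : g₂ ≠ 0) (hβ₂ : V₁.valuation β₂ ≤ 1)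
    (hG₁ : algebraMap L Λ₁ G = U₁ ^ p * algebraMap K₂ Λ₁ g₂ *
      (∏ t ∈ S₀, E ϖ₁ p (algebraMap L Λ₁ t.2.1 * (P₁⁻¹) ^ t.1)) *
      (∏ t ∈ S₂, E ϖ₁ p (tv p (algebraMap K₂ Λ₁ x₁) t)) * E ϖ₁ p β₂) :
    ∃ (K₁ : Type u) (_ : Field K₁) (_ : Algebra K K₁), FiniteDimensional K K₁ ∧
      EtRam.IsWeakSolution C K M K₁ := by
  classical
  haveI : Algebra.IsSeparable K K₂ := inferInstance
  obtain ⟨e', he'⟩ : ∃ e', ∀ t ∈ S₂, t.2.2 < e' :=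
    ⟨S₂.sup (fun t => t.2.2) + 1, fun t ht =>
      Nat.lt_succ_of_le (Finset.le_sup (f := fun t : ℕ × Λ₁ × ℕ => t.2.2) ht)⟩
  obtain ⟨K₃, fK₃, aK₂K₃, finK₂K₃, γ₃, X₃, hγ₃, hX₃⟩ :=
    exists_roots K₂ g₂ x₁ p (p ^ e') hp.pos (pow_pos hp.pos e')
  letI aKK₃ : Algebra K K₃ := ((algebraMap K₂ K₃).comp (algebraMap K K₂)).toAlgebra
  haveI : IsScalarTower K K₂ K₃ := IsScalarTower.of_algebraMap_eq (fun _ => rfl)
  haveI : FiniteDimensional K K₃ := FiniteDimensional.trans K K₂ K₃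
  letI aAK₃ : Algebra A K₃ := ((algebraMap K K₃).comp (algebraMap A K)).toAlgebra
  haveI : IsScalarTower A K K₃ := IsScalarTower.of_algebraMap_eq (fun _ => rfl)
  have ht₃ : EtRam.IsTotallyRamified A (algebraMap A K₃) := hTR K₃
  haveI : Algebra.IsSeparable K K₃ := inferInstance
  have ht₂' : EtRam.IsTotallyRamified A ((algebraMap K K₂).comp (algebraMap A K)) := by
    have h1 : (algebraMap K K₂).comp (algebraMap A K) = algebraMap A K₂ :=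
      (IsScalarTower.algebraMap_eq A K K₂).symm
    rw [h1]; exact ht₂
  have hF : IsField (L ⊗[K] K₂) := (RI.weakSolution_of_totRam A B K L hAB hw K₂ ht₂').1
  obtain ⟨-, -, -, -, -, hxres₁⟩ :=
    Epp.compositum_structure A B K L K₂ Λ₁ hw ht₂ hgen₁ V₁ hV₁
  refine ⟨K₃, fK₃, aKK₃, inferInstance, ?_⟩
  apply weakSolution_of_cert p hp A B C K L M K₃ hw ht₃ ζ ϖ hζ hϖ hϖm G y₀ hy₀ hgen₀
  intro Λ _ _ _ _ _ _ hgenΛ V hV x hx1 hxdisc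
  letI aK₂Λ : Algebra K₂ Λ := ((algebraMap K₃ Λ).comp (algebraMap K₂ K₃)).toAlgebra
  haveI : IsScalarTower K₂ K₃ Λ := IsScalarTower.of_algebraMap_eq (fun _ => rfl)
  haveI : IsScalarTower K K₂ Λ := IsScalarTower.of_algebraMap_eq (fun k => by
    show algebraMap K Λ k = algebraMap K₃ Λ (algebraMap K₂ K₃ (algebraMap K K₂ k))
    rw [← IsScalarTower.algebraMap_apply K K₂ K₃, ← IsScalarTower.algebraMap_apply K K₃ Λ])
  obtain ⟨j, hjL, hjK⟩ := exists_embedding (Λ₁ := Λ₁) (Λ' := Λ) hF hgen₁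
  obtain ⟨-, -, -, -, -, hxres⟩ := Epp.compositum_structure A B K L K₃ Λ hw ht₃ hgenΛ V hV
  have hVj : V.comap j = V₁ := by
    apply unique_dominating A B K L K₂ Λ₁ hw ht₂ hgen₁ _ _ ?_ hV₁
    apply RI.dominates_comap_of_comp
    refine ⟨fun b => ?_, fun b hb => ?_⟩
    · show j (algebraMap L Λ₁ (algebraMap B L b)) ∈ V
      rw [hjL]; exact hV.1 b
    · show V.valuation (j (algebraMap L Λ₁ (algebraMap B L b))) < 1
      rw [hjL]; exact hV.2 b hb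
  have hEq : V₁.valuation.IsEquiv (V.valuation.comap j) := by
    have h1 := RI.isEquiv_comap V j
    rwa [hVj] at h1
  have tr_le_one : ∀ a : Λ₁, V₁.valuation a ≤ 1 → V.valuation (j a) ≤ 1 :=
    fun a h => hEq.le_one_iff_le_one.mp h
  have tr_lt_one : ∀ a : Λ₁, V₁.valuation a < 1 → V.valuation (j a) < 1 :=
    fun a h => hEq.lt_one_iff_lt_one.mp h
  have tr_lt : ∀ a b : Λ₁, V₁.valuation a < V₁.valuation b →
      V.valuation (j a) < V.valuation (j b) := fun a b h => hEq.lt_iff_lt.mp h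
  have tr_le : ∀ a b : Λ₁, V₁.valuation a ≤ V₁.valuation b →
      V.valuation (j a) ≤ V.valuation (j b) := fun a b h => (hEq a b).mp h
  haveI : CharZero L := charZero_of_injective_algebraMap (algebraMap K L).injective
  haveI : CharZero Λ := charZero_of_injective_algebraMap (algebraMap L Λ).injective
  obtain ⟨X₁, hX₁def⟩ : ∃ X₁ : Λ₁, X₁ = algebraMap K₂ Λ₁ x₁ := ⟨_, rfl⟩
  rw [← hX₁def] at hdeep₂ hG₁ hx₁1
  obtain ⟨ϖΛ, hϖΛdef⟩ : ∃ ϖΛ : Λ, ϖΛ = algebraMap L Λ (algebraMap A L ϖ) := ⟨_, rfl⟩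
  have hjϖ : j ϖ₁ = ϖΛ := by rw [hϖ₁def, hϖΛdef, hjL]
  have hϖΛ : ϖΛ ^ (p - 1) = -(p : Λ) := by
    rw [hϖΛdef, ← map_pow, ← map_pow, hϖ, map_neg, map_neg, map_natCast, map_natCast]
  have hϖlt : V.valuation ϖΛ < 1 := by
    rw [hϖΛdef, IsScalarTower.algebraMap_apply A B L ϖ]
    apply hV.2
    rw [mem_maximalIdeal, mem_nonunits_iff] at hϖm ⊢
    exact fun h => hϖm (isUnit_of_map_unit (algebraMap A B) ϖ h)
  obtain ⟨P, hPdef⟩ : ∃ P : Λ, P = j P₁ := ⟨_, rfl⟩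
  obtain ⟨Q, hQdef⟩ : ∃ Q : Λ, Q = j (algebraMap K₂ Λ₁ Q₂) := ⟨_, rfl⟩
  have hQ : Q ^ (p ^ e) = P := by
    rw [hQdef, hPdef, ← map_pow, ← map_pow, hQ₂, hP₁def,
      ← IsScalarTower.algebraMap_apply K K₂ Λ₁, ← IsScalarTower.algebraMap_apply K L Λ₁]
  have hP₁0 : P₁ ≠ 0 := by
    rw [hP₁def]; exact (map_ne_zero _).mpr ((map_ne_zero _).mpr hxK0)
  have hP0 : P ≠ 0 := by rw [hPdef]; exact (map_ne_zero j).mpr hP₁0
  have hP1 : V.valuation P < 1 := by rw [hPdef]; exact tr_lt_one _ hxK1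
  obtain ⟨x₁Λ, hx₁Λdef⟩ : ∃ x₁Λ : Λ, x₁Λ = j X₁ := ⟨_, rfl⟩
  obtain ⟨X, hXdef⟩ : ∃ X : Λ, X = algebraMap K₃ Λ X₃ := ⟨_, rfl⟩
  have hX : X ^ (p ^ e') = x₁Λ := by
    rw [hXdef, hx₁Λdef, hX₁def, hjK, ← map_pow, hX₃]
    rfl
  have hX₁0 : X₁ ≠ 0 := by rw [hX₁def]; exact (map_ne_zero _).mpr hx₁0
  have hx₁Λ0 : x₁Λ ≠ 0 := by rw [hx₁Λdef]; exact (map_ne_zero j).mpr hX₁0
  have hx₁Λ1 : V.valuation x₁Λ < 1 := by rw [hx₁Λdef]; exact tr_lt_one _ hx₁1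
  have hγ₃0 : γ₃ ≠ 0 := by
    rintro rfl
    rw [zero_pow hp.ne_zero] at hγ₃
    exact hg₂ ((map_eq_zero _).mp hγ₃.symm)
  have hjE : ∀ ξ : Λ₁, j (E ϖ₁ p ξ) = E ϖΛ p (j ξ) := by
    intro ξ
    unfold E
    rw [map_add, map_one, map_mul, map_pow, hjϖ]
  have hS₀' : ∀ t ∈ S₀, 1 ≤ t.1 ∧ V.valuation (algebraMap L Λ t.2.1) ≤ 1 ∧
      NonPth V p (algebraMap L Λ t.2.1) ∧
      V.valuation (ϖΛ ^ p) < V.valuation P ^ t.1 ∧
      V.valuation P ^ (2 * t.1) < V.valuation (ϖΛ ^ p) := by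
    intro t ht
    obtain ⟨h1, ⟨b, hb, hbp⟩, h3, h4⟩ := hS₀ t ht
    refine ⟨h1, ?_, ?_, ?_, ?_⟩
    · rw [← hb]; exact (V.valuation_le_one_iff _).mpr (hV.1 b)
    · rw [← hb]; exact nonpth_of_B p V hV hxres b hbp
    · have h5 := tr_lt (ϖ₁ ^ p) (P₁ ^ t.1) (by rw [map_pow V₁.valuation P₁ t.1]; exact h3)
      rw [map_pow j ϖ₁ p, map_pow j P₁ t.1, hjϖ, ← hPdef, map_pow V.valuation P t.1] at h5
      exact h5
    · have h5 := tr_lt (P₁ ^ (2 * t.1)) (ϖ₁ ^ p) (by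
        rw [map_pow V₁.valuation P₁ (2 * t.1)]; exact h4)
      rw [map_pow j ϖ₁ p, map_pow j P₁ (2 * t.1), hjϖ, ← hPdef,
        map_pow V.valuation P (2 * t.1)] at h5
      exact h5
  have hS₂' : ∀ t ∈ S₂, 1 ≤ t.1 ∧ (¬ p ∣ t.1 ∨ t.2.2 = 0) ∧ V.valuation (j t.2.1) ≤ 1 ∧
      NonPth V p (j t.2.1) ∧ t.2.2 < e' ∧
      V.valuation (ϖΛ ^ p) ≤ V.valuation x₁Λ ^ (2 * t.1) := by
    intro t ht
    obtain ⟨h1, h2, h3, h4, h5⟩ := hS₂.1 t ht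
    refine ⟨h1, h3, tr_le_one _ h4,
      nonpth_transfer p V₁ hV₁ hxres₁ V hV hxres j hjL hEq t.2.1 h4 h5, he' t ht, ?_⟩
    have h6 : V₁.valuation (ϖ₁ ^ p) ≤ V₁.valuation (X₁ ^ (2 * t.1)) := by
      rw [map_pow V₁.valuation X₁ (2 * t.1)]
      exact hdeep₂.trans (pow_le_pow_of_le_one zero_le' hx₁1.le (Nat.mul_le_mul_left 2 h2))
    have h7 := tr_le _ _ h6
    rw [map_pow j ϖ₁ p, map_pow j X₁ (2 * t.1), hjϖ, ← hx₁Λdef,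
      map_pow V.valuation x₁Λ (2 * t.1)] at h7
    exact h7
  have hGΛ : algebraMap L Λ G = (j U₁ * algebraMap K₃ Λ γ₃) ^ p *
      (∏ t ∈ S₀, E ϖΛ p (algebraMap L Λ t.2.1 * (P⁻¹) ^ t.1)) *
      (∏ t ∈ S₂, E ϖΛ p ((j t.2.1) ^ (p ^ t.2.2) * (x₁Λ⁻¹) ^ t.1)) * E ϖΛ p (j β₂) := by
    have hp₀ : ∏ t ∈ S₀, j (E ϖ₁ p (algebraMap L Λ₁ t.2.1 * (P₁⁻¹) ^ t.1)) =
        ∏ t ∈ S₀, E ϖΛ p (algebraMap L Λ t.2.1 * (P⁻¹) ^ t.1) :=
      Finset.prod_congr rfl (fun t _ => by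
        rw [hjE, map_mul, map_pow, map_inv₀, hjL, ← hPdef])
    have hp₂ : ∏ t ∈ S₂, j (E ϖ₁ p (tv p X₁ t)) =
        ∏ t ∈ S₂, E ϖΛ p ((j t.2.1) ^ (p ^ t.2.2) * (x₁Λ⁻¹) ^ t.1) :=
      Finset.prod_congr rfl (fun t _ => by
        rw [hjE]
        unfold tv
        rw [map_mul, map_pow, map_pow, map_inv₀, ← hx₁Λdef])
    have e1 : j (algebraMap K₂ Λ₁ g₂) = (algebraMap K₃ Λ γ₃) ^ p := by
      rw [hjK, ← map_pow, hγ₃]
      rfl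
    have h1 := congrArg j hG₁
    rw [hjL, map_mul j, map_mul j, map_mul j, map_mul j, map_pow j, map_prod j, map_prod j,
      hp₀, hp₂, hjE, e1] at h1
    rw [h1, mul_pow]
  have hfin := final_R (W := V) hp ϖΛ x hϖΛ hϖlt hx1 hxdisc
    S₀ (fun t => algebraMap L Λ t.2.1) (fun t => t.1) P Q e he hQ hP0 hP1 hS₀' hinj₀
    S₂ (fun t => j t.2.1) (fun t => t.1) (fun t => t.2.2) x₁Λ X e' hX hx₁Λ0 hx₁Λ1 hS₂' hS₂.2
    (j U₁ * algebraMap K₃ Λ γ₃) (j β₂) (algebraMap L Λ G)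
    (mul_ne_zero ((map_ne_zero j).mpr hU₁) ((map_ne_zero _).mpr hγ₃0)) (tr_le_one β₂ hβ₂) hGΛ
  rw [hϖΛdef] at hfin
  exact hfin

include hp in
theorem main_R (hAB : Function.Injective (algebraMap A B))
    (hw : EtRam.IsWeaklyUnramified A B)
    (hdichB : ∀ b : B, (∃ a : A, b - algebraMap A B a ∈ maximalIdeal B) ∨
      (∃ (h : ℕ) (c : B), b - c ^ (p ^ h) ∈ maximalIdeal B ∧
        ∀ d : B, c - d ^ p ∉ maximalIdeal B))
    (ζ ϖ : A) (hζ : IsPrimitiveRoot ζ p) (hϖ : ϖ ^ (p - 1) = -(p : A))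
    (hϖm : ϖ ∈ maximalIdeal A)
    (hTR : ∀ (K₁ : Type u) [Field K₁] [Algebra K K₁] [FiniteDimensional K K₁],
      EtRam.IsTotallyRamified A ((algebraMap K K₁).comp (algebraMap A K)))
    (G : L) (y₀ : M) (hy₀ : y₀ ^ p = algebraMap L M G)
    (hgen₀ : IntermediateField.adjoin L {y₀} = ⊤)
    (W_L : ValuationSubring L)
    (hW_L : EtRam.Dominates B ((algebraMap L L).comp (algebraMap B L)) W_L)
    (x_K : K) (hxK0 : x_K ≠ 0) (hxK1 : W_L.valuation (algebraMap K L x_K) < 1)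
    (Y : L) (g : K) (hY : Y ≠ 0) (hg : g ≠ 0) (n : ℕ) (S : Finset (ℕ × L × ℕ)) (β : L)
    (hβ : W_L.valuation β ≤ 1)
    (hlt : W_L.valuation ((algebraMap A L ϖ) ^ p) < W_L.valuation (algebraMap K L x_K) ^ n)
    (hrep : G = Y ^ p * algebraMap K L g *
      (∏ t ∈ S, E (algebraMap A L ϖ) p (tv p (algebraMap K L x_K) t)) *
      E (algebraMap A L ϖ) p β)
    (hS : IsNFv W_L p n S) :
    ∃ (K₁ : Type u) (_ : Field K₁) (_ : Algebra K K₁), FiniteDimensional K K₁ ∧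
      EtRam.IsWeakSolution C K M K₁ := by
  classical
  obtain ⟨e, he1, he⟩ : ∃ e, 1 ≤ e ∧ ∀ t ∈ S, t.2.2 < e :=
    ⟨S.sup (fun t => t.2.2) + 1, by omega, fun t ht =>
      Nat.lt_succ_of_le (Finset.le_sup (f := fun t : ℕ × L × ℕ => t.2.2) ht)⟩
  obtain ⟨K₂, fK₂, aK₂, finK₂, γ, Q₂, hγ, hQ₂⟩ :=
    exists_roots K g x_K p (p ^ e) hp.pos (pow_pos hp.pos e)
  letI algAK₂ : Algebra A K₂ := ((algebraMap K K₂).comp (algebraMap A K)).toAlgebra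
  haveI : IsScalarTower A K K₂ := IsScalarTower.of_algebraMap_eq (fun _ => rfl)
  have ht₂ : EtRam.IsTotallyRamified A (algebraMap A K₂) := hTR K₂
  haveI : Algebra.IsSeparable K K₂ := inferInstance
  obtain ⟨Λ₁, fΛ₁, aKΛ₁, aLΛ₁, aK₂Λ₁, t1, t2, hgen₁⟩ := exists_compositum K L K₂
  obtain ⟨V₁, hV₁⟩ := RI.exists_dominates_of_local ((algebraMap L Λ₁).comp (algebraMap B L))
  obtain ⟨-, x₁, hx1₁, hxunif₁, hxdisc₁, hxres₁⟩ :=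
    Epp.compositum_structure A B K L K₂ Λ₁ hw ht₂ hgen₁ V₁ hV₁
  have hdich₂ : Dich V₁ p (algebraMap K₂ Λ₁) := dich_of_struct (K := K) p V₁ hV₁ hxres₁ hdichB
  have hEqL := isEquiv_L W_L hW_L V₁ hV₁
  have trL_le_one : ∀ l : L, W_L.valuation l ≤ 1 → V₁.valuation (algebraMap L Λ₁ l) ≤ 1 :=
    fun l h => hEqL.le_one_iff_le_one.mp h
  have trL_lt_one : ∀ l : L, W_L.valuation l < 1 → V₁.valuation (algebraMap L Λ₁ l) < 1 :=
    fun l h => hEqL.lt_one_iff_lt_one.mp h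
  have trL_lt : ∀ l l' : L, W_L.valuation l < W_L.valuation l' →
      V₁.valuation (algebraMap L Λ₁ l) < V₁.valuation (algebraMap L Λ₁ l') :=
    fun l l' h => hEqL.lt_iff_lt.mp h
  haveI : CharZero L := charZero_of_injective_algebraMap (algebraMap K L).injective
  haveI : CharZero Λ₁ := charZero_of_injective_algebraMap (algebraMap L Λ₁).injective
  -- notation
  obtain ⟨ϖL, hϖLdef⟩ : ∃ ϖL : L, ϖL = algebraMap A L ϖ := ⟨_, rfl⟩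
  rw [← hϖLdef] at hlt hrep
  obtain ⟨xL, hxLdef⟩ : ∃ xL : L, xL = algebraMap K L x_K := ⟨_, rfl⟩
  rw [← hxLdef] at hlt hrep hxK1
  obtain ⟨ϖ₁, hϖ₁def⟩ : ∃ ϖ₁ : Λ₁, ϖ₁ = algebraMap L Λ₁ ϖL := ⟨_, rfl⟩
  obtain ⟨P₁, hP₁def⟩ : ∃ P₁ : Λ₁, P₁ = algebraMap L Λ₁ xL := ⟨_, rfl⟩
  have hϖ₁ : ϖ₁ ^ (p - 1) = -(p : Λ₁) := by
    rw [hϖ₁def, hϖLdef, ← map_pow, ← map_pow, hϖ, map_neg, map_neg, map_natCast, map_natCast]
  have hϖ₁lt : V₁.valuation ϖ₁ < 1 := by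
    rw [hϖ₁def, hϖLdef, IsScalarTower.algebraMap_apply A B L ϖ]
    apply hV₁.2
    rw [mem_maximalIdeal, mem_nonunits_iff] at hϖm ⊢
    exact fun h => hϖm (isUnit_of_map_unit (algebraMap A B) ϖ h)
  have hp0Λ : (p : Λ₁) ≠ 0 := by exact_mod_cast hp.ne_zero
  have hϖ₁0 : ϖ₁ ≠ 0 := by
    intro h0
    rw [h0, zero_pow (by have := hp.two_le; omega)] at hϖ₁
    exact hp0Λ (neg_eq_zero.mp hϖ₁.symm)
  have hϖ₁p1 : V₁.valuation (ϖ₁ ^ p) ≤ 1 := by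
    rw [map_pow]; exact pow_le_one₀ zero_le' hϖ₁lt.le
  have hϖ₁plt : V₁.valuation (ϖ₁ ^ p) < 1 := by
    rw [map_pow]; exact pow_lt_one₀ zero_le' hϖ₁lt hp.ne_zero
  have hϖ₂ : algebraMap K₂ Λ₁ (algebraMap A K₂ ϖ) = ϖ₁ := by
    rw [Epp.compat A B K L K₂ Λ₁, hϖ₁def, hϖLdef, ← IsScalarTower.algebraMap_apply A B L]
  have hxL0 : xL ≠ 0 := by rw [hxLdef]; exact (map_ne_zero _).mpr hxK0
  have hP₁0 : P₁ ≠ 0 := by rw [hP₁def]; exact (map_ne_zero _).mpr hxL0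
  have hιE : ∀ ξ : L, algebraMap L Λ₁ (E ϖL p ξ) = E ϖ₁ p (algebraMap L Λ₁ ξ) := by
    intro ξ
    unfold E
    rw [map_add, map_one, map_mul, map_pow, hϖ₁def]
  have hιtv : ∀ t : ℕ × L × ℕ, algebraMap L Λ₁ (tv p xL t) =
      (algebraMap L Λ₁ t.2.1) ^ (p ^ t.2.2) * (P₁⁻¹) ^ t.1 := by
    intro t
    unfold tv
    rw [map_mul, map_pow, map_pow, map_inv₀, hP₁def]
  have hγ₁ : algebraMap L Λ₁ (algebraMap K L g) = (algebraMap K₂ Λ₁ γ) ^ p := by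
    rw [← map_pow, hγ, ← IsScalarTower.algebraMap_apply K L Λ₁,
      ← IsScalarTower.algebraMap_apply K K₂ Λ₁]
  obtain ⟨prodS, hprodSdef⟩ : ∃ prodS : Λ₁, prodS = ∏ t ∈ S,
      E ϖ₁ p ((algebraMap L Λ₁ t.2.1) ^ (p ^ t.2.2) * (P₁⁻¹) ^ t.1) := ⟨_, rfl⟩
  have hGι : algebraMap L Λ₁ G = (algebraMap L Λ₁ Y) ^ p * (algebraMap K₂ Λ₁ γ) ^ p * prodS *
      E ϖ₁ p (algebraMap L Λ₁ β) := by
    have hprodι : ∏ t ∈ S, algebraMap L Λ₁ (E ϖL p (tv p xL t)) = prodS := by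
      rw [hprodSdef]
      exact Finset.prod_congr rfl (fun t _ => by rw [hιE, hιtv])
    rw [hrep, map_mul, map_mul, map_mul, map_pow, map_prod, hprodι, hιE, hγ₁]
  -- the reduction
  obtain ⟨Q₁, hQ₁def⟩ : ∃ Q₁ : Λ₁, Q₁ = algebraMap K₂ Λ₁ Q₂ := ⟨_, rfl⟩
  have hQ₁ : Q₁ ^ (p ^ e) = P₁ := by
    rw [hQ₁def, ← map_pow, hQ₂, hP₁def, hxLdef, ← IsScalarTower.algebraMap_apply K K₂ Λ₁,
      ← IsScalarTower.algebraMap_apply K L Λ₁]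
  have hC : ∀ t ∈ S, V₁.valuation (algebraMap L Λ₁ t.2.1) ≤ 1 :=
    fun t ht => trL_le_one _ (hS.1 t ht).2.2.2.1
  have hn : ∀ t ∈ S, V₁.valuation (ϖ₁ ^ p) < V₁.valuation P₁ ^ t.1 := by
    intro t ht
    have h1 : W_L.valuation (ϖL ^ p) < W_L.valuation (xL ^ t.1) := by
      rw [map_pow W_L.valuation xL t.1]
      exact lt_of_lt_of_le hlt (pow_le_pow_of_le_one zero_le' hxK1.le (hS.1 t ht).2.1)
    have h2 := trL_lt _ _ h1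
    rw [map_pow (algebraMap L Λ₁) ϖL p, map_pow (algebraMap L Λ₁) xL t.1, ← hϖ₁def, ← hP₁def,
      map_pow V₁.valuation P₁ t.1] at h2
    exact h2
  obtain ⟨Y₁, Ξ, S₀, hY₁, hΞ, hsub, hS₀prop, hred⟩ := reduce1' (W := V₁) hp ϖ₁ hϖ₁ hϖ₁lt
    (fun t : ℕ × L × ℕ => algebraMap L Λ₁ t.2.1) (fun t => t.1) (fun t => t.2.2) P₁ Q₁ e hQ₁
    hP₁0 S he hC hn
  beta_reduce at hred hS₀prop
  rw [← hprodSdef] at hred
  obtain ⟨prod₀, hprod₀def⟩ : ∃ prod₀ : Λ₁, prod₀ = ∏ t ∈ S₀,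
      E ϖ₁ p (algebraMap L Λ₁ t.2.1 * (P₁⁻¹) ^ t.1) := ⟨_, rfl⟩
  rw [← hprod₀def] at hred
  -- merge `β`
  obtain ⟨Ξ', hΞ'def⟩ : ∃ Ξ' : Λ₁,
      Ξ' = Ξ + algebraMap L Λ₁ β + ϖ₁ ^ p * Ξ * algebraMap L Λ₁ β := ⟨_, rfl⟩
  have hΞ' : Deep V₁ p ϖ₁ Ξ' := by
    rw [hΞ'def]
    exact deep_mul hϖ₁p1 hΞ (deep_of_le_one hϖ₁p1 (trL_le_one β hβ))
  have hEΞ' : E ϖ₁ p Ξ * E ϖ₁ p (algebraMap L Λ₁ β) = E ϖ₁ p Ξ' := by rw [E_mul, hΞ'def]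
  have hx₁0 : x₁ ≠ 0 := by
    rintro rfl
    obtain ⟨m, hm⟩ := hxdisc₁ ϖ₁ hϖ₁0
    rw [map_zero, map_zero] at hm
    rcases eq_or_ne m 0 with rfl | hm0
    · rw [zpow_zero] at hm; exact hϖ₁lt.ne hm
    · rw [zero_zpow m hm0] at hm; exact hϖ₁0 ((Valuation.zero_iff _).mp hm)
  have hX₁0 : algebraMap K₂ Λ₁ x₁ ≠ 0 := (map_ne_zero _).mpr hx₁0
  obtain ⟨n₂, hpole, hdeep₂, hlt₂⟩ := exists_pole_of_deep (W := V₁) ϖ₁ (algebraMap K₂ Λ₁ x₁) Ξ'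
    hϖ₁plt hx1₁ hX₁0 hxdisc₁ hΞ'
  obtain ⟨Y₂, g₂, S₂, β₂, hY₂, hg₂, hβ₂, hrep₂, hS₂⟩ := nf (W := V₁) hp ϖ₁ hϖ₁ hϖ₁lt
    (algebraMap K₂ Λ₁) (algebraMap A K₂ ϖ) x₁ hϖ₂ hx1₁ hx₁0 hxunif₁ hdich₂ n₂ Ξ' hlt₂ hpole
  obtain ⟨prod₂, hprod₂def⟩ : ∃ prod₂ : Λ₁,
      prod₂ = ∏ t ∈ S₂, E ϖ₁ p (tv p (algebraMap K₂ Λ₁ x₁) t) := ⟨_, rfl⟩
  rw [← hprod₂def] at hrep₂
  have hγ0 : γ ≠ 0 := by
    rintro rfl
    rw [zero_pow hp.ne_zero] at hγ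
    exact hg ((map_eq_zero _).mp hγ.symm)
  have hG₁ : algebraMap L Λ₁ G =
      (algebraMap L Λ₁ Y * algebraMap K₂ Λ₁ γ * Y₁ * Y₂) ^ p * algebraMap K₂ Λ₁ g₂ * prod₀ * prod₂ *
        E ϖ₁ p β₂ := by
    calc algebraMap L Λ₁ G = (algebraMap L Λ₁ Y) ^ p * (algebraMap K₂ Λ₁ γ) ^ p *
          (Y₁ ^ p * prod₀ * E ϖ₁ p Ξ) * E ϖ₁ p (algebraMap L Λ₁ β) := by rw [hGι, hred]
      _ = (algebraMap L Λ₁ Y) ^ p * (algebraMap K₂ Λ₁ γ) ^ p * Y₁ ^ p * prod₀ *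
          (E ϖ₁ p Ξ * E ϖ₁ p (algebraMap L Λ₁ β)) := by ring
      _ = (algebraMap L Λ₁ Y) ^ p * (algebraMap K₂ Λ₁ γ) ^ p * Y₁ ^ p * prod₀ *
          (Y₂ ^ p * algebraMap K₂ Λ₁ g₂ * prod₂ * E ϖ₁ p β₂) := by rw [hEΞ', hrep₂]
      _ = _ := by ring
  rw [hprod₀def, hprod₂def] at hG₁
  have hxK1' : V₁.valuation P₁ < 1 := by rw [hP₁def]; exact trL_lt_one _ hxK1
  refine main_R2 p hp A B C K L M K₂ Λ₁ hAB hw ζ ϖ hζ hϖ hϖm hTR G y₀ hy₀ hgen₀ ht₂ hgen₁ V₁ hV₁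
    x_K Q₂ e he1 hQ₂ hxK0 ϖ₁ P₁ (by rw [hϖ₁def, hϖLdef]) (by rw [hP₁def, hxLdef]) hxK1' S₀ ?_
    (fun t ht t' ht' h => hS.2 t (hsub ht) t' (hsub ht') h) x₁ hx₁0 hx1₁ n₂ S₂ hS₂ hdeep₂
    (algebraMap L Λ₁ Y * algebraMap K₂ Λ₁ γ * Y₁ * Y₂) g₂ β₂ ?_ hg₂ hβ₂ hG₁
  · intro t ht
    have htS := hsub ht
    obtain ⟨h1, -, -, h4, h5⟩ := hS.1 t htS
    obtain ⟨b, hb⟩ := exists_B_of_val_le_one W_L hW_L t.2.1 h4
    have h6 : NonPth W_L p (algebraMap L L (algebraMap B L b)) := by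
      rw [hb]; exact h5
    exact ⟨h1, ⟨b, hb, B_of_nonpth p W_L hW_L b h6⟩, hn t htS, (hS₀prop t ht).2⟩
  · exact mul_ne_zero (mul_ne_zero (mul_ne_zero ((map_ne_zero _).mpr hY)
      ((map_ne_zero _).mpr hγ0)) hY₁) hY₂

end Web

/-- **The mixed characteristic Galois step of Epp's theorem.** -/
theorem main (p : ℕ) (hp : p.Prime) (A B C K L M : Type u)
    [CommRing A] [IsDomain A] [IsDiscreteValuationRing A] [CommRing B] [IsDomain B]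
    [IsDiscreteValuationRing B] [CommRing C] [IsDomain C] [IsDiscreteValuationRing C]
    [Algebra A B] [Algebra B C] [Algebra A C] [IsScalarTower A B C]
    (hAB : Function.Injective (algebraMap A B)) (_hBC : Function.Injective (algebraMap B C))
    [IsLocalHom (algebraMap A B)] [IsLocalHom (algebraMap B C)]
    [Field K] [Field L] [Field M] [Algebra A K] [IsFractionRing A K] [Algebra B L]
    [IsFractionRing B L]
    [Algebra C M] [IsFractionRing C M] [Algebra K L] [Algebra L M] [Algebra K M]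
    [IsScalarTower K L M]
    [Algebra A L] [IsScalarTower A K L] [IsScalarTower A B L] [Algebra B M] [IsScalarTower B L M]
    [IsScalarTower B C M]
    [Algebra A M] [IsScalarTower A K M] [IsScalarTower A C M]
    (hw : EtRam.IsWeaklyUnramified A B) [CharZero K] [CharP (IsLocalRing.ResidueField A) p]
    [IsGalois L M] (hdeg : Module.finrank L M = p)
    (hk : ∀ x : IsLocalRing.ResidueField B,
      (∀ n : ℕ, ∃ y : IsLocalRing.ResidueField B, y ^ (p ^ n) = x) ↔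
      x ∈ Set.range (algebraMap (IsLocalRing.ResidueField A) (IsLocalRing.ResidueField B)))
    (ζ : A) (hζ : IsPrimitiveRoot ζ p) (ϖ : A) (hϖ : ϖ ^ (p - 1) = -(p : A))
    (hTR : ∀ (K₁ : Type u) [Field K₁] [Algebra K K₁] [FiniteDimensional K K₁],
      EtRam.IsTotallyRamified A ((algebraMap K K₁).comp (algebraMap A K))) :
    ∃ (K₁ : Type u) (_ : Field K₁) (_ : Algebra K K₁), FiniteDimensional K K₁ ∧
      EtRam.IsWeakSolution C K M K₁ := by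
  haveI := Fact.mk hp
  have hdichB := Epp.dichotomy p hk
  have hpm : (p : A) ∈ maximalIdeal A := by
    rw [← residue_eq_zero_iff, map_natCast]
    exact CharP.cast_eq_zero _ p
  have hϖm : ϖ ∈ maximalIdeal A := by
    have h1 : ϖ ^ (p - 1) ∈ maximalIdeal A := by
      rw [hϖ]; exact (Ideal.neg_mem_iff _).mpr hpm
    exact (IsLocalRing.maximalIdeal.isMaximal A).isPrime.mem_of_pow_mem _ h1
  have hinjAL : Function.Injective (algebraMap A L) := ASK.algebraMap_inj A K L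
  obtain ⟨y₀, G, hG0, hy₀, hgen₀⟩ := exists_kummer_generator p hp L M hdeg (algebraMap A L ζ)
    (hζ.map_of_injective hinjAL)
  have ht₀ : EtRam.IsTotallyRamified A (algebraMap A K) := by
    have h := hTR K
    have h1 : (algebraMap K K).comp (algebraMap A K) = algebraMap A K := RingHom.ext (fun _ => rfl)
    rwa [h1] at h
  obtain ⟨W_L, hW_L⟩ := RI.exists_dominates_of_local ((algebraMap L L).comp (algebraMap B L))
  have hgenL : Algebra.adjoin L (Set.range (algebraMap K L)) = ⊤ := by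
    rw [eq_top_iff]
    intro y _
    have h1 : y = algebraMap L L y := rfl
    rw [h1]
    exact Subalgebra.algebraMap_mem _ y
  obtain ⟨-, x_K, hx1, hxunif, hxdisc, hxres⟩ :=
    Epp.compositum_structure A B K L K L hw ht₀ hgenL W_L hW_L
  have hdich₁ : Dich W_L p (algebraMap K L) := dich_of_struct (K := K) p W_L hW_L hxres hdichB
  haveI : CharZero L := charZero_of_injective_algebraMap (algebraMap K L).injective
  obtain ⟨ϖL, hϖLdef⟩ : ∃ ϖL : L, ϖL = algebraMap A L ϖ := ⟨_, rfl⟩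
  have hϖL : ϖL ^ (p - 1) = -(p : L) := by
    rw [hϖLdef, ← map_pow, hϖ, map_neg, map_natCast]
  have hϖLlt : W_L.valuation ϖL < 1 := by
    rw [hϖLdef, IsScalarTower.algebraMap_apply A B L ϖ]
    apply hW_L.2
    rw [mem_maximalIdeal, mem_nonunits_iff] at hϖm ⊢
    exact fun h => hϖm (isUnit_of_map_unit (algebraMap A B) ϖ h)
  have hp0L : (p : L) ≠ 0 := by exact_mod_cast hp.ne_zero
  have hϖL0 : ϖL ≠ 0 := by
    intro h0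
    rw [h0, zero_pow (by have := hp.two_le; omega)] at hϖL
    exact hp0L (neg_eq_zero.mp hϖL.symm)
  have hxK0 : x_K ≠ 0 := by
    rintro rfl
    obtain ⟨m, hm⟩ := hxdisc ϖL hϖL0
    rw [map_zero, map_zero] at hm
    rcases eq_or_ne m 0 with rfl | hm0
    · rw [zpow_zero] at hm; exact hϖLlt.ne hm
    · rw [zero_zpow m hm0] at hm; exact hϖL0 ((Valuation.zero_iff _).mp hm)
  obtain ⟨Y, g, hY, hg, hcase⟩ := round (W := W_L) hp ϖL hϖL hϖLlt hϖL0 (algebraMap K L)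
    (algebraMap A K ϖ) x_K
    (by rw [hϖLdef]; exact (IsScalarTower.algebraMap_apply A K L ϖ).symm) hx1 hxK0 hxunif
    hxdisc hdich₁ G hG0
  rcases hcase with ⟨G₀, hrep, hG₀, hG₀p⟩ | ⟨n, S, β, hβ, hlt, hrep, hS⟩
  · exact main_N p hp A B C K L M hw ζ ϖ hζ hϖ hϖm hTR G y₀ hy₀ hgen₀ W_L hW_L Y g G₀ hY hg hrep
      hG₀ hG₀p
  · rw [hϖLdef] at hlt hrep
    exact main_R p hp A B C K L M hAB hw hdichB ζ ϖ hζ hϖ hϖm hTR G y₀ hy₀ hgen₀ W_L hW_L x_K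
      hxK0 hx1 Y g hY hg n S β hβ hlt hrep hS

end Groth.Agent.H8.Mix
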