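import Groth.Agent.Lib.Helper8.ASK.RamIdx

/-!
# Common extensions of two local extensions; solutions in towers
-/

set_option autoImplicit false
universe u

namespace Groth.Agent.H8.RI

open IsLocalRing TensorProduct

/-- A valuation subring dominating the image of a local ring under any ring hom to a field. -/
theorem exists_dominates_of_local {R : Type u} [CommRing R] [IsLocalRing R] {F : Type u} [Field F]
    (φ : R →+* F) : ∃ V : ValuationSubring F, EtRam.Dominates R φ V := by
  obtain ⟨V, hle, hloc⟩ := (LocalSubring.range φ).exists_le_valuationSubring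
  have hr : ∀ a : R, φ a ∈ (LocalSubring.range φ).toSubring := by
    intro a
    rw [LocalSubring.range_toSubring]
    exact ⟨a, rfl⟩
  refine ⟨V, fun a => hle (hr a), fun a ha => ?_⟩
  have hmem : φ a ∈ V := hle (hr a)
  rcases lt_or_eq_of_le ((V.valuation_le_one_iff _).mpr hmem) with h | h
  · exact h
  exfalso
  have hx0 : φ a ≠ 0 := by
    intro h0
    rw [h0, map_zero] at h
    exact zero_ne_one h
  have hinvmem : (φ a)⁻¹ ∈ V := by
    rw [← V.valuation_le_one_iff, map_inv₀, h, inv_one]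
  have hu : IsUnit (Subring.inclusion hle ⟨φ a, hr a⟩) :=
    isUnit_iff_exists_inv.mpr ⟨⟨(φ a)⁻¹, hinvmem⟩, Subtype.ext (mul_inv_cancel₀ hx0)⟩
  have hu' := hloc.map_nonunit _ hu
  obtain ⟨b, hb⟩ := isUnit_iff_exists_inv.mp hu'
  have hle' : (LocalSubring.range φ).toSubring ≤ φ.range :=
    le_of_eq (LocalSubring.range_toSubring _)
  obtain ⟨b', hb'⟩ := hle' b.2
  have h1 : φ a * (b : F) = 1 := congrArg Subtype.val hb
  have h2 : φ (a * b' - 1) = 0 := by
    rw [map_sub, map_mul, map_one, hb', h1, sub_self]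
  have h3 : IsUnit (a * b' - 1) := by
    have hm : a * b' ∈ maximalIdeal R := Ideal.mul_mem_right _ _ ha
    have h4 := IsLocalRing.isUnit_one_sub_self_of_mem_nonunits (a * b')
      ((mem_maximalIdeal _).mp hm)
    have e : a * b' - 1 = -(1 - a * b') := by ring
    rw [e]
    exact h4.neg
  exact (h3.map φ).ne_zero h2

theorem comap_eq_of_dominates {M M' : Type*} [Field M] [Field M'] (W : ValuationSubring M)
    (W' : ValuationSubring M') (ι : M →+* M') (h1 : ∀ x ∈ W, ι x ∈ W')
    (h2 : ∀ x, W.valuation x < 1 → W'.valuation (ι x) < 1) : W'.comap ι = W := by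
  ext x
  rw [ValuationSubring.mem_comap]
  constructor
  · intro hx
    by_contra hxW
    have hv : 1 < W.valuation x := by
      rw [← not_le, ValuationSubring.valuation_le_one_iff]
      exact hxW
    have hx0 : x ≠ 0 := by
      rintro rfl
      exact hxW W.zero_mem
    have hinv : W.valuation x⁻¹ < 1 := by
      rw [map_inv₀]
      exact inv_lt_one_of_one_lt₀ hv
    have h3 := h2 _ hinv
    rw [map_inv₀, map_inv₀] at h3
    have h4 : W'.valuation (ι x) ≤ 1 := (W'.valuation_le_one_iff _).mpr hx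
    have hne : W'.valuation (ι x) ≠ 0 :=
      (Valuation.ne_zero_iff _).mpr ((_root_.map_ne_zero ι).mpr hx0)
    have h5 : 1 ≤ (W'.valuation (ι x))⁻¹ := (one_le_inv₀ (zero_lt_iff.mpr hne)).mpr h4
    exact absurd h3 (not_lt.mpr h5)
  · exact h1 x

/-! ### The common extension -/

theorem exists_common_extension
    {B Wt C M M₀ : Type u} [CommRing B] [IsDomain B] [IsDiscreteValuationRing B]
    [CommRing Wt] [IsDomain Wt] [IsLocalRing Wt] [Algebra B Wt] [IsLocalHom (algebraMap B Wt)]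
    [CommRing C] [IsDomain C] [IsDiscreteValuationRing C] [Algebra B C]
    [IsLocalHom (algebraMap B C)]
    (hBW : Function.Injective (algebraMap B Wt)) (hBC : Function.Injective (algebraMap B C))
    [Field M] [Algebra Wt M] [IsFractionRing Wt M] [Field M₀] [Algebra C M₀]
    [IsFractionRing C M₀] :
    ∃ (M' : Type u) (_ : Field M') (ι : M →+* M') (ι₀ : M₀ →+* M') (W' : ValuationSubring M'),
      (∀ b : B, ι (algebraMap Wt M (algebraMap B Wt b)) =
        ι₀ (algebraMap C M₀ (algebraMap B C b))) ∧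
      (∀ w : Wt, ι (algebraMap Wt M w) ∈ W') ∧
      (∀ w : Wt, w ∈ maximalIdeal Wt → W'.valuation (ι (algebraMap Wt M w)) < 1) ∧
      (∀ c : C, ι₀ (algebraMap C M₀ c) ∈ W') ∧
      (∀ c : C, c ∈ maximalIdeal C → W'.valuation (ι₀ (algebraMap C M₀ c)) < 1) ∧
      (∀ S : Subring M', (∀ x, ι x ∈ S) → (∀ y, ι₀ y ∈ S) → (∀ z ∈ S, z⁻¹ ∈ S) → S = ⊤) := by
  classical
  haveI : Module.IsTorsionFree B C := Module.isTorsionFree_iff_algebraMap_injective.mpr hBC
  haveI : Module.Flat B C := inferInstance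
  haveI : Nontrivial (ResidueField Wt ⊗[ResidueField B] ResidueField C) :=
    Algebra.TensorProduct.nontrivial_of_algebraMap_injective_of_flat_left (ResidueField B)
      (ResidueField Wt) (ResidueField C) (algebraMap (ResidueField B) (ResidueField C)).injective
  letI algBT : Algebra B (ResidueField Wt ⊗[ResidueField B] ResidueField C) :=
    ((algebraMap (ResidueField B) (ResidueField Wt ⊗[ResidueField B] ResidueField C)).comp
      (algebraMap B (ResidueField B))).toAlgebra
  let f : Wt →ₐ[B] (ResidueField Wt ⊗[ResidueField B] ResidueField C) :=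
    { toRingHom := (Algebra.TensorProduct.includeLeftRingHom).comp (residue Wt)
      commutes' := fun b => rfl }
  let g : C →ₐ[B] (ResidueField Wt ⊗[ResidueField B] ResidueField C) :=
    { toRingHom := (Algebra.TensorProduct.includeRight (R := ResidueField B)
        (A := ResidueField Wt) (B := ResidueField C)).toRingHom.comp (residue C)
      commutes' := fun b => by
        show (1 : ResidueField Wt) ⊗ₜ[ResidueField B] (residue C (algebraMap B C b)) =
          algebraMap (ResidueField B) _ (residue B b)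
        rw [Algebra.TensorProduct.algebraMap_apply']
        rfl }
  obtain ⟨n, hn⟩ := Ideal.exists_maximal (ResidueField Wt ⊗[ResidueField B] ResidueField C)
  haveI := hn.isPrime
  obtain ⟨Q, hQdef⟩ : ∃ Q : Ideal (Wt ⊗[B] C),
      Q = n.comap (Algebra.TensorProduct.productMap f g).toRingHom := ⟨_, rfl⟩
  haveI hQprime : Q.IsPrime := by
    rw [hQdef]
    exact Ideal.comap_isPrime _ n
  have hQW : ∀ w ∈ maximalIdeal Wt, (w ⊗ₜ[B] (1 : C)) ∈ Q := by
    intro w hw
    rw [hQdef]
    show Algebra.TensorProduct.productMap f g (w ⊗ₜ 1) ∈ n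
    rw [Algebra.TensorProduct.productMap_left_apply]
    show (residue Wt w) ⊗ₜ[ResidueField B] (1 : ResidueField C) ∈ n
    rw [(residue_eq_zero_iff w).mpr hw, TensorProduct.zero_tmul]
    exact n.zero_mem
  have hQC : ∀ c ∈ maximalIdeal C, ((1 : Wt) ⊗ₜ[B] c) ∈ Q := by
    intro c hc
    rw [hQdef]
    show Algebra.TensorProduct.productMap f g (1 ⊗ₜ c) ∈ n
    rw [Algebra.TensorProduct.productMap_right_apply]
    show (1 : ResidueField Wt) ⊗ₜ[ResidueField B] (residue C c) ∈ n
    rw [(residue_eq_zero_iff c).mpr hc, TensorProduct.tmul_zero]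
    exact n.zero_mem
  -- going down
  obtain ⟨Q₀, hQ₀le, hQ₀prime, hQ₀over⟩ :=
    Ideal.exists_ideal_le_liesOver_of_le (p := (⊥ : Ideal Wt)) (q := Q.under Wt) Q bot_le
  haveI := hQ₀prime
  have hQ₀W : ∀ w : Wt, (w ⊗ₜ[B] (1 : C)) ∈ Q₀ → w = 0 := by
    intro w hw
    have h1 : w ∈ Q₀.under Wt := hw
    rw [← hQ₀over.over] at h1
    exact (Submodule.mem_bot _).mp h1
  obtain ⟨π, hπirr⟩ := IsDiscreteValuationRing.exists_irreducible B
  have hπ0 : π ≠ 0 := hπirr.ne_zero
  have hsw : ∀ b : B, (algebraMap B Wt b) ⊗ₜ[B] (1 : C) = (1 : Wt) ⊗ₜ[B] (algebraMap B C b) := by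
    intro b
    rw [Algebra.algebraMap_eq_smul_one, Algebra.algebraMap_eq_smul_one, TensorProduct.smul_tmul]
  have hQ₀C : ∀ c : C, ((1 : Wt) ⊗ₜ[B] c) ∈ Q₀ → c = 0 := by
    intro c hc
    by_contra hc0
    obtain ⟨I, hI⟩ : ∃ I : Ideal C, I = Q₀.comap (Algebra.TensorProduct.includeRight (R := B)
        (A := Wt) (B := C)).toRingHom := ⟨_, rfl⟩
    haveI : I.IsPrime := by
      rw [hI]
      exact Ideal.comap_isPrime _ Q₀
    have hcI : c ∈ I := by
      rw [hI]
      exact hc
    have hI0 : I ≠ ⊥ := fun h => hc0 (by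
      rw [h] at hcI
      exact (Submodule.mem_bot _).mp hcI)
    have hImax : I.IsMaximal := Ideal.IsPrime.isMaximal inferInstance hI0
    have hIm : I = maximalIdeal C := IsLocalRing.eq_maximalIdeal hImax
    have h1 : algebraMap B C π ∈ I := by
      rw [hIm, mem_maximalIdeal, mem_nonunits_iff]
      intro hu
      exact hπirr.not_isUnit (isUnit_of_map_unit (algebraMap B C) π hu)
    have h2 : ((1 : Wt) ⊗ₜ[B] algebraMap B C π) ∈ Q₀ := by
      rw [hI] at h1
      exact h1
    rw [← hsw] at h2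
    exact hπ0 (hBW (by rw [hQ₀W _ h2, map_zero]))
  -- the field
  have hψ : ∀ t : Wt ⊗[B] C,
      algebraMap ((Wt ⊗[B] C) ⧸ Q₀) (FractionRing ((Wt ⊗[B] C) ⧸ Q₀))
        (Ideal.Quotient.mk Q₀ t) = 0 ↔ t ∈ Q₀ := by
    intro t
    rw [map_eq_zero_iff _ (IsFractionRing.injective _ _), Ideal.Quotient.eq_zero_iff_mem]
  obtain ⟨ψ, hψdef⟩ : ∃ ψ : (Wt ⊗[B] C) →+* FractionRing ((Wt ⊗[B] C) ⧸ Q₀),
      ψ = (algebraMap ((Wt ⊗[B] C) ⧸ Q₀) (FractionRing ((Wt ⊗[B] C) ⧸ Q₀))).comp
        (Ideal.Quotient.mk Q₀) := ⟨_, rfl⟩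
  have hψ' : ∀ t, ψ t = 0 ↔ t ∈ Q₀ := by
    intro t
    rw [hψdef]
    exact hψ t
  have hgW : Function.Injective (ψ.comp (Algebra.TensorProduct.includeLeftRingHom
      (R := B) (A := Wt) (B := C))) :=
    (injective_iff_map_eq_zero _).mpr (fun w hw => hQ₀W w ((hψ' _).mp hw))
  have hgC : Function.Injective (ψ.comp (Algebra.TensorProduct.includeRight (R := B)
      (A := Wt) (B := C)).toRingHom) :=
    (injective_iff_map_eq_zero _).mpr (fun c hc => hQ₀C c ((hψ' _).mp hc))
  obtain ⟨ι, hιdef⟩ : ∃ ι : M →+* FractionRing ((Wt ⊗[B] C) ⧸ Q₀),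
      ι = IsFractionRing.lift hgW := ⟨_, rfl⟩
  obtain ⟨ι₀, hι₀def⟩ : ∃ ι₀ : M₀ →+* FractionRing ((Wt ⊗[B] C) ⧸ Q₀),
      ι₀ = IsFractionRing.lift hgC := ⟨_, rfl⟩
  have hι : ∀ w : Wt, ι (algebraMap Wt M w) = ψ (w ⊗ₜ[B] (1 : C)) := fun w => by
    rw [hιdef, IsFractionRing.lift_algebraMap]
    rfl
  have hι₀ : ∀ c : C, ι₀ (algebraMap C M₀ c) = ψ ((1 : Wt) ⊗ₜ[B] c) := fun c => by
    rw [hι₀def, IsFractionRing.lift_algebraMap]
    rfl
  have hunit : ∀ y : Q.primeCompl, IsUnit (ψ y) := fun y => by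
    apply IsUnit.mk0
    intro h0
    exact y.2 (hQ₀le ((hψ' _).mp h0))
  obtain ⟨W', hW'1, hW'2⟩ := exists_dominates_of_local
    (IsLocalization.lift (S := Localization.AtPrime Q) hunit)
  have hφ : ∀ t : Wt ⊗[B] C, IsLocalization.lift (S := Localization.AtPrime Q) hunit
      (algebraMap _ _ t) = ψ t := fun t => IsLocalization.lift_eq hunit t
  have hmemQ : ∀ t ∈ Q, W'.valuation (ψ t) < 1 := fun t ht => by
    rw [← hφ]
    exact hW'2 _ ((IsLocalization.AtPrime.to_map_mem_maximal_iff (Localization.AtPrime Q) Q t).mpr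
      ht)
  have hmemT : ∀ t, ψ t ∈ W' := fun t => by
    rw [← hφ]
    exact hW'1 _
  refine ⟨FractionRing ((Wt ⊗[B] C) ⧸ Q₀), inferInstance, ι, ι₀, W', ?_, ?_, ?_, ?_, ?_, ?_⟩
  · intro b
    rw [hι, hι₀, hsw]
  · intro w
    rw [hι]
    exact hmemT _
  · intro w hw
    rw [hι]
    exact hmemQ _ (hQW w hw)
  · intro c
    rw [hι₀]
    exact hmemT _
  · intro c hc
    rw [hι₀]
    exact hmemQ _ (hQC c hc)
  · intro S hS1 hS2 hS3
    rw [eq_top_iff]
    intro z _
    have hT : ∀ t : Wt ⊗[B] C, ψ t ∈ S := by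
      intro t
      induction t using TensorProduct.induction_on with
      | zero =>
        rw [map_zero]
        exact S.zero_mem
      | tmul w c =>
        have e : w ⊗ₜ[B] c = (w ⊗ₜ[B] (1 : C)) * ((1 : Wt) ⊗ₜ[B] c) := by
          rw [Algebra.TensorProduct.tmul_mul_tmul, mul_one, one_mul]
        rw [e, map_mul, ← hι, ← hι₀]
        exact S.mul_mem (hS1 _) (hS2 _)
      | add x y hx hy =>
        rw [map_add]
        exact S.add_mem hx hy
    obtain ⟨d₁, d₂, _, rfl⟩ := IsFractionRing.div_surjective ((Wt ⊗[B] C) ⧸ Q₀) z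
    obtain ⟨t₁, rfl⟩ := Ideal.Quotient.mk_surjective d₁
    obtain ⟨t₂, rfl⟩ := Ideal.Quotient.mk_surjective d₂
    rw [div_eq_mul_inv]
    have h1 := hT t₁
    have h2 := hT t₂
    rw [hψdef] at h1 h2
    exact S.mul_mem h1 (hS3 _ h2)

/-- The common extension, for a valuation subring `W` of `M ⊇ L` dominating `B` and a DVR `C ⊇ B`
with fraction field `M₀ ⊇ L`. -/
theorem exists_compositum_extension
    {B C L M₀ M : Type u} [CommRing B] [IsDomain B] [IsDiscreteValuationRing B]
    [CommRing C] [IsDomain C] [IsDiscreteValuationRing C] [Algebra B C]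
    [IsLocalHom (algebraMap B C)] (hinj : Function.Injective (algebraMap B C))
    [Field L] [Field M₀] [Field M] [Algebra B L] [IsFractionRing B L] [Algebra C M₀]
    [IsFractionRing C M₀] [Algebra L M₀] [Algebra B M₀] [IsScalarTower B C M₀]
    [IsScalarTower B L M₀] [Algebra L M]
    (W : ValuationSubring M)
    (hW : EtRam.Dominates B ((algebraMap L M).comp (algebraMap B L)) W) :
    ∃ (M' : Type u) (_ : Field M') (ι : M →+* M') (ι₀ : M₀ →+* M') (W' : ValuationSubring M'),
      (∀ l : L, ι (algebraMap L M l) = ι₀ (algebraMap L M₀ l)) ∧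
      W'.comap ι = W ∧
      EtRam.Dominates C (ι₀.comp (algebraMap C M₀)) W' ∧
      (∀ S : Subring M', (∀ x, ι x ∈ S) → (∀ y, ι₀ y ∈ S) → (∀ z ∈ S, z⁻¹ ∈ S) → S = ⊤) := by
  letI algBW : Algebra B W :=
    (RingHom.codRestrict ((algebraMap L M).comp (algebraMap B L)) W hW.1).toAlgebra
  haveI locBW : IsLocalHom (algebraMap B W) := isLocalHom_of_dominates hW
  have hBWinj : Function.Injective (algebraMap B W) := by
    intro x y hxy
    have h1 : algebraMap L M (algebraMap B L x) = algebraMap L M (algebraMap B L y) :=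
      congrArg Subtype.val hxy
    exact IsFractionRing.injective B L ((algebraMap L M).injective h1)
  obtain ⟨M', hF, ι, ι₀, W', h1, h2, h3, h4, h5, h6⟩ :=
    exists_common_extension (B := B) (Wt := W) (C := C) (M := M) (M₀ := M₀) hBWinj hinj
  refine ⟨M', hF, ι, ι₀, W', ?_, ?_, ⟨h4, h5⟩, h6⟩
  · have h7 : (ι.comp (algebraMap L M)) = (ι₀.comp (algebraMap L M₀)) :=
      IsFractionRing.ringHom_ext (A := B) (fun b => by
        show ι (algebraMap L M (algebraMap B L b)) = ι₀ (algebraMap L M₀ (algebraMap B L b))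
        have e1 : algebraMap L M (algebraMap B L b) = algebraMap W M (algebraMap B W b) := rfl
        have e2 : algebraMap L M₀ (algebraMap B L b) = algebraMap C M₀ (algebraMap B C b) := by
          rw [← IsScalarTower.algebraMap_apply B L M₀, IsScalarTower.algebraMap_apply B C M₀]
        rw [e1, e2]
        exact h1 b)
    intro l
    exact RingHom.congr_fun h7 l
  · apply comap_eq_of_dominates
    · intro x hx
      exact h2 ⟨x, hx⟩
    · intro x hx
      have hxW : x ∈ W := (W.valuation_le_one_iff x).mp hx.le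
      exact h3 ⟨x, hxW⟩ ((W.valuation_lt_one_iff ⟨x, hxW⟩).mpr hx)

end Groth.Agent.H8.RI
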