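import Groth.Agent.Lib.Helper8.ASK.TR

set_option autoImplicit false
universe u

namespace Groth.Agent.H8.ASK

open IsLocalRing Polynomial

section PureField

variable {k κ : Type*} [Field k] [Field κ] [Algebra k κ]

theorem minpoly_of_pow_eq {p : ℕ} (hp : p.Prime) (abar : k) (habar : ∀ b : k, b ^ p ≠ abar) (ybar : κ)
    (h : ybar ^ p = algebraMap k κ abar) : minpoly k ybar = X ^ p - C abar := by
  symm
  apply minpoly.eq_of_irreducible_of_monic (X_pow_sub_C_irreducible_of_prime hp habar)
  · rw [map_sub, map_pow, aeval_X, aeval_C, h, sub_self]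
  · exact monic_X_pow_sub_C abar hp.ne_zero

theorem indep_of_pow_eq {p : ℕ} (hp : p.Prime) (abar : k) (habar : ∀ b : k, b ^ p ≠ abar) (ybar : κ)
    (h : ybar ^ p = algebraMap k κ abar) (r : ℕ → k)
    (hsum : ∑ i ∈ Finset.range p, algebraMap k κ (r i) * ybar ^ i = 0) :
    ∀ i ∈ Finset.range p, r i = 0 := by
  obtain ⟨q, hq⟩ : ∃ q : k[X], q = ∑ i ∈ Finset.range p, C (r i) * X ^ i := ⟨_, rfl⟩
  have hroot : aeval ybar q = 0 := by
    rw [hq, map_sum, ← hsum]
    refine Finset.sum_congr rfl (fun i _ => ?_)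
    rw [map_mul, aeval_C, map_pow, aeval_X]
  have hcoeff : ∀ j, q.coeff j = if j < p then r j else 0 := by
    intro j
    rw [hq, finset_sum_coeff]
    simp only [coeff_C_mul_X_pow]
    rw [Finset.sum_ite_eq]
    simp only [Finset.mem_range]
  have hq0 : q = 0 := by
    by_contra hne
    have h1 := minpoly.degree_le_of_ne_zero k ybar hne hroot
    rw [minpoly_of_pow_eq hp abar habar ybar h, degree_X_pow_sub_C hp.pos] at h1
    have h2 : q.degree < p := by
      rw [degree_lt_iff_coeff_zero]
      intro j hj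
      rw [hcoeff j, if_neg (by omega)]
    exact absurd h1 (not_le.mpr h2)
  intro i hi
  have := hcoeff i
  rw [hq0, coeff_zero, if_pos (Finset.mem_range.mp hi)] at this
  exact this.symm

end PureField

section FI

variable {A K L : Type u} [CommRing A] [IsDomain A] [IsDiscreteValuationRing A] [Field K]
  [Algebra A K] [IsFractionRing A K] [Field L] [Algebra K L] [Algebra A L] [IsScalarTower A K L]

/-- The normalised generator `π^m z`. -/
def yOf (π : A) (m : ℕ) (z : L) : L := algebraMap A L π ^ m * z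

/-- Hypotheses of the fiercely ramified case. -/
structure FIData (π : A) (p : ℕ) (P : A[X]) (ξ : K) (z : L) (m : ℕ) (a : A) : Prop where
  hπ : maximalIdeal A = Ideal.span {π}
  hp : p.Prime
  hP : P.Monic
  hdeg : P.natDegree = p
  hz : eval₂ (algebraMap A L) z P = algebraMap K L ξ
  hgen : IntermediateField.adjoin K {z} = ⊤
  hm : 0 < m
  ha : ∀ r : A, IsLocalRing.residue A a ≠ IsLocalRing.residue A r ^ p
  hξ : ξ * algebraMap A K π ^ (p * m) = algebraMap A K a

variable {π : A} {p : ℕ} {P : A[X]} {ξ : K} {z : L} {m : ℕ} {a : A} {V : ValuationSubring L}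

namespace FIData

theorem isUnit_a (D : FIData π p P ξ z m a) : IsUnit a := by
  by_contra h
  have hmem : a ∈ maximalIdeal A := (mem_maximalIdeal a).mpr (mem_nonunits_iff.mpr h)
  apply D.ha 0
  rw [(residue_eq_zero_iff a).mpr hmem, map_zero, zero_pow D.hp.ne_zero]

theorem ha' (D : FIData π p P ξ z m a) :
    ∀ b : ResidueField A, b ^ p ≠ IsLocalRing.residue A a := by
  intro b hb
  obtain ⟨r, rfl⟩ := residue_surjective b
  exact D.ha r hb.symm

theorem xi_eq (D : FIData π p P ξ z m a) :
    ξ = algebraMap A K (D.isUnit_a.unit : A) * algebraMap A K π ^ (-((p * m : ℕ) : ℤ)) := by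
  have h0 := algK_pi_ne_zero (K := K) D.hπ
  rw [zpow_neg, zpow_natCast, IsUnit.unit_spec, ← D.hξ]
  field_simp

theorem val_xi (D : FIData π p P ξ z m a) (hV : EtRam.Dominates A (algebraMap A L) V) :
    V.valuation (algebraMap K L ξ) =
      V.valuation (algebraMap A L π) ^ (-((p * m : ℕ) : ℤ)) :=
  val_K hV ξ D.isUnit_a.unit _ D.xi_eq

theorem val_z (D : FIData π p P ξ z m a) (hV : EtRam.Dominates A (algebraMap A L) V) :
    V.valuation z = V.valuation (algebraMap A L π) ^ (-(m : ℤ)) := by
  have hτ0 := val_pi_pos (V := V) D.hπ (algebraMap_inj A K L)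
  have hτ1 := val_pi_lt_one D.hπ hV
  have h1 : 1 < V.valuation (eval₂ (algebraMap A L) z P) := by
    rw [D.hz, D.val_xi hV]
    exact one_lt_zpow_of_neg₀ hτ0 hτ1
      (neg_lt_zero.mpr (by exact_mod_cast Nat.mul_pos D.hp.pos D.hm))
  have h2 := one_lt_val_of_eval hV P z h1
  have h3 : V.valuation z ^ p = V.valuation (algebraMap A L π) ^ (-((p * m : ℕ) : ℤ)) := by
    rw [← val_eval_of_one_lt hV D.hP D.hdeg z h2, D.hz, D.val_xi hV]
  have h4 : (V.valuation (algebraMap A L π) ^ (-(m : ℤ))) ^ p =
      V.valuation (algebraMap A L π) ^ (-((p * m : ℕ) : ℤ)) := by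
    rw [zpow_pow_nat]
    congr 1
    push_cast
    ring
  exact (pow_left_inj₀ zero_le' zero_le' D.hp.ne_zero).mp (h3.trans h4.symm)

theorem val_y (D : FIData π p P ξ z m a) (hV : EtRam.Dominates A (algebraMap A L) V) :
    V.valuation (yOf π m z) = 1 := by
  have hτ0 := val_pi_pos (V := V) D.hπ (algebraMap_inj A K L)
  unfold yOf
  rw [map_mul, map_pow, D.val_z hV, zpow_neg, zpow_natCast]
  exact mul_inv_cancel₀ (pow_ne_zero _ hτ0.ne')

theorem y_mem (D : FIData π p P ξ z m a) (hV : EtRam.Dominates A (algebraMap A L) V) :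
    yOf π m z ∈ V :=
  (V.valuation_le_one_iff _).mp (D.val_y hV).le

theorem val_y_pow_sub (D : FIData π p P ξ z m a) (hV : EtRam.Dominates A (algebraMap A L) V) :
    V.valuation (yOf π m z ^ p - algebraMap A L a) < 1 := by
  have hτ0 := val_pi_pos (V := V) D.hπ (algebraMap_inj A K L)
  have hτ1 := val_pi_lt_one D.hπ hV
  have hga : algebraMap A L a =
      algebraMap A L π ^ (p * m) * eval₂ (algebraMap A L) z P := by
    rw [D.hz, IsScalarTower.algebraMap_apply A K L a, ← D.hξ, map_mul, map_pow,
      ← IsScalarTower.algebraMap_apply]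
    ring
  have e1 : yOf π m z ^ p - algebraMap A L a =
      -∑ i ∈ Finset.range p,
        algebraMap A L π ^ (p * m) * (algebraMap A L (P.coeff i) * z ^ i) := by
    rw [hga, eval₂_monic_eq D.hP D.hdeg z, yOf, mul_pow, ← pow_mul, mul_comm m p, mul_add,
      Finset.mul_sum]
    ring
  rw [e1, Valuation.map_neg]
  apply Valuation.map_sum_lt _ one_ne_zero
  intro i hi
  rw [map_mul, map_mul, map_pow, map_pow, D.val_z hV, zpow_pow_nat]
  have h5 : ((p * m : ℕ) : ℤ) + (-(m : ℤ) * i) = (m : ℤ) * ((p : ℤ) - i) := by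
    push_cast
    ring
  calc V.valuation (algebraMap A L π) ^ (p * m) *
        (V.valuation (algebraMap A L (P.coeff i)) *
          V.valuation (algebraMap A L π) ^ (-(m : ℤ) * i))
      ≤ V.valuation (algebraMap A L π) ^ (p * m) *
        (1 * V.valuation (algebraMap A L π) ^ (-(m : ℤ) * i)) :=
        mul_le_mul' le_rfl (mul_le_mul' (val_alg_le_one hV _) le_rfl)
    _ = V.valuation (algebraMap A L π) ^ (((p * m : ℕ) : ℤ) + (-(m : ℤ) * i)) := by
        rw [one_mul, zpow_add₀ hτ0.ne', zpow_natCast]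
    _ < 1 := by
        rw [h5]
        exact zpow_lt_one₀ hτ0 hτ1 (mul_pos (by exact_mod_cast D.hm)
          (by have := Finset.mem_range.mp hi; omega))

theorem residue_y_pow (D : FIData π p P ξ z m a) (hV : EtRam.Dominates A (algebraMap A L) V) :
    letI : Algebra A V := (RingHom.codRestrict (algebraMap A L) V hV.1).toAlgebra
    ∀ [IsLocalHom (algebraMap A V)],
      (IsLocalRing.residue V ⟨yOf π m z, D.y_mem hV⟩) ^ p =
        algebraMap (ResidueField A) (ResidueField V) (IsLocalRing.residue A a) := by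
  letI : Algebra A V := (RingHom.codRestrict (algebraMap A L) V hV.1).toAlgebra
  intro _
  rw [ResidueField.algebraMap_residue, ← map_pow, ← sub_eq_zero, ← map_sub,
    residue_eq_zero_iff, ValuationSubring.valuation_lt_one_iff]
  exact D.val_y_pow_sub hV

theorem val_sum_eq_one (D : FIData π p P ξ z m a) (hV : EtRam.Dominates A (algebraMap A L) V)
    (β : ℕ → A) (hβ : ∃ i ∈ Finset.range p, β i ∉ maximalIdeal A) :
    V.valuation (∑ i ∈ Finset.range p, algebraMap A L (β i) * yOf π m z ^ i) = 1 := by
  have hy1 := D.val_y hV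
  have hle : V.valuation (∑ i ∈ Finset.range p, algebraMap A L (β i) * yOf π m z ^ i) ≤ 1 := by
    apply Valuation.map_sum_le
    intro i _
    rw [map_mul, map_pow, hy1, one_pow, mul_one]
    exact val_alg_le_one hV _
  rcases lt_or_eq_of_le hle with hlt | heq
  swap
  · exact heq
  exfalso
  letI : Algebra A V := (RingHom.codRestrict (algebraMap A L) V hV.1).toAlgebra
  haveI : IsLocalHom (algebraMap A V) := isLocalHom_of_dominates hV
  have hyp := D.residue_y_pow hV
  have hcoe : ((∑ i ∈ Finset.range p, algebraMap A V (β i) *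
      (⟨yOf π m z, D.y_mem hV⟩ : V) ^ i : V) : L) =
      ∑ i ∈ Finset.range p, algebraMap A L (β i) * yOf π m z ^ i := by
    show V.subtype _ = _
    rw [map_sum]
    refine Finset.sum_congr rfl (fun i _ => ?_)
    rw [map_mul, map_pow]
    rfl
  have hmem : (∑ i ∈ Finset.range p, algebraMap A V (β i) *
      (⟨yOf π m z, D.y_mem hV⟩ : V) ^ i : V) ∈ maximalIdeal V := by
    rw [ValuationSubring.valuation_lt_one_iff, hcoe]
    exact hlt
  have hres := (residue_eq_zero_iff _).mpr hmem
  rw [map_sum] at hres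
  have hres' : ∑ i ∈ Finset.range p,
      algebraMap (ResidueField A) (ResidueField V) (IsLocalRing.residue A (β i)) *
        (IsLocalRing.residue V ⟨yOf π m z, D.y_mem hV⟩) ^ i = 0 := by
    rw [← hres]
    refine Finset.sum_congr rfl (fun i _ => ?_)
    rw [map_mul, map_pow, ResidueField.algebraMap_residue]
  have h0 := indep_of_pow_eq D.hp (IsLocalRing.residue A a) D.ha'
    (IsLocalRing.residue V ⟨yOf π m z, D.y_mem hV⟩) hyp
    (fun i => IsLocalRing.residue A (β i)) hres'
  obtain ⟨i, hi, hβi⟩ := hβ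
  exact hβi ((residue_eq_zero_iff _).mp (h0 i hi))

theorem val_coeff_le (D : FIData π p P ξ z m a) (hV : EtRam.Dominates A (algebraMap A L) V)
    (c : ℕ → K) : ∀ i ∈ Finset.range p, V.valuation (algebraMap K L (c i)) ≤
      V.valuation (∑ i ∈ Finset.range p, algebraMap K L (c i) * yOf π m z ^ i) := by
  classical
  obtain ⟨j, hj, hmax⟩ := Finset.exists_max_image (Finset.range p)
    (fun i => V.valuation (algebraMap K L (c i))) ⟨0, Finset.mem_range.mpr D.hp.pos⟩
  have hmax' : ∀ i ∈ Finset.range p, V.valuation (algebraMap K L (c i)) ≤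
      V.valuation (algebraMap K L (c j)) := hmax
  by_cases hcj : c j = 0
  · intro i hi
    have := hmax' i hi
    rw [hcj, map_zero, map_zero] at this
    exact this.trans zero_le'
  have hιcj : algebraMap K L (c j) ≠ 0 := (_root_.map_ne_zero _).mpr hcj
  have hwcj : 0 < V.valuation (algebraMap K L (c j)) := by
    rw [zero_lt_iff, Valuation.ne_zero_iff]
    exact hιcj
  obtain ⟨b, hbdef⟩ : ∃ b : ℕ → K, b = fun i => if i < p then c i / c j else 0 := ⟨_, rfl⟩
  have hb : ∀ i, V.valuation (algebraMap K L (b i)) ≤ 1 := by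
    intro i
    by_cases hi : i < p
    · rw [hbdef]
      simp only [if_pos hi]
      rw [map_div₀, map_div₀, div_le_one₀ hwcj]
      exact hmax' i (Finset.mem_range.mpr hi)
    · rw [hbdef]
      simp only [if_neg hi]
      rw [map_zero, map_zero]
      exact zero_le'
  choose β hβ using fun i => mem_of_val_le_one D.hπ hV (b i) (hb i)
  have hβj : β j ∉ maximalIdeal A := by
    have h1 : algebraMap A K (β j) = 1 := by
      rw [hβ j, hbdef]
      simp only [if_pos (Finset.mem_range.mp hj)]
      exact div_self hcj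
    have h2 : β j = 1 := IsFractionRing.injective A K (h1.trans (map_one _).symm)
    rw [h2]
    exact fun h => (mem_nonunits_iff.mp ((mem_maximalIdeal _).mp h)) isUnit_one
  have h1 := D.val_sum_eq_one hV β ⟨j, hj, hβj⟩
  have hfac : ∑ i ∈ Finset.range p, algebraMap K L (c i) * yOf π m z ^ i =
      algebraMap K L (c j) *
        ∑ i ∈ Finset.range p, algebraMap A L (β i) * yOf π m z ^ i := by
    rw [Finset.mul_sum]
    refine Finset.sum_congr rfl (fun i hi => ?_)
    have h2 : c j * b i = c i := by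
      rw [hbdef]
      simp only [if_pos (Finset.mem_range.mp hi)]
      field_simp
    rw [IsScalarTower.algebraMap_apply A K L (β i), hβ i, ← mul_assoc, ← map_mul, h2]
  intro i hi
  rw [hfac, map_mul, h1, mul_one]
  exact hmax' i hi

theorem repr_y (D : FIData π p P ξ z m a) (x : L) :
    ∃ c : ℕ → K, x = ∑ i ∈ Finset.range p, algebraMap K L (c i) * yOf π m z ^ i := by
  obtain ⟨a', ha'⟩ := repr_z D.hP D.hdeg D.hp.pos ξ z D.hz D.hgen x
  refine ⟨fun i => a' i * (algebraMap A K π ^ (m * i))⁻¹, ?_⟩
  rw [ha']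
  refine Finset.sum_congr rfl (fun i _ => ?_)
  have h0 : algebraMap A L π ^ (m * i) ≠ 0 :=
    pow_ne_zero _ (algL_pi_ne_zero D.hπ (algebraMap_inj A K L))
  rw [yOf, mul_pow, ← pow_mul, map_mul, map_inv₀, map_pow, ← IsScalarTower.algebraMap_apply,
    mul_assoc, inv_mul_cancel_left₀ h0]

theorem mem_iff (D : FIData π p P ξ z m a) (hV : EtRam.Dominates A (algebraMap A L) V)
    (c : ℕ → K) : (∑ i ∈ Finset.range p, algebraMap K L (c i) * yOf π m z ^ i) ∈ V ↔
      ∀ i ∈ Finset.range p, ∃ b : A, algebraMap A K b = c i := by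
  constructor
  · intro hx i hi
    exact mem_of_val_le_one D.hπ hV (c i)
      ((D.val_coeff_le hV c i hi).trans ((V.valuation_le_one_iff _).mpr hx))
  · intro h
    rw [← V.valuation_le_one_iff]
    apply Valuation.map_sum_le
    intro i hi
    obtain ⟨b, hb⟩ := h i hi
    rw [map_mul, map_pow, D.val_y hV, one_pow, mul_one, ← hb,
      ← IsScalarTower.algebraMap_apply]
    exact val_alg_le_one hV b

theorem unique (D : FIData π p P ξ z m a) {V V' : ValuationSubring L}
    (hV : EtRam.Dominates A (algebraMap A L) V) (hV' : EtRam.Dominates A (algebraMap A L) V') :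
    V = V' := by
  apply ValuationSubring.ext
  intro x
  obtain ⟨c, rfl⟩ := D.repr_y x
  rw [D.mem_iff hV c, D.mem_iff hV' c]

theorem exists_mul_pi (D : FIData π p P ξ z m a) (hV : EtRam.Dominates A (algebraMap A L) V)
    (x : L) (hx : V.valuation x < 1) : ∃ x' ∈ V, x = algebraMap A L π * x' := by
  obtain ⟨c, rfl⟩ := D.repr_y x
  obtain ⟨c', hc'def⟩ : ∃ c' : ℕ → K, c' = fun i => if i < p then c i else 0 := ⟨_, rfl⟩
  have hc' : ∀ i, V.valuation (algebraMap K L (c' i)) < 1 := by
    intro i
    by_cases hi : i < p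
    · rw [hc'def]
      simp only [if_pos hi]
      exact lt_of_le_of_lt (D.val_coeff_le hV c i (Finset.mem_range.mpr hi)) hx
    · rw [hc'def]
      simp only [if_neg hi]
      rw [map_zero, map_zero]
      exact zero_lt_one
  choose b hb using fun i => mem_pi_of_val_lt_one D.hπ hV (c' i) (hc' i)
  refine ⟨∑ i ∈ Finset.range p, algebraMap A L (b i) * yOf π m z ^ i, ?_, ?_⟩
  · rw [← V.valuation_le_one_iff]
    apply Valuation.map_sum_le
    intro i _
    rw [map_mul, map_pow, D.val_y hV, one_pow, mul_one]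
    exact val_alg_le_one hV _
  · rw [Finset.mul_sum]
    refine Finset.sum_congr rfl (fun i hi => ?_)
    have h1 : c i = algebraMap A K (π * b i) := by
      rw [hb i, hc'def]
      simp only [if_pos (Finset.mem_range.mp hi)]
    rw [h1, ← IsScalarTower.algebraMap_apply, map_mul]
    ring

theorem repr_V (D : FIData π p P ξ z m a) (hV : EtRam.Dominates A (algebraMap A L) V)
    (x : L) (hx : x ∈ V) :
    ∃ β : ℕ → A, x = ∑ i ∈ Finset.range p, algebraMap A L (β i) * yOf π m z ^ i := by
  obtain ⟨c, rfl⟩ := D.repr_y x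
  have h := (D.mem_iff hV c).mp hx
  obtain ⟨c', hc'def⟩ : ∃ c' : ℕ → K, c' = fun i => if i < p then c i else 0 := ⟨_, rfl⟩
  have hc' : ∀ i, ∃ b : A, algebraMap A K b = c' i := by
    intro i
    by_cases hi : i < p
    · rw [hc'def]
      simp only [if_pos hi]
      exact h i (Finset.mem_range.mpr hi)
    · rw [hc'def]
      simp only [if_neg hi]
      exact ⟨0, map_zero _⟩
  choose β hβ using hc'
  refine ⟨β, Finset.sum_congr rfl (fun i hi => ?_)⟩
  rw [IsScalarTower.algebraMap_apply A K L (β i), hβ i, hc'def]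
  simp only [if_pos (Finset.mem_range.mp hi)]

theorem case4 (D : FIData π p P ξ z m a) [CharP (ResidueField A) p] :
    (∃ V : ValuationSubring L, EtRam.Dominates A (algebraMap A L) V) ∧
    (∀ V V' : ValuationSubring L, EtRam.Dominates A (algebraMap A L) V →
      EtRam.Dominates A (algebraMap A L) V' → V = V') ∧
    ∀ (V : ValuationSubring L) (h : EtRam.Dominates A (algebraMap A L) V),
      letI : Algebra A V := (RingHom.codRestrict (algebraMap A L) V h.1).toAlgebra
      ∀ [IsLocalHom (algebraMap A V)],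
        EtRam.IsWeaklyUnramified A V ∧
          IsPurelyInseparable (IsLocalRing.ResidueField A) (IsLocalRing.ResidueField V) ∧
          Module.finrank (IsLocalRing.ResidueField A) (IsLocalRing.ResidueField V) = p := by
  refine ⟨exists_dominates (algebraMap_inj A K L), fun V V' hV hV' => D.unique hV hV', ?_⟩
  intro V hV
  letI : Algebra A V := (RingHom.codRestrict (algebraMap A L) V hV.1).toAlgebra
  intro hloc
  haveI : Fact p.Prime := ⟨D.hp⟩
  haveI : ExpChar (ResidueField A) p := ExpChar.prime D.hp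
  haveI : CharP (ResidueField V) p :=
    charP_of_injective_algebraMap (algebraMap (ResidueField A) (ResidueField V)).injective p
  haveI : ExpChar (ResidueField V) p := ExpChar.prime D.hp
  have hyp : (IsLocalRing.residue V ⟨yOf π m z, D.y_mem hV⟩) ^ p =
      algebraMap (ResidueField A) (ResidueField V) (IsLocalRing.residue A a) :=
    D.residue_y_pow hV
  have hrepr : ∀ xb : ResidueField V, ∃ r : ℕ → ResidueField A,
      xb = ∑ i ∈ Finset.range p, algebraMap (ResidueField A) (ResidueField V) (r i) *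
        (IsLocalRing.residue V ⟨yOf π m z, D.y_mem hV⟩) ^ i := by
    intro xb
    obtain ⟨x, rfl⟩ := residue_surjective xb
    obtain ⟨β, hβ⟩ := D.repr_V hV (x : L) x.2
    refine ⟨fun i => IsLocalRing.residue A (β i), ?_⟩
    have hxV : x = ∑ i ∈ Finset.range p, algebraMap A V (β i) *
        (⟨yOf π m z, D.y_mem hV⟩ : V) ^ i := by
      apply Subtype.ext
      rw [hβ]
      show _ = V.subtype (∑ i ∈ Finset.range p, algebraMap A V (β i) *
        (⟨yOf π m z, D.y_mem hV⟩ : V) ^ i)
      rw [map_sum]
      refine Finset.sum_congr rfl (fun i _ => ?_)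
      rw [map_mul, map_pow]
      rfl
    rw [hxV, map_sum]
    refine Finset.sum_congr rfl (fun i _ => ?_)
    rw [map_mul, map_pow, ResidueField.algebraMap_residue]
  refine ⟨?_, ?_, ?_⟩
  · show (maximalIdeal A).map (algebraMap A V) = maximalIdeal V
    rw [D.hπ, Ideal.map_span, Set.image_singleton]
    ext x
    rw [Ideal.mem_span_singleton, ValuationSubring.valuation_lt_one_iff]
    constructor
    · rintro ⟨x', rfl⟩
      show V.valuation (algebraMap A L π * (x' : L)) < 1
      rw [map_mul]
      calc V.valuation (algebraMap A L π) * V.valuation (x' : L)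
          ≤ V.valuation (algebraMap A L π) * 1 := mul_le_mul' le_rfl (V.valuation_le_one x')
        _ = V.valuation (algebraMap A L π) := mul_one _
        _ < 1 := val_pi_lt_one D.hπ hV
    · intro hx
      obtain ⟨x', hx'V, hx'⟩ := D.exists_mul_pi hV (x : L) hx
      exact ⟨⟨x', hx'V⟩, Subtype.ext hx'⟩
  · rw [isPurelyInseparable_iff_pow_mem (ResidueField A) p]
    intro xb
    obtain ⟨r, rfl⟩ := hrepr xb
    refine ⟨1, ?_⟩
    rw [pow_one, sum_pow_char]
    refine ⟨∑ i ∈ Finset.range p, (r i) ^ p * (IsLocalRing.residue A a) ^ i, ?_⟩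
    rw [map_sum]
    refine Finset.sum_congr rfl (fun i _ => ?_)
    rw [map_mul, map_pow, map_pow, mul_pow, ← pow_mul, mul_comm i p, pow_mul, hyp]
  · have hmin := minpoly_of_pow_eq D.hp (IsLocalRing.residue A a) D.ha'
      (IsLocalRing.residue V ⟨yOf π m z, D.y_mem hV⟩) hyp
    have hint : IsIntegral (ResidueField A) (IsLocalRing.residue V ⟨yOf π m z, D.y_mem hV⟩) :=
      ⟨X ^ p - C (IsLocalRing.residue A a), monic_X_pow_sub_C _ D.hp.ne_zero, by
        rw [← aeval_def, map_sub, map_pow, aeval_X, aeval_C, hyp, sub_self]⟩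
    have htop : IntermediateField.adjoin (ResidueField A)
        {IsLocalRing.residue V ⟨yOf π m z, D.y_mem hV⟩} = ⊤ := by
      rw [eq_top_iff]
      intro xb _
      obtain ⟨r, rfl⟩ := hrepr xb
      apply sum_mem
      intro i _
      exact mul_mem (algebraMap_mem _ _)
        (pow_mem (IntermediateField.mem_adjoin_simple_self _ _) _)
    rw [← IntermediateField.finrank_top', ← htop, IntermediateField.adjoin.finrank hint, hmin]
    exact natDegree_X_pow_sub_C

end FIData

end FI

end Groth.Agent.H8.ASK
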