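import Mathlib
import Groth.Prelude.Def_EtRam

set_option autoImplicit false
universe u

namespace Groth.Agent.H8.PI

open IsLocalRing Polynomial

theorem key_identity {R : Type*} [CommRing R] (p : ℕ) (u r b r' P G : R) (n' i : ℕ)
    (hu : u = 1 + r * P ^ (n' + 1)) (hr : r = b ^ p + P * r')
    (hG : G * (u - 1) = u ^ (i + 1) - 1) :
    u * (1 - b ^ p * u ^ i * P ^ (n' + 1)) =
      1 + (r' - P ^ n' * b ^ p * r * G) * P ^ (n' + 1 + 1) := by
  linear_combination (1 - b ^ p * P ^ (n' + 1) * G) * hu + P ^ (n' + 1) * hr +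
    (b ^ p * P ^ (n' + 1)) * hG

section Induction

variable {B : Type u} (C : Type u) [CommRing B] [IsDomain B] [IsDiscreteValuationRing B]
  [CommRing C] [IsDomain C] [IsDiscreteValuationRing C] [Algebra B C]

/-- Stage `n`: a uniformizer `ϖ` of `C` with `u ϖ^p = π`, `u ≡ 1 mod π^n`. -/
def Stage (p : ℕ) (πB : B) (n : ℕ) : Prop :=
  ∃ (ϖ : C) (u : Bˣ) (r : B), maximalIdeal C = Ideal.span {ϖ} ∧
    algebraMap B C (u : B) * ϖ ^ p = algebraMap B C πB ∧ (u : B) = 1 + r * πB ^ n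

/-- A good representation. -/
def Good (p : ℕ) (πB : B) : Prop :=
  ∃ (ϖ : C) (u : Bˣ) (k : ℕ) (a : B), maximalIdeal C = Ideal.span {ϖ} ∧
    algebraMap B C (u : B) * ϖ ^ p = algebraMap B C πB ∧ (u : B) = 1 + a * πB ^ k ∧
    ∀ r : B, IsLocalRing.residue B a ≠ IsLocalRing.residue B r ^ p

variable {C}

theorem exists_residue_pow {p : ℕ} {πB : B} (hπB : maximalIdeal B = Ideal.span {πB}) (r : B)
    (h : ¬ ∀ b : B, IsLocalRing.residue B r ≠ IsLocalRing.residue B b ^ p) :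
    ∃ b r' : B, r = b ^ p + πB * r' := by
  have h1 : ∃ b, IsLocalRing.residue B r = IsLocalRing.residue B b ^ p := by
    by_contra hne
    exact h (fun b hb => hne ⟨b, hb⟩)
  obtain ⟨b, hb⟩ := h1
  have hmem : r - b ^ p ∈ maximalIdeal B := by
    rw [← residue_eq_zero_iff, map_sub, map_pow, hb, sub_self]
  rw [hπB, Ideal.mem_span_singleton'] at hmem
  obtain ⟨r', hr'⟩ := hmem
  exact ⟨b, r', by linear_combination -hr'⟩

theorem stage_zero {p : ℕ} [hp : Fact p.Prime] [CharP B p] {πB : B}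
    (hπB : maximalIdeal B = Ideal.span {πB}) (h : Stage C p πB 0) :
    Good C p πB ∨ Stage C p πB 1 := by
  obtain ⟨ϖ, u, r, hϖ, hrel, hu⟩ := h
  rw [pow_zero, mul_one] at hu
  by_cases hgood : ∀ b : B, IsLocalRing.residue B r ≠ IsLocalRing.residue B b ^ p
  · exact Or.inl ⟨ϖ, u, 0, r, hϖ, hrel, by rw [pow_zero, mul_one]; exact hu, hgood⟩
  right
  obtain ⟨b, r', hr⟩ := exists_residue_pow hπB r hgood
  have hπBmem : πB ∈ maximalIdeal B := by
    rw [hπB]; exact Ideal.mem_span_singleton_self πB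
  have hus : (u : B) = (1 + b) ^ p + πB * r' := by
    rw [add_pow_char, one_pow, hu, hr]; ring
  have hs : IsUnit (1 + b) := by
    by_contra hns
    have hmem : 1 + b ∈ maximalIdeal B := (mem_maximalIdeal _).mpr (mem_nonunits_iff.mpr hns)
    have h2 : (u : B) ∈ maximalIdeal B := by
      rw [hus]
      exact Ideal.add_mem _ (Ideal.pow_mem_of_mem _ hmem p hp.out.pos)
        (Ideal.mul_mem_right _ _ hπBmem)
    exact (mem_nonunits_iff.mp ((mem_maximalIdeal _).mp h2)) u.isUnit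
  obtain ⟨s, hs'⟩ := hs
  have hst : (s : B) * ((s⁻¹ : Bˣ) : B) = 1 := s.mul_inv
  have hstp : ((s : B) * ((s⁻¹ : Bˣ) : B)) ^ p = 1 := by rw [hst, one_pow]
  refine ⟨ϖ * algebraMap B C (s : B), u * s⁻¹ ^ p, r' * ((s⁻¹ : Bˣ) : B) ^ p, ?_, ?_, ?_⟩
  · rw [hϖ, Ideal.span_singleton_mul_right_unit (s.isUnit.map (algebraMap B C))]
  · calc algebraMap B C ((u * s⁻¹ ^ p : Bˣ) : B) * (ϖ * algebraMap B C (s : B)) ^ p
        = (algebraMap B C (u : B) * ϖ ^ p) *
          algebraMap B C (((s : B) * ((s⁻¹ : Bˣ) : B)) ^ p) := by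
          rw [Units.val_mul, Units.val_pow_eq_pow_val, map_mul, map_pow, mul_pow, map_pow,
            map_mul]
          ring
      _ = algebraMap B C πB := by rw [hrel, hstp, map_one, mul_one]
  · rw [Units.val_mul, Units.val_pow_eq_pow_val, pow_one]
    rw [← hs'] at hus
    linear_combination ((s⁻¹ : Bˣ) : B) ^ p * hus + hstp

theorem stage_succ {p : ℕ} [hp : Fact p.Prime] [CharP C p] {πB : B}
    (hπB : maximalIdeal B = Ideal.span {πB}) (n' : ℕ) (h : Stage C p πB (n' + 1)) :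
    Good C p πB ∨ Stage C p πB (n' + 1 + 1) := by
  obtain ⟨ϖ, u, r, hϖ, hrel, hu⟩ := h
  by_cases hgood : ∀ b : B, IsLocalRing.residue B r ≠ IsLocalRing.residue B b ^ p
  · exact Or.inl ⟨ϖ, u, n' + 1, r, hϖ, hrel, hu, hgood⟩
  right
  obtain ⟨b, r', hr⟩ := exists_residue_pow hπB r hgood
  have hπBmem : πB ∈ maximalIdeal B := by
    rw [hπB]; exact Ideal.mem_span_singleton_self πB
  have hϖmem : ϖ ∈ maximalIdeal C := by
    rw [hϖ]; exact Ideal.mem_span_singleton_self ϖ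
  have hπCmem : algebraMap B C πB ∈ maximalIdeal C := by
    rw [← hrel]
    exact Ideal.mul_mem_left _ _ (Ideal.pow_mem_of_mem _ hϖmem p hp.out.pos)
  obtain ⟨j, i, hji⟩ : ∃ j i : ℕ, p * j + i = n' + 1 :=
    ⟨(n' + 1) / p, (n' + 1) % p, Nat.div_add_mod _ _⟩
  obtain ⟨S, hSdef⟩ : ∃ S : C, S = algebraMap B C b * (algebraMap B C πB) ^ j *
      (algebraMap B C (u : B) * ϖ) ^ i := ⟨_, rfl⟩
  have hS : S ∈ maximalIdeal C := by
    rw [hSdef]
    rcases Nat.eq_zero_or_pos i with hi | hi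
    · have hj : 0 < j := by
        rcases Nat.eq_zero_or_pos j with hj | hj
        · rw [hi, hj] at hji; omega
        · exact hj
      exact Ideal.mul_mem_right _ _ (Ideal.mul_mem_left _ _ (Ideal.pow_mem_of_mem _ hπCmem j hj))
    · exact Ideal.mul_mem_left _ _
        (Ideal.pow_mem_of_mem _ (Ideal.mul_mem_left _ _ hϖmem) i hi)
  have hw : IsUnit (1 - S) :=
    isUnit_one_sub_self_of_mem_nonunits S ((mem_maximalIdeal S).mp hS)
  obtain ⟨w, hw'⟩ := hw
  have hwinv : (1 - S) * ((w⁻¹ : Cˣ) : C) = 1 := by rw [← hw']; exact w.mul_inv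
  obtain ⟨q, hq⟩ : ∃ q, p = q + 1 := ⟨p - 1, by have := hp.out.pos; omega⟩
  have hA : (algebraMap B C (u : B) * ϖ) ^ p =
      algebraMap B C (u : B) ^ q * algebraMap B C πB := by
    have h1 : algebraMap B C (u : B) ^ p = algebraMap B C (u : B) ^ q * algebraMap B C (u : B) := by
      rw [hq, pow_succ]
    rw [← hrel, mul_pow, h1]
    ring
  have hSp : S ^ p = algebraMap B C (b ^ p * (u : B) ^ (q * i) * πB ^ (n' + 1)) := by
    rw [hSdef, mul_pow, mul_pow, ← pow_mul, ← pow_mul, mul_comm i p, pow_mul _ p i, hA, ← hji,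
      map_mul, map_mul, map_pow, map_pow, map_pow]
    ring
  obtain ⟨X, hX⟩ : ∃ X : B, X = b ^ p * (u : B) ^ (q * i) * πB ^ (n' + 1) := ⟨_, rfl⟩
  have hXmem : X ∈ maximalIdeal B := by
    rw [hX]
    exact Ideal.mul_mem_left _ _ (Ideal.pow_mem_of_mem _ hπBmem _ (Nat.succ_pos _))
  have hun : IsUnit (1 - X) :=
    isUnit_one_sub_self_of_mem_nonunits X ((mem_maximalIdeal X).mp hXmem)
  obtain ⟨t, ht⟩ := hun
  have h1S : (1 - S) ^ p = algebraMap B C (1 - X) := by
    rw [sub_pow_char, one_pow, hSp, map_sub, map_one, hX]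
  refine ⟨ϖ * ((w⁻¹ : Cˣ) : C), u * t,
    r' - πB ^ n' * b ^ p * r * ∑ l ∈ Finset.range (q * i + 1), (u : B) ^ l, ?_, ?_, ?_⟩
  · rw [hϖ, Ideal.span_singleton_mul_right_unit (Units.isUnit _)]
  · calc algebraMap B C ((u * t : Bˣ) : B) * (ϖ * ((w⁻¹ : Cˣ) : C)) ^ p
        = (algebraMap B C (u : B) * ϖ ^ p) * ((1 - S) * ((w⁻¹ : Cˣ) : C)) ^ p := by
          rw [Units.val_mul, ht, map_mul, mul_pow, mul_pow, h1S]
          ring
      _ = algebraMap B C πB := by rw [hrel, hwinv, one_pow, mul_one]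
  · rw [Units.val_mul, ht, hX]
    exact key_identity p (u : B) r b r' πB _ n' (q * i) hu hr (geom_sum_mul (u : B) _)

theorem stage_all {p : ℕ} [Fact p.Prime] [CharP B p] [CharP C p] {πB : B}
    (hπB : maximalIdeal B = Ideal.span {πB}) (h0 : Stage C p πB 0) :
    Good C p πB ∨ ∀ n, Stage C p πB n := by
  by_cases hg : Good C p πB
  · exact Or.inl hg
  right
  intro n
  induction n with
  | zero => exact h0
  | succ n ih =>
    rcases n with _ | n'
    · exact (stage_zero hπB ih).resolve_left hg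
    · exact (stage_succ hπB n' ih).resolve_left hg

end Induction

end Groth.Agent.H8.PI
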