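import Mathlib
import Groth.Prelude.Def_EtRam
import Groth.Agent.Lib.Helper8.Japanese.NormFin3
import Groth.Agent.Lib.Helper8.ASK.PIa
import Groth.Agent.Lib.Helper8.ASK.PIb

set_option autoImplicit false
universe u

namespace Groth.Agent.H8.PI

open IsLocalRing Polynomial

theorem krull_mem {R : Type*} [CommRing R] [IsNoetherianRing R] [IsLocalRing R] {N : Type*}
    [AddCommGroup N] [Module R N] [Module.Finite R N] (S : Submodule R N) (π : R)
    (hπ : π ∈ maximalIdeal R) (y : N) (h : ∀ j : ℕ, ∃ s ∈ S, ∃ e : N, y = s + π ^ j • e) :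
    y ∈ S := by
  have hbot := Ideal.iInf_pow_smul_eq_bot_of_isLocalRing (M := N ⧸ S) (maximalIdeal R)
    (Ideal.IsPrime.ne_top inferInstance)
  have hy : S.mkQ y ∈ (⨅ i : ℕ, (maximalIdeal R) ^ i • (⊤ : Submodule R (N ⧸ S))) := by
    rw [Submodule.mem_iInf]
    intro j
    obtain ⟨s, hs, e, he⟩ := h j
    have h1 : S.mkQ y = π ^ j • S.mkQ e := by
      rw [he, map_add, map_smul, Submodule.mkQ_apply, (Submodule.Quotient.mk_eq_zero S).mpr hs,
        zero_add]
    rw [h1]
    exact Submodule.smul_mem_smul (Ideal.pow_mem_pow hπ j) Submodule.mem_top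
  rw [hbot, Submodule.mem_bot, Submodule.mkQ_apply, Submodule.Quotient.mk_eq_zero] at hy
  exact hy

section Nagata

variable {B C L : Type u} [CommRing B] [IsDomain B] [IsDiscreteValuationRing B]
  [CommRing C] [IsDomain C] [IsDiscreteValuationRing C] [Algebra B C]
  [Field L] [Algebra B L] [IsFractionRing B L]

theorem mem_range_of_stages {p : ℕ} [hp : Fact p.Prime] (hB : CAlg.IsNagata B) {πB : B}
    (hπB : maximalIdeal B = Ideal.span {πB}) (hst : ∀ n, Stage C p πB n)
    {M' : Type u} [Field M'] [CharP M' p] [Algebra L M'] [Algebra B M'] [Algebra C M']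
    [IsScalarTower B L M'] [IsScalarTower B C M'] [FiniteDimensional L M']
    (y : M') (hy : y ^ p = algebraMap B M' πB) : ∃ c : C, algebraMap C M' c = y := by
  classical
  haveI : Module.Finite B (integralClosure B M') :=
    Groth.Agent.H8.Jap.NormFin.finite_integralClosure_field B hB L M' (fun z => by
      obtain ⟨a, s, hs, rfl⟩ := IsFractionRing.div_surjective (A := B) z
      have hs0 : algebraMap B L s ≠ 0 := IsFractionRing.to_map_ne_zero_of_mem_nonZeroDivisors hs
      exact ⟨a, s, hs0, div_mul_cancel₀ _ hs0⟩)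
  have hinjBM' : Function.Injective (algebraMap B M') := ASK.algebraMap_inj B L M'
  have hπ0 : algebraMap B M' πB ≠ 0 := ASK.algL_pi_ne_zero hπB hinjBM'
  have hπBmem : πB ∈ maximalIdeal B := by rw [hπB]; exact Ideal.mem_span_singleton_self πB
  have hint_of_pow : ∀ (x : M') (b : B), x ^ p = algebraMap B M' b → IsIntegral B x := by
    intro x b hx
    refine ⟨X ^ p - Polynomial.C b, monic_X_pow_sub_C b hp.out.ne_zero, ?_⟩
    rw [eval₂_sub, eval₂_pow, eval₂_X, eval₂_C, hx, sub_self]
  have hyint : IsIntegral B y := hint_of_pow y πB hy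
  let S : Submodule B (integralClosure B M') :=
    { carrier := {x | ∃ c : C, algebraMap C M' c = (x : M')}
      add_mem' := by
        rintro a b ⟨c, hc⟩ ⟨d, hd⟩
        exact ⟨c + d, by rw [map_add, hc, hd]; rfl⟩
      zero_mem' := ⟨0, by rw [map_zero]; rfl⟩
      smul_mem' := by
        rintro b x ⟨c, hc⟩
        refine ⟨algebraMap B C b * c, ?_⟩
        rw [map_mul, hc, ← IsScalarTower.algebraMap_apply B C M']
        show _ = ((b • x : integralClosure B M') : M')
        rw [Subalgebra.coe_smul, Algebra.smul_def] }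
  have hmem : (⟨y, hyint⟩ : integralClosure B M') ∈ S := by
    apply krull_mem S πB hπBmem
    intro j
    obtain ⟨ϖ, u, r, -, hrel, hu⟩ := hst (p * j)
    have hrelM : algebraMap B M' (u : B) * (algebraMap C M' ϖ) ^ p = algebraMap B M' πB := by
      rw [IsScalarTower.algebraMap_apply B C M', IsScalarTower.algebraMap_apply B C M' πB,
        ← hrel, map_mul, map_pow]
    have hϖ0 : algebraMap C M' ϖ ≠ 0 := by
      intro h
      rw [h, zero_pow hp.out.ne_zero, mul_zero] at hrelM
      exact hπ0 hrelM.symm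
    have hϖint : IsIntegral B (algebraMap C M' ϖ) := by
      apply hint_of_pow _ (((u⁻¹ : Bˣ) : B) * πB)
      rw [map_mul, ← hrelM, ← mul_assoc, ← map_mul, Units.inv_mul, map_one, one_mul]
    obtain ⟨d, hd⟩ : ∃ d : M',
        d = (y / algebraMap C M' ϖ - 1) / (algebraMap B M' πB) ^ j := ⟨_, rfl⟩
    have hdp : d ^ p = algebraMap B M' r := by
      have h1 : (y / algebraMap C M' ϖ) ^ p = algebraMap B M' (u : B) := by
        rw [div_pow, hy, ← hrelM, mul_div_assoc, div_self (pow_ne_zero _ hϖ0), mul_one]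
      rw [hd, div_pow, sub_pow_char, one_pow, h1, hu, map_add, map_one, map_mul, map_pow,
        ← pow_mul, mul_comm j p, add_sub_cancel_left, mul_div_assoc,
        div_self (pow_ne_zero _ hπ0), mul_one]
    have hdint : IsIntegral B d := hint_of_pow d r hdp
    obtain ⟨e, he⟩ : ∃ e : integralClosure B M', (e : M') = d * algebraMap C M' ϖ :=
      ⟨⟨d * algebraMap C M' ϖ, hdint.mul hϖint⟩, rfl⟩
    refine ⟨⟨algebraMap C M' ϖ, hϖint⟩, ⟨ϖ, rfl⟩, e, ?_⟩
    apply Subtype.ext
    show y = algebraMap C M' ϖ + ((πB ^ j • e : integralClosure B M') : M')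
    rw [Subalgebra.coe_smul, Algebra.smul_def, map_pow, he, hd]
    field_simp
    ring
  obtain ⟨c, hc⟩ := hmem
  exact ⟨c, hc⟩

end Nagata

section Root

variable {B C L M : Type u} [CommRing B] [IsDomain B] [IsDiscreteValuationRing B]
  [CommRing C] [IsDomain C] [IsDiscreteValuationRing C] [Algebra B C]
  [Field L] [Field M] [Algebra B L] [IsFractionRing B L] [Algebra C M] [IsFractionRing C M]
  [Algebra L M] [Algebra B M] [IsScalarTower B L M] [IsScalarTower B C M]

theorem exists_root {p : ℕ} (hp : p.Prime) [CharP M p] [FiniteDimensional L M]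
    (hB : CAlg.IsNagata B) {πB : B}
    (hπB : maximalIdeal B = Ideal.span {πB}) [IsLocalHom (algebraMap B C)]
    (hst : ∀ n, Stage C p πB n) : ∃ c : C, c ^ p = algebraMap B C πB := by
  haveI : Fact p.Prime := ⟨hp⟩
  have hinjCM : Function.Injective (algebraMap C M) := IsFractionRing.injective C M
  by_cases hroot : ∃ m : M, m ^ p = algebraMap B M πB
  · obtain ⟨m, hm⟩ := hroot
    obtain ⟨ϖ, -, -, hϖ, -, -⟩ := hst 0
    obtain ⟨V, hV⟩ := exists_dominates_C (C := C) (M := M)
    have hVB : EtRam.Dominates B (algebraMap B M) V := dominates_of_tower hV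
    have hle : V.valuation m ≤ 1 := by
      by_contra h
      have h1 : 1 < V.valuation m := not_le.mp h
      have h2 : 1 < V.valuation m ^ p := one_lt_pow₀ h1 hp.ne_zero
      rw [← map_pow, hm] at h2
      exact absurd (ASK.val_pi_lt_one hπB hVB) (not_lt.mpr h2.le)
    obtain ⟨c, hc⟩ := exists_of_val_le_one hϖ hV m hle
    refine ⟨c, hinjCM ?_⟩
    rw [map_pow, hc, hm, ← IsScalarTower.algebraMap_apply]
  · exfalso
    have hno : ∀ m : M, m ^ p ≠ algebraMap B M πB := fun m hm => hroot ⟨m, hm⟩
    obtain ⟨f, hf⟩ : ∃ f : M[X], f = X ^ p - Polynomial.C (algebraMap B M πB) := ⟨_, rfl⟩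
    have hirr : Irreducible f := by
      rw [hf]; exact X_pow_sub_C_irreducible_of_prime hp hno
    have hmonic : f.Monic := by
      rw [hf]; exact monic_X_pow_sub_C _ hp.ne_zero
    haveI := Fact.mk hirr
    haveI : Module.Finite M (AdjoinRoot f) := hmonic.finite_adjoinRoot
    haveI : FiniteDimensional L (AdjoinRoot f) := Module.Finite.trans M _
    haveI : CharP (AdjoinRoot f) p :=
      charP_of_injective_algebraMap (algebraMap M (AdjoinRoot f)).injective p
    have hy : (AdjoinRoot.root f) ^ p = algebraMap B (AdjoinRoot f) πB := by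
      have h : eval₂ (AdjoinRoot.of f) (AdjoinRoot.root f)
          (X ^ p - Polynomial.C (algebraMap B M πB)) = 0 := by
        rw [← hf]; exact AdjoinRoot.eval₂_root f
      rw [eval₂_sub, eval₂_pow, eval₂_X, eval₂_C, sub_eq_zero] at h
      rw [h, IsScalarTower.algebraMap_apply B M (AdjoinRoot f)]
      rfl
    obtain ⟨c, hc⟩ := mem_range_of_stages (L := L) hB hπB hst _ hy
    apply hno (algebraMap C M c)
    apply (algebraMap M (AdjoinRoot f)).injective
    rw [map_pow, ← IsScalarTower.algebraMap_apply C M, hc, hy,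
      ← IsScalarTower.algebraMap_apply B M]

end Root

end Groth.Agent.H8.PI
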