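import Mathlib
import Groth.Prelude.Def_EtRam
import Groth.Agent.Lib.Helper8.ASK.FI
import Groth.Agent.Lib.Helper8.ASK.TotRamSol
import Groth.Agent.Lib.Helper8.ASK.Compositum
import Groth.Agent.Lib.Helper8.TotRam.Eis
import Groth.Agent.Lib.Helper8.ASK.PIa
import Groth.Agent.Lib.Helper8.ASK.PIb
import Groth.Agent.Lib.Helper8.ASK.PIc

set_option autoImplicit false
universe u

namespace Groth.Agent.H8.PI

open IsLocalRing Polynomial

section FICore

variable {A K L : Type u} [CommRing A] [IsDomain A] [IsDiscreteValuationRing A] [Field K]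
  [Algebra A K] [IsFractionRing A K] [Field L] [Algebra K L] [Algebra A L] [IsScalarTower A K L]

/-- Hypotheses of the fiercely ramified case, without a polynomial relation. -/
structure FICore (π : A) (p : ℕ) (T : L) (α : A) (V : ValuationSubring L) : Prop where
  hπ : maximalIdeal A = Ideal.span {π}
  hp : p.Prime
  hV : EtRam.Dominates A (algebraMap A L) V
  hα : ∀ r : A, IsLocalRing.residue A α ≠ IsLocalRing.residue A r ^ p
  hT : V.valuation (T ^ p - algebraMap A L α) < 1

variable {π : A} {p : ℕ} {T : L} {α : A} {V : ValuationSubring L}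

namespace FICore

theorem isUnit_α (D : FICore π p T α V) : IsUnit α := by
  by_contra h
  have hmem : α ∈ maximalIdeal A := (mem_maximalIdeal α).mpr (mem_nonunits_iff.mpr h)
  apply D.hα 0
  rw [(residue_eq_zero_iff α).mpr hmem, map_zero, zero_pow D.hp.ne_zero]

theorem hα' (D : FICore π p T α V) :
    ∀ b : ResidueField A, b ^ p ≠ IsLocalRing.residue A α := by
  intro b hb
  obtain ⟨r, rfl⟩ := residue_surjective b
  exact D.hα r hb.symm

theorem val_T (D : FICore π p T α V) : V.valuation T = 1 := by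
  have h1 : V.valuation (algebraMap A L α) = 1 := by
    have := ASK.val_unit D.hV D.isUnit_α.unit
    rwa [IsUnit.unit_spec] at this
  have h2 : V.valuation (T ^ p) = 1 := by
    have h3 : T ^ p = algebraMap A L α + (T ^ p - algebraMap A L α) := by ring
    rw [h3, Valuation.map_add_eq_of_lt_left _ (by rw [h1]; exact D.hT), h1]
  rw [map_pow] at h2
  exact (pow_left_inj₀ zero_le' zero_le' D.hp.ne_zero).mp (h2.trans (one_pow p).symm)

theorem T_mem (D : FICore π p T α V) : T ∈ V :=
  (V.valuation_le_one_iff _).mp D.val_T.le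

theorem residue_T_pow (D : FICore π p T α V) :
    letI : Algebra A V := (RingHom.codRestrict (algebraMap A L) V D.hV.1).toAlgebra
    ∀ [IsLocalHom (algebraMap A V)],
      (IsLocalRing.residue V ⟨T, D.T_mem⟩) ^ p =
        algebraMap (ResidueField A) (ResidueField V) (IsLocalRing.residue A α) := by
  letI : Algebra A V := (RingHom.codRestrict (algebraMap A L) V D.hV.1).toAlgebra
  intro _
  rw [ResidueField.algebraMap_residue, ← map_pow, ← sub_eq_zero, ← map_sub,
    residue_eq_zero_iff, ValuationSubring.valuation_lt_one_iff]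
  exact D.hT

theorem val_sum_eq_one (D : FICore π p T α V)
    (β : ℕ → A) (hβ : ∃ i ∈ Finset.range p, β i ∉ maximalIdeal A) :
    V.valuation (∑ i ∈ Finset.range p, algebraMap A L (β i) * T ^ i) = 1 := by
  have hV := D.hV
  have hy1 := D.val_T
  have hle : V.valuation (∑ i ∈ Finset.range p, algebraMap A L (β i) * T ^ i) ≤ 1 := by
    apply Valuation.map_sum_le
    intro i _
    rw [map_mul, map_pow, hy1, one_pow, mul_one]
    exact ASK.val_alg_le_one hV _
  rcases lt_or_eq_of_le hle with hlt | heq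
  swap
  · exact heq
  exfalso
  letI : Algebra A V := (RingHom.codRestrict (algebraMap A L) V hV.1).toAlgebra
  haveI : IsLocalHom (algebraMap A V) := ASK.isLocalHom_of_dominates hV
  have hyp := D.residue_T_pow
  have hcoe : ((∑ i ∈ Finset.range p, algebraMap A V (β i) *
      (⟨T, D.T_mem⟩ : V) ^ i : V) : L) =
      ∑ i ∈ Finset.range p, algebraMap A L (β i) * T ^ i := by
    show V.subtype _ = _
    rw [map_sum]
    refine Finset.sum_congr rfl (fun i _ => ?_)
    rw [map_mul, map_pow]
    rfl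
  have hmem : (∑ i ∈ Finset.range p, algebraMap A V (β i) *
      (⟨T, D.T_mem⟩ : V) ^ i : V) ∈ maximalIdeal V := by
    rw [ValuationSubring.valuation_lt_one_iff, hcoe]
    exact hlt
  have hres := (residue_eq_zero_iff _).mpr hmem
  rw [map_sum] at hres
  have hres' : ∑ i ∈ Finset.range p,
      algebraMap (ResidueField A) (ResidueField V) (IsLocalRing.residue A (β i)) *
        (IsLocalRing.residue V ⟨T, D.T_mem⟩) ^ i = 0 := by
    rw [← hres]
    refine Finset.sum_congr rfl (fun i _ => ?_)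
    rw [map_mul, map_pow, ResidueField.algebraMap_residue]
  have h0 := ASK.indep_of_pow_eq D.hp (IsLocalRing.residue A α) D.hα'
    (IsLocalRing.residue V ⟨T, D.T_mem⟩) hyp
    (fun i => IsLocalRing.residue A (β i)) hres'
  obtain ⟨i, hi, hβi⟩ := hβ
  exact hβi ((residue_eq_zero_iff _).mp (h0 i hi))

theorem val_coeff_le (D : FICore π p T α V)
    (c : ℕ → K) : ∀ i ∈ Finset.range p, V.valuation (algebraMap K L (c i)) ≤
      V.valuation (∑ i ∈ Finset.range p, algebraMap K L (c i) * T ^ i) := by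
  classical
  have hV := D.hV
  obtain ⟨j, hj, hmax⟩ := Finset.exists_max_image (Finset.range p)
    (fun i => V.valuation (algebraMap K L (c i))) ⟨0, Finset.mem_range.mpr D.hp.pos⟩
  have hmax' : ∀ i ∈ Finset.range p, V.valuation (algebraMap K L (c i)) ≤
      V.valuation (algebraMap K L (c j)) := hmax
  by_cases hcj : c j = 0
  · intro i hi
    have := hmax' i hi
    rw [hcj, map_zero, map_zero] at this
    exact this.trans zero_le'
  have hιcj : algebraMap K L (c j) ≠ 0 := (_root_.map_ne_zero _).mpr hcj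
  have hwcj : 0 < V.valuation (algebraMap K L (c j)) := by
    rw [zero_lt_iff, Valuation.ne_zero_iff]
    exact hιcj
  obtain ⟨b, hbdef⟩ : ∃ b : ℕ → K, b = fun i => if i < p then c i / c j else 0 := ⟨_, rfl⟩
  have hb : ∀ i, V.valuation (algebraMap K L (b i)) ≤ 1 := by
    intro i
    by_cases hi : i < p
    · rw [hbdef]
      simp only [if_pos hi]
      rw [map_div₀, map_div₀, div_le_one₀ hwcj]
      exact hmax' i (Finset.mem_range.mpr hi)
    · rw [hbdef]
      simp only [if_neg hi]
      rw [map_zero, map_zero]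
      exact zero_le'
  choose β hβ using fun i => ASK.mem_of_val_le_one D.hπ hV (b i) (hb i)
  have hβj : β j ∉ maximalIdeal A := by
    have h1 : algebraMap A K (β j) = 1 := by
      rw [hβ j, hbdef]
      simp only [if_pos (Finset.mem_range.mp hj)]
      exact div_self hcj
    have h2 : β j = 1 := IsFractionRing.injective A K (h1.trans (map_one _).symm)
    rw [h2]
    exact fun h => (mem_nonunits_iff.mp ((mem_maximalIdeal _).mp h)) isUnit_one
  have h1 := D.val_sum_eq_one β ⟨j, hj, hβj⟩
  have hfac : ∑ i ∈ Finset.range p, algebraMap K L (c i) * T ^ i =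
      algebraMap K L (c j) *
        ∑ i ∈ Finset.range p, algebraMap A L (β i) * T ^ i := by
    rw [Finset.mul_sum]
    refine Finset.sum_congr rfl (fun i hi => ?_)
    have h2 : c j * b i = c i := by
      rw [hbdef]
      simp only [if_pos (Finset.mem_range.mp hi)]
      field_simp
    rw [IsScalarTower.algebraMap_apply A K L (β i), hβ i, ← mul_assoc, ← map_mul, h2]
  intro i hi
  rw [hfac, map_mul, h1, mul_one]
  exact hmax' i hi

end FICore

end FICore

section Case3

variable {A C K M K₁ : Type u} [CommRing A] [IsDomain A] [IsDiscreteValuationRing A]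
  [CommRing C] [IsDomain C] [IsDiscreteValuationRing C] [Algebra A C]
  [Field K] [Field M] [Field K₁] [Algebra A K] [IsFractionRing A K] [Algebra C M]
  [IsFractionRing C M] [Algebra K M] [Algebra A M] [IsScalarTower A K M] [IsScalarTower A C M]
  [Algebra K K₁] [Algebra A K₁] [IsScalarTower A K K₁]

theorem case3_core {p : ℕ} (hp : p.Prime) [CharP M p] {π : A}
    {ϖ : C} (hϖ : maximalIdeal C = Ideal.span {ϖ}) {u a : C} {k N' : ℕ} (hu1 : IsUnit u)
    (hrel : u * ϖ ^ p = algebraMap A C π) (hu : u = 1 + a * (algebraMap A C π) ^ k)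
    (ha : ∀ r : C, IsLocalRing.residue C a ≠ IsLocalRing.residue C r ^ p)
    {π₁ b : K₁} (hb : IsIntegral A b)
    (hπ₁ : π₁ ^ p = algebraMap A K₁ π + algebraMap A K₁ π ^ (k + 2 + N') * b)
    (hspan : ∀ x : K₁, ∃ c : Fin p → K, x = ∑ i, c i • π₁ ^ (i : ℕ))
    (M' : Type u) [Field M'] [Algebra K M'] [Algebra M M'] [Algebra K₁ M']
    [IsScalarTower K M M'] [IsScalarTower K K₁ M']
    (hgen : Algebra.adjoin M (Set.range (algebraMap K₁ M')) = ⊤)
    (W : ValuationSubring M')
    (hW : EtRam.Dominates C ((algebraMap M M').comp (algebraMap C M)) W) :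
    W.valuation (algebraMap K₁ M' π₁) < 1 ∧
    (∀ y : M', W.valuation y < 1 → W.valuation y ≤ W.valuation (algebraMap K₁ M' π₁)) ∧
    ∃ s : Fin p → M', LinearIndependent M s := by
  classical
  letI algCM' : Algebra C M' := ((algebraMap M M').comp (algebraMap C M)).toAlgebra
  haveI : IsScalarTower C M M' := IsScalarTower.of_algebraMap_eq (fun _ => rfl)
  have hW' : EtRam.Dominates C (algebraMap C M') W := hW
  haveI : CharP M' p := charP_of_injective_algebraMap (algebraMap M M').injective p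
  haveI : Fact p.Prime := ⟨hp⟩
  have hinjCM' : Function.Injective (algebraMap C M') := ASK.algebraMap_inj C M M'
  have hcompat : ∀ x : A,
      algebraMap K₁ M' (algebraMap A K₁ x) = algebraMap C M' (algebraMap A C x) := by
    intro x
    show _ = algebraMap M M' (algebraMap C M (algebraMap A C x))
    rw [← IsScalarTower.algebraMap_apply A C M, IsScalarTower.algebraMap_apply A K M,
      ← IsScalarTower.algebraMap_apply K M M', IsScalarTower.algebraMap_apply A K K₁,
      ← IsScalarTower.algebraMap_apply K K₁ M']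
  obtain ⟨πm, hπm⟩ : ∃ πm : M', πm = algebraMap C M' (algebraMap A C π) := ⟨_, rfl⟩
  obtain ⟨ϖm, hϖm⟩ : ∃ ϖm : M', ϖm = algebraMap C M' ϖ := ⟨_, rfl⟩
  obtain ⟨um, hum⟩ : ∃ um : M', um = algebraMap C M' u := ⟨_, rfl⟩
  obtain ⟨am, ham⟩ : ∃ am : M', am = algebraMap C M' a := ⟨_, rfl⟩
  obtain ⟨p1, hp1⟩ : ∃ p1 : M', p1 = algebraMap K₁ M' π₁ := ⟨_, rfl⟩
  obtain ⟨bm, hbm⟩ : ∃ bm : M', bm = algebraMap K₁ M' b := ⟨_, rfl⟩
  have hrelm : um * ϖm ^ p = πm := by rw [hum, hϖm, hπm, ← hrel, map_mul, map_pow]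
  have hum' : um = 1 + am * πm ^ k := by
    have := congrArg (algebraMap C M') hu
    rw [map_add, map_one, map_mul, map_pow] at this
    rw [hum, ham, hπm]; exact this
  have hp1' : p1 ^ p = πm + πm ^ (k + 2 + N') * bm := by
    have := congrArg (algebraMap K₁ M') hπ₁
    rw [map_pow, map_add, map_mul, map_pow, hcompat] at this
    rw [hp1, hbm, hπm]; exact this
  have hvu : W.valuation um = 1 := by
    have := ASK.val_unit hW' hu1.unit
    rw [IsUnit.unit_spec] at this
    rw [hum]; exact this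
  have hϖm0 : ϖm ≠ 0 := by rw [hϖm]; exact ASK.algL_pi_ne_zero hϖ hinjCM'
  have hvϖpos : 0 < W.valuation ϖm := by rw [hϖm]; exact ASK.val_pi_pos hϖ hinjCM'
  have hvϖlt : W.valuation ϖm < 1 := by rw [hϖm]; exact ASK.val_pi_lt_one hϖ hW'
  have hvπ : W.valuation πm = W.valuation ϖm ^ p := by
    rw [← hrelm, map_mul, map_pow, hvu, one_mul]
  have hvπpos : 0 < W.valuation πm := by rw [hvπ]; exact pow_pos hvϖpos p
  have hvπlt : W.valuation πm < 1 := by
    rw [hvπ]; exact pow_lt_one₀ zero_le' hvϖlt hp.ne_zero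
  have hvb : W.valuation bm ≤ 1 := by
    rw [W.valuation_le_one_iff]
    obtain ⟨f, hf, hf0⟩ := hb
    refine TotRam.mem_of_integral_hom W ((algebraMap K₁ M').comp (algebraMap A K₁))
      (fun x => ?_) bm f hf ?_
    · rw [RingHom.comp_apply, hcompat]; exact hW'.1 _
    · rw [hbm, ← Polynomial.hom_eval₂, hf0, map_zero]
  have hvp1 : W.valuation p1 = W.valuation ϖm := by
    have h1 : W.valuation p1 ^ p = W.valuation πm :=
      val_pow_eq W.valuation (by omega) hp1' hvπpos hvπlt hvb
    rw [hvπ] at h1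
    exact (pow_left_inj₀ zero_le' zero_le' hp.ne_zero).mp h1
  obtain ⟨T, hT⟩ : ∃ T : M', T = (p1 / ϖm - 1) / ϖm ^ k := ⟨_, rfl⟩
  have hX : (p1 / ϖm) ^ p = um * (1 + πm ^ (k + 1 + N') * bm) := by
    rw [div_pow, div_eq_iff (pow_ne_zero _ hϖm0), hp1']
    have h2 : πm ^ (k + 2 + N') = πm ^ (k + 1 + N') * πm := by
      rw [← pow_succ]; congr 1; omega
    rw [h2]
    linear_combination (-(1 + πm ^ (k + 1 + N') * bm)) * hrelm
  have hrelk : um ^ k * (ϖm ^ k) ^ p = πm ^ k := by
    rw [← hrelm, mul_pow, ← pow_mul, ← pow_mul, mul_comm k p]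
  have hTp : T ^ p - (am * um ^ k) = um ^ (k + 1) * πm ^ (N' + 1) * bm := by
    have hne : (ϖm ^ k) ^ p ≠ 0 := pow_ne_zero _ (pow_ne_zero _ hϖm0)
    have h1 : T ^ p = ((p1 / ϖm) ^ p - 1) / (ϖm ^ k) ^ p := by
      rw [hT, div_pow, sub_pow_char, one_pow]
    have h2 : πm ^ (k + 1 + N') = πm ^ k * πm ^ (N' + 1) := by
      rw [← pow_add]; congr 1; omega
    rw [h1, hX, sub_eq_iff_eq_add, div_eq_iff hne, h2]
    linear_combination hum' - (um * πm ^ (N' + 1) * bm + am) * hrelk
  have hres : IsLocalRing.residue C (a * u ^ k) = IsLocalRing.residue C a := by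
    rcases Nat.eq_zero_or_pos k with hk | hk
    · rw [hk, pow_zero, mul_one]
    · have hπCmem : algebraMap A C π ∈ maximalIdeal C := by
        rw [← hrel]
        exact Ideal.mul_mem_left _ _ (Ideal.pow_mem_of_mem _
          (by rw [hϖ]; exact Ideal.mem_span_singleton_self ϖ) p hp.pos)
      have hu1' : IsLocalRing.residue C u = 1 := by
        rw [hu, map_add, map_one, map_mul, map_pow, (residue_eq_zero_iff _).mpr hπCmem,
          zero_pow hk.ne', mul_zero, add_zero]
      rw [map_mul, map_pow, hu1', one_pow, mul_one]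
  have D : FICore (A := C) (L := M') ϖ p T (a * u ^ k) W := by
    refine ⟨hϖ, hp, hW', fun r => by rw [hres]; exact ha r, ?_⟩
    rw [map_mul, map_pow, ← ham, ← hum, hTp, map_mul, map_mul, map_pow, map_pow, hvu, one_pow,
      one_mul]
    calc W.valuation πm ^ (N' + 1) * W.valuation bm
        ≤ W.valuation πm ^ (N' + 1) * 1 := mul_le_mul' le_rfl hvb
      _ = W.valuation πm ^ (N' + 1) := mul_one _
      _ < 1 := pow_lt_one₀ zero_le' hvπlt (Nat.succ_ne_zero _)
  have hT1 := D.val_T
  have hconv : ∀ g : Fin p → M, ∑ i, g i • T ^ (i : ℕ) =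
      ∑ l ∈ Finset.range p,
        algebraMap M M' (if h : l < p then g ⟨l, h⟩ else 0) * T ^ l := by
    intro g
    rw [← Fin.sum_univ_eq_sum_range
      (fun l => algebraMap M M' (if h : l < p then g ⟨l, h⟩ else 0) * T ^ l) p]
    refine Finset.sum_congr rfl (fun i _ => ?_)
    show g i • T ^ (i : ℕ) =
      algebraMap M M' (if h : (i : ℕ) < p then g ⟨i, h⟩ else 0) * T ^ (i : ℕ)
    rw [dif_pos i.2, Algebra.smul_def]
  have hcoeff : ∀ (g : Fin p → M) (i : Fin p), W.valuation (algebraMap M M' (g i)) ≤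
      W.valuation (∑ i, g i • T ^ (i : ℕ)) := by
    intro g i
    rw [hconv g]
    have := D.val_coeff_le (fun l => if h : l < p then g ⟨l, h⟩ else 0) i.1
      (Finset.mem_range.mpr i.2)
    simp only [dif_pos i.2] at this
    exact this
  have hli : LinearIndependent M (fun i : Fin p => T ^ (i : ℕ)) := by
    rw [Fintype.linearIndependent_iff]
    intro g hg i
    have hg' : ∑ i, g i • T ^ (i : ℕ) = 0 := hg
    have h1 := hcoeff g i
    rw [hg', map_zero] at h1
    have h2 : algebraMap M M' (g i) = 0 := (Valuation.zero_iff _).mp (le_antisymm h1 zero_le')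
    exact (map_eq_zero (algebraMap M M')).mp h2
  have hspanM' : ∀ y : M', ∃ c : Fin p → M,
      y = ∑ i, c i • (algebraMap K₁ M' π₁) ^ (i : ℕ) :=
    fun y => RI.span_pow_eq_top hgen hspan y
  have hS : Submodule.span M
      (Set.range fun i : Fin p => (algebraMap K₁ M' π₁) ^ (i : ℕ)) = ⊤ := by
    rw [eq_top_iff]
    intro y _
    obtain ⟨c, rfl⟩ := hspanM' y
    exact Submodule.sum_mem _
      (fun i _ => Submodule.smul_mem _ _ (Submodule.subset_span ⟨i, rfl⟩))
  haveI : Module.Finite M M' := by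
    rw [Module.finite_def, ← hS]
    exact Submodule.fg_span (Set.finite_range _)
  have hfr : Module.finrank M M' = p := by
    have h1 : Module.finrank M M' ≤ p := RI.finrank_le_of_span hspanM'
    have h2 := hli.fintype_card_le_finrank
    rw [Fintype.card_fin] at h2
    omega
  have htop : Submodule.span M (Set.range fun i : Fin p => T ^ (i : ℕ)) = ⊤ :=
    hli.span_eq_top_of_card_eq_finrank' (by rw [Fintype.card_fin, hfr])
  refine ⟨by rw [← hp1, hvp1]; exact hvϖlt, fun y hy => ?_, ⟨_, hli⟩⟩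
  have hyS : y ∈ Submodule.span M (Set.range fun i : Fin p => T ^ (i : ℕ)) := by
    rw [htop]; trivial
  obtain ⟨g, hg⟩ := (Submodule.mem_span_range_iff_exists_fun M).mp hyS
  have hg' : ∑ i, g i • T ^ (i : ℕ) = y := hg
  rw [← hp1, hvp1, ← hg']
  apply Valuation.map_sum_le
  intro i _
  have h1 : W.valuation (algebraMap M M' (g i)) < 1 :=
    lt_of_le_of_lt (hcoeff g i) (by rw [hg']; exact hy)
  obtain ⟨c', hc'⟩ := ASK.mem_pi_of_val_lt_one (A := C) (K := M) (L := M') hϖ hW' (g i) h1
  rw [Algebra.smul_def, map_mul, map_pow, hT1, one_pow, mul_one, ← hc',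
    ← IsScalarTower.algebraMap_apply C M M', map_mul, map_mul, ← hϖm]
  calc W.valuation ϖm * W.valuation (algebraMap C M' c')
      ≤ W.valuation ϖm * 1 := mul_le_mul' le_rfl (ASK.val_alg_le_one hW' c')
    _ = W.valuation ϖm := mul_one _

open TensorProduct in
theorem case3 {p : ℕ} (hp : p.Prime) [CharP M p] [FiniteDimensional K K₁]
    (hdim : Module.finrank K K₁ ≤ p) {π : A}
    {ϖ : C} (hϖ : maximalIdeal C = Ideal.span {ϖ}) {u a : C} {k N' : ℕ} (hu1 : IsUnit u)
    (hrel : u * ϖ ^ p = algebraMap A C π) (hu : u = 1 + a * (algebraMap A C π) ^ k)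
    (ha : ∀ r : C, IsLocalRing.residue C a ≠ IsLocalRing.residue C r ^ p)
    {π₁ b : K₁} (hb : IsIntegral A b)
    (hπ₁ : π₁ ^ p = algebraMap A K₁ π + algebraMap A K₁ π ^ (k + 2 + N') * b)
    (hspan : ∀ x : K₁, ∃ c : Fin p → K, x = ∑ i, c i • π₁ ^ (i : ℕ)) :
    IsField (M ⊗[K] K₁) ∧ EtRam.IsWeakSolution C K M K₁ := by
  constructor
  · apply RI.isField_tensor_of_forall_quotient p hdim
    intro M' _ _ _ _ _ _ hgen
    obtain ⟨W, hW⟩ := RI.exists_dominates_of_local ((algebraMap M M').comp (algebraMap C M))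
    exact (case3_core hp hϖ hu1 hrel hu ha hb hπ₁ hspan M' hgen W hW).2.2
  · intro M' _ _ _ _ _ _ hgen W hW
    obtain ⟨hlt, hle, -⟩ := case3_core hp hϖ hu1 hrel hu ha hb hπ₁ hspan M' hgen W hW
    exact (RI.isWeaklyUnramified_comap_iff W (algebraMap K₁ M')).mpr
      (fun y hy => ⟨π₁, hlt, hle y hy⟩)

omit [CommRing C] [IsDomain C] [IsDiscreteValuationRing C] [Algebra A C] [Field M] [Algebra C M]
  [IsFractionRing C M] [Algebra K M] [Algebra A M] [IsScalarTower A K M] [IsScalarTower A C M] in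
theorem hspan_of_tr {p : ℕ} (hp : p.Prime) {π : A} (hπ : maximalIdeal A = Ideal.span {π})
    (hfr : Module.finrank K K₁ = p) {π₁ b : K₁} {n : ℕ} (hn : 2 ≤ n) (hb : IsIntegral A b)
    (hπ₁ : π₁ ^ p = algebraMap A K₁ π + algebraMap A K₁ π ^ n * b) :
    ∀ x : K₁, ∃ c : Fin p → K, x = ∑ i, c i • π₁ ^ (i : ℕ) := by
  haveI : FiniteDimensional K K₁ :=
    Module.finite_of_finrank_pos (by rw [hfr]; exact hp.pos)
  have hinj : Function.Injective (algebraMap A K₁) := ASK.algebraMap_inj A K K₁
  obtain ⟨V, hV⟩ := ASK.exists_dominates (A := A) (L := K₁) hinj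
  have hvb : V.valuation b ≤ 1 := by
    rw [V.valuation_le_one_iff]
    obtain ⟨f, hf, hf0⟩ := hb
    exact TotRam.mem_of_integral_hom V (algebraMap A K₁) hV.1 b f hf hf0
  have hz : V.valuation π₁ ^ p = V.valuation (algebraMap A K₁ π) :=
    val_pow_eq V.valuation hn hπ₁ (ASK.val_pi_pos hπ hinj) (ASK.val_pi_lt_one hπ hV) hvb
  obtain ⟨-, -, hli⟩ := RI.comp_core (L := K) hπ hV hp.ne_zero hz
  have htop := hli.span_eq_top_of_card_eq_finrank' (by rw [Fintype.card_fin, hfr])
  intro x
  have hx : x ∈ Submodule.span K (Set.range fun i : Fin p => π₁ ^ (i : ℕ)) := by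
    rw [htop]; trivial
  obtain ⟨c, hc⟩ := (Submodule.mem_span_range_iff_exists_fun K).mp hx
  exact ⟨c, hc.symm⟩

end Case3

end Groth.Agent.H8.PI
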