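import Mathlib
import Groth.Prelude.Def_EtRam
import Groth.Agent.Lib.Helper8.ASK.PId

set_option autoImplicit false
universe u

namespace Groth.Agent.H8.PI

open IsLocalRing Polynomial

open TensorProduct in
theorem main (p : ℕ) (hp : p.Prime) (A B C K L M : Type u)
    [CommRing A] [IsDomain A] [IsDiscreteValuationRing A] [CommRing B] [IsDomain B] [IsDiscreteValuationRing B]
    [CommRing C] [IsDomain C] [IsDiscreteValuationRing C]
    [Algebra A B] [Algebra B C] [Algebra A C] [IsScalarTower A B C]
    (hAB : Function.Injective (algebraMap A B)) (hBC : Function.Injective (algebraMap B C))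
    [IsLocalHom (algebraMap A B)] [IsLocalHom (algebraMap B C)]
    [Field K] [Field L] [Field M] [Algebra A K] [IsFractionRing A K] [Algebra B L] [IsFractionRing B L]
    [Algebra C M] [IsFractionRing C M] [Algebra K L] [Algebra L M] [Algebra K M] [IsScalarTower K L M]
    [Algebra A L] [IsScalarTower A K L] [IsScalarTower A B L] [Algebra B M] [IsScalarTower B L M] [IsScalarTower B C M]
    [Algebra A M] [IsScalarTower A K M] [IsScalarTower A C M]
    (π : A) (hπ : IsLocalRing.maximalIdeal A = Ideal.span {π}) (hB : CAlg.IsNagata B)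
    (hw : EtRam.IsWeaklyUnramified A B) [IsPurelyInseparable L M] (hdeg : Module.finrank L M = p) :
    EtRam.IsWeaklyUnramified A C ∨
      (∃ c : C, c ^ p = algebraMap A C π ∧ Algebra.adjoin B {c} = ⊤) ∨
      ∃ (K₁ : Type u) (_ : Field K₁) (_ : Algebra K K₁),
        Module.finrank K K₁ = p ∧ Algebra.IsSeparable K K₁ ∧
          EtRam.IsTotallyRamified A ((algebraMap K K₁).comp (algebraMap A K)) ∧
          IsField (L ⊗[K] K₁) ∧ IsField (M ⊗[K] K₁) ∧
          EtRam.IsWeakSolution B K L K₁ ∧ EtRam.IsWeakSolution C K M K₁ := by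
  classical
  haveI : Fact p.Prime := ⟨hp⟩
  haveI : CharP L p := charP_of_purelyInsep (M := M) hp hdeg
  have hpow := pow_mem_of_purelyInsep (L := L) (M := M) hp hdeg
  haveI : FiniteDimensional L M :=
    Module.finite_of_finrank_pos (by rw [hdeg]; exact hp.pos)
  haveI : CharP M p := charP_of_injective_algebraMap (algebraMap L M).injective p
  haveI : CharP C p := RingHom.charP (algebraMap C M) (IsFractionRing.injective C M) p
  haveI : CharP B p := RingHom.charP (algebraMap B L) (IsFractionRing.injective B L) p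
  haveI : CharP A p := RingHom.charP (algebraMap A B) hAB p
  haveI : CharP (ResidueField A) p := by
    rw [CharP.charP_iff_prime_eq_zero hp]
    have h0 : (p : A) = 0 := CharP.cast_eq_zero A p
    rw [← map_natCast (IsLocalRing.residue A), h0, map_zero]
  obtain ⟨πB, hπBdef⟩ : ∃ πB : B, πB = algebraMap A B π := ⟨_, rfl⟩
  have hπB : maximalIdeal B = Ideal.span {πB} := by
    have h1 : (maximalIdeal A).map (algebraMap A B) = maximalIdeal B := hw
    rw [hπBdef, ← h1, hπ, Ideal.map_span, Set.image_singleton]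
  have hπBC : algebraMap B C πB = algebraMap A C π := by
    rw [hπBdef, ← IsScalarTower.algebraMap_apply]
  rcases dichotomy (C := C) (L := L) (M := M) hp hπB hpow with h1 | ⟨ϖ₀, u₀, hϖ₀, hrel₀⟩
  · left
    show (maximalIdeal A).map (algebraMap A C) = maximalIdeal C
    rw [h1, hπ, Ideal.map_span, Set.image_singleton, hπBC]
  right
  have hst0 : Stage C p πB 0 := ⟨ϖ₀, u₀, (u₀ : B) - 1, hϖ₀, hrel₀, by ring⟩
  rcases stage_all hπB hst0 with hgood | hall
  swap
  · left
    obtain ⟨c, hc⟩ := exists_root (L := L) (M := M) hp hB hπB hall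
    exact ⟨c, by rw [hc, hπBC], adjoin_eq_top (L := L) (M := M) hp hdeg hπB hc⟩
  right
  obtain ⟨ϖ, u, k, a, hϖ, hrel, hu, ha⟩ := hgood
  obtain ⟨K₁, _, _, _, _, hfr, hsep, hTR, π₁, b, b', -, hbint, -, hπ₁, -⟩ :=
    TotRam.main p hp A K π hπ (k + 2) (by omega) 1
  rw [pow_one] at hfr hπ₁
  haveI : FiniteDimensional K K₁ :=
    Module.finite_of_finrank_pos (by rw [hfr]; exact hp.pos)
  haveI := hsep
  have hTR' : EtRam.IsTotallyRamified A ((algebraMap K K₁).comp (algebraMap A K)) := by
    rw [← IsScalarTower.algebraMap_eq A K K₁]; exact hTR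
  have hspan := hspan_of_tr (K := K) hp hπ hfr (by omega) hbint hπ₁
  obtain ⟨hF1, hS1⟩ := RI.weakSolution_of_totRam A B K L hAB hw K₁ hTR'
  have hCa := not_pow_residue (L := L) (M := M) hp hdeg hπB hrel a ha
  have hrelC : algebraMap B C (u : B) * ϖ ^ p = algebraMap A C π := by rw [hrel, hπBC]
  have huC : algebraMap B C (u : B) = 1 + algebraMap B C a * (algebraMap A C π) ^ k := by
    rw [hu, map_add, map_one, map_mul, map_pow, hπBC]
  obtain ⟨hF2, hS2⟩ := case3 (A := A) (C := C) (K := K) (M := M) (K₁ := K₁) (N' := 0) hp hfr.le hϖ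
    (u.isUnit.map (algebraMap B C)) hrelC huC hCa hbint hπ₁ hspan
  exact ⟨K₁, inferInstance, inferInstance, hfr, hsep, hTR', hF1, hF2, hS1, hS2⟩

end Groth.Agent.H8.PI
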