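import Mathlib
import Groth.Prelude.Def_EtRam
import Groth.Agent.Lib.Helper8.ASK.RamIdx
import Groth.Agent.Lib.Helper8.ASK.BCCore
import Groth.Agent.Lib.Helper8.ASK.BCAbs
import Groth.Agent.Lib.Helper8.ASK.TameCore

set_option autoImplicit false
universe u

namespace Groth.Agent.H8.BC

open IsLocalRing TensorProduct Polynomial

section Core

variable {A Xr Y M : Type u} [CommRing A] [IsLocalRing A] [CommRing Xr] [IsLocalRing Xr]
  [CommRing Y] [IsLocalRing Y] [Field M] (W : ValuationSubring M)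
  [Algebra A Xr] [Algebra A Y] [Algebra A W] [Algebra Xr W] [Algebra Y W]
  [IsScalarTower A Xr W] [IsScalarTower A Y W]
  [IsLocalHom (algebraMap A Xr)] [IsLocalHom (algebraMap A Y)] [IsLocalHom (algebraMap A W)]
  [IsLocalHom (algebraMap Xr W)] [IsLocalHom (algebraMap Y W)]

/-- Version of `tame_core` which also records `eY = eY' * d` and `Coprime e' eY'`. -/
theorem tame_core' (π : A) (y₀ : Xr) (hX : maximalIdeal Xr = Ideal.span {y₀}) (ϖ : Y)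
    (hY : maximalIdeal Y = Ideal.span {ϖ}) (e eY : ℕ) (he : e ≠ 0) (heY : eY ≠ 0)
    (u u₁ : Xr) (hu : u * u₁ = 1) (hπX : algebraMap A Xr π * u = y₀ ^ e)
    (uY uY₁ : Y) (huY : uY * uY₁ = 1) (hπY : algebraMap A Y π * uY = ϖ ^ eY)
    (hπ0 : ((algebraMap A W π : W) : M) ≠ 0)
    (hQ : ∀ (d : ℕ) (η : ResidueField Y ⊗[ResidueField A] ResidueField Xr), d ≠ 0 → d ∣ e →
      IsUnit η →
      ∀ x : AdjoinRoot (X ^ d - C η : (ResidueField Y ⊗[ResidueField A] ResidueField Xr)[X]),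
        ∃ y, x = x * x * y)
    (harch : ∀ w : M, w ≠ 0 →
      ∃ n : ℕ, W.valuation ((algebraMap Y W ϖ : W) : M) ^ n < W.valuation w)
    (hgen : ∀ y : M, ∃ (N : ℕ) (c : Y ⊗[A] Xr),
      y * ((algebraMap Y W ϖ : W) : M) ^ N = ((phiW W c : W) : M)) :
    ∃ (t ζ : M) (hζ : ζ ∈ W) (d e' eY' : ℕ), d ≠ 0 ∧ e = e' * d ∧ eY = eY' * d ∧
      Nat.Coprime e' eY' ∧
      ζ ^ d * ((algebraMap Y W uY : W) : M) = ((algebraMap Xr W u : W) : M) ∧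
      W.valuation t ^ e' = W.valuation ((algebraMap Y W ϖ : W) : M) ∧
      RI.IsUnif W.valuation t ∧
      ∀ E : Subring (ResidueField W), (∀ c : Y ⊗[A] Xr, residue W (phiW W c) ∈ E) →
        residue W ⟨ζ, hζ⟩ ∈ E → ∀ w : W, residue W w ∈ E := by
  classical
  obtain ⟨Φ, hΦ⟩ : ∃ Φ : Y ⊗[A] Xr →+* M, ∀ c, Φ c = ((phiW W c : W) : M) :=
    ⟨W.subtype.comp (phiW W).toRingHom, fun _ => rfl⟩
  have hΦtmul : ∀ (y : Y) (x : Xr),
      Φ (y ⊗ₜ[A] x) = ((algebraMap Y W y : W) : M) * ((algebraMap Xr W x : W) : M) := by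
    intro y x
    rw [hΦ, phiW_tmul]
    rfl
  obtain ⟨p₀, hp₀⟩ : ∃ p₀ : M, p₀ = ((algebraMap A W π : W) : M) := ⟨_, rfl⟩
  obtain ⟨a₀, ha₀⟩ : ∃ a₀ : M, a₀ = ((algebraMap Xr W y₀ : W) : M) := ⟨_, rfl⟩
  obtain ⟨b₀, hb₀⟩ : ∃ b₀ : M, b₀ = ((algebraMap Y W ϖ : W) : M) := ⟨_, rfl⟩
  obtain ⟨υ, hυ⟩ : ∃ υ : M, υ = ((algebraMap Xr W u : W) : M) := ⟨_, rfl⟩
  obtain ⟨υ₁, hυ₁⟩ : ∃ υ₁ : M, υ₁ = ((algebraMap Xr W u₁ : W) : M) := ⟨_, rfl⟩
  obtain ⟨ν, hν⟩ : ∃ ν : M, ν = ((algebraMap Y W uY : W) : M) := ⟨_, rfl⟩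
  obtain ⟨ν₁, hν₁⟩ : ∃ ν₁ : M, ν₁ = ((algebraMap Y W uY₁ : W) : M) := ⟨_, rfl⟩
  have hυυ₁ : υ * υ₁ = 1 := by
    have h : ((algebraMap Xr W (u * u₁) : W) : M) = ((algebraMap Xr W 1 : W) : M) := by rw [hu]
    rw [map_mul, map_one] at h
    rw [hυ, hυ₁]
    exact h
  have hνν₁ : ν * ν₁ = 1 := by
    have h : ((algebraMap Y W (uY * uY₁) : W) : M) = ((algebraMap Y W 1 : W) : M) := by rw [huY]
    rw [map_mul, map_one] at h
    rw [hν, hν₁]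
    exact h
  have hrelX : p₀ * υ = a₀ ^ e := by
    have h : ((algebraMap Xr W (algebraMap A Xr π * u) : W) : M) =
        ((algebraMap Xr W (y₀ ^ e) : W) : M) := by rw [hπX]
    rw [map_mul, map_pow, ← IsScalarTower.algebraMap_apply A Xr W] at h
    rw [hp₀, hυ, ha₀]
    exact h
  have hrelY : p₀ * ν = b₀ ^ eY := by
    have h : ((algebraMap Y W (algebraMap A Y π * uY) : W) : M) =
        ((algebraMap Y W (ϖ ^ eY) : W) : M) := by rw [hπY]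
    rw [map_mul, map_pow, ← IsScalarTower.algebraMap_apply A Y W] at h
    rw [hp₀, hν, hb₀]
    exact h
  have hvυ : W.valuation υ = 1 :=
    val_eq_one_of_mul_eq_one W (by rw [hυ]; exact (algebraMap Xr W u).2)
      (by rw [hυ₁]; exact (algebraMap Xr W u₁).2) hυυ₁
  have hvν : W.valuation ν = 1 :=
    val_eq_one_of_mul_eq_one W (by rw [hν]; exact (algebraMap Y W uY).2)
      (by rw [hν₁]; exact (algebraMap Y W uY₁).2) hνν₁
  have hp₀0 : p₀ ≠ 0 := by rw [hp₀]; exact hπ0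
  have hυ0 : υ ≠ 0 := left_ne_zero_of_mul_eq_one hυυ₁
  have hν0 : ν ≠ 0 := left_ne_zero_of_mul_eq_one hνν₁
  have ha₀0 : a₀ ≠ 0 := by
    intro h0
    rw [h0, zero_pow he] at hrelX
    exact mul_ne_zero hp₀0 hυ0 hrelX
  have hb₀0 : b₀ ≠ 0 := by
    intro h0
    rw [h0, zero_pow heY] at hrelY
    exact mul_ne_zero hp₀0 hν0 hrelY
  have hvb₀0 : W.valuation b₀ ≠ 0 := (Valuation.ne_zero_iff _).mpr hb₀0
  have hva₀0 : W.valuation a₀ ≠ 0 := (Valuation.ne_zero_iff _).mpr ha₀0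
  obtain ⟨d, e', eY', hd, hcop, he', heY'⟩ :=
    Nat.exists_coprime' (Nat.gcd_pos_of_pos_left eY (Nat.pos_of_ne_zero he))
  have he'0 : e' ≠ 0 := by
    intro h0
    rw [h0, zero_mul] at he'
    exact he he'
  have heY'0 : eY' ≠ 0 := by
    intro h0
    rw [h0, zero_mul] at heY'
    exact heY heY'
  have hval : W.valuation a₀ ^ e = W.valuation b₀ ^ eY := by
    rw [← map_pow, ← map_pow, ← hrelX, ← hrelY, map_mul, map_mul, hvυ, hvν]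
  have hval' : W.valuation a₀ ^ e' = W.valuation b₀ ^ eY' := by
    rw [he', heY', pow_mul, pow_mul] at hval
    exact (pow_left_inj₀ zero_le' zero_le' hd.ne').mp hval
  obtain ⟨a, b', hab⟩ : ∃ a b' : ℕ, a * e' = 1 + b' * eY' := by
    rcases Nat.lt_or_ge 1 eY' with h1 | h1
    · obtain ⟨m, -, hm⟩ := Nat.exists_mul_mod_eq_one_of_coprime hcop h1
      refine ⟨m, e' * m / eY', ?_⟩
      have h2 := Nat.div_add_mod (e' * m) eY'
      rw [hm] at h2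
      calc m * e' = e' * m := mul_comm _ _
        _ = eY' * (e' * m / eY') + 1 := h2.symm
        _ = 1 + e' * m / eY' * eY' := by ring
    · have h2 : eY' = 1 := by omega
      refine ⟨1, e' - 1, ?_⟩
      rw [h2]
      omega
  obtain ⟨t, ht⟩ : ∃ t : M, t = b₀ ^ a / a₀ ^ b' := ⟨_, rfl⟩
  obtain ⟨ζ, hζdef⟩ : ∃ ζ : M, ζ = a₀ ^ e' / b₀ ^ eY' := ⟨_, rfl⟩
  have hvζ : W.valuation ζ = 1 := by
    rw [hζdef, map_div₀, map_pow, map_pow, hval', div_self]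
    exact pow_ne_zero _ hvb₀0
  have hζW : ζ ∈ W := (W.valuation_le_one_iff ζ).mp hvζ.le
  have hζd : ζ ^ d * ν = υ := by
    rw [hζdef, div_pow, ← pow_mul, ← pow_mul, ← he', ← heY', ← hrelX, ← hrelY,
      mul_div_mul_left _ _ hp₀0, div_mul_cancel₀ _ hν0]
  have hζd' : ζ ^ d = ν₁ * υ := by
    rw [← hζd, mul_comm ν₁, mul_assoc, hνν₁, mul_one]
  have hvt : W.valuation t ^ e' = W.valuation b₀ := by
    have h1 : W.valuation a₀ ^ (b' * e') = W.valuation b₀ ^ (b' * eY') := by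
      rw [mul_comm b' e', pow_mul, hval', ← pow_mul, mul_comm eY' b']
    have h2 : W.valuation b₀ ^ (a * e') = W.valuation b₀ * W.valuation b₀ ^ (b' * eY') := by
      rw [hab, pow_add, pow_one]
    rw [ht, map_div₀, map_pow, map_pow, div_pow, ← pow_mul, ← pow_mul, h1, h2]
    exact mul_div_cancel_right₀ _ (pow_ne_zero _ hvb₀0)
  have hb₀t : b₀ = t ^ e' * ζ ^ b' := by
    have hA : a₀ ^ (b' * e') ≠ 0 := pow_ne_zero _ ha₀0
    have hB : b₀ ^ (b' * eY') ≠ 0 := pow_ne_zero _ hb₀0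
    rw [ht, hζdef, div_pow, div_pow, ← pow_mul, ← pow_mul, ← pow_mul, ← pow_mul, hab, pow_add,
      pow_one, mul_comm e' b', mul_comm eY' b']
    field_simp
  have ha₀t : a₀ = t ^ eY' * ζ ^ a := by
    have hA : a₀ ^ (b' * eY') ≠ 0 := pow_ne_zero _ ha₀0
    have hB : b₀ ^ (a * eY') ≠ 0 := pow_ne_zero _ hb₀0
    rw [ht, hζdef, div_pow, div_pow, ← pow_mul, ← pow_mul, ← pow_mul, ← pow_mul, mul_comm e' a,
      hab, pow_add, pow_one, mul_comm eY' a]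
    field_simp
  have hvb₀1 : W.valuation b₀ < 1 := by
    rw [hb₀, ← W.valuation_lt_one_iff, mem_maximalIdeal, mem_nonunits_iff]
    intro h
    have h1 : IsUnit ϖ := isUnit_of_map_unit (algebraMap Y W) ϖ h
    have h2 : ϖ ∈ maximalIdeal Y := by rw [hY]; exact Ideal.mem_span_singleton_self ϖ
    exact (mem_nonunits_iff.mp ((mem_maximalIdeal ϖ).mp h2)) h1
  have hvt1 : W.valuation t < 1 := by
    by_contra hcon
    have h1 : 1 ≤ W.valuation t := not_lt.mp hcon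
    have h2 : 1 ≤ W.valuation t ^ e' := one_le_pow₀ h1
    rw [hvt] at h2
    exact absurd hvb₀1 (not_lt.mpr h2)
  have ht0 : t ≠ 0 := by
    rw [ht]; exact div_ne_zero (pow_ne_zero _ hb₀0) (pow_ne_zero _ ha₀0)
  have htW : t ∈ W := (W.valuation_le_one_iff t).mp hvt1.le
  have hΦϖ : Φ (ϖ ⊗ₜ[A] (1 : Xr)) = b₀ := by
    rw [hΦtmul, map_one, hb₀]
    show ((algebraMap Y W ϖ : W) : M) * (1 : M) = _
    rw [mul_one]
  have hΦy₀ : Φ ((1 : Y) ⊗ₜ[A] y₀) = a₀ := by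
    rw [hΦtmul, map_one, ha₀]
    show (1 : M) * ((algebraMap Xr W y₀ : W) : M) = _
    rw [one_mul]
  have hΦη : Φ (uY₁ ⊗ₜ[A] u) = ν₁ * υ := by rw [hΦtmul, hν₁, hυ]
  have hΦηi : Φ (uY ⊗ₜ[A] u₁) = ν * υ₁ := by rw [hΦtmul, hν, hυ₁]
  -- the residue side
  obtain ⟨ρ, hρ⟩ : ∃ ρ : Y ⊗[A] Xr →+* ResidueField Y ⊗[ResidueField A] ResidueField Xr,
      ∀ c, ρ c = rho (A := A) (X := Xr) (Y := Y) c :=
    ⟨(rho (A := A) (X := Xr) (Y := Y)).toRingHom, fun _ => rfl⟩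
  have hρsurj : Function.Surjective ρ := fun x => by
    obtain ⟨c, hc⟩ := rho_surjective (A := A) (X := Xr) (Y := Y) x
    exact ⟨c, by rw [hρ, hc]⟩
  have hρker : ∀ c, ρ c = 0 →
      ∃ c₁ c₂, c₁ * (ϖ ⊗ₜ[A] (1 : Xr)) + c₂ * ((1 : Y) ⊗ₜ[A] y₀) = c := by
    intro c hc
    have hmem : c ∈ RingHom.ker (rho (A := A) (X := Xr) (Y := Y)) := by
      rw [RingHom.mem_ker, ← hρ]; exact hc
    exact Ideal.mem_span_pair.mp (ker_rho_le_pair y₀ hX ϖ hY hmem)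
  have hunit : IsUnit (ρ (uY₁ ⊗ₜ[A] u)) := by
    apply IsUnit.of_mul_eq_one (ρ (uY ⊗ₜ[A] u₁))
    rw [← map_mul, Algebra.TensorProduct.tmul_mul_tmul, mul_comm uY₁ uY, huY, hu,
      ← Algebra.TensorProduct.one_def, map_one]
  have hQ' := hQ d _ hd.ne' (Dvd.intro_left e' he'.symm) hunit
  have harcht : ∀ w : M, w ≠ 0 → ∃ n : ℕ, W.valuation t ^ n < W.valuation w := by
    intro w hw
    obtain ⟨n, hn⟩ := harch w hw
    refine ⟨e' * n, ?_⟩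
    rw [pow_mul, hvt, hb₀]
    exact hn
  obtain ⟨hC1, hC2⟩ := poly_core W (phiW W).toRingHom ρ hρsurj (ϖ ⊗ₜ[A] (1 : Xr))
    ((1 : Y) ⊗ₜ[A] y₀) (uY₁ ⊗ₜ[A] u) (uY ⊗ₜ[A] u₁) hρker t ζ hζW ht0 hvt1 d e' eY' a b' hd.ne'
    he'0 heY'0 (by rw [hζd', ← hΦη, hΦ]; rfl)
    (by
      have h1 : Φ (uY₁ ⊗ₜ[A] u) * Φ (uY ⊗ₜ[A] u₁) = 1 := by
        rw [hΦη, hΦηi]
        calc ν₁ * υ * (ν * υ₁) = (ν * ν₁) * (υ * υ₁) := by ring
          _ = 1 := by rw [hνν₁, hυυ₁, mul_one]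
      rw [hΦ, hΦ] at h1
      exact h1)
    (by rw [← hb₀t, ← hΦϖ, hΦ]; rfl) (by rw [← ha₀t, ← hΦy₀, hΦ]; rfl) hQ' harcht
    (by
      intro y
      obtain ⟨N, c, hc⟩ := hgen y
      refine ⟨N, c, ?_⟩
      show y * ((phiW W (ϖ ⊗ₜ[A] (1 : Xr)) : W) : M) ^ N = ((phiW W c : W) : M)
      rw [← hc, ← hΦ, hΦϖ, hb₀])
  refine ⟨t, ζ, hζW, d, e', eY', hd.ne', he', heY', hcop, ?_, ?_, ⟨hvt1, hC1⟩, ?_⟩
  · rw [← hν, ← hυ]; exact hζd
  · rw [← hb₀]; exact hvt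
  · intro E hE1 hE2 w
    exact hC2 E hE1 hE2 w

end Core

end Groth.Agent.H8.BC
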