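import Mathlib
import Groth.Prelude.Def_EtRam
import Groth.Agent.Lib.Helper8.ASK.Dom
import Groth.Agent.Lib.Helper8.ASK.RamIdx
import Groth.Agent.Lib.Helper8.ASK.BCCore
import Groth.Agent.Lib.Helper8.ASK.Arch
import Groth.Agent.Lib.Helper8.ASK.UnrBC
import Groth.Agent.Lib.Helper8.ASK.RedAdjoin
import Groth.Agent.Lib.Helper8.ASK.TameCore
import Groth.Agent.Lib.Helper8.ASK.TameCore2
import Groth.Agent.Lib.Helper8.ASK.Sol1983

set_option autoImplicit false
universe u

namespace Groth.Agent.H8.BC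

open IsLocalRing TensorProduct Polynomial

/-- Over a perfect field every field extension is geometrically reduced. -/
theorem isGeometricallyReduced_of_perfectField (k E : Type*) [Field k] [PerfectField k] [Field E]
    [Algebra k E] : Algebra.IsGeometricallyReduced k E := by
  rw [Algebra.isGeometricallyReduced_field_iff]
  have h : IsReduced (E ⊗[k] AlgebraicClosure k) := by
    apply IsReduced.tensorProduct_of_flat_of_forall_fg
    intro B hB
    obtain ⟨s, hs⟩ := hB
    have halg : ∀ x ∈ (s : Set (AlgebraicClosure k)), IsAlgebraic k x :=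
      fun x _ => Algebra.IsAlgebraic.isAlgebraic x
    obtain ⟨Lf, hLf⟩ : ∃ Lf : IntermediateField k (AlgebraicClosure k),
        Lf = IntermediateField.adjoin k (s : Set (AlgebraicClosure k)) := ⟨_, rfl⟩
    have hB' : B = Lf.toSubalgebra := by
      rw [hLf, IntermediateField.adjoin_toSubalgebra_of_isAlgebraic halg, hs]
    haveI hfd : FiniteDimensional k Lf := by
      rw [hLf]
      exact IntermediateField.finiteDimensional_adjoin (fun x hx => (halg x hx).isIntegral)
    haveI : Algebra.IsAlgebraic k Lf := Algebra.IsAlgebraic.of_finite _ _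
    haveI : Algebra.IsSeparable k Lf := inferInstance
    haveI : Algebra.FormallyUnramified k Lf := Algebra.FormallyUnramified.of_isSeparable _ _
    subst hB'
    change IsReduced (E ⊗[k] Lf)
    exact Algebra.FormallyUnramified.isReduced_of_field E (E ⊗[k] Lf)
  exact isReduced_of_injective (Algebra.TensorProduct.comm k (AlgebraicClosure k) E)
    (AlgEquiv.injective _)

/-- The ramification index of an extension of DVRs, computed from uniformizers. -/
theorem ramificationIdx'_dvr {A B : Type*} [CommRing A] [IsLocalRing A] [CommRing B] [IsDomain B]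
    [IsLocalRing B] [Algebra A B] (π : A) (hπ : maximalIdeal A = Ideal.span {π}) (πB : B)
    (hπB : maximalIdeal B = Ideal.span {πB}) (hirr : Irreducible πB) (u : Bˣ) (e : ℕ)
    (h : algebraMap A B π = (u : B) * πB ^ e) :
    Ideal.ramificationIdx' (maximalIdeal A) (maximalIdeal B) = e := by
  have hmap : Ideal.map (algebraMap A B) (maximalIdeal A) = Ideal.span {(u : B) * πB ^ e} := by
    rw [hπ, Ideal.map_span, Set.image_singleton, h]
  have hpow : ∀ n : ℕ, maximalIdeal B ^ n = Ideal.span {πB ^ n} := fun n => by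
    rw [hπB, Ideal.span_singleton_pow]
  apply Ideal.ramificationIdx'_spec
  · rw [hmap, hpow, Ideal.span_singleton_le_span_singleton]
    exact Dvd.intro_left _ rfl
  · rw [hmap, hpow, Ideal.span_singleton_le_span_singleton, Units.dvd_mul_left,
      pow_dvd_pow_iff hirr.ne_zero hirr.not_isUnit]
    omega

/-- von Neumann regularity of `(F ⊗[k] E)[T]/(T^d - η)` for `F/k` algebraic, `E/k` geometrically
reduced, `d` invertible and `η` a unit. -/
theorem vnr_tensor_adjoinRoot {k F E : Type*} [Field k] [Field F] [Field E] [Algebra k F]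
    [Algebra k E] [Algebra.IsAlgebraic k F] [Algebra.IsGeometricallyReduced k E] (d : ℕ)
    (hd : d ≠ 0) (hdk : ((d : ℕ) : k) ≠ 0) (η : F ⊗[k] E) (hη : IsUnit η)
    (x : AdjoinRoot (X ^ d - C η : (F ⊗[k] E)[X])) : ∃ y, x = x * x * y := by
  letI : Algebra E (F ⊗[k] E) := Algebra.TensorProduct.rightAlgebra
  haveI : Algebra.IsIntegral k F := Algebra.IsAlgebraic.isIntegral
  haveI : Algebra.IsIntegral E (F ⊗[k] E) := ⟨fun t => by
    induction t using TensorProduct.induction_on with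
    | zero => exact isIntegral_zero
    | tmul f e =>
      have h1 : f ⊗ₜ[k] e = (f ⊗ₜ[k] (1 : E)) * ((1 : F) ⊗ₜ[k] e) := by
        rw [Algebra.TensorProduct.tmul_mul_tmul, mul_one, one_mul]
      rw [h1]
      refine IsIntegral.mul ?_ ?_
      · have hf : IsIntegral k f := Algebra.IsIntegral.isIntegral f
        have h2 : IsIntegral k
            ((Algebra.TensorProduct.includeLeft : F →ₐ[k] F ⊗[k] E) f) := hf.map _
        exact h2.tower_top
      · exact isIntegral_algebraMap (R := E) (A := F ⊗[k] E) (x := e)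
    | add a b ha hb => exact ha.add hb⟩
  have hdE : ((d : ℕ) : E) ≠ 0 := by
    intro h0
    apply hdk
    apply (algebraMap k E).injective
    rw [map_natCast, map_zero]
    exact h0
  exact vnr_adjoinRoot (F := E) d hd η hη hdE x

/-- A field `𝕎` generated over `F` by the image of `F ⊗[k] E` (`F/k` algebraic, `E/k`
geometrically reduced) and a `d`-th root of a unit, `d` invertible, is geometrically reduced
over `F`. -/
theorem geomRed_of_root_gen {k F E 𝕎 : Type u} [Field k] [Field F] [Field E] [Field 𝕎]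
    [Algebra k F] [Algebra k E] [Algebra F 𝕎] [Algebra.IsAlgebraic k F]
    [Algebra.IsGeometricallyReduced k E] (ψ : F ⊗[k] E →ₐ[F] 𝕎) (d : ℕ) (hd : d ≠ 0)
    (hdk : ((d : ℕ) : k) ≠ 0) (η : F ⊗[k] E) (hη : IsUnit η) (ζ : 𝕎) (hζ : ζ ^ d = ψ η)
    (hgen : ∀ S : Subring 𝕎, (∀ c, ψ c ∈ S) → ζ ∈ S → ∀ w, w ∈ S) :
    Algebra.IsGeometricallyReduced F 𝕎 := by
  have hroot : Polynomial.eval₂ (ψ : F ⊗[k] E →+* 𝕎) ζ (X ^ d - C η : (F ⊗[k] E)[X]) = 0 := by
    rw [eval₂_sub, eval₂_pow, eval₂_X, eval₂_C]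
    exact sub_eq_zero.mpr hζ
  obtain ⟨ψQ, hψQ⟩ : ∃ ψQ : AdjoinRoot (X ^ d - C η : (F ⊗[k] E)[X]) →ₐ[F] 𝕎,
      ψQ = AdjoinRoot.liftAlgHom _ ψ ζ hroot := ⟨_, rfl⟩
  have hψQ_of : ∀ c, ψQ (AdjoinRoot.of _ c) = ψ c := fun c => by
    rw [hψQ]; exact AdjoinRoot.liftAlgHom_of _ ψ ζ hroot c
  have hψQ_root : ψQ (AdjoinRoot.root _) = ζ := by
    rw [hψQ]; exact AdjoinRoot.liftAlgHom_root _ ψ ζ hroot
  have hsurj : Function.Surjective ψQ := by
    intro w
    have h := hgen (ψQ : AdjoinRoot (X ^ d - C η : (F ⊗[k] E)[X]) →+* 𝕎).range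
      (fun c => RingHom.mem_range.mpr ⟨AdjoinRoot.of _ c, hψQ_of c⟩)
      (RingHom.mem_range.mpr ⟨AdjoinRoot.root _, hψQ_root⟩) w
    obtain ⟨x, hx⟩ := RingHom.mem_range.mp h
    exact ⟨x, hx⟩
  have hvnr : ∀ x : AdjoinRoot (X ^ d - C η : (F ⊗[k] E)[X]), ∃ y, x = x * x * y :=
    vnr_tensor_adjoinRoot d hd hdk η hη
  have hann : ∀ x, ψQ x = 0 → ∃ ε, ψQ ε = 1 ∧ ε * x = 0 := by
    intro x hx
    obtain ⟨y, hy⟩ := hvnr x
    refine ⟨1 - x * y, by rw [map_sub, map_one, map_mul, hx, zero_mul, sub_zero], ?_⟩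
    linear_combination hy
  haveI hR1 : IsReduced (AlgebraicClosure F ⊗[F] (F ⊗[k] E)) := isReduced_algClosure_tensor k F E
  have hdΩ : ((d : ℕ) : AlgebraicClosure F) ≠ 0 := by
    intro h0
    apply hdk
    apply ((algebraMap F (AlgebraicClosure F)).comp (algebraMap k F)).injective
    rw [map_natCast, map_zero]
    exact h0
  have hdu : IsUnit ((d : ℕ) : AlgebraicClosure F ⊗[F] (F ⊗[k] E)) := by
    have h := (isUnit_iff_ne_zero.mpr hdΩ).map
      (algebraMap (AlgebraicClosure F) (AlgebraicClosure F ⊗[F] (F ⊗[k] E)))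
    rwa [map_natCast] at h
  have hq : (X ^ d - C η : (F ⊗[k] E)[X]).map
      (Algebra.TensorProduct.includeRight :
        (F ⊗[k] E) →ₐ[F] AlgebraicClosure F ⊗[F] (F ⊗[k] E)).toRingHom =
      X ^ d - C ((Algebra.TensorProduct.includeRight :
        (F ⊗[k] E) →ₐ[F] AlgebraicClosure F ⊗[F] (F ⊗[k] E)).toRingHom η) := by
    rw [Polynomial.map_sub, Polynomial.map_pow, Polynomial.map_X, Polynomial.map_C]
  haveI hRq : IsReduced (AdjoinRoot (X ^ d - C ((Algebra.TensorProduct.includeRight :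
        (F ⊗[k] E) →ₐ[F] AlgebraicClosure F ⊗[F] (F ⊗[k] E)).toRingHom η) :
      (AlgebraicClosure F ⊗[F] (F ⊗[k] E))[X])) :=
    isReduced_adjoinRoot_X_pow_sub_C d hd _ (hη.map _) hdu
  haveI : IsReduced (AlgebraicClosure F ⊗[F] AdjoinRoot (X ^ d - C η : (F ⊗[k] E)[X])) :=
    isReduced_of_injective
      (AdjoinRoot.tensorAlgEquiv (R := F) (T := AlgebraicClosure F)
        (X ^ d - C η : (F ⊗[k] E)[X]) _ hq)
      (AlgEquiv.injective _)
  exact isGeometricallyReduced_of_surjective ψQ hsurj hann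


/-- If `A → B` is a tame extension of DVRs (index `e_B` invertible in `κ(A)`, `κ(B)/κ(A)`
geometrically reduced), `K₁/K` finite, `W` a valuation ring of a compositum dominating `B` with
`e_B ∣ e(W ∩ K₁ / A)`, then `W ∩ K₁ → W` is weakly unramified with geometrically reduced residue
field extension. -/
theorem sol1982 (A B K L : Type u) [CommRing A] [IsDomain A] [IsDiscreteValuationRing A]
    [CommRing B] [IsDomain B] [IsDiscreteValuationRing B] [Algebra A B]
    [IsLocalHom (algebraMap A B)]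
    [Field K] [Field L] [Algebra A K] [IsFractionRing A K] [Algebra B L] [IsFractionRing B L]
    [Algebra K L] [Algebra A L] [IsScalarTower A K L] [IsScalarTower A B L]
    (htame : CharZero (IsLocalRing.ResidueField A) ∨
      ∃ p : ℕ, p.Prime ∧ CharP (IsLocalRing.ResidueField A) p ∧
        ¬ p ∣ Ideal.ramificationIdx' (IsLocalRing.maximalIdeal A) (IsLocalRing.maximalIdeal B) ∧
        Algebra.IsGeometricallyReduced (IsLocalRing.ResidueField A) (IsLocalRing.ResidueField B))
    (K₁ : Type u) [Field K₁] [Algebra K K₁] [FiniteDimensional K K₁] :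
    EtRam.ForallLocalExt B K L K₁ (fun M _ W f =>
      ∀ hA : ∀ a : A, (algebraMap K K₁) (algebraMap A K a) ∈ W.comap f,
        letI : Algebra A (W.comap f) := (RingHom.codRestrict ((algebraMap K K₁).comp (algebraMap A K)) (W.comap f) hA).toAlgebra
        letI : Algebra (W.comap f) W := (EtRam.inclOfComap W f).toAlgebra
        Ideal.ramificationIdx' (IsLocalRing.maximalIdeal A) (IsLocalRing.maximalIdeal B) ∣
          Ideal.ramificationIdx' (IsLocalRing.maximalIdeal A) (IsLocalRing.maximalIdeal (W.comap f)) →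
        EtRam.IsWeaklyUnramified (W.comap f) W ∧
          @Algebra.IsGeometricallyReduced (IsLocalRing.ResidueField (W.comap f)) (IsLocalRing.ResidueField W) _ _
            (IsLocalRing.ResidueField.map (EtRam.inclOfComap W f)).toAlgebra) := by
  obtain ⟨π, hπirr⟩ := IsDiscreteValuationRing.exists_irreducible A
  have hπ : maximalIdeal A = Ideal.span {π} := hπirr.maximalIdeal_eq
  have hπm : π ∈ maximalIdeal A := ASK.pi_mem hπ
  obtain ⟨πB, hπBirr⟩ := IsDiscreteValuationRing.exists_irreducible B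
  have hπB : maximalIdeal B = Ideal.span {πB} := hπBirr.maximalIdeal_eq
  have hπAB : algebraMap A B π ≠ 0 := by
    intro h0
    have h1 : algebraMap A L π = 0 := by
      rw [IsScalarTower.algebraMap_apply A B L, h0, map_zero]
    exact ASK.algL_pi_ne_zero hπ (ASK.algebraMap_inj A K L) h1
  obtain ⟨eB, uB, huB⟩ := IsDiscreteValuationRing.eq_unit_mul_pow_irreducible hπAB hπBirr
  have heB0 : eB ≠ 0 := by
    intro h0
    rw [h0, pow_zero, mul_one] at huB
    have h1 : IsUnit (algebraMap A B π) := by rw [huB]; exact uB.isUnit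
    exact (mem_nonunits_iff.mp ((mem_maximalIdeal π).mp hπm))
      (isUnit_of_map_unit (algebraMap A B) π h1)
  have hramB : Ideal.ramificationIdx' (maximalIdeal A) (maximalIdeal B) = eB :=
    ramificationIdx'_dvr π hπ πB hπB hπBirr uB eB huB
  obtain ⟨heBA, hgrB⟩ : ((eB : ℕ) : ResidueField A) ≠ 0 ∧
      Algebra.IsGeometricallyReduced (ResidueField A) (ResidueField B) := by
    rcases htame with h0 | ⟨p, hpp, hcp, hpe, hgr⟩
    · haveI := h0
      exact ⟨Nat.cast_ne_zero.mpr heB0, isGeometricallyReduced_of_perfectField _ _⟩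
    · haveI := hcp
      refine ⟨?_, hgr⟩
      rw [Ne, CharP.cast_eq_zero_iff (ResidueField A) p, ← hramB]
      exact hpe
  haveI := hgrB
  have hπpow : ∀ n : ℕ, ∃ b' : B, (algebraMap A B π) ^ n = πB ^ n * b' := by
    intro n
    obtain ⟨k, hk⟩ := Nat.exists_eq_add_one_of_ne_zero heB0
    refine ⟨(uB : B) ^ n * πB ^ (k * n), ?_⟩
    rw [huB, hk, mul_pow, ← pow_mul, add_mul, one_mul, pow_add]
    ring
  have huX : ((uB⁻¹ : Bˣ) : B) * (uB : B) = 1 := Units.inv_mul uB
  have hπX : algebraMap A B π * ((uB⁻¹ : Bˣ) : B) = πB ^ eB := by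
    rw [huB, mul_right_comm, Units.mul_inv, one_mul]
  letI algAK₁ : Algebra A K₁ := ((algebraMap K K₁).comp (algebraMap A K)).toAlgebra
  haveI : IsScalarTower A K K₁ := IsScalarTower.of_algebraMap_eq (fun _ => rfl)
  intro M _ _ _ _ _ _ hgen W hW
  intro hA hdvd
  letI algBM : Algebra B M := ((algebraMap L M).comp (algebraMap B L)).toAlgebra
  haveI : IsScalarTower B L M := IsScalarTower.of_algebraMap_eq (fun _ => rfl)
  have hW' : EtRam.Dominates B (algebraMap B M) W := hW
  have hcompat : ∀ a : A,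
      algebraMap K₁ M (algebraMap A K₁ a) = algebraMap B M (algebraMap A B a) := by
    intro a
    show algebraMap K₁ M (algebraMap K K₁ (algebraMap A K a)) =
      algebraMap L M (algebraMap B L (algebraMap A B a))
    rw [← IsScalarTower.algebraMap_apply K K₁ M, IsScalarTower.algebraMap_apply K L M,
      ← IsScalarTower.algebraMap_apply A K L, ← IsScalarTower.algebraMap_apply A B L]
  have hdomA : EtRam.Dominates A (algebraMap A K₁) (W.comap (algebraMap K₁ M)) := by
    apply RI.dominates_comap_of_comp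
    refine ⟨fun a => ?_, fun a ha => ?_⟩
    · show algebraMap K₁ M (algebraMap A K₁ a) ∈ W
      rw [hcompat]; exact hW'.1 _
    · show W.valuation (algebraMap K₁ M (algebraMap A K₁ a)) < 1
      rw [hcompat]
      apply hW'.2
      rw [mem_maximalIdeal, mem_nonunits_iff] at ha ⊢
      exact fun h => ha (isUnit_of_map_unit (algebraMap A B) a h)
  haveI : FiniteDimensional L M := by
    let g : L ⊗[K] K₁ →ₐ[L] M :=
      Algebra.TensorProduct.productLeftAlgHom (Algebra.ofId L M) (IsScalarTower.toAlgHom K K₁ M)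
    have hg : Function.Surjective g := by
      have hle : Algebra.adjoin L (Set.range (algebraMap K₁ M)) ≤ g.range := by
        apply Algebra.adjoin_le
        rintro _ ⟨k, rfl⟩
        exact ⟨(1 : L) ⊗ₜ[K] k, by simp [g, Algebra.TensorProduct.productLeftAlgHom]⟩
      rw [hgen, top_le_iff] at hle
      exact (AlgHom.range_eq_top g).mp hle
    exact Module.Finite.of_surjective g.toLinearMap hg
  -- the uniformizer of `V = W ∩ K₁`
  obtain ⟨y₀, hu⟩ := exists_isUnif (L := K) hπ hdomA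
  obtain ⟨e, he0, hpe⟩ := exists_pow_eq (L := K) hπ hdomA hu
  have hvπ0 : (W.comap (algebraMap K₁ M)).valuation (algebraMap A K₁ π) ≠ 0 :=
    (ASK.val_pi_pos hπ (ASK.algebraMap_inj A K K₁)).ne'
  have hπ0 : algebraMap A K₁ π ≠ 0 := (Valuation.ne_zero_iff _).mp hvπ0
  have hy₀V : y₀ ∈ W.comap (algebraMap K₁ M) :=
    ((W.comap (algebraMap K₁ M)).valuation_le_one_iff y₀).mp hu.1.le
  have hy00 : y₀ ≠ 0 := by
    intro h0
    rw [h0, map_zero, zero_pow he0] at hpe
    exact hvπ0 hpe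
  letI algAV : Algebra A (W.comap (algebraMap K₁ M)) :=
    (RingHom.codRestrict (algebraMap A K₁) (W.comap (algebraMap K₁ M)) hdomA.1).toAlgebra
  haveI locAV : IsLocalHom (algebraMap A (W.comap (algebraMap K₁ M))) :=
    RI.isLocalHom_of_dominates hdomA
  haveI : IsScalarTower A (W.comap (algebraMap K₁ M)) K₁ :=
    IsScalarTower.of_algebraMap_eq (fun _ => rfl)
  letI algVW : Algebra (W.comap (algebraMap K₁ M)) W :=
    (EtRam.inclOfComap W (algebraMap K₁ M)).toAlgebra
  haveI locVW : IsLocalHom (algebraMap (W.comap (algebraMap K₁ M)) W) :=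
    EtRam.isLocalHom_inclOfComap W (algebraMap K₁ M)
  letI algBW : Algebra B W := (RingHom.codRestrict (algebraMap B M) W hW'.1).toAlgebra
  haveI locBW : IsLocalHom (algebraMap B W) := RI.isLocalHom_of_dominates hW'
  letI algAW : Algebra A W := ((algebraMap B W).comp (algebraMap A B)).toAlgebra
  haveI : IsScalarTower A B W := IsScalarTower.of_algebraMap_eq (fun _ => rfl)
  haveI : IsScalarTower A (W.comap (algebraMap K₁ M)) W :=
    IsScalarTower.of_algebraMap_eq (fun a => Subtype.ext (hcompat a).symm)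
  haveI locAW : IsLocalHom (algebraMap A W) := ⟨fun a ha => by
    have h1 : IsUnit (algebraMap B W (algebraMap A B a)) := ha
    exact isUnit_of_map_unit (algebraMap A B) a (isUnit_of_map_unit (algebraMap B W) _ h1)⟩
  haveI halg : Algebra.IsAlgebraic (ResidueField A)
      (ResidueField (W.comap (algebraMap K₁ M))) :=
    isAlgebraic_residue (K := K) hπ (W.comap (algebraMap K₁ M)) hdomA
  obtain ⟨ϖ, hϖ⟩ : ∃ ϖ : W.comap (algebraMap K₁ M), (ϖ : K₁) = y₀ := ⟨⟨y₀, hy₀V⟩, rfl⟩
  have hY : maximalIdeal (W.comap (algebraMap K₁ M)) = Ideal.span {ϖ} :=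
    (RI.maximalIdeal_eq_span_iff _ ϖ (by rw [hϖ]; exact hy00)).mpr (by rw [hϖ]; exact hu)
  have hϖW : ((algebraMap (W.comap (algebraMap K₁ M)) W ϖ : W) : M) = algebraMap K₁ M y₀ := by
    rw [← hϖ]; rfl
  have hz : W.valuation (algebraMap K₁ M y₀) ^ e =
      W.valuation (algebraMap B M (algebraMap A B π)) := by
    have h1 := hpe
    rw [← map_pow] at h1
    have h2 := (RI.isEquiv_comap W (algebraMap K₁ M)).eq_iff.mp h1
    rw [Valuation.comap_apply, Valuation.comap_apply, map_pow, map_pow, hcompat] at h2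
    exact h2.symm
  have hlt : W.valuation (algebraMap K₁ M y₀) < 1 :=
    (RI.isEquiv_comap W (algebraMap K₁ M)).lt_one_iff_lt_one.mp hu.1
  -- ramification indices
  have hramV : Ideal.ramificationIdx' (maximalIdeal A)
      (maximalIdeal (W.comap (algebraMap K₁ M))) = e := by
    rw [RI.ramificationIdx'_eq_sSup (W.comap (algebraMap K₁ M)) π hπ]
    exact RI.HasOrdAt.sSup_eq ⟨he0, hπ0, hu, hpe⟩
  have hdvd' : eB ∣ e := by
    rw [← hramB, ← hramV]
    exact hdvd
  -- the units on the `V` side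
  have hvu : (W.comap (algebraMap K₁ M)).valuation (y₀ ^ e / algebraMap A K₁ π) = 1 := by
    rw [map_div₀, map_pow, ← hpe, div_self hvπ0]
  obtain ⟨uV, huV⟩ : ∃ uV : W.comap (algebraMap K₁ M), (uV : K₁) = y₀ ^ e / algebraMap A K₁ π :=
    ⟨⟨_, ((W.comap (algebraMap K₁ M)).valuation_le_one_iff _).mp hvu.le⟩, rfl⟩
  have hvu₁ : (W.comap (algebraMap K₁ M)).valuation (algebraMap A K₁ π / y₀ ^ e) = 1 := by
    rw [map_div₀, map_pow, ← hpe, div_self hvπ0]
  obtain ⟨uV₁, huV₁⟩ : ∃ uV₁ : W.comap (algebraMap K₁ M),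
      (uV₁ : K₁) = algebraMap A K₁ π / y₀ ^ e :=
    ⟨⟨_, ((W.comap (algebraMap K₁ M)).valuation_le_one_iff _).mp hvu₁.le⟩, rfl⟩
  have hy0e : y₀ ^ e ≠ 0 := pow_ne_zero _ hy00
  have huu₁ : uV * uV₁ = 1 := by
    apply Subtype.ext
    show (uV : K₁) * (uV₁ : K₁) = 1
    rw [huV, huV₁]
    field_simp
  have hπY : algebraMap A (W.comap (algebraMap K₁ M)) π * uV = ϖ ^ e := by
    apply Subtype.ext
    show algebraMap A K₁ π * (uV : K₁) = (ϖ : K₁) ^ e
    rw [huV, hϖ]
    field_simp
  have hπ0W : ((algebraMap A W π : W) : M) ≠ 0 := by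
    show algebraMap L M (algebraMap B L (algebraMap A B π)) ≠ 0
    exact (_root_.map_ne_zero _).mpr
      ((map_ne_zero_iff _ (IsFractionRing.injective B L)).mpr hπAB)
  have hQ : ∀ (d : ℕ) (η : ResidueField (W.comap (algebraMap K₁ M)) ⊗[ResidueField A]
      ResidueField B), d ≠ 0 → d ∣ eB → IsUnit η →
      ∀ x : AdjoinRoot (X ^ d - C η : (ResidueField (W.comap (algebraMap K₁ M)) ⊗[ResidueField A]
        ResidueField B)[X]), ∃ y, x = x * x * y := by
    intro d η hd hde hη x
    refine vnr_tensor_adjoinRoot d hd ?_ η hη x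
    intro hd0
    apply heBA
    obtain ⟨k, hk⟩ := hde
    rw [hk, Nat.cast_mul, hd0, zero_mul]
  -- archimedean property
  have hvπB : W.valuation (algebraMap B M (algebraMap A B π)) ≤
      W.valuation (algebraMap B M πB) := by
    rw [huB, map_mul, map_pow, map_mul, map_pow]
    have h1 : W.valuation (algebraMap B M (uB : B)) ≤ 1 :=
      (W.valuation_le_one_iff _).mpr (hW'.1 _)
    have h2 : W.valuation (algebraMap B M πB) ≤ 1 := (W.valuation_le_one_iff _).mpr (hW'.1 _)
    calc W.valuation (algebraMap B M (uB : B)) * W.valuation (algebraMap B M πB) ^ eB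
        ≤ 1 * W.valuation (algebraMap B M πB) ^ eB := mul_le_mul' h1 le_rfl
      _ = W.valuation (algebraMap B M πB) ^ eB := one_mul _
      _ ≤ W.valuation (algebraMap B M πB) := pow_le_of_le_one zero_le' h2 heB0
  have harch' : ∀ w : M, w ≠ 0 → ∃ n : ℕ,
      W.valuation ((algebraMap (W.comap (algebraMap K₁ M)) W ϖ : W) : M) ^ n < W.valuation w := by
    intro w hw0
    obtain ⟨n, hn⟩ := arch (L := L) hπB hW' w hw0
    refine ⟨e * n, ?_⟩
    rw [hϖW, pow_mul, hz]
    exact lt_of_le_of_lt (pow_le_pow_left₀ zero_le' hvπB n) hn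
  -- generation
  obtain ⟨Φ, hΦ⟩ : ∃ Φ : (W.comap (algebraMap K₁ M)) ⊗[A] B →+* M,
      ∀ c, Φ c = ((phiW W c : W) : M) := ⟨W.subtype.comp (phiW W).toRingHom, fun _ => rfl⟩
  have hΦtmul : ∀ (t : W.comap (algebraMap K₁ M)) (b : B),
      Φ (t ⊗ₜ[A] b) = algebraMap K₁ M (t : K₁) * algebraMap B M b := by
    intro t b
    rw [hΦ, phiW_tmul]
    rfl
  obtain ⟨z, hzdef⟩ : ∃ z : M, z = algebraMap K₁ M y₀ := ⟨_, rfl⟩
  have hΦϖ : Φ (ϖ ⊗ₜ[A] (1 : B)) = z := by rw [hΦtmul, map_one, mul_one, hϖ, hzdef]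
  obtain ⟨S, hS⟩ : ∃ S : M → Prop, ∀ y, S y ↔
      ∃ (N : ℕ) (c : (W.comap (algebraMap K₁ M)) ⊗[A] B), y * z ^ N = Φ c :=
    ⟨_, fun _ => Iff.rfl⟩
  have hS_add : ∀ y₁ y₂ : M, S y₁ → S y₂ → S (y₁ + y₂) := by
    intro y₁ y₂ h₁ h₂
    rw [hS] at h₁ h₂ ⊢
    obtain ⟨N₁, c₁, h₁⟩ := h₁
    obtain ⟨N₂, c₂, h₂⟩ := h₂
    refine ⟨N₁ + N₂, c₁ * (ϖ ⊗ₜ[A] (1 : B)) ^ N₂ + c₂ * (ϖ ⊗ₜ[A] (1 : B)) ^ N₁, ?_⟩
    rw [map_add, map_mul, map_mul, map_pow, map_pow, hΦϖ, ← h₁, ← h₂, pow_add]
    ring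
  have hS_mul : ∀ y₁ y₂ : M, S y₁ → S y₂ → S (y₁ * y₂) := by
    intro y₁ y₂ h₁ h₂
    rw [hS] at h₁ h₂ ⊢
    obtain ⟨N₁, c₁, h₁⟩ := h₁
    obtain ⟨N₂, c₂, h₂⟩ := h₂
    refine ⟨N₁ + N₂, c₁ * c₂, ?_⟩
    rw [map_mul, ← h₁, ← h₂, pow_add]
    ring
  have hS_f : ∀ k : K₁, S (algebraMap K₁ M k) := by
    intro k
    rw [hS]
    by_cases hk : k = 0
    · exact ⟨0, 0, by rw [hk, map_zero, zero_mul, map_zero]⟩
    obtain ⟨n, hn⟩ := arch (L := K) hπ hdomA k⁻¹ (inv_ne_zero hk)
    have hvk : 0 < (W.comap (algebraMap K₁ M)).valuation k :=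
      zero_lt_iff.mpr ((Valuation.ne_zero_iff _).mpr hk)
    have hmem : k * y₀ ^ (e * n) ∈ W.comap (algebraMap K₁ M) := by
      rw [← ValuationSubring.valuation_le_one_iff, map_mul, map_pow, pow_mul, ← hpe]
      rw [map_inv₀] at hn
      have h1 := mul_lt_mul_of_pos_left hn hvk
      rw [mul_inv_cancel₀ hvk.ne'] at h1
      exact h1.le
    refine ⟨e * n, (⟨k * y₀ ^ (e * n), hmem⟩ : W.comap (algebraMap K₁ M)) ⊗ₜ[A] (1 : B), ?_⟩
    rw [hΦtmul, map_one, mul_one, hzdef, ← map_pow, ← map_mul]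
  obtain ⟨t, htV, ht⟩ : ∃ t : K₁, t ∈ W.comap (algebraMap K₁ M) ∧
      t * algebraMap A K₁ π = y₀ ^ e := by
    refine ⟨y₀ ^ e / algebraMap A K₁ π, ?_, div_mul_cancel₀ _ hπ0⟩
    rw [← ValuationSubring.valuation_le_one_iff, map_div₀, map_pow, ← hpe, div_self hvπ0]
  have hS_L : ∀ l : L, S (algebraMap L M l) := by
    intro l
    rw [hS]
    by_cases hl : l = 0
    · exact ⟨0, 0, by rw [hl, map_zero, zero_mul, map_zero]⟩
    obtain ⟨u, k, hk⟩ := ASK.decomp hπB l hl
    obtain ⟨n, b, hnb⟩ : ∃ (n : ℕ) (b : B),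
        l * (algebraMap B L πB) ^ n = algebraMap B L b := by
      refine ⟨k.natAbs, (u : B) * πB ^ (k + k.natAbs).toNat, ?_⟩
      have hπL : algebraMap B L πB ≠ 0 := ASK.algK_pi_ne_zero hπB
      rw [hk, map_mul, map_pow, mul_assoc, ← zpow_natCast, ← zpow_natCast, ← zpow_add₀ hπL]
      congr 2
      omega
    obtain ⟨b', hb'⟩ := hπpow n
    have h1 : algebraMap L M l * (algebraMap B M (algebraMap A B π)) ^ n =
        algebraMap B M (b * b') := by
      have h := congrArg (algebraMap L M) hnb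
      rw [map_mul, map_pow, ← IsScalarTower.algebraMap_apply B L M,
        ← IsScalarTower.algebraMap_apply B L M] at h
      rw [← map_pow, hb', map_mul, map_mul, ← h, map_pow]
      ring
    have h2 : algebraMap K₁ M t * algebraMap B M (algebraMap A B π) = z ^ e := by
      rw [← hcompat, ← map_mul, ht, map_pow, hzdef]
    have htn : t ^ n ∈ W.comap (algebraMap K₁ M) := pow_mem htV n
    refine ⟨e * n, (⟨t ^ n, htn⟩ : W.comap (algebraMap K₁ M)) ⊗ₜ[A] (b * b'), ?_⟩
    rw [hΦtmul, ← h1, pow_mul, ← h2]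
    show algebraMap L M l * (algebraMap K₁ M t * algebraMap B M (algebraMap A B π)) ^ n =
      algebraMap K₁ M (t ^ n) * _
    rw [map_pow, mul_pow]
    ring
  have hgenS : ∀ y : M, S y := by
    intro y
    have hy : y ∈ Algebra.adjoin L (Set.range (algebraMap K₁ M)) := by
      rw [hgen]; exact Algebra.mem_top
    induction hy using Algebra.adjoin_induction with
    | mem x hx =>
      obtain ⟨k, rfl⟩ := hx
      exact hS_f k
    | algebraMap l => exact hS_L l
    | add x y _ _ hx hy => exact hS_add x y hx hy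
    | mul x y _ _ hx hy => exact hS_mul x y hx hy
  have hgen' : ∀ y : M, ∃ (N : ℕ) (c : (W.comap (algebraMap K₁ M)) ⊗[A] B),
      y * ((algebraMap (W.comap (algebraMap K₁ M)) W ϖ : W) : M) ^ N = ((phiW W c : W) : M) := by
    intro y
    obtain ⟨N, c, h⟩ := (hS y).mp (hgenS y)
    exact ⟨N, c, by rw [hϖW, ← hzdef, ← hΦ]; exact h⟩
  obtain ⟨t', ζ, hζW, d, e', eY', hd0, hed, heYd, hcop, hζd, hvt, hunif, hres⟩ :=
    tame_core' (A := A) (Xr := B) (Y := W.comap (algebraMap K₁ M)) W π πB hπB ϖ hY eB e heB0 he0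
      ((uB⁻¹ : Bˣ) : B) (uB : B) huX hπX uV uV₁ huu₁ hπY hπ0W hQ harch' hgen'
  have he'1 : e' = 1 := by
    have h1 : e' * d ∣ eY' * d := by rw [← hed, ← heYd]; exact hdvd'
    exact Nat.Coprime.eq_one_of_dvd hcop (Nat.dvd_of_mul_dvd_mul_right (Nat.pos_of_ne_zero hd0) h1)
  rw [he'1, pow_one, hϖW] at hvt
  have hunifz : RI.IsUnif W.valuation (algebraMap K₁ M y₀) :=
    ⟨by rw [← hvt]; exact hunif.1, fun s hs => by rw [← hvt]; exact hunif.2 s hs⟩
  refine ⟨?_, ?_⟩
  · exact (RI.isWeaklyUnramified_comap_iff W (algebraMap K₁ M)).mpr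
      (fun y hy => ⟨y₀, hlt, hunifz.2 y hy⟩)
  · have hdA : ((d : ℕ) : ResidueField A) ≠ 0 := by
      intro hd0'
      apply heBA
      rw [hed, Nat.cast_mul, hd0', mul_zero]
    have hrel : (residue W ⟨ζ, hζW⟩) ^ d *
        algebraMap (ResidueField (W.comap (algebraMap K₁ M))) (ResidueField W)
          (residue _ uV) =
        algebraMap (ResidueField B) (ResidueField W) (residue B ((uB⁻¹ : Bˣ) : B)) := by
      have h1 : (⟨ζ, hζW⟩ : W) ^ d * algebraMap (W.comap (algebraMap K₁ M)) W uV =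
          algebraMap B W ((uB⁻¹ : Bˣ) : B) := Subtype.ext hζd
      have h2 := congrArg (residue W) h1
      rw [map_mul, map_pow] at h2
      exact h2
    have hYY : algebraMap (ResidueField (W.comap (algebraMap K₁ M))) (ResidueField W)
          (residue _ uV) *
        algebraMap (ResidueField (W.comap (algebraMap K₁ M))) (ResidueField W)
          (residue _ uV₁) = 1 := by
      rw [← map_mul, ← map_mul, huu₁, map_one, map_one]
    have hζ' : (residue W ⟨ζ, hζW⟩) ^ d =
        psi (A := A) (X := B) (Y := W.comap (algebraMap K₁ M)) W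
          (residue _ uV₁ ⊗ₜ[ResidueField A] residue B ((uB⁻¹ : Bˣ) : B)) := by
      rw [psi_tmul, ← hrel]
      linear_combination (-(residue W ⟨ζ, hζW⟩) ^ d) * hYY
    have hηu : IsUnit ((residue (W.comap (algebraMap K₁ M)) uV₁) ⊗ₜ[ResidueField A]
        (residue B ((uB⁻¹ : Bˣ) : B))) := by
      refine IsUnit.of_mul_eq_one ((residue (W.comap (algebraMap K₁ M)) uV) ⊗ₜ[ResidueField A]
        (residue B (uB : B))) ?_
      rw [Algebra.TensorProduct.tmul_mul_tmul, ← map_mul, ← map_mul, mul_comm uV₁ uV, huu₁, huX,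
        map_one, map_one]
      rfl
    have hgr : Algebra.IsGeometricallyReduced (ResidueField (W.comap (algebraMap K₁ M)))
        (ResidueField W) :=
      geomRed_of_root_gen (psi (A := A) (X := B) (Y := W.comap (algebraMap K₁ M)) W) d hd0 hdA _
        hηu (residue W ⟨ζ, hζW⟩) hζ' (fun S h1 h2 w => by
          obtain ⟨w, rfl⟩ := residue_surjective w
          exact hres S (fun c => by rw [← psi_rho]; exact h1 _) h2 w)
    have heq : (ResidueField.map (EtRam.inclOfComap W (algebraMap K₁ M))).toAlgebra =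
        (inferInstance : Algebra (ResidueField (W.comap (algebraMap K₁ M))) (ResidueField W)) :=
      Algebra.algebra_ext _ _ (fun r => by
        obtain ⟨r, rfl⟩ := residue_surjective r
        rfl)
    rw [heq]
    exact hgr

end Groth.Agent.H8.BC
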