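import Mathlib

set_option autoImplicit false

namespace Groth.Agent.H8.BC

open Polynomial IsLocalRing

section

variable {A : Type*} [CommRing A] [IsDomain A] [IsLocalRing A] (π : A) (e : ℕ)

theorem root_pow_eq :
    (AdjoinRoot.root (X ^ e - C π : A[X])) ^ e = AdjoinRoot.of (X ^ e - C π : A[X]) π := by
  have h := AdjoinRoot.eval₂_root (X ^ e - C π : A[X])
  rw [eval₂_sub, eval₂_pow, eval₂_X, eval₂_C, sub_eq_zero] at h
  exact h

theorem exists_repr (x : AdjoinRoot (X ^ e - C π : A[X])) :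
    ∃ (y : AdjoinRoot (X ^ e - C π : A[X])) (a : A),
      x = y * AdjoinRoot.root (X ^ e - C π : A[X]) + AdjoinRoot.of (X ^ e - C π : A[X]) a := by
  obtain ⟨p, rfl⟩ := AdjoinRoot.mk_surjective x
  refine ⟨AdjoinRoot.mk _ p.divX, p.coeff 0, ?_⟩
  conv_lhs => rw [← divX_mul_X_add p]
  rw [map_add, map_mul, AdjoinRoot.mk_X, AdjoinRoot.mk_C]

variable (he : e ≠ 0)
include he

theorem of_injective : Function.Injective (AdjoinRoot.of (X ^ e - C π : A[X])) := by
  apply AdjoinRoot.of.injective_of_degree_ne_zero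
  rw [degree_X_pow_sub_C (Nat.pos_of_ne_zero he)]
  exact_mod_cast he

theorem comap_of_isMaximal (𝔐 : Ideal (AdjoinRoot (X ^ e - C π : A[X]))) [𝔐.IsMaximal] :
    𝔐.comap (algebraMap A (AdjoinRoot (X ^ e - C π : A[X]))) = maximalIdeal A := by
  haveI : Module.Finite A (AdjoinRoot (X ^ e - C π : A[X])) :=
    (monic_X_pow_sub_C π he).finite_adjoinRoot
  haveI : Algebra.IsIntegral A (AdjoinRoot (X ^ e - C π : A[X])) :=
    Algebra.IsIntegral.of_finite _ _
  have h := Ideal.isMaximal_comap_of_isIntegral_of_isMaximal (R := A) 𝔐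
  exact IsLocalRing.eq_maximalIdeal h

variable (hπ : maximalIdeal A = Ideal.span {π})
include hπ

theorem root_mem_of_isMaximal (𝔐 : Ideal (AdjoinRoot (X ^ e - C π : A[X]))) [h𝔐 : 𝔐.IsMaximal] :
    AdjoinRoot.root (X ^ e - C π : A[X]) ∈ 𝔐 := by
  have h1 : π ∈ 𝔐.comap (algebraMap A (AdjoinRoot (X ^ e - C π : A[X]))) := by
    rw [comap_of_isMaximal π e he 𝔐, hπ]
    exact Ideal.mem_span_singleton_self π
  have h2 : AdjoinRoot.of (X ^ e - C π : A[X]) π ∈ 𝔐 := by
    rw [← AdjoinRoot.algebraMap_eq]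
    exact h1
  rw [← root_pow_eq] at h2
  exact h𝔐.isPrime.mem_of_pow_mem e h2

theorem mem_isMaximal_iff (𝔐 : Ideal (AdjoinRoot (X ^ e - C π : A[X]))) [h𝔐 : 𝔐.IsMaximal]
    (y : AdjoinRoot (X ^ e - C π : A[X])) (a : A) :
    y * AdjoinRoot.root (X ^ e - C π : A[X]) + AdjoinRoot.of (X ^ e - C π : A[X]) a ∈ 𝔐 ↔
      a ∈ maximalIdeal A := by
  have hroot := root_mem_of_isMaximal π e he hπ 𝔐
  have h1 : y * AdjoinRoot.root (X ^ e - C π : A[X]) ∈ 𝔐 := 𝔐.mul_mem_left y hroot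
  rw [← comap_of_isMaximal π e he 𝔐, Ideal.mem_comap, AdjoinRoot.algebraMap_eq]
  exact 𝔐.add_mem_iff_right h1

theorem isLocalRing_adjoinRoot : IsLocalRing (AdjoinRoot (X ^ e - C π : A[X])) := by
  haveI : Nontrivial (AdjoinRoot (X ^ e - C π : A[X])) := (of_injective π e he).nontrivial
  obtain ⟨𝔐, h𝔐⟩ := Ideal.exists_maximal (AdjoinRoot (X ^ e - C π : A[X]))
  apply IsLocalRing.of_unique_max_ideal
  refine ⟨𝔐, h𝔐, fun 𝔑 h𝔑 => ?_⟩
  ext x
  obtain ⟨y, a, rfl⟩ := exists_repr π e x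
  haveI := h𝔐
  haveI := h𝔑
  rw [mem_isMaximal_iff π e he hπ 𝔑, mem_isMaximal_iff π e he hπ 𝔐]

variable [IsLocalRing (AdjoinRoot (X ^ e - C π : A[X]))]

theorem root_mem_maximalIdeal :
    AdjoinRoot.root (X ^ e - C π : A[X]) ∈ maximalIdeal (AdjoinRoot (X ^ e - C π : A[X])) :=
  root_mem_of_isMaximal π e he hπ _

theorem maximalIdeal_eq_span_root :
    maximalIdeal (AdjoinRoot (X ^ e - C π : A[X])) =
      Ideal.span {AdjoinRoot.root (X ^ e - C π : A[X])} := by
  apply le_antisymm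
  · intro x hx
    obtain ⟨y, a, rfl⟩ := exists_repr π e x
    rw [mem_isMaximal_iff π e he hπ, hπ] at hx
    obtain ⟨b, hb⟩ := Ideal.mem_span_singleton'.mp hx
    obtain ⟨e', he'⟩ : ∃ e', e = e' + 1 := ⟨e - 1, by omega⟩
    rw [Ideal.mem_span_singleton']
    refine ⟨y + AdjoinRoot.of _ b * AdjoinRoot.root (X ^ e - C π : A[X]) ^ e', ?_⟩
    have h1 : AdjoinRoot.of (X ^ e - C π : A[X]) a =
        AdjoinRoot.of (X ^ e - C π : A[X]) b * AdjoinRoot.root (X ^ e - C π : A[X]) ^ e := by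
      rw [← hb, map_mul, root_pow_eq]
    have hpow : AdjoinRoot.root (X ^ e - C π : A[X]) ^ e =
        AdjoinRoot.root (X ^ e - C π : A[X]) ^ e' * AdjoinRoot.root (X ^ e - C π : A[X]) := by
      rw [← pow_succ, ← he']
    rw [h1, hpow]
    ring
  · rw [Ideal.span_singleton_le_iff_mem]
    exact root_mem_maximalIdeal π e he hπ

theorem isLocalHom_algebraMap :
    IsLocalHom (algebraMap A (AdjoinRoot (X ^ e - C π : A[X]))) := by
  constructor
  intro a ha
  by_contra hna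
  have hm : a ∈ maximalIdeal A := (mem_maximalIdeal a).mpr (mem_nonunits_iff.mpr hna)
  rw [← comap_of_isMaximal π e he (maximalIdeal (AdjoinRoot (X ^ e - C π : A[X]))),
    Ideal.mem_comap] at hm
  exact (mem_nonunits_iff.mp ((mem_maximalIdeal _).mp hm)) ha

theorem residue_algebraMap_surjective
    [IsLocalHom (algebraMap A (AdjoinRoot (X ^ e - C π : A[X])))] :
    Function.Surjective (algebraMap (ResidueField A)
      (ResidueField (AdjoinRoot (X ^ e - C π : A[X])))) := by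
  intro x
  obtain ⟨x, rfl⟩ := residue_surjective x
  obtain ⟨y, a, rfl⟩ := exists_repr π e x
  refine ⟨residue A a, ?_⟩
  have h1 : residue _ (y * AdjoinRoot.root (X ^ e - C π : A[X])) = 0 := by
    rw [residue_eq_zero_iff]
    exact Ideal.mul_mem_left _ _ (root_mem_maximalIdeal π e he hπ)
  rw [map_add, h1, zero_add, ← AdjoinRoot.algebraMap_eq]
  rfl

end

end Groth.Agent.H8.BC
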