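import Mathlib
import Groth.Prelude.Def_EtRam
import Groth.Agent.Lib.Helper8.ASK.Dom
import Groth.Agent.Lib.Helper8.ASK.RamIdx
import Groth.Agent.Lib.Helper8.ASK.BCCore
import Groth.Agent.Lib.Helper8.ASK.Arch
import Groth.Agent.Lib.Helper8.ASK.UnrBC
import Groth.Agent.Lib.Helper8.ASK.RedAdjoin
import Groth.Agent.Lib.Helper8.ASK.TameCore2
import Groth.Agent.Lib.Helper8.ASK.AdjoinRootDVR

set_option autoImplicit false
universe u

namespace Groth.Agent.H8.BC

open IsLocalRing TensorProduct Polynomial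

section Sep

variable {A Xr Y M : Type u} [CommRing A] [IsLocalRing A] [CommRing Xr] [IsLocalRing Xr]
  [CommRing Y] [IsLocalRing Y] [Field M] (W : ValuationSubring M)
  [Algebra A Xr] [Algebra A Y] [Algebra A W] [Algebra Xr W] [Algebra Y W]
  [IsScalarTower A Xr W] [IsScalarTower A Y W]
  [IsLocalHom (algebraMap A Xr)] [IsLocalHom (algebraMap A Y)] [IsLocalHom (algebraMap A W)]
  [IsLocalHom (algebraMap Xr W)] [IsLocalHom (algebraMap Y W)]

/-- Separability of the residue field extension `κ(W)/κ(Y)` from the output of `tame_core`. -/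
theorem sep_of_tame_core [Algebra.IsSeparable (ResidueField A) (ResidueField Xr)]
    (u u₁ : Xr) (hu : u * u₁ = 1) (uY uY₁ : Y) (huY : uY * uY₁ = 1)
    (ζ : M) (hζW : ζ ∈ W) (d : ℕ) (hd0 : d ≠ 0) (hdA : ((d : ℕ) : ResidueField A) ≠ 0)
    (hζd : ζ ^ d * ((algebraMap Y W uY : W) : M) = ((algebraMap Xr W u : W) : M))
    (hres : ∀ E : Subring (ResidueField W), (∀ c : Y ⊗[A] Xr, residue W (phiW W c) ∈ E) →
        residue W ⟨ζ, hζW⟩ ∈ E → ∀ w : W, residue W w ∈ E) :
    Algebra.IsSeparable (ResidueField Y) (ResidueField W) := by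
  have hsepX : ∀ x : ResidueField Xr,
      algebraMap (ResidueField Xr) (ResidueField W) x ∈
        separableClosure (ResidueField Y) (ResidueField W) := by
    intro x
    rw [mem_separableClosure_iff]
    refine IsSeparable.tower_top (F := ResidueField A) (ResidueField Y) ?_
    have hx : IsSeparable (ResidueField A) x := Algebra.IsSeparable.isSeparable _ x
    exact hx.map (IsScalarTower.toAlgHom (ResidueField A)
      (ResidueField Xr) (ResidueField W))
      (IsScalarTower.toAlgHom (ResidueField A)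
        (ResidueField Xr) (ResidueField W)).toRingHom.injective
  have key : ∀ c : ResidueField Y ⊗[ResidueField A]
      ResidueField Xr,
      psi (A := A) (X := Xr) (Y := Y) W c ∈
        separableClosure (ResidueField Y) (ResidueField W) := by
    intro c
    induction c using TensorProduct.induction_on with
    | zero => rw [map_zero]; exact zero_mem _
    | tmul y x =>
      rw [psi_tmul]
      exact mul_mem (IntermediateField.algebraMap_mem _ y) (hsepX x)
    | add a b ha hb => rw [map_add]; exact add_mem ha hb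
  have hE1 : ∀ c : Y ⊗[A] Xr, residue W (phiW W c) ∈
      (separableClosure (ResidueField Y) (ResidueField W)).toSubalgebra.toSubring := by
    intro c
    rw [← psi_rho]
    exact key _
  have hE2 : residue W ⟨ζ, hζW⟩ ∈
      (separableClosure (ResidueField Y) (ResidueField W)).toSubalgebra.toSubring := by
    show residue W ⟨ζ, hζW⟩ ∈ separableClosure (ResidueField Y) (ResidueField W)
    rw [mem_separableClosure_iff]
    -- the relation in the residue field
    have hrel : (residue W ⟨ζ, hζW⟩) ^ d *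
        algebraMap (ResidueField Y) (ResidueField W) (residue Y uY) =
        algebraMap (ResidueField Xr) (ResidueField W)
          (residue _ u) := by
      have h1 : (⟨ζ, hζW⟩ : W) ^ d * algebraMap Y W uY =
          algebraMap Xr W u := Subtype.ext hζd
      have h2 := congrArg (residue W) h1
      rw [map_mul, map_pow] at h2
      exact h2
    have hνu : IsUnit (algebraMap (ResidueField Y) (ResidueField W)
        (residue Y uY)) :=
      (((IsUnit.of_mul_eq_one uY₁ huY).map (residue Y)).map _)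
    obtain ⟨η, hη⟩ : ∃ η : separableClosure (ResidueField Y) (ResidueField W),
        (η : ResidueField W) = (residue W ⟨ζ, hζW⟩) ^ d := by
      refine ⟨⟨(residue W ⟨ζ, hζW⟩) ^ d, ?_⟩, rfl⟩
      have h3 : (residue W ⟨ζ, hζW⟩) ^ d =
          algebraMap (ResidueField Xr) (ResidueField W)
            (residue _ u) *
          (algebraMap (ResidueField Y) (ResidueField W)
            (residue Y uY))⁻¹ := by
        rw [← hrel, mul_assoc, mul_inv_cancel₀ hνu.ne_zero, mul_one]
      rw [h3]
      exact mul_mem (hsepX _) (inv_mem (IntermediateField.algebraMap_mem _ _))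
    have hζ0 : residue W ⟨ζ, hζW⟩ ≠ 0 := by
      intro h0
      have hu1 : IsUnit (algebraMap (ResidueField Xr)
          (ResidueField W) (residue _ u)) :=
        (((IsUnit.of_mul_eq_one u₁ hu).map (residue _)).map _)
      rw [h0, zero_pow hd0, zero_mul] at hrel
      exact hu1.ne_zero hrel.symm
    have hη0 : η ≠ 0 := by
      intro h0
      rw [h0] at hη
      exact pow_ne_zero d hζ0 hη.symm
    have hdE : ((d : ℕ) : separableClosure (ResidueField Y) (ResidueField W)) ≠ 0 := by
      intro hd0'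
      apply hdA
      apply (algebraMap (ResidueField A)
        (separableClosure (ResidueField Y) (ResidueField W))).injective
      rw [map_natCast, map_zero]
      exact hd0'
    have hsepP := separable_X_pow_sub_C η hdE hη0
    have haeval : aeval (residue W ⟨ζ, hζW⟩) (X ^ d - C η :
        (separableClosure (ResidueField Y) (ResidueField W))[X]) = 0 := by
      rw [map_sub, map_pow, aeval_X, aeval_C]
      show (residue W ⟨ζ, hζW⟩) ^ d - (η : ResidueField W) = 0
      rw [hη, sub_self]
    have hsepζ : IsSeparable (separableClosure (ResidueField Y) (ResidueField W))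
        (residue W ⟨ζ, hζW⟩) :=
      hsepP.of_dvd (minpoly.dvd _ _ haeval)
    exact IsSeparable.of_algebra_isSeparable_of_isSeparable (ResidueField Y) hsepζ
  constructor
  intro w
  obtain ⟨w, rfl⟩ := residue_surjective w
  exact mem_separableClosure_iff.mp (hres _ hE1 hE2 w)

end Sep

/-- Abhyankar's lemma, local form: `L/K` tamely ramified with respect to the DVR `A`, `A₁` a local
`A`-algebra with uniformizer `z'`, `π = z' ^ e`, where `e` is invertible in the residue field and
divisible by all ramification indices of `L`; `L' = L(z)`. Then `L'` is unramified with respect to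
`A₁`. -/
theorem abhyankar_unr {A K L L' A₁ : Type u} [CommRing A] [IsDomain A] [IsDiscreteValuationRing A]
    [Field K] [Algebra A K] [IsFractionRing A K] [Field L] [Algebra K L] [Algebra A L]
    [IsScalarTower A K L] [FiniteDimensional K L]
    (π : A) (hπ : maximalIdeal A = Ideal.span {π})
    (h : EtRam.IsTamelyRamified A (algebraMap A L))
    (e : ℕ) (he : 0 < e) (heA : ((e : ℕ) : ResidueField A) ≠ 0)
    (hdiv : ∀ (V : ValuationSubring L), EtRam.Dominates A (algebraMap A L) V →
      ∀ (y₀ : L) (eV : ℕ), RI.IsUnif V.valuation y₀ →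
        V.valuation (algebraMap A L π) = V.valuation y₀ ^ eV → eV ∣ e)
    [Field L'] [Algebra L L'] [Algebra K L'] [IsScalarTower K L L'] [Algebra A L']
    [IsScalarTower A K L'] [IsScalarTower A L L'] [FiniteDimensional K L']
    (z : L') (hzP : z ^ e = algebraMap A L' π) (hgenz : Algebra.adjoin L {z} = ⊤)
    [CommRing A₁] [IsLocalRing A₁] [Algebra A A₁] [IsLocalHom (algebraMap A A₁)]
    (z' : A₁) (hmA₁ : maximalIdeal A₁ = Ideal.span {z'}) (hz'e : algebraMap A A₁ π = z' ^ e)
    [Algebra A₁ L'] [IsScalarTower A A₁ L'] (hroot : algebraMap A₁ L' z' = z) :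
    EtRam.IsUnramifiedExt A₁ (algebraMap A₁ L') := by
  intro W hW
  letI algA₁W : Algebra A₁ W := (RingHom.codRestrict (algebraMap A₁ L') W hW.1).toAlgebra
  intro locA₁W
  have hπm : π ∈ maximalIdeal A := ASK.pi_mem hπ
  have hπL'0 : algebraMap A L' π ≠ 0 := ASK.algL_pi_ne_zero hπ (ASK.algebraMap_inj A K L')
  have hdomAW : EtRam.Dominates A (algebraMap A L') W := by
    refine ⟨fun a => ?_, fun a ha => ?_⟩
    · rw [IsScalarTower.algebraMap_apply A A₁ L']
      exact hW.1 _
    · rw [IsScalarTower.algebraMap_apply A A₁ L']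
      apply hW.2
      rw [mem_maximalIdeal, mem_nonunits_iff] at ha ⊢
      exact fun hu => ha (isUnit_of_map_unit (algebraMap A A₁) a hu)
  have hdomA : EtRam.Dominates A (algebraMap A L) (W.comap (algebraMap L L')) := by
    apply RI.dominates_comap_of_comp
    refine ⟨fun a => ?_, fun a ha => ?_⟩
    · show algebraMap L L' (algebraMap A L a) ∈ W
      rw [← IsScalarTower.algebraMap_apply A L L']
      exact hdomAW.1 a
    · show W.valuation (algebraMap L L' (algebraMap A L a)) < 1
      rw [← IsScalarTower.algebraMap_apply A L L']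
      exact hdomAW.2 a ha
  letI algAV : Algebra A (W.comap (algebraMap L L')) :=
    (RingHom.codRestrict (algebraMap A L) (W.comap (algebraMap L L')) hdomA.1).toAlgebra
  haveI locAV : IsLocalHom (algebraMap A (W.comap (algebraMap L L'))) :=
    RI.isLocalHom_of_dominates hdomA
  obtain ⟨hsep, -⟩ := @h (W.comap (algebraMap L L')) hdomA locAV
  haveI : IsScalarTower A (W.comap (algebraMap L L')) L :=
    IsScalarTower.of_algebraMap_eq (fun _ => rfl)
  letI algVW : Algebra (W.comap (algebraMap L L')) W :=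
    (EtRam.inclOfComap W (algebraMap L L')).toAlgebra
  haveI locVW : IsLocalHom (algebraMap (W.comap (algebraMap L L')) W) :=
    EtRam.isLocalHom_inclOfComap W (algebraMap L L')
  letI algAW : Algebra A W := ((algebraMap A₁ W).comp (algebraMap A A₁)).toAlgebra
  haveI : IsScalarTower A A₁ W := IsScalarTower.of_algebraMap_eq (fun _ => rfl)
  have hcompat : ∀ a : A,
      algebraMap L L' (algebraMap A L a) = algebraMap A₁ L' (algebraMap A A₁ a) := by
    intro a
    rw [← IsScalarTower.algebraMap_apply A L L', ← IsScalarTower.algebraMap_apply A A₁ L']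
  haveI : IsScalarTower A (W.comap (algebraMap L L')) W :=
    IsScalarTower.of_algebraMap_eq (fun a => Subtype.ext (hcompat a).symm)
  haveI locAW : IsLocalHom (algebraMap A W) := ⟨fun a ha => by
    have h1 : IsUnit (algebraMap A₁ W (algebraMap A A₁ a)) := ha
    exact isUnit_of_map_unit (algebraMap A A₁) a (isUnit_of_map_unit (algebraMap A₁ W) _ h1)⟩
  haveI hfin : Module.Finite (ResidueField A) (ResidueField (W.comap (algebraMap L L'))) :=
    finite_residue (K := K) hπ (W.comap (algebraMap L L')) hdomA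
  -- the uniformizer of `V' = W ∩ K'`
  obtain ⟨y₀, hu⟩ := exists_isUnif (L := K) hπ hdomA
  obtain ⟨eV, heV0, hpe⟩ := exists_pow_eq (L := K) hπ hdomA hu
  have hvπ0 : (W.comap (algebraMap L L')).valuation (algebraMap A L π) ≠ 0 :=
    (ASK.val_pi_pos hπ (ASK.algebraMap_inj A K L)).ne'
  have hπ0 : algebraMap A L π ≠ 0 := (Valuation.ne_zero_iff _).mp hvπ0
  have hy₀V : y₀ ∈ W.comap (algebraMap L L') :=
    ((W.comap (algebraMap L L')).valuation_le_one_iff y₀).mp hu.1.le
  have hy00 : y₀ ≠ 0 := by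
    intro h0
    rw [h0, map_zero, zero_pow heV0] at hpe
    exact hvπ0 hpe
  obtain ⟨ϖV, hϖV⟩ : ∃ ϖV : W.comap (algebraMap L L'), (ϖV : L) = y₀ := ⟨⟨y₀, hy₀V⟩, rfl⟩
  have hXm : maximalIdeal (W.comap (algebraMap L L')) = Ideal.span {ϖV} :=
    (RI.maximalIdeal_eq_span_iff _ ϖV (by rw [hϖV]; exact hy00)).mpr (by rw [hϖV]; exact hu)
  have hvu : (W.comap (algebraMap L L')).valuation (y₀ ^ eV / algebraMap A L π) = 1 := by
    rw [map_div₀, map_pow, ← hpe, div_self hvπ0]
  obtain ⟨uV, huV⟩ : ∃ uV : W.comap (algebraMap L L'), (uV : L) = y₀ ^ eV / algebraMap A L π :=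
    ⟨⟨_, ((W.comap (algebraMap L L')).valuation_le_one_iff _).mp hvu.le⟩, rfl⟩
  have hvu₁ : (W.comap (algebraMap L L')).valuation (algebraMap A L π / y₀ ^ eV) = 1 := by
    rw [map_div₀, map_pow, ← hpe, div_self hvπ0]
  obtain ⟨uV₁, huV₁⟩ : ∃ uV₁ : W.comap (algebraMap L L'),
      (uV₁ : L) = algebraMap A L π / y₀ ^ eV :=
    ⟨⟨_, ((W.comap (algebraMap L L')).valuation_le_one_iff _).mp hvu₁.le⟩, rfl⟩
  have hy0e : y₀ ^ eV ≠ 0 := pow_ne_zero _ hy00
  have huu₁ : uV * uV₁ = 1 := by
    apply Subtype.ext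
    show (uV : L) * (uV₁ : L) = 1
    rw [huV, huV₁]
    field_simp
  have hπX : algebraMap A (W.comap (algebraMap L L')) π * uV = ϖV ^ eV := by
    apply Subtype.ext
    show algebraMap A L π * (uV : L) = (ϖV : L) ^ eV
    rw [huV, hϖV]
    field_simp
  have hram : Ideal.ramificationIdx' (maximalIdeal A)
      (maximalIdeal (W.comap (algebraMap L L'))) = eV := by
    rw [RI.ramificationIdx'_eq_sSup (W.comap (algebraMap L L')) π hπ]
    exact RI.HasOrdAt.sSup_eq ⟨heV0, hπ0, hu, hpe⟩
  have hdvd : eV ∣ e := hdiv _ hdomA y₀ eV hu hpe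
  have heVA : ((eV : ℕ) : ResidueField A) ≠ 0 := by
    intro h0
    obtain ⟨k, hk⟩ := hdvd
    apply heA
    rw [hk, Nat.cast_mul, h0, zero_mul]
  have hπY : algebraMap A A₁ π * 1 = z' ^ e := by rw [mul_one, hz'e]
  have hπ0W : ((algebraMap A W π : W) : L') ≠ 0 := by
    show algebraMap A₁ L' (algebraMap A A₁ π) ≠ 0
    rw [← IsScalarTower.algebraMap_apply A A₁ L']
    exact hπL'0
  have hQ : ∀ (d : ℕ) (η : ResidueField A₁ ⊗[ResidueField A]
      ResidueField (W.comap (algebraMap L L'))), d ≠ 0 → d ∣ eV → IsUnit η →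
      ∀ x : AdjoinRoot (X ^ d - C η : (ResidueField A₁ ⊗[ResidueField A]
        ResidueField (W.comap (algebraMap L L')))[X]), ∃ y, x = x * x * y := by
    intro d η hd hde hη x
    haveI : Algebra.IsSeparable (ResidueField A)
        (ResidueField (W.comap (algebraMap L L'))) := hsep
    haveI : Algebra.FormallyUnramified (ResidueField A)
        (ResidueField (W.comap (algebraMap L L'))) :=
      Algebra.FormallyUnramified.of_isSeparable _ _
    haveI : IsReduced (ResidueField A₁ ⊗[ResidueField A]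
        ResidueField (W.comap (algebraMap L L'))) :=
      Algebra.FormallyUnramified.isReduced_of_field (ResidueField A₁) _
    refine vnr_adjoinRoot (F := ResidueField A₁) d hd η hη ?_ x
    intro hd0
    apply heVA
    obtain ⟨k, hk⟩ := hde
    have h1 : ((d * k : ℕ) : ResidueField A₁) = 0 := by rw [Nat.cast_mul, hd0, zero_mul]
    apply (algebraMap (ResidueField A) (ResidueField A₁)).injective
    rw [map_natCast, map_zero, hk]
    exact h1
  have hz'z : ((algebraMap A₁ W z' : W) : L') = z := hroot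
  have hvz : W.valuation (algebraMap A L' π) = W.valuation z ^ e := by rw [← hzP, map_pow]
  have harch : ∀ w : L', w ≠ 0 → ∃ n : ℕ,
      W.valuation ((algebraMap A₁ W z' : W) : L') ^ n < W.valuation w := by
    intro w hw
    obtain ⟨n, hn⟩ := arch (L := K) hπ hdomAW w hw
    refine ⟨e * n, ?_⟩
    rw [hz'z, pow_mul, ← hvz]
    exact hn
  -- generation
  obtain ⟨Φ, hΦ⟩ : ∃ Φ : A₁ ⊗[A] (W.comap (algebraMap L L')) →+* L',
      ∀ c, Φ c = ((phiW W c : W) : L') := ⟨W.subtype.comp (phiW W).toRingHom, fun _ => rfl⟩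
  have hΦtmul : ∀ (b : A₁) (t : W.comap (algebraMap L L')),
      Φ (b ⊗ₜ[A] t) = algebraMap A₁ L' b * algebraMap L L' (t : L) := by
    intro b t
    rw [hΦ, phiW_tmul]
    rfl
  have hΦϖ : Φ (z' ⊗ₜ[A] (1 : W.comap (algebraMap L L'))) = z := by
    rw [hΦtmul, hroot]
    show z * algebraMap L L' (1 : L) = z
    rw [map_one, mul_one]
  obtain ⟨S, hS⟩ : ∃ S : L' → Prop, ∀ y, S y ↔
      ∃ (N : ℕ) (c : A₁ ⊗[A] (W.comap (algebraMap L L'))), y * z ^ N = Φ c :=
    ⟨_, fun _ => Iff.rfl⟩
  have hS_add : ∀ y₁ y₂ : L', S y₁ → S y₂ → S (y₁ + y₂) := by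
    intro y₁ y₂ h₁ h₂
    rw [hS] at h₁ h₂ ⊢
    obtain ⟨N₁, c₁, h₁⟩ := h₁
    obtain ⟨N₂, c₂, h₂⟩ := h₂
    refine ⟨N₁ + N₂, c₁ * (z' ⊗ₜ[A] (1 : W.comap (algebraMap L L'))) ^ N₂ +
      c₂ * (z' ⊗ₜ[A] (1 : W.comap (algebraMap L L'))) ^ N₁, ?_⟩
    rw [map_add, map_mul, map_mul, map_pow, map_pow, hΦϖ, ← h₁, ← h₂, pow_add]
    ring
  have hS_mul : ∀ y₁ y₂ : L', S y₁ → S y₂ → S (y₁ * y₂) := by
    intro y₁ y₂ h₁ h₂
    rw [hS] at h₁ h₂ ⊢
    obtain ⟨N₁, c₁, h₁⟩ := h₁
    obtain ⟨N₂, c₂, h₂⟩ := h₂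
    refine ⟨N₁ + N₂, c₁ * c₂, ?_⟩
    rw [map_mul, ← h₁, ← h₂, pow_add]
    ring
  have hS_L : ∀ l : L, S (algebraMap L L' l) := by
    intro l
    rw [hS]
    by_cases hl : l = 0
    · exact ⟨0, 0, by rw [hl, map_zero, zero_mul, map_zero]⟩
    obtain ⟨n, hn⟩ := arch (L := K) hπ hdomA l⁻¹ (inv_ne_zero hl)
    have hvl : 0 < (W.comap (algebraMap L L')).valuation l :=
      zero_lt_iff.mpr ((Valuation.ne_zero_iff _).mpr hl)
    have hmem : l * (algebraMap A L π) ^ n ∈ W.comap (algebraMap L L') := by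
      rw [← ValuationSubring.valuation_le_one_iff, map_mul, map_pow]
      rw [map_inv₀] at hn
      have h1 := mul_lt_mul_of_pos_left hn hvl
      rw [mul_inv_cancel₀ hvl.ne'] at h1
      exact h1.le
    refine ⟨e * n, (1 : A₁) ⊗ₜ[A]
      (⟨l * (algebraMap A L π) ^ n, hmem⟩ : W.comap (algebraMap L L')), ?_⟩
    rw [hΦtmul, map_one, one_mul, pow_mul, hzP]
    show algebraMap L L' l * algebraMap A L' π ^ n =
      algebraMap L L' (l * (algebraMap A L π) ^ n)
    rw [map_mul, map_pow, ← IsScalarTower.algebraMap_apply A L L']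
  have hS_z : S z := by
    rw [hS]
    exact ⟨0, z' ⊗ₜ[A] (1 : W.comap (algebraMap L L')), by rw [pow_zero, mul_one, hΦϖ]⟩
  have hgenS : ∀ y : L', S y := by
    intro y
    have hy : y ∈ Algebra.adjoin L {z} := by rw [hgenz]; exact Algebra.mem_top
    induction hy using Algebra.adjoin_induction with
    | mem x hx =>
      rw [Set.mem_singleton_iff] at hx
      rw [hx]
      exact hS_z
    | algebraMap l => exact hS_L l
    | add x y _ _ hx hy => exact hS_add x y hx hy
    | mul x y _ _ hx hy => exact hS_mul x y hx hy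
  have hgen' : ∀ y : L', ∃ (N : ℕ) (c : A₁ ⊗[A] (W.comap (algebraMap L L'))),
      y * ((algebraMap A₁ W z' : W) : L') ^ N = ((phiW W c : W) : L') := by
    intro y
    obtain ⟨N, c, hNc⟩ := (hS _).mp (hgenS y)
    exact ⟨N, c, by rw [hz'z, ← hΦ]; exact hNc⟩
  obtain ⟨t, ζ, hζW, d, e', eY', hd0, hed, heYd, hcop, hζd, hvt, hunif, hres⟩ :=
    tame_core' (A := A) (Xr := W.comap (algebraMap L L')) (Y := A₁) W π ϖV hXm z' hmA₁ eV e
      heV0 he.ne' uV uV₁ huu₁ hπX 1 1 (mul_one 1) hπY hπ0W hQ harch hgen'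
  have he'1 : e' = 1 := by
    have h1 : e' * d ∣ eY' * d := by
      rw [← hed, ← heYd]
      exact hdvd
    exact Nat.Coprime.eq_one_of_dvd hcop
      (Nat.dvd_of_mul_dvd_mul_right (Nat.pos_of_ne_zero hd0) h1)
  rw [he'1, pow_one] at hvt
  refine ⟨?_, ?_⟩
  · have ha : ((algebraMap A₁ W z' : W) : L') ≠ 0 := by
      rw [hz'z]
      intro h0
      rw [h0, zero_pow he.ne'] at hzP
      exact hπL'0 hzP.symm
    refine (RI.isWeaklyUnramified_iff W z' hmA₁ ha).mpr ⟨?_, fun y hy => ?_⟩
    · rw [← hvt]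
      exact hunif.1
    · rw [← hvt]
      exact hunif.2 y hy
  · haveI : Algebra.IsSeparable (ResidueField A)
        (ResidueField (W.comap (algebraMap L L'))) := hsep
    have hdA : ((d : ℕ) : ResidueField A) ≠ 0 := by
      intro h0
      apply heVA
      rw [hed, Nat.cast_mul, h0, mul_zero]
    exact sep_of_tame_core W uV uV₁ huu₁ 1 1 (mul_one 1) ζ hζW d hd0 hdA hζd hres

/-- Abhyankar's lemma: the forward construction. -/
theorem abhyankar_fwd {A K L : Type u} [CommRing A] [IsDomain A] [IsDiscreteValuationRing A]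
    [Field K] [Algebra A K] [IsFractionRing A K] [Field L] [Algebra K L] [Algebra A L]
    [IsScalarTower A K L] [FiniteDimensional K L] [Algebra.IsSeparable K L]
    (π : A) (hπ : maximalIdeal A = Ideal.span {π})
    (h : EtRam.IsTamelyRamified A (algebraMap A L))
    (e : ℕ) (he : 0 < e) (heA : ((e : ℕ) : ResidueField A) ≠ 0)
    (hdiv : ∀ (V : ValuationSubring L), EtRam.Dominates A (algebraMap A L) V →
      ∀ (y₀ : L) (eV : ℕ), RI.IsUnif V.valuation y₀ →
        V.valuation (algebraMap A L π) = V.valuation y₀ ^ eV → eV ∣ e) :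
    ∃ (L' : Type u) (_ : Field L') (_ : Algebra K L')
      (_ : Algebra (AdjoinRoot (X ^ e - C π : A[X])) L') (_ : L →ₐ[K] L'),
      FiniteDimensional K L' ∧ Algebra.IsSeparable K L' ∧
      (algebraMap (AdjoinRoot (X ^ e - C π : A[X])) L').comp (AdjoinRoot.of (X ^ e - C π)) =
        (algebraMap K L').comp (algebraMap A K) ∧
      ∀ [IsLocalRing (AdjoinRoot (X ^ e - C π : A[X]))],
        EtRam.IsUnramifiedExt (AdjoinRoot (X ^ e - C π : A[X]))
          (algebraMap (AdjoinRoot (X ^ e - C π : A[X])) L') := by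
  classical
  have hinjAL : Function.Injective (algebraMap A L) := ASK.algebraMap_inj A K L
  have hπL0 : algebraMap A L π ≠ 0 := ASK.algL_pi_ne_zero hπ hinjAL
  have heL : ((e : ℕ) : L) ≠ 0 := by
    intro h0
    apply heA
    have h1 : algebraMap A L ((e : ℕ) : A) = 0 := by rw [map_natCast]; exact h0
    have h2 : ((e : ℕ) : A) = 0 := hinjAL (h1.trans (map_zero _).symm)
    have h3 : residue A ((e : ℕ) : A) = 0 := by rw [h2, map_zero]
    rwa [map_natCast] at h3
  have hPmonic : (X ^ e - C (algebraMap A L π) : L[X]).Monic := monic_X_pow_sub_C _ he.ne'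
  have hPsep : (X ^ e - C (algebraMap A L π) : L[X]).Separable :=
    separable_X_pow_sub_C _ heL hπL0
  have hPnu : ¬ IsUnit (X ^ e - C (algebraMap A L π) : L[X]) := by
    intro hu
    have h1 := degree_eq_zero_of_isUnit hu
    rw [degree_X_pow_sub_C he] at h1
    exact he.ne' (by exact_mod_cast h1)
  obtain ⟨q, hqirr, hqdvd⟩ := WfDvdMonoid.exists_irreducible_factor hPnu hPmonic.ne_zero
  haveI : Fact (Irreducible q) := ⟨hqirr⟩
  have haev : aeval (AdjoinRoot.root q) (X ^ e - C (algebraMap A L π) : L[X]) = 0 := by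
    rw [AdjoinRoot.aeval_eq, AdjoinRoot.mk_eq_zero]
    exact hqdvd
  have hzP : (AdjoinRoot.root q) ^ e = algebraMap L (AdjoinRoot q) (algebraMap A L π) := by
    have h1 := haev
    rw [map_sub, map_pow, aeval_X, aeval_C, sub_eq_zero] at h1
    exact h1
  haveI hfinL : Module.Finite L (AdjoinRoot q) := (AdjoinRoot.powerBasis hqirr.ne_zero).finite
  haveI hfinK : Module.Finite K (AdjoinRoot q) := Module.Finite.trans L (AdjoinRoot q)
  haveI hsepL : Algebra.IsSeparable L (AdjoinRoot q) := by
    have hzsep : IsSeparable L (AdjoinRoot.root q) := hPsep.of_dvd (minpoly.dvd L _ haev)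
    have hle : Algebra.adjoin L {AdjoinRoot.root q} ≤
        (separableClosure L (AdjoinRoot q)).toSubalgebra := by
      apply Algebra.adjoin_le
      intro x hx
      rw [Set.mem_singleton_iff] at hx
      rw [hx]
      exact hzsep
    rw [AdjoinRoot.adjoinRoot_eq_top] at hle
    constructor
    intro x
    exact mem_separableClosure_iff.mp (hle Algebra.mem_top)
  haveI hsepK : Algebra.IsSeparable K (AdjoinRoot q) :=
    Algebra.IsSeparable.trans K L (AdjoinRoot q)
  obtain ⟨i, hi⟩ : ∃ i : A →+* AdjoinRoot q,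
      i = (algebraMap K (AdjoinRoot q)).comp (algebraMap A K) := ⟨_, rfl⟩
  have hAi : ∀ a, algebraMap A (AdjoinRoot q) a = i a := by
    intro a
    rw [hi]
    exact IsScalarTower.algebraMap_apply A K (AdjoinRoot q) a
  have hzP' : (AdjoinRoot.root q) ^ e = algebraMap A (AdjoinRoot q) π := by
    rw [hzP, ← IsScalarTower.algebraMap_apply A L (AdjoinRoot q)]
  have hev : eval₂ i (AdjoinRoot.root q) (X ^ e - C π : A[X]) = 0 := by
    rw [eval₂_sub, eval₂_pow, eval₂_X, eval₂_C, ← hAi, hzP', sub_self]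
  letI algA'L' : Algebra (AdjoinRoot (X ^ e - C π : A[X])) (AdjoinRoot q) :=
    (AdjoinRoot.lift i (AdjoinRoot.root q) hev).toAlgebra
  refine ⟨AdjoinRoot q, inferInstance, inferInstance, algA'L',
    IsScalarTower.toAlgHom K L (AdjoinRoot q), hfinK, hsepK, ?_, ?_⟩
  · rw [← hi]
    ext a
    exact AdjoinRoot.lift_of hev
  · intro hloc
    haveI := isLocalHom_algebraMap π e he.ne' hπ
    haveI : IsScalarTower A (AdjoinRoot (X ^ e - C π : A[X])) (AdjoinRoot q) :=
      IsScalarTower.of_algebraMap_eq (fun a => by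
        rw [hAi, AdjoinRoot.algebraMap_eq]
        exact (AdjoinRoot.lift_of hev).symm)
    exact abhyankar_unr (K := K) π hπ h e he heA hdiv (AdjoinRoot.root q) hzP'
      AdjoinRoot.adjoinRoot_eq_top (AdjoinRoot.root (X ^ e - C π : A[X]))
      (maximalIdeal_eq_span_root π e he.ne' hπ)
      (by rw [AdjoinRoot.algebraMap_eq]; exact (root_pow_eq π e).symm)
      (AdjoinRoot.lift_root hev)

end Groth.Agent.H8.BC
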