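import Mathlib
import Groth.Prelude.Def_EtRam
import Groth.Agent.Lib.Helper8.ASK.Dom
import Groth.Agent.Lib.Helper8.ASK.RamIdx
import Groth.Agent.Lib.Helper8.ASK.TameCore
import Groth.Agent.Lib.Helper8.ASK.AdjoinRootDVR

set_option autoImplicit false
universe u

namespace Groth.Agent.H8.BC

open IsLocalRing TensorProduct Polynomial

/-- Abhyankar's lemma, converse direction: if some finite extension `L' ⊇ L` containing
`A' = A[z]/(z^e - π)` (with `e` invertible in the residue field) is unramified with respect to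
`A'`, then `L` is tamely ramified with respect to `A`. -/
theorem abhyankar_bwd {A K L : Type u} [CommRing A] [IsDomain A] [IsDiscreteValuationRing A]
    [Field K] [Algebra A K] [IsFractionRing A K] [Field L] [Algebra K L] [Algebra A L]
    [IsScalarTower A K L]
    (π : A) (hπ : maximalIdeal A = Ideal.span {π}) (e : ℕ) (he : 0 < e)
    (heA : ((e : ℕ) : ResidueField A) ≠ 0)
    (L' : Type u) [Field L'] [Algebra K L'] [Algebra (AdjoinRoot (X ^ e - C π : A[X])) L']
    (ι : L →ₐ[K] L')
    (hcompat : (algebraMap (AdjoinRoot (X ^ e - C π : A[X])) L').comp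
        (AdjoinRoot.of (X ^ e - C π)) = (algebraMap K L').comp (algebraMap A K))
    (hunr : ∀ [IsLocalRing (AdjoinRoot (X ^ e - C π : A[X]))],
      EtRam.IsUnramifiedExt (AdjoinRoot (X ^ e - C π : A[X]))
        (algebraMap (AdjoinRoot (X ^ e - C π : A[X])) L')) :
    EtRam.IsTamelyRamified A (algebraMap A L) := by
  haveI hloc : IsLocalRing (AdjoinRoot (X ^ e - C π : A[X])) :=
    isLocalRing_adjoinRoot π e he.ne' hπ
  have hunr' := @hunr hloc
  haveI locAA' := isLocalHom_algebraMap π e he.ne' hπ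
  have hmA' := maximalIdeal_eq_span_root π e he.ne' hπ
  have hπm : π ∈ maximalIdeal A := ASK.pi_mem hπ
  obtain ⟨j, hj⟩ : ∃ j : L →+* L', ∀ x, j x = ι x := ⟨ι.toRingHom, fun _ => rfl⟩
  obtain ⟨z, hz⟩ : ∃ z : L', z = algebraMap (AdjoinRoot (X ^ e - C π : A[X])) L'
      (AdjoinRoot.root (X ^ e - C π : A[X])) := ⟨_, rfl⟩
  have hofA : ∀ a : A, algebraMap (AdjoinRoot (X ^ e - C π : A[X])) L'
      (AdjoinRoot.of (X ^ e - C π : A[X]) a) = j (algebraMap A L a) := by
    intro a
    have h1 := RingHom.congr_fun hcompat a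
    rw [RingHom.comp_apply, RingHom.comp_apply] at h1
    rw [h1, hj, IsScalarTower.algebraMap_apply A K L, AlgHom.commutes]
  have hze : z ^ e = j (algebraMap A L π) := by
    rw [hz, ← map_pow, root_pow_eq, hofA]
  have hπL0 : algebraMap A L π ≠ 0 := ASK.algL_pi_ne_zero hπ (ASK.algebraMap_inj A K L)
  have hjπ0 : j (algebraMap A L π) ≠ 0 := (_root_.map_ne_zero j).mpr hπL0
  have hz0 : z ≠ 0 := by
    intro h0
    rw [h0, zero_pow he.ne'] at hze
    exact hjπ0 hze.symm
  intro V hV
  obtain ⟨W, rfl⟩ := RI.exists_comap_eq V j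
  letI algAV : Algebra A (W.comap j) :=
    (RingHom.codRestrict (algebraMap A L) (W.comap j) hV.1).toAlgebra
  intro locAV
  have hvπlt : W.valuation (j (algebraMap A L π)) < 1 :=
    (RI.isEquiv_comap W j).lt_one_iff_lt_one.mp (hV.2 π hπm)
  have hvz : W.valuation z ^ e = W.valuation (j (algebraMap A L π)) := by rw [← map_pow, hze]
  have hvzlt : W.valuation z < 1 := by
    by_contra hcon
    have h1 : 1 ≤ W.valuation z := not_lt.mp hcon
    have h2 : 1 ≤ W.valuation z ^ e := one_le_pow₀ h1
    rw [hvz] at h2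
    exact absurd hvπlt (not_lt.mpr h2)
  have hzW : z ∈ W := (W.valuation_le_one_iff z).mp hvzlt.le
  have hrange : ∀ x : AdjoinRoot (X ^ e - C π : A[X]),
      algebraMap (AdjoinRoot (X ^ e - C π : A[X])) L' x ∈ W := by
    intro x
    obtain ⟨p, rfl⟩ := AdjoinRoot.mk_surjective x
    have hmem : p ∈ W.toSubring.comap
        ((algebraMap (AdjoinRoot (X ^ e - C π : A[X])) L').comp
          (AdjoinRoot.mk (X ^ e - C π : A[X]))) := by
      apply poly_mem_subring
      · intro a
        show algebraMap (AdjoinRoot (X ^ e - C π : A[X])) L'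
          (AdjoinRoot.mk (X ^ e - C π : A[X]) (C a)) ∈ W
        rw [AdjoinRoot.mk_C, hofA]
        exact hV.1 a
      · show algebraMap (AdjoinRoot (X ^ e - C π : A[X])) L'
          (AdjoinRoot.mk (X ^ e - C π : A[X]) X) ∈ W
        rw [AdjoinRoot.mk_X, ← hz]
        exact hzW
    exact hmem
  have hWdom : EtRam.Dominates (AdjoinRoot (X ^ e - C π : A[X]))
      (algebraMap (AdjoinRoot (X ^ e - C π : A[X])) L') W := by
    refine ⟨hrange, fun x hx => ?_⟩
    rw [hmA', Ideal.mem_span_singleton'] at hx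
    obtain ⟨y, rfl⟩ := hx
    rw [map_mul, map_mul, ← hz]
    calc W.valuation (algebraMap (AdjoinRoot (X ^ e - C π : A[X])) L' y) * W.valuation z
        ≤ 1 * W.valuation z :=
          mul_le_mul' ((W.valuation_le_one_iff _).mpr (hrange y)) le_rfl
      _ = W.valuation z := one_mul _
      _ < 1 := hvzlt
  letI algA'W : Algebra (AdjoinRoot (X ^ e - C π : A[X])) W :=
    (RingHom.codRestrict (algebraMap (AdjoinRoot (X ^ e - C π : A[X])) L') W hWdom.1).toAlgebra
  haveI locA'W : IsLocalHom (algebraMap (AdjoinRoot (X ^ e - C π : A[X])) W) :=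
    RI.isLocalHom_of_dominates hWdom
  obtain ⟨hwu, hsepW⟩ := @hunr' W hWdom locA'W
  have ha : ((algebraMap (AdjoinRoot (X ^ e - C π : A[X])) W
      (AdjoinRoot.root (X ^ e - C π : A[X])) : W) : L') ≠ 0 := by
    show algebraMap (AdjoinRoot (X ^ e - C π : A[X])) L'
      (AdjoinRoot.root (X ^ e - C π : A[X])) ≠ 0
    rw [← hz]
    exact hz0
  have hunifz : RI.IsUnif W.valuation z := by
    have h1 := (RI.isWeaklyUnramified_iff W (AdjoinRoot.root (X ^ e - C π : A[X])) hmA' ha).mp hwu
    rw [hz]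
    exact h1
  have hord : RI.HasOrdAt W.valuation (j (algebraMap A L π)) e z :=
    ⟨he.ne', hjπ0, hunifz, hvz.symm⟩
  obtain ⟨e₁, f, y₀, hord₁, hef⟩ := RI.HasOrdAt.descend W.valuation j hord
  have hord₂ : RI.HasOrdAt (W.comap j).valuation (algebraMap A L π) e₁ y₀ :=
    hord₁.of_isEquiv (RI.isEquiv_comap W j).symm
  have hram : Ideal.ramificationIdx' (maximalIdeal A) (maximalIdeal (W.comap j)) = e₁ := by
    rw [RI.ramificationIdx'_eq_sSup (W.comap j) π hπ]
    exact hord₂.sSup_eq
  refine ⟨?_, ?_⟩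
  · letI algAW : Algebra A W :=
      ((algebraMap (AdjoinRoot (X ^ e - C π : A[X])) W).comp
        (algebraMap A (AdjoinRoot (X ^ e - C π : A[X])))).toAlgebra
    haveI locAW : IsLocalHom (algebraMap A W) := ⟨fun a ha => by
      have h1 : IsUnit (algebraMap (AdjoinRoot (X ^ e - C π : A[X])) W
        (algebraMap A (AdjoinRoot (X ^ e - C π : A[X])) a)) := ha
      exact isUnit_of_map_unit (algebraMap A (AdjoinRoot (X ^ e - C π : A[X]))) a
        (isUnit_of_map_unit (algebraMap (AdjoinRoot (X ^ e - C π : A[X])) W) _ h1)⟩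
    have hsurj := residue_algebraMap_surjective π e he.ne' hπ
    haveI : Algebra.IsSeparable (ResidueField A)
        (ResidueField (AdjoinRoot (X ^ e - C π : A[X]))) :=
      ⟨fun x => by
        obtain ⟨a, rfl⟩ := hsurj x
        exact isSeparable_algebraMap a⟩
    haveI : Algebra.IsSeparable (ResidueField (AdjoinRoot (X ^ e - C π : A[X])))
        (ResidueField W) := hsepW
    haveI : Algebra.IsSeparable (ResidueField A) (ResidueField W) :=
      RI.sep_trans (B := AdjoinRoot (X ^ e - C π : A[X])) (C := W) (fun a => rfl)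
    refine RI.sep_of_comap j W (fun a => Subtype.ext ?_)
    show j (algebraMap A L a) = algebraMap (AdjoinRoot (X ^ e - C π : A[X])) L'
      (algebraMap A (AdjoinRoot (X ^ e - C π : A[X])) a)
    rw [AdjoinRoot.algebraMap_eq, hofA]
  · intro p hpp hp
    rw [hram]
    intro hdvd
    apply heA
    rw [CharP.cast_eq_zero_iff (ResidueField A) p, ← hef]
    exact Dvd.dvd.mul_right hdvd f

end Groth.Agent.H8.BC
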