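import Mathlib
import Groth.Prelude.Def_EtRam
import Groth.Agent.Lib.Helper8.ASK.SolTower

/-!
# Krasner-type approximation, part B: the valuation estimate and the transfer of
weak unramifiedness / geometric reducedness of residue fields between "close" subfields
-/

set_option autoImplicit false
universe u

namespace Groth.Agent.H8.Kr

open IsLocalRing TensorProduct

section Krasner

variable {Ω : Type*} [Field Ω] {Γ : Type*} [LinearOrderedCommGroupWithZero Γ] (v : Valuation Ω Γ)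

/-- `a` is close to `b`: both vanish or `v (a - b) < v b`. -/
def Close (a b : Ω) : Prop := (a = 0 ∧ b = 0) ∨ v (a - b) < v b

variable {v}

theorem Close.val_eq {a b : Ω} (h : Close v a b) : v a = v b := by
  rcases h with ⟨ha, hb⟩ | h
  · rw [ha, hb]
  · exact Valuation.map_eq_of_sub_lt v h

theorem Close.sub_lt_one {a b : Ω} (h : Close v a b) (hb : v b ≤ 1) : v (a - b) < 1 := by
  rcases h with ⟨ha, hb'⟩ | h
  · rw [ha, hb', sub_zero, map_zero]; exact zero_lt_one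
  · exact lt_of_lt_of_le h hb

variable (v)

theorem val_eq_of_rel {m : ℕ} {θ x c : Ω} (hrel : (x - θ) ^ (m + 1) = c * x)
    (hθ : θ ≠ 0) (h1 : v c < v θ ^ m) : v x = v θ := by
  have hθpos : 0 < v θ := zero_lt_iff.mpr ((Valuation.ne_zero_iff v).mpr hθ)
  have hrel' : v (x - θ) ^ (m + 1) = v c * v x := by rw [← map_pow, hrel, map_mul]
  rcases lt_trichotomy (v x) (v θ) with h | h | h
  · exfalso
    have h2 : v (x - θ) = v θ := Valuation.map_sub_eq_of_lt_right v h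
    rw [h2] at hrel'
    have h3 : v c * v x ≤ v c * v θ := mul_le_mul' le_rfl h.le
    have h4 : v c * v θ < v θ ^ m * v θ := mul_lt_mul_of_pos_right h1 hθpos
    rw [← pow_succ, hrel'] at h4
    exact absurd h4 (not_lt.mpr h3)
  · exact h
  · exfalso
    have h2 : v (x - θ) = v x := Valuation.map_sub_eq_of_lt_left v h
    rw [h2, pow_succ] at hrel'
    have hxpos : 0 < v x := lt_trans hθpos h
    have h3 : v x ^ m = v c := mul_right_cancel₀ hxpos.ne' hrel'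
    have h4 : v θ ^ m ≤ v x ^ m := pow_le_pow_left₀ zero_le' h.le m
    rw [h3] at h4
    exact absurd h1 (not_lt.mpr h4)

theorem val_pow_sub_pow_lt {m : ℕ} {θ x c : Ω} {δ : Γ} (hrel : (x - θ) ^ (m + 1) = c * x)
    (hθ : θ ≠ 0) (h1 : v c < v θ ^ m) (h2 : v c < δ ^ (m + 1) * v θ ^ m) (l : ℕ) :
    v (x ^ l - θ ^ l) < v θ ^ l * δ := by
  have hθpos : 0 < v θ := zero_lt_iff.mpr ((Valuation.ne_zero_iff v).mpr hθ)
  have hx : v x = v θ := val_eq_of_rel v hrel hθ h1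
  have hε : v (x - θ) < δ * v θ := by
    have h3 : v (x - θ) ^ (m + 1) < (δ * v θ) ^ (m + 1) := by
      rw [← map_pow, hrel, map_mul, hx, mul_pow, pow_succ (v θ) m, ← mul_assoc]
      exact mul_lt_mul_of_pos_right h2 hθpos
    exact (pow_lt_pow_iff_left₀ zero_le' zero_le' (Nat.succ_ne_zero m)).mp h3
  have hgs : v (∑ i ∈ Finset.range l, x ^ i * θ ^ (l - 1 - i)) * v θ ≤ v θ ^ l := by
    rw [← map_mul, Finset.sum_mul]
    apply Valuation.map_sum_le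
    intro i hi
    rw [Finset.mem_range] at hi
    rw [map_mul, map_mul, map_pow, map_pow, hx, ← pow_add, ← pow_succ]
    apply le_of_eq
    congr 1
    omega
  have hfac : x ^ l - θ ^ l = (∑ i ∈ Finset.range l, x ^ i * θ ^ (l - 1 - i)) * (x - θ) :=
    (geom_sum₂_mul x θ l).symm
  have h4 : v (x ^ l - θ ^ l) * v θ ≤ v θ ^ l * v (x - θ) := by
    rw [hfac, map_mul, mul_right_comm]
    exact mul_le_mul' hgs le_rfl
  have h5 : v θ ^ l * v (x - θ) < v θ ^ l * (δ * v θ) :=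
    mul_lt_mul_of_pos_left hε (pow_pos hθpos l)
  have h6 : v (x ^ l - θ ^ l) * v θ < (v θ ^ l * δ) * v θ := by
    rw [mul_assoc]; exact lt_of_le_of_lt h4 h5
  exact lt_of_mul_lt_mul_right h6 zero_le'

theorem krasner {R : Type*} [CommRing R] (j : R →+* Ω) {m : ℕ} {θ x c : Ω} {δ : Γ}
    (hrel : (x - θ) ^ (m + 1) = c * x) (hθ : θ ≠ 0) (h1 : v c < v θ ^ m)
    (h2 : v c < δ ^ (m + 1) * v θ ^ m)
    (hBD : ∀ (q : ℕ → R), ∀ i < m + 1,
      v (j (q i) * θ ^ i) * δ ≤ v (∑ l ∈ Finset.range (m + 1), j (q l) * θ ^ l))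
    (q : ℕ → R) :
    Close v (∑ l ∈ Finset.range (m + 1), j (q l) * x ^ l)
      (∑ l ∈ Finset.range (m + 1), j (q l) * θ ^ l) := by
  have hθpos : 0 < v θ := zero_lt_iff.mpr ((Valuation.ne_zero_iff v).mpr hθ)
  have hδ : 0 < δ := by
    rw [zero_lt_iff]
    rintro rfl
    rw [zero_pow (Nat.succ_ne_zero m), zero_mul] at h2
    exact not_lt_zero' h2
  by_cases hall : ∀ l < m + 1, j (q l) = 0
  · left
    constructor <;>
    · apply Finset.sum_eq_zero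
      intro l hl
      rw [hall l (Finset.mem_range.mp hl), zero_mul]
  · right
    rw [not_forall] at hall
    obtain ⟨l₀, hl₀⟩ := hall
    rw [Classical.not_imp] at hl₀
    obtain ⟨hl₀lt, hl₀ne⟩ := hl₀
    have hSpos : v (∑ l ∈ Finset.range (m + 1), j (q l) * θ ^ l) ≠ 0 := by
      have h3 := hBD q l₀ hl₀lt
      intro h0
      rw [h0] at h3
      have hpos : 0 < v (j (q l₀) * θ ^ l₀) * δ :=
        mul_pos (zero_lt_iff.mpr ((Valuation.ne_zero_iff v).mpr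
          (mul_ne_zero hl₀ne (pow_ne_zero _ hθ)))) hδ
      exact absurd h3 (not_le.mpr hpos)
    rw [← Finset.sum_sub_distrib]
    apply Valuation.map_sum_lt v hSpos
    intro l hl
    rw [Finset.mem_range] at hl
    have e : j (q l) * x ^ l - j (q l) * θ ^ l = j (q l) * (x ^ l - θ ^ l) := by ring
    rw [e, map_mul]
    by_cases hql : j (q l) = 0
    · rw [hql, map_zero, zero_mul]; exact zero_lt_iff.mpr hSpos
    · have h3 := val_pow_sub_pow_lt v hrel hθ h1 h2 l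
      calc v (j (q l)) * v (x ^ l - θ ^ l) < v (j (q l)) * (v θ ^ l * δ) :=
            mul_lt_mul_of_pos_left h3 (zero_lt_iff.mpr ((Valuation.ne_zero_iff v).mpr hql))
        _ = v (j (q l) * θ ^ l) * δ := by rw [map_mul, map_pow, mul_assoc]
        _ ≤ _ := hBD q l hl

end Krasner

section Equiv

theorem exists_ringEquiv_of_range_eq {A B C : Type*} [Field A] [Field B] [Field C]
    (f : A →+* C) (g : B →+* C) (h : ∀ a, ∃ b, g b = f a) (h' : ∀ b, ∃ a, f a = g b) :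
    ∃ τ : A ≃+* B, ∀ a, g (τ a) = f a := by
  choose b hb using h
  let τ₀ : A →+* B :=
    { toFun := b
      map_one' := g.injective (by rw [hb, map_one, map_one])
      map_mul' := fun x y => g.injective (by rw [hb, map_mul, map_mul, hb, hb])
      map_zero' := g.injective (by rw [hb, map_zero, map_zero])
      map_add' := fun x y => g.injective (by rw [hb, map_add, map_add, hb, hb]) }
  have hbij : Function.Bijective τ₀ := by
    refine ⟨τ₀.injective, fun b₀ => ?_⟩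
    obtain ⟨a, ha⟩ := h' b₀
    exact ⟨a, g.injective (by show g (b a) = g b₀; rw [hb, ha])⟩
  exact ⟨RingEquiv.ofBijective τ₀ hbij, fun a => hb a⟩

theorem geomRed_of_ringEquiv {k E k' E' : Type u} [Field k] [Field E] [Field k'] [Field E']
    (a : k →+* E) (a' : k' →+* E') (σ : k ≃+* k') (τ : E ≃+* E')
    (h : ∀ r, τ (a r) = a' (σ r))
    (hgr : @Algebra.IsGeometricallyReduced k E _ _ a.toAlgebra) :
    @Algebra.IsGeometricallyReduced k' E' _ _ a'.toAlgebra := by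
  letI : Algebra k E := a.toAlgebra
  letI : Algebra k' E' := a'.toAlgebra
  haveI : Algebra.IsGeometricallyReduced k E := hgr
  letI : Algebra k k' := σ.toRingHom.toAlgebra
  letI : Algebra k E' := (a'.comp σ.toRingHom).toAlgebra
  haveI : IsScalarTower k k' E' := IsScalarTower.of_algebraMap_eq (fun r => rfl)
  let τa : E ≃ₐ[k] E' := { τ with commutes' := fun r => h r }
  haveI : Algebra.IsGeometricallyReduced k E' :=
    Algebra.IsGeometricallyReduced.of_injective τa.symm.toAlgHom τa.symm.injective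
  haveI : Algebra.IsIntegral k k' := Algebra.isIntegral_of_surjective (R := k) (B := k') σ.surjective
  haveI : Algebra.IsAlgebraic k k' := Algebra.IsIntegral.isAlgebraic
  haveI : Algebra.IsAlgebraic k (AlgebraicClosure k') :=
    Algebra.IsAlgebraic.trans k k' (AlgebraicClosure k')
  haveI : IsReduced (AlgebraicClosure k' ⊗[k] E') := inferInstance
  haveI : TensorProduct.CompatibleSMul k k' (AlgebraicClosure k') E' := ⟨fun r' m n => by
    obtain ⟨r, rfl⟩ := σ.surjective r'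
    have e1 : (σ r : k') • m = r • m := by rw [← algebraMap_smul k' r m]; rfl
    have e2 : (σ r : k') • n = r • n := by rw [← algebraMap_smul k' r n]; rfl
    rw [e1, e2, TensorProduct.smul_tmul]⟩
  let e := Algebra.TensorProduct.equivOfCompatibleSMul k k' k' (AlgebraicClosure k') E'
  rw [Algebra.isGeometricallyReduced_field_iff]
  exact isReduced_of_injective e.toRingHom e.injective

end Equiv

section Transfer

variable {Ω M₂ M₃ : Type u} [Field Ω] [Field M₂] [Field M₃]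

theorem res_eq (WΩ : ValuationSubring Ω) (ι₂ : M₂ →+* Ω) (ι₃ : M₃ →+* Ω)
    (y₂ : WΩ.comap ι₂) (y₃ : WΩ.comap ι₃)
    (h : WΩ.valuation (ι₃ (y₃ : M₃) - ι₂ (y₂ : M₂)) < 1) :
    ResidueField.map (EtRam.inclOfComap WΩ ι₂) (residue _ y₂) =
      ResidueField.map (EtRam.inclOfComap WΩ ι₃) (residue _ y₃) := by
  rw [ResidueField.map_residue, ResidueField.map_residue]
  symm
  apply Ideal.Quotient.eq.mpr
  rw [ValuationSubring.valuation_lt_one_iff]
  exact h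

theorem transfer {K₂ K₃ : Type u} [Field K₂] [Field K₃]
    (WΩ : ValuationSubring Ω) (ι₂ : M₂ →+* Ω) (ι₃ : M₃ →+* Ω) (f₂ : K₂ →+* M₂) (f₃ : K₃ →+* M₃)
    (hM32 : ∀ y₃ : M₃, ∃ y₂ : M₂, Close WΩ.valuation (ι₃ y₃) (ι₂ y₂))
    (hM23 : ∀ y₂ : M₂, ∃ y₃ : M₃, Close WΩ.valuation (ι₃ y₃) (ι₂ y₂))
    (hK32 : ∀ a₃ : K₃, ∃ a₂ : K₂, Close WΩ.valuation (ι₃ (f₃ a₃)) (ι₂ (f₂ a₂)))
    (hK23 : ∀ a₂ : K₂, ∃ a₃ : K₃, Close WΩ.valuation (ι₃ (f₃ a₃)) (ι₂ (f₂ a₂)))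
    (hwu : letI : Algebra ((WΩ.comap ι₂).comap f₂) (WΩ.comap ι₂) :=
        (EtRam.inclOfComap (WΩ.comap ι₂) f₂).toAlgebra;
      EtRam.IsWeaklyUnramified ((WΩ.comap ι₂).comap f₂) (WΩ.comap ι₂))
    (hgr : @Algebra.IsGeometricallyReduced (ResidueField ((WΩ.comap ι₂).comap f₂))
      (ResidueField (WΩ.comap ι₂)) _ _
      (ResidueField.map (EtRam.inclOfComap (WΩ.comap ι₂) f₂)).toAlgebra) :
    (letI : Algebra ((WΩ.comap ι₃).comap f₃) (WΩ.comap ι₃) :=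
        (EtRam.inclOfComap (WΩ.comap ι₃) f₃).toAlgebra;
      EtRam.IsWeaklyUnramified ((WΩ.comap ι₃).comap f₃) (WΩ.comap ι₃)) ∧
    @Algebra.IsGeometricallyReduced (ResidueField ((WΩ.comap ι₃).comap f₃))
      (ResidueField (WΩ.comap ι₃)) _ _
      (ResidueField.map (EtRam.inclOfComap (WΩ.comap ι₃) f₃)).toAlgebra := by
  have e₂ := RI.isEquiv_comap WΩ ι₂
  have e₃ := RI.isEquiv_comap WΩ ι₃
  have hmem₂ : ∀ y : M₂, y ∈ WΩ.comap ι₂ ↔ WΩ.valuation (ι₂ y) ≤ 1 := fun y => by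
    rw [ValuationSubring.mem_comap, ValuationSubring.valuation_le_one_iff]
  have hmem₃ : ∀ y : M₃, y ∈ WΩ.comap ι₃ ↔ WΩ.valuation (ι₃ y) ≤ 1 := fun y => by
    rw [ValuationSubring.mem_comap, ValuationSubring.valuation_le_one_iff]
  constructor
  · rw [RI.isWeaklyUnramified_comap_iff] at hwu ⊢
    intro y hy
    have hy' : WΩ.valuation (ι₃ y) < 1 := e₃.lt_one_iff_lt_one.mp hy
    obtain ⟨y₂, hy₂⟩ := hM32 y
    have hy₂' : WΩ.valuation (ι₂ y₂) < 1 := by rw [← hy₂.val_eq]; exact hy'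
    obtain ⟨a₂, ha₂, hya₂⟩ := hwu y₂ (e₂.lt_one_iff_lt_one.mpr hy₂')
    obtain ⟨a₃, ha₃⟩ := hK23 a₂
    have h1 : WΩ.valuation (ι₃ (f₃ a₃)) = WΩ.valuation (ι₂ (f₂ a₂)) := ha₃.val_eq
    refine ⟨a₃, e₃.lt_one_iff_lt_one.mpr ?_, (e₃ _ _).mpr ?_⟩
    · show WΩ.valuation (ι₃ (f₃ a₃)) < 1
      rw [h1]; exact e₂.lt_one_iff_lt_one.mp ha₂
    · show WΩ.valuation (ι₃ y) ≤ WΩ.valuation (ι₃ (f₃ a₃))
      rw [h1, hy₂.val_eq]; exact (e₂ _ _).mp hya₂
  · -- residue fields inside the residue field of `WΩ`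
    obtain ⟨E₂, hE₂⟩ : ∃ E₂ : ResidueField (WΩ.comap ι₂) →+* ResidueField WΩ,
        E₂ = ResidueField.map (EtRam.inclOfComap WΩ ι₂) := ⟨_, rfl⟩
    obtain ⟨E₃, hE₃⟩ : ∃ E₃ : ResidueField (WΩ.comap ι₃) →+* ResidueField WΩ,
        E₃ = ResidueField.map (EtRam.inclOfComap WΩ ι₃) := ⟨_, rfl⟩
    obtain ⟨A₂, hA₂⟩ : ∃ A₂ : ResidueField ((WΩ.comap ι₂).comap f₂) →+*
        ResidueField (WΩ.comap ι₂),
        A₂ = ResidueField.map (EtRam.inclOfComap (WΩ.comap ι₂) f₂) := ⟨_, rfl⟩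
    obtain ⟨A₃, hA₃⟩ : ∃ A₃ : ResidueField ((WΩ.comap ι₃).comap f₃) →+*
        ResidueField (WΩ.comap ι₃),
        A₃ = ResidueField.map (EtRam.inclOfComap (WΩ.comap ι₃) f₃) := ⟨_, rfl⟩
    have hE32 : ∀ z₃, ∃ z₂, E₂ z₂ = E₃ z₃ := by
      intro z₃
      obtain ⟨y₃, rfl⟩ := residue_surjective z₃
      obtain ⟨y₂, hy₂⟩ := hM32 (y₃ : M₃)
      have hle3 : WΩ.valuation (ι₃ (y₃ : M₃)) ≤ 1 := (hmem₃ _).mp y₃.2
      have hle2 : WΩ.valuation (ι₂ y₂) ≤ 1 := by rw [← hy₂.val_eq]; exact hle3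
      refine ⟨residue _ ⟨y₂, (hmem₂ _).mpr hle2⟩, ?_⟩
      rw [hE₂, hE₃]
      exact res_eq WΩ ι₂ ι₃ ⟨y₂, (hmem₂ _).mpr hle2⟩ y₃ (hy₂.sub_lt_one hle2)
    have hE23 : ∀ z₂, ∃ z₃, E₃ z₃ = E₂ z₂ := by
      intro z₂
      obtain ⟨y₂, rfl⟩ := residue_surjective z₂
      obtain ⟨y₃, hy₃⟩ := hM23 (y₂ : M₂)
      have hle2 : WΩ.valuation (ι₂ (y₂ : M₂)) ≤ 1 := (hmem₂ _).mp y₂.2
      have hle3 : WΩ.valuation (ι₃ y₃) ≤ 1 := by rw [hy₃.val_eq]; exact hle2
      refine ⟨residue _ ⟨y₃, (hmem₃ _).mpr hle3⟩, ?_⟩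
      rw [hE₂, hE₃]
      exact (res_eq WΩ ι₂ ι₃ y₂ ⟨y₃, (hmem₃ _).mpr hle3⟩ (hy₃.sub_lt_one hle2)).symm
    have hK32' : ∀ r₃, ∃ r₂, (E₂.comp A₂) r₂ = (E₃.comp A₃) r₃ := by
      intro r₃
      obtain ⟨u₃, rfl⟩ := residue_surjective r₃
      obtain ⟨u₂, hu₂⟩ := hK32 (u₃ : K₃)
      have hle3 : WΩ.valuation (ι₃ (f₃ (u₃ : K₃))) ≤ 1 := (hmem₃ _).mp u₃.2
      have hle2 : WΩ.valuation (ι₂ (f₂ u₂)) ≤ 1 := by rw [← hu₂.val_eq]; exact hle3
      have hu₂mem : u₂ ∈ (WΩ.comap ι₂).comap f₂ := (hmem₂ _).mpr hle2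
      refine ⟨residue _ ⟨u₂, hu₂mem⟩, ?_⟩
      rw [RingHom.comp_apply, RingHom.comp_apply, hA₂, hA₃, ResidueField.map_residue,
        ResidueField.map_residue, hE₂, hE₃]
      exact res_eq WΩ ι₂ ι₃ _ _ (hu₂.sub_lt_one hle2)
    have hK23' : ∀ r₂, ∃ r₃, (E₃.comp A₃) r₃ = (E₂.comp A₂) r₂ := by
      intro r₂
      obtain ⟨u₂, rfl⟩ := residue_surjective r₂
      obtain ⟨u₃, hu₃⟩ := hK23 (u₂ : K₂)
      have hle2 : WΩ.valuation (ι₂ (f₂ (u₂ : K₂))) ≤ 1 := (hmem₂ _).mp u₂.2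
      have hle3 : WΩ.valuation (ι₃ (f₃ u₃)) ≤ 1 := by rw [hu₃.val_eq]; exact hle2
      have hu₃mem : u₃ ∈ (WΩ.comap ι₃).comap f₃ := (hmem₃ _).mpr hle3
      refine ⟨residue _ ⟨u₃, hu₃mem⟩, ?_⟩
      rw [RingHom.comp_apply, RingHom.comp_apply, hA₂, hA₃, ResidueField.map_residue,
        ResidueField.map_residue, hE₂, hE₃]
      exact (res_eq WΩ ι₂ ι₃ _ _ (hu₃.sub_lt_one hle2)).symm
    obtain ⟨τ, hτ⟩ := exists_ringEquiv_of_range_eq E₂ E₃ hE23 hE32
    obtain ⟨σ, hσ⟩ := exists_ringEquiv_of_range_eq (E₂.comp A₂) (E₃.comp A₃) hK23' hK32'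
    have hcompat : ∀ r, τ (A₂ r) = A₃ (σ r) := by
      intro r
      apply E₃.injective
      rw [hτ]
      exact (hσ r).symm
    rw [← hA₃]
    rw [← hA₂] at hgr
    exact geomRed_of_ringEquiv A₂ A₃ σ τ hcompat hgr

end Transfer

end Groth.Agent.H8.Kr
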