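import Mathlib
import Groth.Prelude.Def_EtRam
import Groth.Agent.Lib.Helper8.ASK.KrA
import Groth.Agent.Lib.Helper8.ASK.BCCore
import Groth.Agent.Lib.Helper8.ASK.SolTower
import Groth.Agent.Lib.Helper8.Japanese.NormFin3
import Groth.Prelude.Def_CAlg

/-!
# Krasner-type approximation, part C: the algebra `L ⊗[K] K₂` for `K₂ = K₁(θ₂)` purely
inseparable of degree `p` over `K₁`, and a uniform bounded-defect constant
-/

set_option autoImplicit false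
universe u

namespace Groth.Agent.H8.Kr

open IsLocalRing TensorProduct

section Basis

variable {K₁ K₂ : Type*} [Field K₁] [Field K₂] [Algebra K₁ K₂] {p : ℕ}

theorem exists_basis (hp : p.Prime) (hdeg : Module.finrank K₁ K₂ = p) (θ₂ : K₂)
    (hθ₂ : ∀ c : K₁, algebraMap K₁ K₂ c ≠ θ₂) :
    ∃ b : Module.Basis (Fin p) K₁ K₂, ∀ i : Fin p, b i = θ₂ ^ (i : ℕ) := by
  haveI : FiniteDimensional K₁ K₂ :=
    Module.finite_of_finrank_pos (by rw [hdeg]; exact hp.pos)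
  haveI : Nonempty (Fin p) := ⟨⟨0, hp.pos⟩⟩
  have htop := PI.adjoin_eq_top_of_notMem hp hdeg θ₂ hθ₂
  have hint : IsIntegral K₁ θ₂ := Algebra.IsIntegral.isIntegral θ₂
  have hnat : (minpoly K₁ θ₂).natDegree = p := by
    rw [← IntermediateField.adjoin.finrank hint, htop, IntermediateField.finrank_top', hdeg]
  have hli := linearIndependent_pow (K := K₁) θ₂
  rw [hnat] at hli
  refine ⟨basisOfLinearIndependentOfCardEqFinrank hli (by rw [Fintype.card_fin, hdeg]),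
    fun i => ?_⟩
  rw [coe_basisOfLinearIndependentOfCardEqFinrank]

theorem exists_repr {θ₂ : K₂} (b : Module.Basis (Fin p) K₁ K₂) (hb : ∀ i : Fin p, b i = θ₂ ^ (i : ℕ))
    (k₂ : K₂) : ∃ κ : ℕ → K₁, k₂ = ∑ i ∈ Finset.range p, algebraMap K₁ K₂ (κ i) * θ₂ ^ i := by
  refine ⟨fun i => if h : i < p then b.repr k₂ ⟨i, h⟩ else 0, ?_⟩
  rw [Finset.sum_range]
  conv_lhs => rw [← b.sum_repr k₂]
  refine Finset.sum_congr rfl (fun i _ => ?_)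
  have e : (fun i => if h : i < p then (b.repr k₂) ⟨i, h⟩ else 0) (i : ℕ) = b.repr k₂ i :=
    dif_pos i.2
  rw [e, hb, Algebra.smul_def]

theorem coord_pow {θ₂ : K₂} (b : Module.Basis (Fin p) K₁ K₂) (hb : ∀ i : Fin p, b i = θ₂ ^ (i : ℕ))
    (i j : ℕ) (hi : i < p) (hj : j < p) :
    b.coord ⟨i, hi⟩ (θ₂ ^ j) = if i = j then 1 else 0 := by
  have e : θ₂ ^ j = b ⟨j, hj⟩ := (hb ⟨j, hj⟩).symm
  rw [e, Module.Basis.coord_apply, Module.Basis.repr_self, Finsupp.single_apply]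
  by_cases h : i = j
  · subst h; simp
  · have h' : (⟨j, hj⟩ : Fin p) ≠ ⟨i, hi⟩ := fun e => h (Fin.mk.inj e).symm
    simp [h, h']

end Basis

section Tensor

variable (K L K₁ K₂ : Type u) [Field K] [Field L] [Field K₁] [Field K₂] [Algebra K L]
  [Algebra K K₁] [Algebra K K₂] [Algebra K₁ K₂] [IsScalarTower K K₁ K₂]

/-- The inclusion `L ⊗[K] K₁ → L ⊗[K] K₂`. -/
noncomputable def inc : L ⊗[K] K₁ →ₐ[L] L ⊗[K] K₂ :=
  Algebra.TensorProduct.map (AlgHom.id L L) (IsScalarTower.toAlgHom K K₁ K₂)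

variable {K L K₁ K₂}

theorem inc_tmul (l : L) (k : K₁) :
    inc K L K₁ K₂ (l ⊗ₜ[K] k) = l ⊗ₜ[K] algebraMap K₁ K₂ k := rfl

theorem lam_apply (ℓ : K₂ →ₗ[K₁] K₁) (t : L ⊗[K] K₁) (k₂ : K₂) :
    LinearMap.lTensor L (ℓ.restrictScalars K) (inc K L K₁ K₂ t * ((1 : L) ⊗ₜ[K] k₂)) =
      t * ((1 : L) ⊗ₜ[K] ℓ k₂) := by
  induction t using TensorProduct.induction_on with
  | zero => simp
  | tmul l k₁ =>
    rw [inc_tmul, Algebra.TensorProduct.tmul_mul_tmul, LinearMap.lTensor_tmul,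
      Algebra.TensorProduct.tmul_mul_tmul, mul_one]
    congr 1
    rw [LinearMap.restrictScalars_apply, ← Algebra.smul_def, map_smul, smul_eq_mul]
  | add x y hx hy => rw [map_add, add_mul, map_add, hx, hy, add_mul]

variable {p : ℕ} {θ₂ : K₂}

theorem theta_pow (j : ℕ) : ((1 : L) ⊗ₜ[K] θ₂) ^ j = (1 : L) ⊗ₜ[K] (θ₂ ^ j) := by
  rw [Algebra.TensorProduct.tmul_pow, one_pow]

/-- Freeness of `L ⊗[K] K₂` over `L ⊗[K] K₁` on the powers of `1 ⊗ θ₂`. -/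
theorem free (b : Module.Basis (Fin p) K₁ K₂) (hb : ∀ i : Fin p, b i = θ₂ ^ (i : ℕ))
    (c : ℕ → L ⊗[K] K₁)
    (h : ∑ i ∈ Finset.range p, inc K L K₁ K₂ (c i) * ((1 : L) ⊗ₜ[K] θ₂) ^ i = 0) :
    ∀ i < p, c i = 0 := by
  intro i hi
  have h1 := congrArg (LinearMap.lTensor L ((b.coord ⟨i, hi⟩).restrictScalars K)) h
  rw [map_zero, map_sum] at h1
  rw [← h1]
  symm
  rw [Finset.sum_eq_single i]
  · rw [theta_pow, lam_apply, coord_pow b hb i i hi hi, if_pos rfl,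
      ← Algebra.TensorProduct.one_def, mul_one]
  · intro j hj hji
    rw [Finset.mem_range] at hj
    rw [theta_pow, lam_apply, coord_pow b hb i j hi hj, if_neg (Ne.symm hji),
      TensorProduct.tmul_zero, mul_zero]
  · intro h'
    exact absurd (Finset.mem_range.mpr hi) h'

theorem span (b : Module.Basis (Fin p) K₁ K₂) (hb : ∀ i : Fin p, b i = θ₂ ^ (i : ℕ))
    (t₂ : L ⊗[K] K₂) :
    ∃ c : ℕ → L ⊗[K] K₁,
      t₂ = ∑ i ∈ Finset.range p, inc K L K₁ K₂ (c i) * ((1 : L) ⊗ₜ[K] θ₂) ^ i := by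
  induction t₂ using TensorProduct.induction_on with
  | zero => exact ⟨fun _ => 0, by simp⟩
  | tmul l k₂ =>
    obtain ⟨κ, hκ⟩ := exists_repr b hb k₂
    refine ⟨fun i => l ⊗ₜ[K] κ i, ?_⟩
    conv_lhs => rw [hκ, TensorProduct.tmul_sum]
    refine Finset.sum_congr rfl (fun i _ => ?_)
    rw [inc_tmul, theta_pow, Algebra.TensorProduct.tmul_mul_tmul, mul_one]
  | add x y hx hy =>
    obtain ⟨c₁, hc₁⟩ := hx
    obtain ⟨c₂, hc₂⟩ := hy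
    refine ⟨fun i => c₁ i + c₂ i, ?_⟩
    conv_lhs => rw [hc₁, hc₂, ← Finset.sum_add_distrib]
    refine Finset.sum_congr rfl (fun i _ => ?_)
    rw [map_add, add_mul]

theorem pow_mem_range [Fact p.Prime] [CharP L p]
    (b : Module.Basis (Fin p) K₁ K₂) (hb : ∀ i : Fin p, b i = θ₂ ^ (i : ℕ))
    {a : K₁} (ha : algebraMap K₁ K₂ a = θ₂ ^ p) (t₂ : L ⊗[K] K₂) :
    ∃ t₁ : L ⊗[K] K₁, inc K L K₁ K₂ t₁ = t₂ ^ p := by
  haveI : CharP (L ⊗[K] K₂) p :=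
    charP_of_injective_algebraMap (algebraMap L (L ⊗[K] K₂)).injective p
  obtain ⟨c, hc⟩ := span b hb t₂
  refine ⟨∑ i ∈ Finset.range p, c i ^ p * ((1 : L) ⊗ₜ[K] a) ^ i, ?_⟩
  rw [hc, sum_pow_char, map_sum]
  refine Finset.sum_congr rfl (fun i _ => ?_)
  rw [map_mul, map_pow, map_pow, inc_tmul, ha, mul_pow]
  have e1 : ((1 : L) ⊗ₜ[K] (θ₂ ^ p)) ^ i = (1 : L) ⊗ₜ[K] (θ₂ ^ (p * i)) := by
    rw [Algebra.TensorProduct.tmul_pow, one_pow, ← pow_mul]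
  have e2 : (((1 : L) ⊗ₜ[K] θ₂) ^ i) ^ p = (1 : L) ⊗ₜ[K] (θ₂ ^ (p * i)) := by
    rw [← pow_mul, Algebra.TensorProduct.tmul_pow, one_pow, mul_comm]
  rw [e1, e2]

/-- Linear independence modulo an arbitrary ideal. -/
theorem indep_mod [Fact p.Prime] [CharP L p] [IsReduced (L ⊗[K] K₂)]
    [Algebra.IsIntegral L (L ⊗[K] K₂)]
    (b : Module.Basis (Fin p) K₁ K₂) (hb : ∀ i : Fin p, b i = θ₂ ^ (i : ℕ))
    {a : K₁} (ha : algebraMap K₁ K₂ a = θ₂ ^ p) (𝔪 : Ideal (L ⊗[K] K₂))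
    (c : ℕ → L ⊗[K] K₁)
    (h : ∑ i ∈ Finset.range p, inc K L K₁ K₂ (c i) * ((1 : L) ⊗ₜ[K] θ₂) ^ i ∈ 𝔪) :
    ∀ i < p, inc K L K₁ K₂ (c i) ∈ 𝔪 := by
  obtain ⟨s, hs⟩ : ∃ s, s = ∑ i ∈ Finset.range p,
      inc K L K₁ K₂ (c i) * ((1 : L) ⊗ₜ[K] θ₂) ^ i := ⟨_, rfl⟩
  rw [← hs] at h
  obtain ⟨w, hw⟩ := BC.vnr_of_isReduced_of_isIntegral (F := L) s
  obtain ⟨ε, hε⟩ : ∃ ε, ε = 1 - s * w := ⟨_, rfl⟩
  have hεs : ε * s = 0 := by rw [hε]; linear_combination hw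
  obtain ⟨e, he⟩ := pow_mem_range (L := L) b hb ha ε
  have hp0 : p ≠ 0 := (Fact.out : p.Prime).ne_zero
  obtain ⟨p', hp'⟩ := Nat.exists_eq_succ_of_ne_zero hp0
  have hes : inc K L K₁ K₂ e * s = 0 := by
    rw [he, hp', pow_succ, mul_assoc, hεs, mul_zero]
  have hec : ∀ i < p, e * c i = 0 := by
    apply free b hb
    rw [← hes, hs, Finset.mul_sum]
    refine Finset.sum_congr rfl (fun i _ => ?_)
    rw [map_mul, mul_assoc]
  have hε1 : ε ^ p - 1 ∈ 𝔪 := by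
    have h1 : Ideal.Quotient.mk 𝔪 ε = 1 := by
      rw [hε, map_sub, map_one, map_mul, Ideal.Quotient.eq_zero_iff_mem.mpr h, zero_mul,
        sub_zero]
    rw [← Ideal.Quotient.eq_zero_iff_mem, map_sub, map_pow, h1, one_pow, map_one, sub_self]
  intro i hi
  have h2 : inc K L K₁ K₂ (c i) = -(inc K L K₁ K₂ (c i) * (ε ^ p - 1)) := by
    have h3 : inc K L K₁ K₂ e * inc K L K₁ K₂ (c i) = 0 := by
      rw [← map_mul, hec i hi, map_zero]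
    rw [← he]
    linear_combination h3
  rw [h2]
  exact 𝔪.neg_mem (𝔪.mul_mem_left _ hε1)

end Tensor

section Quot

variable {K L K₁ K₂ : Type u} [Field K] [Field L] [Field K₁] [Field K₂] [Algebra K L]
  [Algebra K K₁] [Algebra K K₂] [Algebra K₁ K₂] [IsScalarTower K K₁ K₂]
  {B : Type u} [CommRing B] [IsDomain B] [IsDiscreteValuationRing B] [Algebra B L]
  [IsFractionRing B L] {p : ℕ} {θ₂ : K₂}

/-- Bounded defect on a residue field of `L ⊗[K] K₂`, expressed in any valued field receiving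
that residue field. -/
theorem bd_quot [Fact p.Prime] [CharP L p] [FiniteDimensional K K₂]
    [Algebra.IsGeometricallyReduced K L] (hB : CAlg.IsNagata B)
    (b : Module.Basis (Fin p) K₁ K₂) (hb : ∀ i : Fin p, b i = θ₂ ^ (i : ℕ))
    {a : K₁} (ha : algebraMap K₁ K₂ a = θ₂ ^ p)
    (𝔪 : Ideal (L ⊗[K] K₂)) [𝔪.IsMaximal] {ϖ : B} (hϖ0 : ϖ ≠ 0) (hϖ : ϖ ∈ maximalIdeal B) :
    ∃ C : ℕ, ∀ (Ω : Type u) [Field Ω] (WΩ : ValuationSubring Ω) (Φ : L ⊗[K] K₂ →+* Ω),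
      RingHom.ker Φ = 𝔪 →
      EtRam.Dominates B (Φ.comp ((algebraMap L (L ⊗[K] K₂)).comp (algebraMap B L))) WΩ →
      ∀ c : ℕ → L ⊗[K] K₁, ∀ i < p,
        WΩ.valuation (Φ (inc K L K₁ K₂ (c i)) * Φ ((1 : L) ⊗ₜ[K] θ₂) ^ i *
            Φ (algebraMap L (L ⊗[K] K₂) (algebraMap B L ϖ)) ^ C) ≤
          WΩ.valuation (∑ j ∈ Finset.range p,
            Φ (inc K L K₁ K₂ (c j)) * Φ ((1 : L) ⊗ₜ[K] θ₂) ^ j) := by
  letI : Field ((L ⊗[K] K₂) ⧸ 𝔪) := Ideal.Quotient.field 𝔪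
  haveI : Algebra.IsAlgebraic K K₂ := Algebra.IsAlgebraic.of_finite K K₂
  haveI : IsReduced (L ⊗[K] K₂) := by
    let e := Algebra.TensorProduct.comm K L K₂
    exact isReduced_of_injective e.toRingHom e.injective
  haveI : Algebra.IsIntegral L (L ⊗[K] K₂) := Algebra.IsIntegral.of_finite L _
  haveI : FiniteDimensional L ((L ⊗[K] K₂) ⧸ 𝔪) :=
    Module.Finite.of_surjective (Ideal.Quotient.mkₐ L 𝔪).toLinearMap
      (Ideal.Quotient.mkₐ_surjective L 𝔪)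
  haveI : Module.Finite B (integralClosure B ((L ⊗[K] K₂) ⧸ 𝔪)) :=
    Groth.Agent.H8.Jap.NormFin.finite_integralClosure_field B hB L _ (fun z => by
      obtain ⟨x, s, hs, rfl⟩ := IsFractionRing.div_surjective (A := B) z
      have hs0 : algebraMap B L s ≠ 0 := IsFractionRing.to_map_ne_zero_of_mem_nonZeroDivisors hs
      exact ⟨x, s, hs0, div_mul_cancel₀ _ hs0⟩)
  obtain ⟨ρ, hρ⟩ : ∃ ρ : L ⊗[K] K₁ →ₐ[L] (L ⊗[K] K₂) ⧸ 𝔪,
      ρ = (Ideal.Quotient.mkₐ L 𝔪).comp (inc K L K₁ K₂) := ⟨_, rfl⟩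
  have hρa : ∀ t, ρ t = Ideal.Quotient.mk 𝔪 (inc K L K₁ K₂ t) := fun t => by rw [hρ]; rfl
  have hinv : ∀ r, ρ r ≠ 0 → ∃ r', ρ r * ρ r' = 1 := by
    intro r hr
    have halg : IsAlgebraic L (ρ r) := Algebra.IsAlgebraic.isAlgebraic _
    have hmem : (ρ r)⁻¹ ∈ ρ.range :=
      Subalgebra.inv_mem_of_algebraic ρ.range (x := ⟨ρ r, ⟨r, rfl⟩⟩) halg
    obtain ⟨r', hr'⟩ := hmem
    refine ⟨r', ?_⟩
    have : ρ r' = (ρ r)⁻¹ := hr'
    rw [this, mul_inv_cancel₀ hr]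
  have hp0 : p ≠ 0 := (Fact.out : p.Prime).ne_zero
  have hspan : ∀ y : (L ⊗[K] K₂) ⧸ 𝔪, ∃ c : ℕ → L ⊗[K] K₁,
      y = ∑ i ∈ Finset.range p, ρ (c i) * Ideal.Quotient.mk 𝔪 ((1 : L) ⊗ₜ[K] θ₂) ^ i := by
    intro y
    obtain ⟨t₂, rfl⟩ := Ideal.Quotient.mk_surjective y
    obtain ⟨c, hc⟩ := span (L := L) b hb t₂
    refine ⟨c, ?_⟩
    conv_lhs => rw [hc, map_sum]
    refine Finset.sum_congr rfl (fun i _ => ?_)
    rw [map_mul, map_pow, hρa]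
  have hind : ∀ c : ℕ → L ⊗[K] K₁,
      ∑ i ∈ Finset.range p, ρ (c i) * Ideal.Quotient.mk 𝔪 ((1 : L) ⊗ₜ[K] θ₂) ^ i = 0 →
      ∀ i < p, ρ (c i) = 0 := by
    intro c hc i hi
    rw [hρa, Ideal.Quotient.eq_zero_iff_mem]
    apply indep_mod (L := L) b hb ha 𝔪 c _ i hi
    rw [← Ideal.Quotient.eq_zero_iff_mem, map_sum, ← hc]
    refine Finset.sum_congr rfl (fun j _ => ?_)
    rw [map_mul, map_pow, hρa]
  have hpow : ∀ y : (L ⊗[K] K₂) ⧸ 𝔪, ∃ r, ρ r = y ^ p := by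
    intro y
    obtain ⟨t₂, rfl⟩ := Ideal.Quotient.mk_surjective y
    obtain ⟨t₁, ht₁⟩ := pow_mem_range (L := L) b hb ha t₂
    exact ⟨t₁, by rw [hρa, ht₁, map_pow]⟩
  obtain ⟨C, hC⟩ := bd_core (B := B) ρ hinv p hp0 (Ideal.Quotient.mk 𝔪 ((1 : L) ⊗ₜ[K] θ₂))
    hspan hind hpow hϖ0 hϖ
  refine ⟨C, fun Ω _ WΩ Φ hker hdom c i hi => ?_⟩
  obtain ⟨ι, hι⟩ : ∃ ι : (L ⊗[K] K₂) ⧸ 𝔪 →+* Ω, ∀ t, ι (Ideal.Quotient.mk 𝔪 t) = Φ t :=
    ⟨Ideal.Quotient.lift 𝔪 Φ (fun a ha => by rw [← hker] at ha; exact ha),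
      fun t => Ideal.Quotient.lift_mk _ _ _⟩
  have hV : EtRam.Dominates B (algebraMap B ((L ⊗[K] K₂) ⧸ 𝔪)) (WΩ.comap ι) := by
    apply RI.dominates_comap_of_comp
    have e : ι.comp (algebraMap B ((L ⊗[K] K₂) ⧸ 𝔪)) =
        Φ.comp ((algebraMap L (L ⊗[K] K₂)).comp (algebraMap B L)) :=
      RingHom.ext (fun b => hι _)
    rw [e]; exact hdom
  have hϖι : ι (algebraMap B ((L ⊗[K] K₂) ⧸ 𝔪) ϖ) =
      Φ (algebraMap L (L ⊗[K] K₂) (algebraMap B L ϖ)) := hι _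
  have h1 := hC (WΩ.comap ι) hV c i hi
  have h2 := (RI.isEquiv_comap WΩ ι _ _).mp h1
  simp only [Valuation.comap_apply, map_mul, map_pow, map_sum, hρa, hι, hϖι] at h2
  simp only [map_mul, map_pow]
  exact h2

/-- A bounded-defect constant that works for all residue fields of `L ⊗[K] K₂`. -/
theorem bd_uniform [Fact p.Prime] [CharP L p] [FiniteDimensional K K₂]
    [Algebra.IsGeometricallyReduced K L] (hB : CAlg.IsNagata B)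
    (b : Module.Basis (Fin p) K₁ K₂) (hb : ∀ i : Fin p, b i = θ₂ ^ (i : ℕ))
    {a : K₁} (ha : algebraMap K₁ K₂ a = θ₂ ^ p)
    {ϖ : B} (hϖ0 : ϖ ≠ 0) (hϖ : ϖ ∈ maximalIdeal B) :
    ∃ C : ℕ, ∀ (Ω : Type u) [Field Ω] (WΩ : ValuationSubring Ω) (Φ : L ⊗[K] K₂ →+* Ω),
      EtRam.Dominates B (Φ.comp ((algebraMap L (L ⊗[K] K₂)).comp (algebraMap B L))) WΩ →
      ∀ c : ℕ → L ⊗[K] K₁, ∀ i < p,
        WΩ.valuation (Φ (inc K L K₁ K₂ (c i)) * Φ ((1 : L) ⊗ₜ[K] θ₂) ^ i *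
            Φ (algebraMap L (L ⊗[K] K₂) (algebraMap B L ϖ)) ^ C) ≤
          WΩ.valuation (∑ j ∈ Finset.range p,
            Φ (inc K L K₁ K₂ (c j)) * Φ ((1 : L) ⊗ₜ[K] θ₂) ^ j) := by
  classical
  haveI : IsArtinianRing (L ⊗[K] K₂) := IsArtinianRing.of_finite L _
  haveI : Fintype (MaximalSpectrum (L ⊗[K] K₂)) := Fintype.ofFinite _
  choose Cf hCf using fun 𝔪 : MaximalSpectrum (L ⊗[K] K₂) =>
    bd_quot (L := L) hB b hb ha 𝔪.asIdeal hϖ0 hϖ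
  refine ⟨Finset.univ.sup Cf, fun Ω _ WΩ Φ hdom c i hi => ?_⟩
  haveI : (RingHom.ker Φ).IsPrime := RingHom.ker_isPrime Φ
  have hmax : (RingHom.ker Φ).IsMaximal := inferInstance
  have h1 := hCf ⟨RingHom.ker Φ, hmax⟩ Ω WΩ Φ rfl hdom c i hi
  obtain ⟨d, hd⟩ := Nat.exists_eq_add_of_le
    (Finset.le_sup (f := Cf) (Finset.mem_univ (⟨RingHom.ker Φ, hmax⟩ : MaximalSpectrum _)))
  rw [hd, pow_add, ← mul_assoc, map_mul]
  have hle : WΩ.valuation (Φ (algebraMap L (L ⊗[K] K₂) (algebraMap B L ϖ)) ^ d) ≤ 1 := by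
    rw [map_pow]
    exact pow_le_one₀ zero_le' ((WΩ.valuation_le_one_iff _).mpr (hdom.1 ϖ))
  calc WΩ.valuation (Φ (inc K L K₁ K₂ (c i)) * Φ ((1 : L) ⊗ₜ[K] θ₂) ^ i *
          Φ (algebraMap L (L ⊗[K] K₂) (algebraMap B L ϖ)) ^ Cf ⟨RingHom.ker Φ, hmax⟩) *
        WΩ.valuation (Φ (algebraMap L (L ⊗[K] K₂) (algebraMap B L ϖ)) ^ d)
      ≤ WΩ.valuation (Φ (inc K L K₁ K₂ (c i)) * Φ ((1 : L) ⊗ₜ[K] θ₂) ^ i *
          Φ (algebraMap L (L ⊗[K] K₂) (algebraMap B L ϖ)) ^ Cf ⟨RingHom.ker Φ, hmax⟩) * 1 :=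
        mul_le_mul' le_rfl hle
    _ = _ := mul_one _
    _ ≤ _ := h1

end Quot

end Groth.Agent.H8.Kr
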