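import Mathlib
import Groth.Prelude.Def_EtRam
import Groth.Prelude.Def_CAlg
import Groth.Agent.Lib.Helper8.ASK.KrB
import Groth.Agent.Lib.Helper8.ASK.KrC

/-!
# Krasner-type approximation, part D: replacing a purely inseparable step of degree `p`
by a separable one (S7151)
-/

set_option autoImplicit false
universe u

namespace Groth.Agent.H8.Kr

open IsLocalRing TensorProduct Polynomial

theorem repr_compositum {K L K₁ K₃ M₃ : Type u} [Field K] [Field L] [Field K₁] [Field K₃]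
    [Field M₃] [Algebra K L] [Algebra K K₁] [Algebra K₁ K₃] [Algebra K K₃] [IsScalarTower K K₁ K₃]
    [Algebra K M₃] [Algebra L M₃] [Algebra K₃ M₃] [Algebra K₁ M₃] [IsScalarTower K L M₃]
    [IsScalarTower K K₃ M₃] [IsScalarTower K₁ K₃ M₃] [IsScalarTower K K₁ M₃]
    (hgen : Algebra.adjoin L (Set.range (algebraMap K₃ M₃)) = ⊤) {p : ℕ} (hp2 : 2 ≤ p)
    (x : K₃) (u a : K₁) (hx : x ^ p = algebraMap K₁ K₃ u * x + algebraMap K₁ K₃ a)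
    (hK₃ : ∀ k₃ : K₃, ∃ κ : ℕ → K₁, k₃ = ∑ i ∈ Finset.range p, algebraMap K₁ K₃ (κ i) * x ^ i)
    (y : M₃) :
    ∃ q : ℕ → L ⊗[K] K₁, y = ∑ l ∈ Finset.range p,
      Algebra.TensorProduct.productMap (IsScalarTower.toAlgHom K L M₃)
        (IsScalarTower.toAlgHom K K₁ M₃) (q l) * algebraMap K₃ M₃ x ^ l := by
  obtain ⟨φ, hφ⟩ : ∃ φ : L ⊗[K] K₁ →+* M₃,
      φ = (Algebra.TensorProduct.productMap (IsScalarTower.toAlgHom K L M₃)
        (IsScalarTower.toAlgHom K K₁ M₃)).toRingHom := ⟨_, rfl⟩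
  have hφt : ∀ l k, φ (l ⊗ₜ[K] k) = algebraMap L M₃ l * algebraMap K₁ M₃ k := by
    intro l k; rw [hφ]; rfl
  obtain ⟨x₃, hx₃⟩ : ∃ x₃, x₃ = algebraMap K₃ M₃ x := ⟨_, rfl⟩
  have hpoly : ∀ y ∈ Algebra.adjoin L (Set.range (algebraMap K₃ M₃)),
      ∃ Q : (L ⊗[K] K₁)[X], y = eval₂ φ x₃ Q := by
    intro y hy
    induction hy using Algebra.adjoin_induction with
    | mem y hy =>
      obtain ⟨k₃, rfl⟩ := hy
      obtain ⟨κ, hκ⟩ := hK₃ k₃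
      refine ⟨∑ i ∈ Finset.range p, Polynomial.C ((1 : L) ⊗ₜ[K] κ i) * X ^ i, ?_⟩
      rw [eval₂_finset_sum, hκ, map_sum]
      refine Finset.sum_congr rfl (fun i _ => ?_)
      rw [eval₂_mul, eval₂_C, eval₂_pow, eval₂_X, hφt, map_one, one_mul, map_mul, map_pow, ← hx₃,
        IsScalarTower.algebraMap_apply K₁ K₃ M₃]
    | algebraMap l =>
      refine ⟨Polynomial.C (l ⊗ₜ[K] (1 : K₁)), ?_⟩
      rw [eval₂_C, hφt, map_one, mul_one]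
    | add y z _ _ hy hz =>
      obtain ⟨Q₁, h₁⟩ := hy
      obtain ⟨Q₂, h₂⟩ := hz
      exact ⟨Q₁ + Q₂, by rw [eval₂_add, h₁, h₂]⟩
    | mul y z _ _ hy hz =>
      obtain ⟨Q₁, h₁⟩ := hy
      obtain ⟨Q₂, h₂⟩ := hz
      exact ⟨Q₁ * Q₂, by rw [eval₂_mul, h₁, h₂]⟩
  obtain ⟨Q, hQ⟩ := hpoly y (by rw [hgen]; exact Algebra.mem_top)
  obtain ⟨F, hF⟩ : ∃ F : (L ⊗[K] K₁)[X], F = X ^ p -
      (Polynomial.C ((1 : L) ⊗ₜ[K] u) * X + Polynomial.C ((1 : L) ⊗ₜ[K] a)) := ⟨_, rfl⟩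
  have hdeg : (Polynomial.C ((1 : L) ⊗ₜ[K] u) * X + Polynomial.C ((1 : L) ⊗ₜ[K] a) :
      (L ⊗[K] K₁)[X]).degree < (p : WithBot ℕ) :=
    lt_of_le_of_lt degree_linear_le (by exact_mod_cast hp2)
  have hFm : F.Monic := by rw [hF]; exact monic_X_pow_sub hdeg
  have hFn : F.natDegree = p := by
    rw [hF, natDegree_sub_eq_left_of_natDegree_lt, natDegree_X_pow]
    rw [natDegree_X_pow]; exact lt_of_le_of_lt natDegree_linear_le hp2
  have hF1 : F ≠ 1 := by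
    intro h; rw [h, natDegree_one] at hFn; omega
  have hFx : eval₂ φ x₃ F = 0 := by
    rw [hF, eval₂_sub, eval₂_pow, eval₂_X, eval₂_add, eval₂_mul, eval₂_C, eval₂_C, eval₂_X, hφt,
      hφt, map_one, one_mul, one_mul, hx₃, ← map_pow, hx, map_add, map_mul,
      ← IsScalarTower.algebraMap_apply K₁ K₃ M₃, ← IsScalarTower.algebraMap_apply K₁ K₃ M₃,
      sub_self]
  have hlt : (Q %ₘ F).natDegree < p := by
    rw [← hFn]; exact natDegree_modByMonic_lt Q hFm hF1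
  have hQ' : eval₂ φ x₃ Q = eval₂ φ x₃ (Q %ₘ F) := by
    conv_lhs => rw [← modByMonic_add_div Q F]
    rw [eval₂_add, eval₂_mul, hFx, zero_mul, add_zero]
  refine ⟨fun l => (Q %ₘ F).coeff l, ?_⟩
  rw [hQ, hQ', eval₂_eq_sum_range' φ hlt x₃]
  refine Finset.sum_congr rfl (fun l _ => ?_)
  rw [hx₃, hφ]; rfl

theorem adjoinRoot_repr {K₁ : Type u} [Field K₁] {p : ℕ} (hp2 : 2 ≤ p) (u a : K₁) (g : K₁[X])
    [Fact (Irreducible g)] (hg : g ∣ X ^ p - (C u * X + C a)) :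
    (AdjoinRoot.root g) ^ p = algebraMap K₁ (AdjoinRoot g) u * AdjoinRoot.root g +
      algebraMap K₁ (AdjoinRoot g) a ∧
    ∀ k₃ : AdjoinRoot g, ∃ κ : ℕ → K₁,
      k₃ = ∑ i ∈ Finset.range p, algebraMap K₁ (AdjoinRoot g) (κ i) * (AdjoinRoot.root g) ^ i := by
  obtain ⟨F, hF⟩ : ∃ F : K₁[X], F = X ^ p - (C u * X + C a) := ⟨_, rfl⟩
  rw [← hF] at hg
  have haev : aeval (AdjoinRoot.root g) F = 0 := by
    rw [AdjoinRoot.aeval_eq, AdjoinRoot.mk_eq_zero]; exact hg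
  have hdeg : (C u * X + C a : K₁[X]).degree < (p : WithBot ℕ) :=
    lt_of_le_of_lt degree_linear_le (by exact_mod_cast hp2)
  have hFm : F.Monic := by rw [hF]; exact monic_X_pow_sub hdeg
  have hFn : F.natDegree = p := by
    rw [hF, natDegree_sub_eq_left_of_natDegree_lt, natDegree_X_pow]
    rw [natDegree_X_pow]; exact lt_of_le_of_lt natDegree_linear_le hp2
  have hF1 : F ≠ 1 := by
    intro h; rw [h, natDegree_one] at hFn; omega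
  constructor
  · have h1 := haev
    rw [hF, map_sub, map_pow, aeval_X, map_add, map_mul, aeval_C, aeval_C, aeval_X,
      sub_eq_zero] at h1
    exact h1
  · intro k₃
    obtain ⟨Q, rfl⟩ := AdjoinRoot.mk_surjective k₃
    have hlt : (Q %ₘ F).natDegree < p := by
      rw [← hFn]; exact natDegree_modByMonic_lt Q hFm hF1
    have hQ' : aeval (AdjoinRoot.root g) Q = aeval (AdjoinRoot.root g) (Q %ₘ F) := by
      conv_lhs => rw [← modByMonic_add_div Q F]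
      rw [map_add, map_mul, haev, zero_mul, add_zero]
    refine ⟨fun i => (Q %ₘ F).coeff i, ?_⟩
    rw [← AdjoinRoot.aeval_eq, hQ', aeval_eq_sum_range' hlt]
    refine Finset.sum_congr rfl (fun i _ => ?_)
    rw [Algebra.smul_def]

section Local

variable {p : ℕ} {A B K L : Type u} [CommRing A] [IsDomain A] [IsDiscreteValuationRing A]
  [CommRing B] [IsDomain B] [IsDiscreteValuationRing B] [Algebra A B]
  [Field K] [Field L] [Algebra A K] [IsFractionRing A K] [Algebra B L] [IsFractionRing B L]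
  [Algebra K L] [Algebra A L] [IsScalarTower A K L] [IsScalarTower A B L]
  {K₁ K₂ : Type u} [Field K₁] [Field K₂] [Algebra K K₁] [Algebra K K₂] [Algebra K₁ K₂]
  [IsScalarTower K K₁ K₂] [Algebra A K₁] [IsScalarTower A K K₁]

theorem local_core [Fact p.Prime] [CharP K p] [FiniteDimensional K₁ K₂] [FiniteDimensional K K₂]
    (hsol : EtRam.IsSolution B K L K₂)
    (b : Module.Basis (Fin p) K₁ K₂) {θ₂ : K₂} (hb : ∀ i : Fin p, b i = θ₂ ^ (i : ℕ))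
    {a : K₁} (ha : algebraMap K₁ K₂ a = θ₂ ^ p) (ha0 : a ≠ 0)
    {πA : A} (hπ0 : algebraMap A B πA ≠ 0) (hπm : algebraMap A B πA ∈ maximalIdeal B)
    (C m : ℕ)
    (hC : ∀ (Ω : Type u) [Field Ω] (WΩ : ValuationSubring Ω) (Φ : L ⊗[K] K₂ →+* Ω),
      EtRam.Dominates B (Φ.comp ((algebraMap L (L ⊗[K] K₂)).comp (algebraMap B L))) WΩ →
      ∀ c : ℕ → L ⊗[K] K₁, ∀ i < p,
        WΩ.valuation (Φ (inc K L K₁ K₂ (c i)) * Φ ((1 : L) ⊗ₜ[K] θ₂) ^ i *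
            Φ (algebraMap L (L ⊗[K] K₂) (algebraMap B L (algebraMap A B πA))) ^ C) ≤
          WΩ.valuation (∑ j ∈ Finset.range p,
            Φ (inc K L K₁ K₂ (c j)) * Φ ((1 : L) ⊗ₜ[K] θ₂) ^ j))
    (hm : IsIntegral A (algebraMap A K₁ πA ^ m * a⁻¹))
    (K₃ : Type u) [Field K₃] [Algebra K K₃] [Algebra K₁ K₃] [IsScalarTower K K₁ K₃]
    (x : K₃)
    (hx : x ^ p = algebraMap K₁ K₃ (algebraMap A K₁ πA ^ (p * C + m + 1)) * x +
      algebraMap K₁ K₃ a)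
    (hK₃ : ∀ k₃ : K₃, ∃ κ : ℕ → K₁, k₃ = ∑ i ∈ Finset.range p, algebraMap K₁ K₃ (κ i) * x ^ i)
    (M₃ : Type u) [Field M₃] [Algebra K M₃] [Algebra L M₃] [Algebra K₃ M₃] [IsScalarTower K L M₃]
    [IsScalarTower K K₃ M₃] [Algebra K₁ M₃] [IsScalarTower K₁ K₃ M₃] [IsScalarTower K K₁ M₃]
    (hgen₃ : Algebra.adjoin L (Set.range (algebraMap K₃ M₃)) = ⊤)
    (Ω : Type u) [Field Ω] [IsAlgClosed Ω] [Algebra M₃ Ω] [Algebra K Ω] [Algebra L Ω]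
    [Algebra K₁ Ω] [Algebra K₃ Ω] [IsScalarTower K M₃ Ω] [IsScalarTower L M₃ Ω]
    [IsScalarTower K₁ M₃ Ω] [IsScalarTower K₃ M₃ Ω] [IsScalarTower K L Ω] [IsScalarTower K K₁ Ω]
    [IsScalarTower K₁ K₃ Ω] (WΩ : ValuationSubring Ω)
    (hW : EtRam.Dominates B ((algebraMap L M₃).comp (algebraMap B L))
      (WΩ.comap (algebraMap M₃ Ω))) :
    (letI : Algebra ((WΩ.comap (algebraMap M₃ Ω)).comap (algebraMap K₃ M₃))
        (WΩ.comap (algebraMap M₃ Ω)) :=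
        (EtRam.inclOfComap (WΩ.comap (algebraMap M₃ Ω)) (algebraMap K₃ M₃)).toAlgebra;
      EtRam.IsWeaklyUnramified ((WΩ.comap (algebraMap M₃ Ω)).comap (algebraMap K₃ M₃))
        (WΩ.comap (algebraMap M₃ Ω))) ∧
    @Algebra.IsGeometricallyReduced
      (ResidueField ((WΩ.comap (algebraMap M₃ Ω)).comap (algebraMap K₃ M₃)))
      (ResidueField (WΩ.comap (algebraMap M₃ Ω))) _ _
      (ResidueField.map (EtRam.inclOfComap (WΩ.comap (algebraMap M₃ Ω))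
        (algebraMap K₃ M₃))).toAlgebra := by
  have hp : p.Prime := Fact.out
  have hp2 : 2 ≤ p := hp.two_le
  obtain ⟨p', rfl⟩ : ∃ p', p = p' + 1 := Nat.exists_eq_succ_of_ne_zero hp.ne_zero
  haveI : CharP Ω (p' + 1) := charP_of_injective_algebraMap (algebraMap K Ω).injective (p' + 1)
  haveI : Algebra.IsAlgebraic K₁ K₂ := Algebra.IsAlgebraic.of_finite K₁ K₂
  -- `K₂ → Ω`
  obtain ⟨ψ₂⟩ : Nonempty (K₂ →ₐ[K₁] Ω) := ⟨IsAlgClosed.lift⟩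
  obtain ⟨θ, hθ⟩ : ∃ θ : Ω, θ = ψ₂ θ₂ := ⟨_, rfl⟩
  have hθp : θ ^ (p' + 1) = algebraMap K₁ Ω a := by rw [hθ, ← map_pow, ← ha, ψ₂.commutes]
  have hθ0 : θ ≠ 0 := by
    intro h
    rw [h, zero_pow hp.ne_zero] at hθp
    exact ha0 ((map_eq_zero _).mp hθp.symm)
  obtain ⟨Φ, hΦ⟩ : ∃ Φ : L ⊗[K] K₂ →+* Ω, ∀ l k₂, Φ (l ⊗ₜ[K] k₂) = algebraMap L Ω l * ψ₂ k₂ :=
    ⟨(Algebra.TensorProduct.productMap (IsScalarTower.toAlgHom K L Ω)
      (ψ₂.restrictScalars K)).toRingHom, fun l k₂ => rfl⟩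
  have hΦL : ∀ l, Φ (algebraMap L (L ⊗[K] K₂) l) = algebraMap L Ω l := by
    intro l
    have e : algebraMap L (L ⊗[K] K₂) l = l ⊗ₜ[K] (1 : K₂) := rfl
    rw [e, hΦ, map_one, mul_one]
  have hΦθ : Φ ((1 : L) ⊗ₜ[K] θ₂) = θ := by rw [hΦ, map_one, one_mul, hθ]
  have hdomΩ : EtRam.Dominates B ((algebraMap L Ω).comp (algebraMap B L)) WΩ := by
    have h1 := RI.dominates_comp_of_comap hW
    have e : (algebraMap M₃ Ω).comp ((algebraMap L M₃).comp (algebraMap B L)) =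
        (algebraMap L Ω).comp (algebraMap B L) :=
      RingHom.ext (fun b' => (IsScalarTower.algebraMap_apply L M₃ Ω _).symm)
    rw [e] at h1; exact h1
  have hdomΦ : EtRam.Dominates B
      (Φ.comp ((algebraMap L (L ⊗[K] K₂)).comp (algebraMap B L))) WΩ := by
    have e : Φ.comp ((algebraMap L (L ⊗[K] K₂)).comp (algebraMap B L)) =
        (algebraMap L Ω).comp (algebraMap B L) := RingHom.ext (fun b' => hΦL _)
    rw [e]; exact hdomΩ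
  -- the compositum `M₂`
  haveI : IsArtinianRing (L ⊗[K] K₂) := IsArtinianRing.of_finite L _
  haveI : (RingHom.ker Φ).IsPrime := RingHom.ker_isPrime Φ
  haveI hmax : (RingHom.ker Φ).IsMaximal := inferInstance
  letI : Field ((L ⊗[K] K₂) ⧸ RingHom.ker Φ) := Ideal.Quotient.field _
  letI : Algebra K₂ ((L ⊗[K] K₂) ⧸ RingHom.ker Φ) :=
    ((Ideal.Quotient.mk (RingHom.ker Φ)).comp
      (Algebra.TensorProduct.includeRight : K₂ →ₐ[K] L ⊗[K] K₂).toRingHom).toAlgebra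
  haveI : IsScalarTower K K₂ ((L ⊗[K] K₂) ⧸ RingHom.ker Φ) :=
    IsScalarTower.of_algebraMap_eq (fun k =>
      congrArg (Ideal.Quotient.mk (RingHom.ker Φ))
        ((Algebra.TensorProduct.includeRight : K₂ →ₐ[K] L ⊗[K] K₂).commutes k).symm)
  have hK₂map : ∀ k₂ : K₂, algebraMap K₂ ((L ⊗[K] K₂) ⧸ RingHom.ker Φ) k₂ =
      Ideal.Quotient.mk _ ((1 : L) ⊗ₜ[K] k₂) := fun _ => rfl
  have hLmap : ∀ l : L, algebraMap L ((L ⊗[K] K₂) ⧸ RingHom.ker Φ) l =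
      Ideal.Quotient.mk _ (l ⊗ₜ[K] (1 : K₂)) := fun _ => rfl
  have hgen₂ : Algebra.adjoin L
      (Set.range (algebraMap K₂ ((L ⊗[K] K₂) ⧸ RingHom.ker Φ))) = ⊤ := by
    rw [eq_top_iff]
    rintro y -
    obtain ⟨t, rfl⟩ := Ideal.Quotient.mk_surjective y
    induction t using TensorProduct.induction_on with
    | zero => rw [map_zero]; exact Subalgebra.zero_mem _
    | tmul l k₂ =>
      have e : Ideal.Quotient.mk (RingHom.ker Φ) (l ⊗ₜ[K] k₂) =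
          algebraMap L ((L ⊗[K] K₂) ⧸ RingHom.ker Φ) l *
            algebraMap K₂ ((L ⊗[K] K₂) ⧸ RingHom.ker Φ) k₂ := by
        rw [hK₂map, hLmap, ← map_mul, Algebra.TensorProduct.tmul_mul_tmul, mul_one, one_mul]
      rw [e]
      exact Subalgebra.mul_mem _ (Subalgebra.algebraMap_mem _ l)
        (Algebra.subset_adjoin ⟨k₂, rfl⟩)
    | add x y hx hy => rw [map_add]; exact Subalgebra.add_mem _ hx hy
  have hι₂ : ∀ t, RingHom.kerLift Φ (Ideal.Quotient.mk _ t) = Φ t := RingHom.kerLift_mk Φ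
  have hdom₂ : EtRam.Dominates B
      ((algebraMap L ((L ⊗[K] K₂) ⧸ RingHom.ker Φ)).comp (algebraMap B L))
      (WΩ.comap (RingHom.kerLift Φ)) := by
    apply RI.dominates_comap_of_comp
    have e : (RingHom.kerLift Φ).comp
        ((algebraMap L ((L ⊗[K] K₂) ⧸ RingHom.ker Φ)).comp (algebraMap B L)) =
        Φ.comp ((algebraMap L (L ⊗[K] K₂)).comp (algebraMap B L)) :=
      RingHom.ext (fun b' => hι₂ _)
    rw [e]; exact hdomΦ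
  obtain ⟨hwu₂, hgr₂⟩ := hsol ((L ⊗[K] K₂) ⧸ RingHom.ker Φ) hgen₂
    (WΩ.comap (RingHom.kerLift Φ)) hdom₂
  -- the uniformizer of `A` in `Ω`
  obtain ⟨πΩ, hπΩ⟩ : ∃ πΩ : Ω, πΩ = algebraMap K₁ Ω (algebraMap A K₁ πA) := ⟨_, rfl⟩
  have hAΩ : ∀ a' : A, algebraMap K₁ Ω (algebraMap A K₁ a') =
      algebraMap L Ω (algebraMap B L (algebraMap A B a')) := by
    intro a'
    rw [IsScalarTower.algebraMap_apply A K K₁, ← IsScalarTower.algebraMap_apply K K₁ Ω,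
      IsScalarTower.algebraMap_apply K L Ω, ← IsScalarTower.algebraMap_apply A K L,
      IsScalarTower.algebraMap_apply A B L]
  have hπΩ' : πΩ = algebraMap L Ω (algebraMap B L (algebraMap A B πA)) := by rw [hπΩ, hAΩ]
  obtain ⟨w, hw⟩ : ∃ w, w = WΩ.valuation πΩ := ⟨_, rfl⟩
  have hw1 : w < 1 := by rw [hw, hπΩ']; exact hdomΩ.2 _ hπm
  have hπΩ0 : πΩ ≠ 0 := by
    rw [hπΩ']
    intro h
    have h1 : algebraMap B L (algebraMap A B πA) = 0 := (map_eq_zero _).mp h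
    exact hπ0 ((IsFractionRing.injective B L) (h1.trans (map_zero _).symm))
  have hw0 : 0 < w := by rw [hw]; exact zero_lt_iff.mpr ((Valuation.ne_zero_iff _).mpr hπΩ0)
  have hva : w ^ m ≤ WΩ.valuation θ ^ (p' + 1) := by
    rw [← map_pow, hθp]
    have h1 : WΩ.valuation (algebraMap K₁ Ω (algebraMap A K₁ πA ^ m * a⁻¹)) ≤ 1 := by
      obtain ⟨f, hf, hf0⟩ := hm
      rw [WΩ.valuation_le_one_iff]
      refine TotRam.mem_of_integral_hom WΩ ((algebraMap K₁ Ω).comp (algebraMap A K₁))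
        (fun a' => ?_) _ f hf ?_
      · show algebraMap K₁ Ω (algebraMap A K₁ a') ∈ WΩ
        rw [hAΩ]; exact hdomΩ.1 _
      · rw [← Polynomial.hom_eval₂, hf0, map_zero]
    rw [map_mul, map_pow, ← hπΩ, map_inv₀, map_mul, map_pow, map_inv₀, ← hw] at h1
    have hva0 : WΩ.valuation (algebraMap K₁ Ω a) ≠ 0 :=
      (Valuation.ne_zero_iff _).mpr ((_root_.map_ne_zero _).mpr ha0)
    calc w ^ m = w ^ m * (WΩ.valuation (algebraMap K₁ Ω a))⁻¹ *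
          WΩ.valuation (algebraMap K₁ Ω a) := by rw [mul_assoc, inv_mul_cancel₀ hva0, mul_one]
      _ ≤ 1 * WΩ.valuation (algebraMap K₁ Ω a) := mul_le_mul' h1 le_rfl
      _ = _ := one_mul _
  have hvθ : w ^ m ≤ WΩ.valuation θ ^ p' := by
    rcases le_or_gt 1 (WΩ.valuation θ) with h | h
    · exact (pow_le_one₀ zero_le' hw1.le).trans (one_le_pow₀ h)
    · refine hva.trans ?_
      rw [pow_succ]
      calc WΩ.valuation θ ^ p' * WΩ.valuation θ ≤ WΩ.valuation θ ^ p' * 1 :=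
            mul_le_mul' le_rfl h.le
        _ = _ := mul_one _
  obtain ⟨cΩ, hcΩ⟩ : ∃ cΩ : Ω,
      cΩ = algebraMap K₁ Ω (algebraMap A K₁ πA ^ ((p' + 1) * C + m + 1)) := ⟨_, rfl⟩
  have hvc : WΩ.valuation cΩ = w ^ ((p' + 1) * C + m + 1) := by
    rw [hcΩ, map_pow, ← hπΩ, map_pow, hw]
  obtain ⟨xΩ, hxΩ⟩ : ∃ xΩ : Ω, xΩ = algebraMap K₃ Ω x := ⟨_, rfl⟩
  have hrel : (xΩ - θ) ^ (p' + 1) = cΩ * xΩ := by
    rw [sub_pow_char, hθp, hxΩ, ← map_pow, hx, map_add, map_mul,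
      ← IsScalarTower.algebraMap_apply K₁ K₃ Ω, ← IsScalarTower.algebraMap_apply K₁ K₃ Ω, ← hcΩ]
    ring
  have hsplit : w ^ ((p' + 1) * C + m + 1) = w ^ ((p' + 1) * C) * (w ^ m * w) := by
    rw [pow_succ, pow_add, mul_assoc]
  have h1 : WΩ.valuation cΩ < WΩ.valuation θ ^ p' := by
    rw [hvc, hsplit]
    calc w ^ ((p' + 1) * C) * (w ^ m * w) ≤ 1 * (w ^ m * w) :=
          mul_le_mul' (pow_le_one₀ zero_le' hw1.le) le_rfl
      _ = w ^ m * w := one_mul _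
      _ < w ^ m * 1 := mul_lt_mul_of_pos_left hw1 (pow_pos hw0 m)
      _ = w ^ m := mul_one _
      _ ≤ _ := hvθ
  have h2 : WΩ.valuation cΩ < (w ^ C) ^ (p' + 1) * WΩ.valuation θ ^ p' := by
    rw [hvc, hsplit, ← pow_mul, mul_comm C (p' + 1)]
    calc w ^ ((p' + 1) * C) * (w ^ m * w) < w ^ ((p' + 1) * C) * (w ^ m * 1) :=
          mul_lt_mul_of_pos_left (mul_lt_mul_of_pos_left hw1 (pow_pos hw0 m)) (pow_pos hw0 _)
      _ = w ^ ((p' + 1) * C) * w ^ m := by rw [mul_one]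
      _ ≤ _ := mul_le_mul' le_rfl hvθ
  obtain ⟨jΩ, hjΩ⟩ : ∃ jΩ : L ⊗[K] K₁ →+* Ω, ∀ t, jΩ t = Φ (inc K L K₁ K₂ t) :=
    ⟨Φ.comp (inc K L K₁ K₂).toRingHom, fun t => rfl⟩
  have hjt : ∀ l k₁, jΩ (l ⊗ₜ[K] k₁) = algebraMap L Ω l * algebraMap K₁ Ω k₁ := by
    intro l k₁; rw [hjΩ, inc_tmul, hΦ, ψ₂.commutes]
  have hBD : ∀ (q : ℕ → L ⊗[K] K₁), ∀ i < p' + 1,
      WΩ.valuation (jΩ (q i) * θ ^ i) * w ^ C ≤
        WΩ.valuation (∑ l ∈ Finset.range (p' + 1), jΩ (q l) * θ ^ l) := by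
    intro q i hi
    have h3 := hC Ω WΩ Φ hdomΦ q i hi
    rw [hΦθ, hΦL, ← hπΩ', map_mul, map_pow WΩ.valuation πΩ, ← hw] at h3
    simp only [← hjΩ] at h3
    exact h3
  have hkr : ∀ q : ℕ → L ⊗[K] K₁,
      Close WΩ.valuation (∑ l ∈ Finset.range (p' + 1), jΩ (q l) * xΩ ^ l)
        (∑ l ∈ Finset.range (p' + 1), jΩ (q l) * θ ^ l) :=
    fun q => krasner WΩ.valuation jΩ hrel hθ0 h1 h2 hBD q
  -- representations
  obtain ⟨φ₃, hφ₃⟩ : ∃ φ₃ : L ⊗[K] K₁ →+* M₃,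
      φ₃ = (Algebra.TensorProduct.productMap (IsScalarTower.toAlgHom K L M₃)
        (IsScalarTower.toAlgHom K K₁ M₃)).toRingHom := ⟨_, rfl⟩
  have hφ₃t : ∀ l k₁, φ₃ (l ⊗ₜ[K] k₁) = algebraMap L M₃ l * algebraMap K₁ M₃ k₁ := by
    intro l k₁; rw [hφ₃]; rfl
  have hjφ : ∀ t, algebraMap M₃ Ω (φ₃ t) = jΩ t := by
    intro t
    induction t using TensorProduct.induction_on with
    | zero => rw [map_zero, map_zero, map_zero]
    | tmul l k₁ =>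
      rw [hφ₃t, hjt, map_mul, ← IsScalarTower.algebraMap_apply L M₃ Ω,
        ← IsScalarTower.algebraMap_apply K₁ M₃ Ω]
    | add s t hs ht => rw [map_add, map_add, map_add, hs, ht]
  have hxΩ' : algebraMap M₃ Ω (algebraMap K₃ M₃ x) = xΩ := by
    rw [hxΩ, ← IsScalarTower.algebraMap_apply K₃ M₃ Ω]
  have hR3 : ∀ y₃ : M₃, ∃ q : ℕ → L ⊗[K] K₁,
      algebraMap M₃ Ω y₃ = ∑ l ∈ Finset.range (p' + 1), jΩ (q l) * xΩ ^ l := by
    intro y₃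
    obtain ⟨q, hq⟩ := repr_compositum (K := K) (L := L) (K₁ := K₁) hgen₃ hp2 x _ a hx hK₃ y₃
    refine ⟨q, ?_⟩
    rw [hq, map_sum]
    refine Finset.sum_congr rfl (fun l _ => ?_)
    rw [map_mul, map_pow, hxΩ', ← hjφ, hφ₃]; rfl
  have hR3' : ∀ q : ℕ → L ⊗[K] K₁, ∃ y₃ : M₃,
      algebraMap M₃ Ω y₃ = ∑ l ∈ Finset.range (p' + 1), jΩ (q l) * xΩ ^ l := by
    intro q
    refine ⟨∑ l ∈ Finset.range (p' + 1), φ₃ (q l) * algebraMap K₃ M₃ x ^ l, ?_⟩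
    rw [map_sum]
    refine Finset.sum_congr rfl (fun l _ => ?_)
    rw [map_mul, map_pow, hxΩ', hjφ]
  have hR2 : ∀ y₂ : (L ⊗[K] K₂) ⧸ RingHom.ker Φ, ∃ q : ℕ → L ⊗[K] K₁,
      RingHom.kerLift Φ y₂ = ∑ l ∈ Finset.range (p' + 1), jΩ (q l) * θ ^ l := by
    intro y₂
    obtain ⟨t₂, rfl⟩ := Ideal.Quotient.mk_surjective y₂
    obtain ⟨q, hq⟩ := span (L := L) b hb t₂
    refine ⟨q, ?_⟩
    rw [hι₂, hq, map_sum]
    refine Finset.sum_congr rfl (fun l _ => ?_)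
    rw [map_mul, map_pow, hΦθ, hjΩ]
  have hR2' : ∀ q : ℕ → L ⊗[K] K₁, ∃ y₂ : (L ⊗[K] K₂) ⧸ RingHom.ker Φ,
      RingHom.kerLift Φ y₂ = ∑ l ∈ Finset.range (p' + 1), jΩ (q l) * θ ^ l := by
    intro q
    refine ⟨Ideal.Quotient.mk _ (∑ l ∈ Finset.range (p' + 1),
      inc K L K₁ K₂ (q l) * ((1 : L) ⊗ₜ[K] θ₂) ^ l), ?_⟩
    rw [hι₂, map_sum]
    refine Finset.sum_congr rfl (fun l _ => ?_)
    rw [map_mul, map_pow, hΦθ, hjΩ]
  have hM32 : ∀ y₃ : M₃, ∃ y₂ : (L ⊗[K] K₂) ⧸ RingHom.ker Φ,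
      Close WΩ.valuation (algebraMap M₃ Ω y₃) (RingHom.kerLift Φ y₂) := by
    intro y₃
    obtain ⟨q, hq⟩ := hR3 y₃
    obtain ⟨y₂, hy₂⟩ := hR2' q
    exact ⟨y₂, by rw [hq, hy₂]; exact hkr q⟩
  have hM23 : ∀ y₂ : (L ⊗[K] K₂) ⧸ RingHom.ker Φ, ∃ y₃ : M₃,
      Close WΩ.valuation (algebraMap M₃ Ω y₃) (RingHom.kerLift Φ y₂) := by
    intro y₂
    obtain ⟨q, hq⟩ := hR2 y₂
    obtain ⟨y₃, hy₃⟩ := hR3' q
    exact ⟨y₃, by rw [hq, hy₃]; exact hkr q⟩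
  have hj1 : ∀ κ : K₁, jΩ ((1 : L) ⊗ₜ[K] κ) = algebraMap K₁ Ω κ := by
    intro κ; rw [hjt, map_one, one_mul]
  have hK3 : ∀ κ : ℕ → K₁, algebraMap M₃ Ω (algebraMap K₃ M₃
      (∑ i ∈ Finset.range (p' + 1), algebraMap K₁ K₃ (κ i) * x ^ i)) =
      ∑ l ∈ Finset.range (p' + 1), jΩ ((1 : L) ⊗ₜ[K] κ l) * xΩ ^ l := by
    intro κ
    rw [← IsScalarTower.algebraMap_apply K₃ M₃ Ω, map_sum]
    refine Finset.sum_congr rfl (fun l _ => ?_)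
    rw [map_mul, map_pow, ← hxΩ, hj1, ← IsScalarTower.algebraMap_apply K₁ K₃ Ω]
  have hK2 : ∀ κ : ℕ → K₁, RingHom.kerLift Φ (algebraMap K₂ ((L ⊗[K] K₂) ⧸ RingHom.ker Φ)
      (∑ i ∈ Finset.range (p' + 1), algebraMap K₁ K₂ (κ i) * θ₂ ^ i)) =
      ∑ l ∈ Finset.range (p' + 1), jΩ ((1 : L) ⊗ₜ[K] κ l) * θ ^ l := by
    intro κ
    rw [hK₂map, hι₂, hΦ, map_one, one_mul, map_sum]
    refine Finset.sum_congr rfl (fun l _ => ?_)
    rw [map_mul, map_pow, ← hθ, ψ₂.commutes, hj1]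
  have hK32 : ∀ a₃ : K₃, ∃ a₂ : K₂, Close WΩ.valuation
      (algebraMap M₃ Ω (algebraMap K₃ M₃ a₃))
      (RingHom.kerLift Φ (algebraMap K₂ ((L ⊗[K] K₂) ⧸ RingHom.ker Φ) a₂)) := by
    intro a₃
    obtain ⟨κ, hκ⟩ := hK₃ a₃
    refine ⟨∑ i ∈ Finset.range (p' + 1), algebraMap K₁ K₂ (κ i) * θ₂ ^ i, ?_⟩
    rw [hκ, hK3, hK2]; exact hkr _
  have hK23 : ∀ a₂ : K₂, ∃ a₃ : K₃, Close WΩ.valuation
      (algebraMap M₃ Ω (algebraMap K₃ M₃ a₃))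
      (RingHom.kerLift Φ (algebraMap K₂ ((L ⊗[K] K₂) ⧸ RingHom.ker Φ) a₂)) := by
    intro a₂
    obtain ⟨κ, hκ⟩ := exists_repr b hb a₂
    refine ⟨∑ i ∈ Finset.range (p' + 1), algebraMap K₁ K₃ (κ i) * x ^ i, ?_⟩
    rw [hκ, hK3, hK2]; exact hkr _
  exact transfer WΩ (RingHom.kerLift Φ) (algebraMap M₃ Ω)
    (algebraMap K₂ ((L ⊗[K] K₂) ⧸ RingHom.ker Φ)) (algebraMap K₃ M₃) hM32 hM23 hK32 hK23
    hwu₂ hgr₂

end Local

end Groth.Agent.H8.Kr
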