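import Mathlib
import Groth.Prelude.Def_EtRam
import Groth.Prelude.Def_CAlg
import Groth.Agent.Lib.Helper8.ASK.KrE

/-!
# Krasner-type approximation, part E: the statement of S7151
-/

set_option autoImplicit false
universe u

namespace Groth.Agent.H8.Kr

open IsLocalRing TensorProduct Polynomial

section Local

variable {p : ℕ} {A B K L : Type u} [CommRing A] [IsDomain A] [IsDiscreteValuationRing A]
  [CommRing B] [IsDomain B] [IsDiscreteValuationRing B] [Algebra A B]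
  [Field K] [Field L] [Algebra A K] [IsFractionRing A K] [Algebra B L] [IsFractionRing B L]
  [Algebra K L] [Algebra A L] [IsScalarTower A K L] [IsScalarTower A B L]
  {K₁ K₂ : Type u} [Field K₁] [Field K₂] [Algebra K K₁] [Algebra K K₂] [Algebra K₁ K₂]
  [IsScalarTower K K₁ K₂] [Algebra A K₁] [IsScalarTower A K K₁]

theorem local_step [Fact p.Prime] [CharP K p] [FiniteDimensional K₁ K₂] [FiniteDimensional K K₂]
    (hsol : EtRam.IsSolution B K L K₂)
    (b : Module.Basis (Fin p) K₁ K₂) {θ₂ : K₂} (hb : ∀ i : Fin p, b i = θ₂ ^ (i : ℕ))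
    {a : K₁} (ha : algebraMap K₁ K₂ a = θ₂ ^ p) (ha0 : a ≠ 0)
    {πA : A} (hπ0 : algebraMap A B πA ≠ 0) (hπm : algebraMap A B πA ∈ maximalIdeal B)
    (C m : ℕ)
    (hC : ∀ (Ω : Type u) [Field Ω] (WΩ : ValuationSubring Ω) (Φ : L ⊗[K] K₂ →+* Ω),
      EtRam.Dominates B (Φ.comp ((algebraMap L (L ⊗[K] K₂)).comp (algebraMap B L))) WΩ →
      ∀ c : ℕ → L ⊗[K] K₁, ∀ i < p,
        WΩ.valuation (Φ (inc K L K₁ K₂ (c i)) * Φ ((1 : L) ⊗ₜ[K] θ₂) ^ i *
            Φ (algebraMap L (L ⊗[K] K₂) (algebraMap B L (algebraMap A B πA))) ^ C) ≤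
          WΩ.valuation (∑ j ∈ Finset.range p,
            Φ (inc K L K₁ K₂ (c j)) * Φ ((1 : L) ⊗ₜ[K] θ₂) ^ j))
    (hm : IsIntegral A (algebraMap A K₁ πA ^ m * a⁻¹))
    (K₃ : Type u) [Field K₃] [Algebra K K₃] [Algebra K₁ K₃] [IsScalarTower K K₁ K₃]
    (x : K₃)
    (hx : x ^ p = algebraMap K₁ K₃ (algebraMap A K₁ πA ^ (p * C + m + 1)) * x +
      algebraMap K₁ K₃ a)
    (hK₃ : ∀ k₃ : K₃, ∃ κ : ℕ → K₁, k₃ = ∑ i ∈ Finset.range p, algebraMap K₁ K₃ (κ i) * x ^ i) :
    EtRam.IsSolution B K L K₃ := by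
  intro M₃ _ _ _ _ _ _ hgen₃ W₃ hW₃
  letI : Algebra K₁ M₃ := ((algebraMap K₃ M₃).comp (algebraMap K₁ K₃)).toAlgebra
  haveI : IsScalarTower K₁ K₃ M₃ := IsScalarTower.of_algebraMap_eq (fun _ => rfl)
  haveI : IsScalarTower K K₁ M₃ := IsScalarTower.of_algebraMap_eq (fun k => by
    rw [IsScalarTower.algebraMap_apply K K₃ M₃, IsScalarTower.algebraMap_apply K K₁ K₃]; rfl)
  obtain ⟨WΩ, hWΩ⟩ := RI.exists_dominates_of_local
    ((algebraMap M₃ (AlgebraicClosure M₃)).comp W₃.subtype)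
  have hcomap : WΩ.comap (algebraMap M₃ (AlgebraicClosure M₃)) = W₃ :=
    RI.comap_eq_of_dominates W₃ WΩ _ (fun x hx => hWΩ.1 ⟨x, hx⟩) (fun x hx => by
      have hxW : x ∈ W₃ := (W₃.valuation_le_one_iff x).mp hx.le
      exact hWΩ.2 ⟨x, hxW⟩ ((W₃.valuation_lt_one_iff ⟨x, hxW⟩).mpr hx))
  subst hcomap
  exact local_core hsol b hb ha ha0 hπ0 hπm C m hC hm K₃ x hx hK₃ M₃ hgen₃
    (AlgebraicClosure M₃) WΩ hW₃

end Local

theorem main (p : ℕ) (hp : p.Prime) (A B K L : Type u)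
    [CommRing A] [IsDomain A] [IsDiscreteValuationRing A] [CommRing B] [IsDomain B]
    [IsDiscreteValuationRing B]
    [Algebra A B] (hinj : Function.Injective (algebraMap A B)) [IsLocalHom (algebraMap A B)]
    [Field K] [Field L] [Algebra A K] [IsFractionRing A K] [Algebra B L] [IsFractionRing B L]
    [Algebra K L] [Algebra A L] [IsScalarTower A K L] [IsScalarTower A B L] [CharP K p]
    [Algebra.IsGeometricallyReduced K L] (hB : CAlg.IsNagata B)
    (K₁ K₂ : Type u) [Field K₁] [Field K₂] [Algebra K K₁] [Algebra K K₂] [Algebra K₁ K₂]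
    [IsScalarTower K K₁ K₂]
    [FiniteDimensional K K₁] [FiniteDimensional K₁ K₂] (hsol : EtRam.IsSolution B K L K₂)
    [IsPurelyInseparable K₁ K₂] (hdeg : Module.finrank K₁ K₂ = p) :
    ∃ (K₃ : Type u) (_ : Field K₃) (_ : Algebra K K₃) (_ : Algebra K₁ K₃)
      (_ : IsScalarTower K K₁ K₃),
      FiniteDimensional K₁ K₃ ∧ Algebra.IsSeparable K₁ K₃ ∧ EtRam.IsSolution B K L K₃ := by
  haveI : Fact p.Prime := ⟨hp⟩
  haveI : CharP L p := charP_of_injective_algebraMap (algebraMap K L).injective p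
  haveI : FiniteDimensional K K₂ := Module.Finite.trans K₁ K₂
  have hp2 : 2 ≤ p := hp.two_le
  obtain ⟨θ₂, hθ₂⟩ : ∃ θ₂ : K₂, ∀ c : K₁, algebraMap K₁ K₂ c ≠ θ₂ := by
    by_contra hcon
    have hsurj : Function.Surjective (algebraMap K₁ K₂) := by
      intro θ₂
      by_contra h
      exact hcon ⟨θ₂, fun c hc => h ⟨c, hc⟩⟩
    have h1 : (⊤ : Subalgebra K₁ K₂) = ⊥ := Algebra.surjective_algebraMap_iff.mp hsurj
    have h2 := Subalgebra.bot_eq_top_iff_finrank_eq_one.mp h1.symm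
    rw [hdeg] at h2
    exact hp.one_lt.ne' h2
  obtain ⟨a, ha⟩ := PI.pow_mem_of_purelyInsep hp hdeg θ₂
  have hθ₂0 : θ₂ ≠ 0 := fun h => hθ₂ 0 (by rw [map_zero, h])
  have ha0 : a ≠ 0 := by
    rintro rfl
    rw [map_zero] at ha
    exact hθ₂0 ((pow_eq_zero_iff hp.ne_zero).mp ha.symm)
  obtain ⟨b, hb⟩ := exists_basis hp hdeg θ₂ hθ₂
  obtain ⟨πA, hπA⟩ := IsDiscreteValuationRing.exists_irreducible A
  have hπ0 : algebraMap A B πA ≠ 0 := fun h => hπA.ne_zero (hinj (h.trans (map_zero _).symm))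
  have hπm : algebraMap A B πA ∈ maximalIdeal B := by
    rw [mem_maximalIdeal, mem_nonunits_iff]
    exact fun h => hπA.not_isUnit (isUnit_of_map_unit (algebraMap A B) πA h)
  obtain ⟨C, hC⟩ := bd_uniform (K := K) (L := L) (K₁ := K₁) hB b hb ha hπ0 hπm
  letI : Algebra A K₁ := ((algebraMap K K₁).comp (algebraMap A K)).toAlgebra
  haveI : IsScalarTower A K K₁ := IsScalarTower.of_algebraMap_eq (fun _ => rfl)
  have hπAm : πA ∈ maximalIdeal A := by
    rw [hπA.maximalIdeal_eq]; exact Ideal.mem_span_singleton_self πA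
  obtain ⟨m, hm⟩ := exists_pow_mul_isIntegral K hπAm (a⁻¹ : K₁)
  obtain ⟨u, hu⟩ : ∃ u : K₁, u = algebraMap A K₁ πA ^ (p * C + m + 1) := ⟨_, rfl⟩
  have hu0 : u ≠ 0 := by
    rw [hu]
    apply pow_ne_zero
    intro h
    have h1 : algebraMap K K₁ (algebraMap A K πA) = 0 := h
    have h2 : algebraMap A K πA = 0 := (map_eq_zero (algebraMap K K₁)).mp h1
    exact hπA.ne_zero (IsFractionRing.injective A K (h2.trans (map_zero _).symm))
  obtain ⟨f, hf⟩ : ∃ f : K₁[X], f = X ^ p - (Polynomial.C u * X + Polynomial.C a) := ⟨_, rfl⟩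
  haveI : CharP K₁ p := charP_of_injective_algebraMap (algebraMap K K₁).injective p
  have hdeg' : (Polynomial.C u * X + Polynomial.C a : K₁[X]).degree < (p : WithBot ℕ) :=
    lt_of_le_of_lt degree_linear_le (by exact_mod_cast hp2)
  have hfm : f.Monic := by rw [hf]; exact monic_X_pow_sub hdeg'
  have hfn : f.natDegree = p := by
    rw [hf, natDegree_sub_eq_left_of_natDegree_lt, natDegree_X_pow]
    rw [natDegree_X_pow]; exact lt_of_le_of_lt natDegree_linear_le hp2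
  have hfsep : f.Separable := by
    rw [separable_def]
    have hder : derivative f = - Polynomial.C u := by
      rw [hf, derivative_sub, derivative_X_pow, derivative_add, derivative_C_mul, derivative_X,
        derivative_C, CharP.cast_eq_zero K₁ p, map_zero, zero_mul, mul_one, add_zero, zero_sub]
    rw [hder]
    refine ⟨0, -Polynomial.C u⁻¹, ?_⟩
    rw [zero_mul, zero_add, neg_mul_neg, ← Polynomial.C_mul, inv_mul_cancel₀ hu0, Polynomial.C_1]
  obtain ⟨g, hgirr, hgdvd⟩ := exists_irreducible_of_natDegree_pos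
    (by rw [hfn]; exact hp.pos : 0 < f.natDegree)
  haveI : Fact (Irreducible g) := ⟨hgirr⟩
  obtain ⟨hxrel, hK₃⟩ := adjoinRoot_repr hp2 u a g (by rw [← hf]; exact hgdvd)
  have haev : aeval (AdjoinRoot.root g) f = 0 := by
    rw [AdjoinRoot.aeval_eq, AdjoinRoot.mk_eq_zero]; exact hgdvd
  haveI hfin : Module.Finite K₁ (AdjoinRoot g) := (AdjoinRoot.powerBasis hgirr.ne_zero).finite
  have hsep : Algebra.IsSeparable K₁ (AdjoinRoot g) := by
    have hzsep : IsSeparable K₁ (AdjoinRoot.root g) := hfsep.of_dvd (minpoly.dvd K₁ _ haev)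
    have hle : Algebra.adjoin K₁ {AdjoinRoot.root g} ≤
        (separableClosure K₁ (AdjoinRoot g)).toSubalgebra := by
      apply Algebra.adjoin_le
      intro x hx
      rw [Set.mem_singleton_iff] at hx
      rw [hx]
      exact hzsep
    rw [AdjoinRoot.adjoinRoot_eq_top] at hle
    constructor
    intro x
    exact mem_separableClosure_iff.mp (hle Algebra.mem_top)
  refine ⟨AdjoinRoot g, inferInstance, inferInstance, inferInstance, inferInstance, hfin, hsep, ?_⟩
  exact local_step hsol b hb ha ha0 hπ0 hπm C m hC hm (AdjoinRoot g) (AdjoinRoot.root g)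
    (by rw [← hu]; exact hxrel) hK₃

end Groth.Agent.H8.Kr
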