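import Mathlib
import Groth.Prelude.Def_EtRam
import Groth.Prelude.Def_CAlg
import Groth.Agent.Lib.Helper8.ASK.KrF
import Groth.Agent.Lib.Helper8.Japanese.SepGR

/-!
# From a finite solution to a finite separable solution (S1986)
-/

set_option autoImplicit false
universe u

namespace Groth.Agent.H8.Kr

open IsLocalRing Polynomial

/-- A finite inseparable extension in characteristic `q` has an intermediate field over which it is
purely inseparable of degree `q`. -/
theorem exists_purelyInsep_step {K K₂ : Type u} [Field K] [Field K₂] [Algebra K K₂]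
    [FiniteDimensional K K₂] {q : ℕ} (hq : q.Prime) [CharP K q]
    (hsep : ¬ Algebra.IsSeparable K K₂) :
    ∃ F : IntermediateField K K₂, IsPurelyInseparable F K₂ ∧ Module.finrank F K₂ = q := by
  classical
  haveI : Fact q.Prime := ⟨hq⟩
  haveI : ExpChar K q := ExpChar.prime hq
  haveI : CharP K₂ q := charP_of_injective_algebraMap (algebraMap K K₂).injective q
  haveI : ExpChar K₂ q := ExpChar.prime hq
  obtain ⟨E, hE⟩ : ∃ E : IntermediateField K K₂, E = separableClosure K K₂ := ⟨_, rfl⟩
  haveI : IsPurelyInseparable E K₂ := by rw [hE]; infer_instance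
  have hEtop : E ≠ ⊤ := by
    rw [hE]; intro h; exact hsep ((separableClosure.eq_top_iff K K₂).mp h)
  obtain ⟨T, hT⟩ : ∃ T : Set ℕ, T = (fun F : IntermediateField K K₂ => Module.finrank K F) ''
      {F | E ≤ F ∧ F ≠ ⊤} := ⟨_, rfl⟩
  have hTne : T.Nonempty := by rw [hT]; exact ⟨_, ⟨E, ⟨le_rfl, hEtop⟩, rfl⟩⟩
  have hTbdd : BddAbove T := by
    refine ⟨Module.finrank K K₂, ?_⟩
    rw [hT]
    rintro _ ⟨F, _, rfl⟩
    exact Submodule.finrank_le F.toSubalgebra.toSubmodule
  obtain ⟨F, ⟨hEF, hFtop⟩, hFn⟩ : ∃ F : IntermediateField K K₂, (E ≤ F ∧ F ≠ ⊤) ∧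
      Module.finrank K F = sSup T := by
    have h := Nat.sSup_mem hTne hTbdd
    rw [hT] at h ⊢
    exact h
  have hcoatom : ∀ G : IntermediateField K K₂, F ≤ G → G ≠ ⊤ → G = F := by
    intro G hFG hG
    have h1 : Module.finrank K G ≤ sSup T :=
      le_csSup hTbdd (by rw [hT]; exact ⟨G, ⟨hEF.trans hFG, hG⟩, rfl⟩)
    rw [← hFn] at h1
    exact (IntermediateField.eq_of_le_of_finrank_le hFG h1).symm
  haveI : ExpChar F q := expChar_of_injective_algebraMap (algebraMap K F).injective q
  have hpi : IsPurelyInseparable F K₂ := by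
    rw [isPurelyInseparable_iff_pow_mem F q]
    intro x
    obtain ⟨n, e, he⟩ := IsPurelyInseparable.pow_mem E q x
    exact ⟨n, ⟨⟨(e : K₂), hEF e.2⟩, he⟩⟩
  haveI := hpi
  obtain ⟨θ, hθ⟩ : ∃ θ : K₂, θ ∉ F := by
    by_contra hcon
    rw [not_exists] at hcon
    exact hFtop (eq_top_iff.mpr (fun x _ => not_not.mp (hcon x)))
  have hpw : ∃ n, θ ^ q ^ n ∈ F := by
    obtain ⟨n, f, hf⟩ := IsPurelyInseparable.pow_mem F q θ
    exact ⟨n, hf ▸ f.2⟩
  obtain ⟨j, hj⟩ : ∃ j, j = Nat.find hpw := ⟨_, rfl⟩
  have hj0 : j ≠ 0 := by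
    intro h0
    have h1 := Nat.find_spec hpw
    rw [← hj, h0, pow_zero, pow_one] at h1
    exact hθ h1
  obtain ⟨j', hj'⟩ := Nat.exists_eq_succ_of_ne_zero hj0
  obtain ⟨θ', hθ'⟩ : ∃ θ' : K₂, θ' = θ ^ q ^ j' := ⟨_, rfl⟩
  have hθ'F : θ' ∉ F := by
    rw [hθ']
    exact Nat.find_min hpw (by rw [← hj, hj']; exact Nat.lt_succ_self j')
  have hθ'q : θ' ^ q ∈ F := by
    have h1 := Nat.find_spec hpw
    rw [← hj, hj', pow_succ, pow_mul] at h1
    rw [hθ']; exact h1
  have hadj : IntermediateField.adjoin F {θ'} = ⊤ := by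
    by_contra hne
    obtain ⟨G, hG⟩ : ∃ G : IntermediateField K K₂,
        G = (IntermediateField.adjoin F {θ'}).restrictScalars K := ⟨_, rfl⟩
    have hFG : F ≤ G := by
      intro x hx
      rw [hG, IntermediateField.mem_restrictScalars]
      exact (IntermediateField.adjoin F {θ'}).algebraMap_mem ⟨x, hx⟩
    have hθG : θ' ∈ G := by
      rw [hG, IntermediateField.mem_restrictScalars]
      exact IntermediateField.mem_adjoin_simple_self F θ'
    have hGtop : G ≠ ⊤ := by
      intro h
      apply hne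
      rw [eq_top_iff]
      intro x _
      have h1 : x ∈ G := by rw [h]; exact IntermediateField.mem_top
      rw [hG, IntermediateField.mem_restrictScalars] at h1
      exact h1
    have h2 := hcoatom G hFG hGtop
    rw [h2] at hθG
    exact hθ'F hθG
  obtain ⟨c, hc⟩ : ∃ c : F, (c : K₂) = θ' ^ q := ⟨⟨θ' ^ q, hθ'q⟩, rfl⟩
  have hno : ∀ b : F, b ^ q ≠ c := by
    intro b hb
    have h1 : frobenius K₂ q (b : K₂) = frobenius K₂ q θ' := by
      rw [frobenius_def, frobenius_def, ← hc, ← hb]; rfl
    have h2 : (b : K₂) = θ' := frobenius_inj K₂ q h1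
    exact hθ'F (h2 ▸ b.2)
  have hirr : Irreducible (X ^ q - C c : F[X]) := X_pow_sub_C_irreducible_of_prime hq hno
  have hmonic : (X ^ q - C c : F[X]).Monic := monic_X_pow_sub_C c hq.ne_zero
  have haev : aeval θ' (X ^ q - C c : F[X]) = 0 := by
    rw [map_sub, map_pow, aeval_X, aeval_C, sub_eq_zero]; exact hc.symm
  have hmin : minpoly F θ' = X ^ q - C c :=
    (minpoly.eq_of_irreducible_of_monic hirr haev hmonic).symm
  have hint : IsIntegral F θ' := Algebra.IsIntegral.isIntegral θ'
  refine ⟨F, hpi, ?_⟩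
  rw [← IntermediateField.finrank_top', ← hadj, IntermediateField.adjoin.finrank hint, hmin,
    natDegree_X_pow_sub_C]

theorem sep_solution (A B K L : Type u) [CommRing A] [IsDomain A] [IsDiscreteValuationRing A]
    [CommRing B] [IsDomain B] [IsDiscreteValuationRing B] [Algebra A B]
    [IsLocalHom (algebraMap A B)]
    (hinj : Function.Injective (algebraMap A B))
    [Field K] [Field L] [Algebra A K] [IsFractionRing A K] [Algebra B L] [IsFractionRing B L]
    [Algebra K L] [Algebra A L] [IsScalarTower A K L] [IsScalarTower A B L]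
    [Algebra.IsSeparable K L] (hB : CAlg.IsNagata B) :
    ∀ d : ℕ, ∀ (K₂ : Type u) [Field K₂] [Algebra K K₂] [FiniteDimensional K K₂],
      Field.finInsepDegree K K₂ = d → EtRam.IsSolution B K L K₂ →
      ∃ (K₃ : Type u) (_ : Field K₃) (_ : Algebra K K₃) (_ : FiniteDimensional K K₃)
        (_ : Algebra.IsSeparable K K₃), EtRam.IsSolution B K L K₃ := by
  haveI : Algebra.IsGeometricallyReduced K L := Jap.isGeometricallyReduced_of_isSeparable K L
  intro d
  induction d using Nat.strong_induction_on with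
  | _ d ih =>
    intro K₂ _ _ _ hd h₂
    by_cases hsep : Algebra.IsSeparable K K₂
    · exact ⟨K₂, inferInstance, inferInstance, inferInstance, hsep, h₂⟩
    obtain ⟨q, hq⟩ := ExpChar.exists K
    cases hq with
    | zero =>
      exfalso
      exact hsep inferInstance
    | prime hq' =>
      obtain ⟨F, hpi, hdeg⟩ := exists_purelyInsep_step hq' hsep
      haveI := hpi
      obtain ⟨K₃, _, _, _, _, hfin, hsep₃, hsol₃⟩ := main q hq' A B K L hinj hB F K₂ h₂ hdeg
      haveI := hfin
      haveI : FiniteDimensional K K₃ := Module.Finite.trans F K₃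
      have h1 : Field.finInsepDegree K F * Field.finInsepDegree F K₂ =
          Field.finInsepDegree K K₂ := Field.finInsepDegree_mul_finInsepDegree_of_isAlgebraic K F K₂
      have h2 : Field.finInsepDegree K F * Field.finInsepDegree F K₃ =
          Field.finInsepDegree K K₃ := Field.finInsepDegree_mul_finInsepDegree_of_isAlgebraic K F K₃
      have h3 : Field.finInsepDegree F K₂ = q := by
        rw [IsPurelyInseparable.finInsepDegree_eq, hdeg]
      have h4 : Field.finInsepDegree F K₃ = 1 :=
        (isSeparable_iff_finInsepDegree_eq_one F K₃).mp hsep₃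
      have h5 : 0 < Field.finInsepDegree K F := Module.finrank_pos
      have hlt : Field.finInsepDegree K K₃ < d := by
        rw [← hd, ← h1, ← h2, h3, h4, mul_one]
        exact lt_mul_of_one_lt_right h5 hq'.one_lt
      exact ih _ hlt K₃ rfl hsol₃

end Groth.Agent.H8.Kr
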