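import Groth.Agent.Lib.Helper8.ASK.AS

set_option autoImplicit false
universe u

namespace Groth.Agent.H8.ASK

open IsLocalRing Polynomial

/-! ### Cyclotomic facts -/

section Cyc

variable {A : Type*} [CommRing A] [IsDomain A]

theorem isPrimitiveRoot_of_aeval {p : ℕ} (hp0 : ((p : ℕ) : A) ≠ 0) (ζ : A)
    (hζ : aeval ζ (cyclotomic p ℤ) = 0) : IsPrimitiveRoot ζ p := by
  haveI : NeZero ((p : ℕ) : A) := ⟨hp0⟩
  rw [← isRoot_cyclotomic_iff, IsRoot.def, ← map_cyclotomic_int p A, eval_map,
    ← algebraMap_int_eq, ← aeval_def]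
  exact hζ

theorem exists_unit_p {p : ℕ} (hp : p.Prime) {ζ : A} (hζ : IsPrimitiveRoot ζ p) :
    ∃ u : Aˣ, ((p : ℕ) : A) = u * (1 - ζ) ^ (p - 1) := by
  haveI := Fact.mk hp
  haveI : NeZero p := ⟨hp.ne_zero⟩
  have h1 : ((p : ℕ) : A) = ∏ μ ∈ primitiveRoots p A, (1 - μ) := by
    rw [← eval_one_cyclotomic_prime (R := A) (p := p),
      cyclotomic_eq_prod_X_sub_primitiveRoots hζ, eval_prod]
    refine Finset.prod_congr rfl (fun μ _ => ?_)
    rw [eval_sub, eval_X, eval_C]
  have h2 : Associated (∏ μ ∈ primitiveRoots p A, (1 - μ))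
      (∏ _μ ∈ primitiveRoots p A, (1 - ζ)) := by
    apply Associated.prod
    intro μ hμ
    rw [mem_primitiveRoots hp.pos] at hμ
    obtain ⟨i, _, hcop, rfl⟩ := (hζ.isPrimitiveRoot_iff).mp hμ
    have h3 := ((hζ.associated_sub_one_pow_sub_one_of_coprime hcop).symm.neg_left).neg_right
    rwa [neg_sub, neg_sub] at h3
  rw [Finset.prod_const, hζ.card_primitiveRoots, Nat.totient_prime hp, ← h1] at h2
  obtain ⟨u, hu⟩ := h2
  exact ⟨u⁻¹, by rw [← hu, mul_left_comm, Units.inv_mul, mul_one]⟩

theorem map_units_inv' {F : Type*} [Field F] (f : A →+* F) (u : Aˣ) :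
    f ((u⁻¹ : Aˣ) : A) = (f (u : A))⁻¹ := by
  have h : f (u : A) * f ((u⁻¹ : Aˣ) : A) = 1 := by rw [← map_mul, Units.mul_inv, map_one]
  exact eq_inv_of_mul_eq_one_right h

end Cyc

/-! ### Kummer extensions: field theory -/

section KumField

variable {K L : Type u} [Field K] [Field L] [Algebra K L] {p : ℕ}

theorem adjoin_affine_eq_top (z z' : L) (c d : K) (hd : d ≠ 0)
    (hz' : z' = algebraMap K L c + algebraMap K L d * z)
    (hgen : IntermediateField.adjoin K {z} = ⊤) : IntermediateField.adjoin K {z'} = ⊤ := by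
  rw [eq_top_iff, ← hgen, IntermediateField.adjoin_simple_le_iff]
  have h1 : z' ∈ IntermediateField.adjoin K {z'} := IntermediateField.mem_adjoin_simple_self K z'
  have hd' : algebraMap K L d ≠ 0 := (_root_.map_ne_zero _).mpr hd
  have hz : z = (z' - algebraMap K L c) * (algebraMap K L d)⁻¹ := by
    rw [hz']
    field_simp
    ring
  rw [hz]
  exact mul_mem (sub_mem h1 (IntermediateField.algebraMap_mem _ c))
    (inv_mem (IntermediateField.algebraMap_mem _ d))

theorem kum_isIntegral (hp : p.Prime) (η : K) (y : L) (hy : y ^ p = algebraMap K L η) :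
    IsIntegral K y :=
  ⟨X ^ p - C η, monic_X_pow_sub_C η hp.ne_zero, by
    rw [eval₂_sub, eval₂_X_pow, eval₂_C, hy, sub_self]⟩

theorem kum_isSplittingField (hp : p.Prime) {ζK : K} (hζK : IsPrimitiveRoot ζK p) (η : K)
    (y : L) (hy : y ^ p = algebraMap K L η) (hgen : IntermediateField.adjoin K {y} = ⊤) :
    (X ^ p - C η : K[X]).IsSplittingField K L := by
  constructor
  · rw [Polynomial.map_sub, Polynomial.map_pow, Polynomial.map_C, Polynomial.map_X]
    exact X_pow_sub_C_splits_of_isPrimitiveRoot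
      (hζK.map_of_injective (algebraMap K L).injective) hy
  · rw [eq_top_iff, ← algebra_adjoin_eq_top y (kum_isIntegral hp η y hy) hgen]
    apply Algebra.adjoin_mono
    rw [Set.singleton_subset_iff, mem_rootSet_of_ne (X_pow_sub_C_ne_zero hp.pos η), aeval_def,
      eval₂_sub, eval₂_X_pow, eval₂_C, hy, sub_self]

theorem kum_isGalois [CharZero K] (hp : p.Prime) {ζK : K} (hζK : IsPrimitiveRoot ζK p) (η : K)
    (y : L) (hy : y ^ p = algebraMap K L η) (hgen : IntermediateField.adjoin K {y} = ⊤) :
    IsGalois K L := by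
  haveI := kum_isSplittingField hp hζK η y hy hgen
  haveI : FiniteDimensional K L :=
    Polynomial.IsSplittingField.finiteDimensional L (X ^ p - C η : K[X])
  exact isGalois_iff.mpr ⟨inferInstance, Normal.of_isSplittingField (X ^ p - C η : K[X])⟩

theorem kum_finrank (hp : p.Prime) {ζK : K} (hζK : IsPrimitiveRoot ζK p) (η : K)
    (y : L) (hy : y ^ p = algebraMap K L η) (hgen : IntermediateField.adjoin K {y} = ⊤) :
    Module.finrank K L = 1 ∨ Module.finrank K L = p := by
  haveI : NeZero p := ⟨hp.ne_zero⟩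
  by_cases h : ∃ b : K, b ^ p = η
  · left
    obtain ⟨b, hb⟩ := h
    have hyK : y ∈ (⊥ : IntermediateField K L) := by
      rw [IntermediateField.mem_bot]
      by_cases hb0 : b = 0
      · refine ⟨0, ?_⟩
        rw [hb0, zero_pow hp.ne_zero] at hb
        rw [← hb, map_zero] at hy
        rw [map_zero]
        exact ((pow_eq_zero_iff hp.ne_zero).mp hy).symm
      · have hιb : algebraMap K L b ≠ 0 := (_root_.map_ne_zero _).mpr hb0
        have h1 : (y * (algebraMap K L b)⁻¹) ^ p = 1 := by
          rw [mul_pow, hy, ← hb, map_pow, inv_pow, mul_inv_cancel₀ (pow_ne_zero _ hιb)]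
        obtain ⟨i, _, hi⟩ :=
          (hζK.map_of_injective (algebraMap K L).injective).eq_pow_of_pow_eq_one h1
        refine ⟨ζK ^ i * b, ?_⟩
        rw [map_mul, map_pow, hi, mul_assoc, inv_mul_cancel₀ hιb, mul_one]
    have hbot : IntermediateField.adjoin K {y} = ⊥ :=
      IntermediateField.adjoin_simple_eq_bot_iff.mpr hyK
    rw [hgen] at hbot
    exact IntermediateField.bot_eq_top_iff_finrank_eq_one.mp hbot.symm
  · right
    push Not at h
    have hmin := minpoly_of_pow_eq hp η h y hy
    rw [← IntermediateField.finrank_top', ← hgen,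
      IntermediateField.adjoin.finrank (kum_isIntegral hp η y hy), hmin]
    exact natDegree_X_pow_sub_C

end KumField

/-! ### The Kummer polynomial -/

section KumPoly

variable {A : Type u} [CommRing A] [IsDomain A] [IsDiscreteValuationRing A]

/-- Data of the Kummer-type polynomial `P` with `w^p P = (1 + w X)^p - 1`. -/
structure KumData (π : A) (p : ℕ) (w : A) (P : A[X]) : Prop where
  hπ : maximalIdeal A = Ideal.span {π}
  hp : p.Prime
  hw0 : w ≠ 0
  hwmem : w ∈ maximalIdeal A
  hunit : ∃ u : Aˣ, ((p : ℕ) : A) = u * w ^ (p - 1)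
  hP : C (w ^ p) * P = (1 + C w * X) ^ p - 1

variable {π : A} {p : ℕ} {w : A} {P : A[X]}

namespace KumData

theorem rhs_eq (w : A) (p : ℕ) :
    ((1 + C w * X) ^ p - 1 : A[X]) = (C w * X + C 1) ^ p - C 1 := by
  rw [C_1, add_comm]

theorem rhs_natDegree (D : KumData π p w P) :
    ((1 + C w * X) ^ p - 1 : A[X]).natDegree = p := by
  rw [rhs_eq, natDegree_sub_C, natDegree_pow, natDegree_linear D.hw0, mul_one]

theorem natDegree_P (D : KumData π p w P) : P.natDegree = p := by
  have h := congrArg natDegree D.hP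
  rwa [natDegree_C_mul (pow_ne_zero p D.hw0), D.rhs_natDegree] at h

theorem monic_P (D : KumData π p w P) : P.Monic := by
  have h := congrArg leadingCoeff D.hP
  have hdeg : degree (C 1 : A[X]) < degree ((C w * X + C 1) ^ p) := by
    apply degree_lt_degree
    rw [natDegree_C, natDegree_pow, natDegree_linear D.hw0, mul_one]
    exact D.hp.pos
  rw [rhs_eq, leadingCoeff_sub_of_degree_lt hdeg, leadingCoeff_pow, leadingCoeff_linear D.hw0,
    leadingCoeff_mul, leadingCoeff_C] at h
  exact mul_left_cancel₀ (pow_ne_zero p D.hw0) (h.trans (mul_one _).symm)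

theorem eval_identity (D : KumData π p w P) {R : Type*} [CommRing R] (f : A →+* R) (t : R) :
    f w ^ p * eval₂ f t P = (1 + f w * t) ^ p - 1 := by
  have h := congrArg (eval₂ f t) D.hP
  rwa [eval₂_mul, eval₂_C, map_pow, eval₂_sub, eval₂_pow, eval₂_add, eval₂_one, eval₂_mul,
    eval₂_C, eval₂_X] at h

theorem derivative_P (D : KumData π p w P) :
    ∃ u : Aˣ, derivative P = C (u : A) * (1 + C w * X) ^ (p - 1) := by
  obtain ⟨u, hu⟩ := D.hunit
  refine ⟨u, ?_⟩
  have h := congrArg derivative D.hP
  rw [derivative_C_mul, derivative_sub, derivative_one, sub_zero, derivative_pow, derivative_add,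
    derivative_one, zero_add, derivative_C_mul, derivative_X, mul_one] at h
  apply mul_left_cancel₀ (C_ne_zero.mpr (pow_ne_zero p D.hw0))
  have hpw : w ^ p = w ^ (p - 1) * w := by
    rw [← pow_succ, Nat.sub_add_cancel D.hp.pos]
  rw [h, hu, hpw]
  simp only [C_mul]
  ring

theorem separable_map (D : KumData π p w P) (a₀ : A) :
    ((P - C a₀).map (IsLocalRing.residue A)).Separable := by
  obtain ⟨u, hu⟩ := D.derivative_P
  rw [separable_def, derivative_map, derivative_sub, derivative_C, sub_zero, hu,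
    Polynomial.map_mul, Polynomial.map_pow, Polynomial.map_add, Polynomial.map_one,
    Polynomial.map_mul, Polynomial.map_C, Polynomial.map_C, Polynomial.map_X,
    (residue_eq_zero_iff w).mpr D.hwmem, C_0, zero_mul, add_zero, one_pow, mul_one]
  exact ⟨0, C (IsLocalRing.residue A ((u⁻¹ : Aˣ) : A)), by
    rw [zero_mul, zero_add, ← C_mul, ← map_mul, Units.inv_mul, map_one, C_1]⟩

end KumData

end KumPoly

/-! ### The cases -/

section KumKL

variable {A K L : Type u} [CommRing A] [IsDomain A] [IsDiscreteValuationRing A] [Field K]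
  [Algebra A K] [IsFractionRing A K] [Field L] [Algebra K L] [Algebra A L] [IsScalarTower A K L]
  {π : A} {p : ℕ} {w : A} {P : A[X]}

theorem KumData.algK_w_ne_zero (D : KumData π p w P) : algebraMap A K w ≠ 0 := by
  intro h
  exact D.hw0 (IsFractionRing.injective A K (h.trans (map_zero _).symm))

theorem KumData.y_pow (D : KumData π p w P) (ξ : K) (z : L)
    (hz : eval₂ (algebraMap A L) z P = algebraMap K L ξ) :
    (1 + algebraMap A L w * z) ^ p =
      algebraMap K L (1 + algebraMap A K w ^ p * ξ) := by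
  have h := D.eval_identity (algebraMap A L) z
  rw [hz] at h
  rw [map_add, map_one, map_mul, map_pow, ← IsScalarTower.algebraMap_apply]
  linear_combination -h

theorem KumData.y_gen (D : KumData π p w P) (z : L)
    (hgen : IntermediateField.adjoin K {z} = ⊤) :
    IntermediateField.adjoin K {1 + algebraMap A L w * z} = ⊤ :=
  adjoin_affine_eq_top z _ 1 (algebraMap A K w) D.algK_w_ne_zero
    (by rw [map_one, ← IsScalarTower.algebraMap_apply]) hgen

theorem kum_caseA (D : KumData π p w P) {ζK : K} (hζK : IsPrimitiveRoot ζK p) (ξ : K) (z : L)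
    (hz : eval₂ (algebraMap A L) z P = algebraMap K L ξ)
    (hgen : IntermediateField.adjoin K {z} = ⊤) (a₀ : A) (ha₀ : algebraMap A K a₀ = ξ) :
    Module.finrank K L = 1 ∨
      (EtRam.IsUnramifiedExt A (algebraMap A L) ∧ Module.finrank K L = p) := by
  rcases kum_finrank D.hp hζK _ _ (D.y_pow ξ z hz) (D.y_gen z hgen) with h | h
  · exact Or.inl h
  · right
    refine ⟨?_, h⟩
    have U : UNData π P ξ a₀ z :=
      { hπ := D.hπ
        hP := D.monic_P
        hdeg := by rw [D.natDegree_P]; exact D.hp.pos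
        hξ := ha₀
        hz := hz
        hgen := hgen
        hsep := D.separable_map a₀ }
    exact U.isUnramifiedExt

theorem kum_caseB (D : KumData π p w P) (ξ : K) (z : L)
    (hz : eval₂ (algebraMap A L) z P = algebraMap K L ξ)
    (hgen : IntermediateField.adjoin K {z} = ⊤)
    (n : ℕ) (a : Aˣ) (hn : 0 < n) (hpn : ¬ p ∣ n)
    (hξ : ξ * algebraMap A K π ^ n = algebraMap A K (a : A)) :
    EtRam.IsTotallyRamified A (algebraMap A L) ∧ Module.finrank K L = p := by
  have T : TRData π p P ξ z n a :=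
    { hπ := D.hπ
      hp := D.hp
      hP := D.monic_P
      hdeg := D.natDegree_P
      hz := hz
      hgen := hgen
      hn := hn
      hpn := hpn
      hξ := hξ }
  exact ⟨T.isTotallyRamified, T.finrank_eq⟩

theorem kum_caseC (D : KumData π p w P) [CharP (ResidueField A) p] (ξ : K) (z : L)
    (hz : eval₂ (algebraMap A L) z P = algebraMap K L ξ)
    (hgen : IntermediateField.adjoin K {z} = ⊤)
    (n : ℕ) (a : A) (hn : 0 < n) (hpn : p ∣ n)
    (ha : ∀ r : A, IsLocalRing.residue A a ≠ IsLocalRing.residue A r ^ p)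
    (hξ : ξ * algebraMap A K π ^ n = algebraMap A K a) : Case4 p A L := by
  obtain ⟨m, rfl⟩ := hpn
  have hm : 0 < m := Nat.pos_of_ne_zero (by rintro rfl; simp at hn)
  have F : FIData π p P ξ z m a :=
    { hπ := D.hπ
      hp := D.hp
      hP := D.monic_P
      hdeg := D.natDegree_P
      hz := hz
      hgen := hgen
      hm := hm
      ha := ha
      hξ := hξ }
  exact F.case4

end KumKL

end Groth.Agent.H8.ASK
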