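import Mathlib
import Groth.Prelude.Def_EtRam
import Groth.Agent.Lib.Helper8.ASK.ShA

/-!
# Strictly henselian reduction for solutions (S7162), part B: descent of solutions along a
weakly unramified separable extension `A ⊂ A'`
-/

set_option autoImplicit false
universe u

namespace Groth.Agent.H8.Sh

open IsLocalRing TensorProduct Polynomial

theorem descend_core (A A' B' K K' L' : Type u)
    [CommRing A] [IsDomain A] [IsDiscreteValuationRing A]
    [CommRing A'] [IsDomain A'] [IsDiscreteValuationRing A']
    [CommRing B'] [IsDomain B'] [IsDiscreteValuationRing B']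
    [Algebra A A'] [IsLocalHom (algebraMap A A')]
    [Algebra A' B'] [IsLocalHom (algebraMap A' B')]
    [Field K] [Field K'] [Field L']
    [Algebra A K] [IsFractionRing A K] [Algebra A' K'] [IsFractionRing A' K']
    [Algebra B' L'] [IsFractionRing B' L']
    [Algebra K K'] [Algebra A K'] [IsScalarTower A K K'] [IsScalarTower A A' K']
    [Algebra K' L'] [Algebra A' L'] [IsScalarTower A' K' L'] [IsScalarTower A' B' L']
    [Algebra K L'] [IsScalarTower K K' L']
    (hw : EtRam.IsWeaklyUnramified A A')
    [Algebra.IsGeometricallyReduced (ResidueField A) (ResidueField A')]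
    [Algebra.IsSeparable K K']
    (K₁' : Type u) [Field K₁'] [Algebra K' K₁'] [FiniteDimensional K' K₁']
    (hsol : EtRam.IsSolution B' K' L' K₁') :
    ∃ (K₁ : Type u) (_ : Field K₁) (_ : Algebra K K₁), FiniteDimensional K K₁ ∧
      (Algebra.IsSeparable K' K₁' → Algebra.IsSeparable K K₁) ∧
      EtRam.IsSolution B' K L' K₁ := by
  classical
  letI algKK₁' : Algebra K K₁' := ((algebraMap K' K₁').comp (algebraMap K K')).toAlgebra
  haveI : IsScalarTower K K' K₁' := IsScalarTower.of_algebraMap_eq (fun _ => rfl)
  haveI : Algebra.IsAlgebraic K K' := inferInstance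
  haveI : Algebra.IsAlgebraic K' K₁' := Algebra.IsAlgebraic.of_finite _ _
  haveI : Algebra.IsAlgebraic K K₁' := Algebra.IsAlgebraic.trans K K' K₁'
  haveI : Algebra.IsIntegral K K₁' := Algebra.IsAlgebraic.isIntegral
  obtain ⟨b, -⟩ : ∃ b : Module.Basis (Fin (Module.finrank K' K₁')) K' K₁', b = b :=
    ⟨Module.finBasis K' K₁', rfl⟩
  obtain ⟨f, hfdef⟩ : ∃ f : K[X], f = ∏ i, minpoly K (b i) := ⟨_, rfl⟩
  have hf0 : f ≠ 0 := by
    rw [hfdef]
    exact Finset.prod_ne_zero_iff.mpr
      (fun i _ => minpoly.ne_zero (Algebra.IsIntegral.isIntegral _))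
  have hdvd : ∀ i, minpoly K (b i) ∣ f := fun i => by
    rw [hfdef]; exact Finset.dvd_prod_of_mem _ (Finset.mem_univ i)
  obtain ⟨g, hgdef⟩ : ∃ g : K'[X], g = f.map (algebraMap K K') := ⟨_, rfl⟩
  have hg0 : g ≠ 0 := by rw [hgdef]; exact Polynomial.map_ne_zero hf0
  have hrootg : ∀ {Ω : Type u} [Field Ω] [Algebra K Ω] [Algebra K' Ω] [IsScalarTower K K' Ω],
      g.rootSet Ω = f.rootSet Ω := by
    intro Ω _ _ _ _
    ext y
    rw [mem_rootSet, mem_rootSet, hgdef, aeval_map_algebraMap]
    exact ⟨fun h => ⟨hf0, h.2⟩, fun h => ⟨Polynomial.map_ne_zero hf0, h.2⟩⟩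
  have hfact : ∀ {Ω : Type u} [Field Ω] [Algebra K Ω] (y : Ω), aeval y f = 0 →
      ∃ i, aeval y (minpoly K (b i)) = 0 := by
    intro Ω _ _ y hy
    rw [hfdef, map_prod, Finset.prod_eq_zero_iff] at hy
    obtain ⟨i, -, hi⟩ := hy
    exact ⟨i, hi⟩
  refine ⟨f.SplittingField, inferInstance, inferInstance, inferInstance, ?_, ?_⟩
  · -- separability
    intro hsep
    haveI := hsep
    haveI : Algebra.IsSeparable K K₁' := Algebra.IsSeparable.trans K K' K₁'
    have sp : f.IsSplittingField K f.SplittingField := inferInstance
    rw [← IntermediateField.isSeparable_top, ← (isSplittingField_iff_intermediateField.mp sp).2,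
      IntermediateField.isSeparable_adjoin_iff_isSeparable]
    intro x hx
    have hx0 : aeval x f = 0 := aeval_eq_zero_of_mem_rootSet hx
    obtain ⟨i, hi⟩ := hfact x hx0
    have hsepi : (minpoly K (b i)).Separable := Algebra.IsSeparable.isSeparable K (b i)
    exact hsepi.of_dvd (minpoly.dvd K x hi)
  -- the solution
  obtain ⟨ι'⟩ : Nonempty (K₁' →ₐ[K'] g.SplittingField) := by
    apply IntermediateField.nonempty_algHom_of_adjoin_splits (S := Set.range b)
    · rintro _ ⟨i, rfl⟩
      refine ⟨Algebra.IsIntegral.isIntegral _, ?_⟩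
      have h1 : minpoly K' (b i) ∣ (minpoly K (b i)).map (algebraMap K K') :=
        minpoly.dvd_map_of_isScalarTower K K' (b i)
      have h2 : (minpoly K (b i)).map (algebraMap K K') ∣ g := by
        rw [hgdef]; exact Polynomial.map_dvd _ (hdvd i)
      have h3 : (g.map (algebraMap K' g.SplittingField)).Splits :=
        Polynomial.SplittingField.splits g
      exact h3.of_dvd (Polynomial.map_ne_zero hg0) (Polynomial.map_dvd _ (h1.trans h2))
    · rw [eq_top_iff]
      rintro x -
      rw [← b.sum_repr x]
      refine sum_mem (fun i _ => ?_)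
      apply IntermediateField.smul_mem
      exact IntermediateField.subset_adjoin K' _ ⟨i, rfl⟩
  letI algK₁'N : Algebra K₁' g.SplittingField := ι'.toRingHom.toAlgebra
  haveI : IsScalarTower K' K₁' g.SplittingField :=
    IsScalarTower.of_algebraMap_eq (fun x => (ι'.commutes x).symm)
  haveI : FiniteDimensional K₁' g.SplittingField := Module.Finite.right K' K₁' g.SplittingField
  have hsolN : EtRam.IsSolution B' K' L' g.SplittingField :=
    enlarge A' B' K' L' K₁' g.SplittingField hsol
  have hsolA' : EtRam.IsSolution A' K K' f.SplittingField :=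
    BC.solution_of_geomRed A A' K K' hw f.SplittingField
  intro M _ _ _ _ _ _ hgen W hW
  letI algK'M : Algebra K' M := ((algebraMap L' M).comp (algebraMap K' L')).toAlgebra
  haveI : IsScalarTower K' L' M := IsScalarTower.of_algebraMap_eq (fun _ => rfl)
  haveI : IsScalarTower K K' M := IsScalarTower.of_algebraMap_eq (fun k => by
    show algebraMap K M k = algebraMap L' M (algebraMap K' L' (algebraMap K K' k))
    rw [← IsScalarTower.algebraMap_apply K K' L', ← IsScalarTower.algebraMap_apply K L' M])
  have hsplitM : (g.map (algebraMap K' M)).Splits := by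
    have h1 : (f.map (algebraMap K f.SplittingField)).Splits := Polynomial.SplittingField.splits f
    have h2 : (f.map (algebraMap K M)).Splits := by
      rw [IsScalarTower.algebraMap_eq K f.SplittingField M, ← Polynomial.map_map]
      exact h1.map (algebraMap f.SplittingField M)
    rw [hgdef, Polynomial.map_map, ← IsScalarTower.algebraMap_eq K K' M]
    exact h2
  obtain ⟨ψ, -⟩ : ∃ ψ : g.SplittingField →ₐ[K'] M, ψ = ψ :=
    ⟨Polynomial.SplittingField.lift g hsplitM, rfl⟩
  have hψK : ∀ c : K, ψ (algebraMap K g.SplittingField c) = algebraMap K M c := by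
    intro c
    rw [IsScalarTower.algebraMap_apply K K' g.SplittingField, ψ.commutes,
      ← IsScalarTower.algebraMap_apply K K' M]
  have hrootsM : ∀ x : f.SplittingField,
      ∃ y : g.SplittingField, ψ y = algebraMap f.SplittingField M x := by
    intro x
    have hx : x ∈ Algebra.adjoin K (f.rootSet f.SplittingField) := by
      rw [Polynomial.SplittingField.adjoin_rootSet]; exact Algebra.mem_top
    induction hx using Algebra.adjoin_induction with
    | mem x hx =>
      have h1 : algebraMap f.SplittingField M x ∈ g.rootSet M := by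
        rw [hrootg, mem_rootSet]
        refine ⟨hf0, ?_⟩
        rw [aeval_algebraMap_apply, aeval_eq_zero_of_mem_rootSet hx, map_zero]
      rw [← (Polynomial.SplittingField.splits g).image_rootSet ψ] at h1
      obtain ⟨y, -, hy⟩ := h1
      exact ⟨y, hy⟩
    | algebraMap c =>
      exact ⟨algebraMap K g.SplittingField c, by
        rw [hψK, ← IsScalarTower.algebraMap_apply K f.SplittingField M]⟩
    | add x y _ _ hx hy =>
      obtain ⟨a, ha⟩ := hx
      obtain ⟨b, hb⟩ := hy
      exact ⟨a + b, by rw [map_add, ha, hb, map_add]⟩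
    | mul x y _ _ hx hy =>
      obtain ⟨a, ha⟩ := hx
      obtain ⟨b, hb⟩ := hy
      exact ⟨a * b, by rw [map_mul, ha, hb, map_mul]⟩
  choose j hj using hrootsM
  have hψinj : Function.Injective ψ := ψ.toRingHom.injective
  obtain ⟨j₁, hj₁⟩ : ∃ j₁ : f.SplittingField →+* g.SplittingField,
      ∀ x, ψ (j₁ x) = algebraMap f.SplittingField M x :=
    ⟨{ toFun := j
       map_one' := hψinj (by rw [hj, map_one, map_one])
       map_mul' := fun a b => hψinj (by rw [hj, map_mul, map_mul, hj, hj])
       map_zero' := hψinj (by rw [hj, map_zero, map_zero])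
       map_add' := fun a b => hψinj (by rw [hj, map_add, map_add, hj, hj]) }, hj⟩
  have hj₁K : ∀ c : K, j₁ (algebraMap K f.SplittingField c) = algebraMap K g.SplittingField c := by
    intro c
    apply hψinj
    rw [hj₁, hψK, ← IsScalarTower.algebraMap_apply K f.SplittingField M]
  letI algK₁N : Algebra f.SplittingField g.SplittingField := j₁.toAlgebra
  haveI : IsScalarTower K f.SplittingField g.SplittingField :=
    IsScalarTower.of_algebraMap_eq (fun c => (hj₁K c).symm)
  letI algNM : Algebra g.SplittingField M := ψ.toRingHom.toAlgebra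
  haveI : IsScalarTower K' g.SplittingField M :=
    IsScalarTower.of_algebraMap_eq (fun c => (ψ.commutes c).symm)
  haveI : IsScalarTower f.SplittingField g.SplittingField M :=
    IsScalarTower.of_algebraMap_eq (fun x => (hj₁ x).symm)
  have hgenN : Algebra.adjoin K' (Set.range (algebraMap f.SplittingField g.SplittingField)) =
      ⊤ := by
    rw [eq_top_iff, ← Polynomial.SplittingField.adjoin_rootSet g]
    apply Algebra.adjoin_mono
    intro r hr
    have h1 : r ∈ f.rootSet g.SplittingField := by rw [← hrootg]; exact hr
    rw [← (Polynomial.SplittingField.splits f).image_rootSet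
      (IsScalarTower.toAlgHom K f.SplittingField g.SplittingField)] at h1
    obtain ⟨s, -, hs⟩ := h1
    exact ⟨s, hs⟩
  have hgenM : Algebra.adjoin L' (Set.range (algebraMap g.SplittingField M)) = ⊤ := by
    rw [eq_top_iff, ← hgen]
    apply Algebra.adjoin_mono
    rintro _ ⟨x, rfl⟩
    exact ⟨algebraMap f.SplittingField g.SplittingField x,
      (IsScalarTower.algebraMap_apply f.SplittingField g.SplittingField M x).symm⟩
  have h1 := hsolN M hgenM W hW
  have hV' : EtRam.Dominates A' ((algebraMap K' g.SplittingField).comp (algebraMap A' K'))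
      (W.comap (algebraMap g.SplittingField M)) := by
    apply RI.dominates_comap_of_comp
    have hc : ∀ a : A', algebraMap g.SplittingField M
        (algebraMap K' g.SplittingField (algebraMap A' K' a)) =
        algebraMap L' M (algebraMap B' L' (algebraMap A' B' a)) := by
      intro a
      rw [← IsScalarTower.algebraMap_apply K' g.SplittingField M,
        IsScalarTower.algebraMap_apply K' L' M, ← IsScalarTower.algebraMap_apply A' K' L',
        IsScalarTower.algebraMap_apply A' B' L']
    refine ⟨fun a => ?_, fun a ha => ?_⟩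
    · show algebraMap g.SplittingField M
        (algebraMap K' g.SplittingField (algebraMap A' K' a)) ∈ W
      rw [hc]; exact hW.1 _
    · show W.valuation (algebraMap g.SplittingField M
        (algebraMap K' g.SplittingField (algebraMap A' K' a))) < 1
      rw [hc]
      apply hW.2
      rw [mem_maximalIdeal, mem_nonunits_iff] at ha ⊢
      exact fun h => ha (isUnit_of_map_unit (algebraMap A' B') a h)
  have h2 := hsolA' g.SplittingField hgenN (W.comap (algebraMap g.SplittingField M)) hV'
  exact wu_gr_trans W (algebraMap g.SplittingField M)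
    (algebraMap f.SplittingField g.SplittingField) (algebraMap f.SplittingField M)
    (RingHom.ext (fun x => IsScalarTower.algebraMap_apply f.SplittingField g.SplittingField M x))
    h1 h2

end Groth.Agent.H8.Sh
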