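import Mathlib
import Groth.Prelude.Def_EtRam
import Groth.Agent.Lib.Helper8.ASK.ShB
import Groth.Agent.Lib.Helper8.ASK.ShC
import Groth.Agent.Lib.Helper8.Japanese.SepGR
import Groth.Agent.S1988

/-!
# Strictly henselian reduction for solutions (S7162), part D: assembly
-/

set_option autoImplicit false
universe u

namespace Groth.Agent.H8.Sh

open IsLocalRing TensorProduct

theorem descent_all (A B K L A' B' K' L' : Type u)
    [CommRing A] [IsDomain A] [IsDiscreteValuationRing A] [CommRing B] [IsDomain B]
    [IsDiscreteValuationRing B] [Algebra A B] [IsLocalHom (algebraMap A B)]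
    [Field K] [Field L] [Algebra A K] [IsFractionRing A K] [Algebra B L] [IsFractionRing B L]
    [Algebra K L] [Algebra A L] [IsScalarTower A K L] [IsScalarTower A B L]
    [CommRing A'] [IsDomain A'] [IsDiscreteValuationRing A'] [CommRing B'] [IsDomain B']
    [IsDiscreteValuationRing B'] [Field K'] [Field L']
    [Algebra A A'] [Algebra B B'] [Algebra A' B'] [Algebra A B'] [IsScalarTower A B B']
    [IsScalarTower A A' B']
    [Algebra A' K'] [IsFractionRing A' K'] [Algebra B' L'] [IsFractionRing B' L']
    [Algebra K' L'] [Algebra A' L'] [IsScalarTower A' K' L'] [IsScalarTower A' B' L']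
    [Algebra K K'] [Algebra A K'] [IsScalarTower A K K'] [IsScalarTower A A' K']
    [Algebra L L'] [Algebra B L'] [IsScalarTower B L L'] [IsScalarTower B B' L']
    [IsLocalHom (algebraMap A A')] [IsLocalHom (algebraMap B B')] [IsLocalHom (algebraMap A' B')]
    (hAB : Function.Injective (algebraMap A B)) (hBB' : Function.Injective (algebraMap B B'))
    (hw : EtRam.IsWeaklyUnramified A A')
    [Algebra.IsSeparable (ResidueField A) (ResidueField A')] [Algebra.IsSeparable K K']
    (K₁' : Type u) [Field K₁'] [Algebra K' K₁'] [FiniteDimensional K' K₁']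
    (hsol : EtRam.IsSolution B' K' L' K₁') :
    ∃ (K₁ : Type u) (_ : Field K₁) (_ : Algebra K K₁), FiniteDimensional K K₁ ∧
      (Algebra.IsSeparable K' K₁' → Algebra.IsSeparable K K₁) ∧ EtRam.IsSolution B K L K₁ := by
  letI algKL' : Algebra K L' := ((algebraMap K' L').comp (algebraMap K K')).toAlgebra
  haveI : IsScalarTower K K' L' := IsScalarTower.of_algebraMap_eq (fun _ => rfl)
  have hKL' : (algebraMap K L' : K →+* L') = (algebraMap L L').comp (algebraMap K L) := by
    apply IsLocalization.ringHom_ext (nonZeroDivisors A)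
    apply RingHom.ext
    intro a
    show algebraMap K' L' (algebraMap K K' (algebraMap A K a)) =
      algebraMap L L' (algebraMap K L (algebraMap A K a))
    rw [← IsScalarTower.algebraMap_apply A K K', IsScalarTower.algebraMap_apply A A' K',
      ← IsScalarTower.algebraMap_apply A' K' L', IsScalarTower.algebraMap_apply A' B' L',
      ← IsScalarTower.algebraMap_apply A A' B', IsScalarTower.algebraMap_apply A B B',
      ← IsScalarTower.algebraMap_apply B B' L', IsScalarTower.algebraMap_apply B L L',
      ← IsScalarTower.algebraMap_apply A B L, IsScalarTower.algebraMap_apply A K L]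
  haveI : IsScalarTower K L L' := IsScalarTower.of_algebraMap_eq (fun k =>
    RingHom.congr_fun hKL' k)
  haveI : Algebra.IsGeometricallyReduced (ResidueField A) (ResidueField A') :=
    Jap.isGeometricallyReduced_of_isSeparable _ _
  obtain ⟨K₁, fK₁, aK₁, hfin, hsep, hsol₁⟩ := descend_core A A' B' K K' L' hw K₁' hsol
  refine ⟨K₁, fK₁, aK₁, hfin, hsep, ?_⟩
  haveI := hfin
  exact (Groth.Agent.S1988.result A B B' K L L' K₁ hAB hBB').2 hsol₁

theorem main_of_data (A B K L : Type u) [CommRing A] [IsDomain A]
    [IsDiscreteValuationRing A] [CommRing B] [IsDomain B] [IsDiscreteValuationRing B] [Algebra A B]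
    (hinj : Function.Injective (algebraMap A B)) [IsLocalHom (algebraMap A B)]
    [Field K] [Field L] [Algebra A K] [IsFractionRing A K] [Algebra B L] [IsFractionRing B L]
    [Algebra K L] [Algebra A L] [IsScalarTower A K L] [IsScalarTower A B L]
    (A' B' : Type u) [CommRing A'] [IsDomain A'] [IsDiscreteValuationRing A'] [CommRing B']
    [IsDomain B'] [IsDiscreteValuationRing B']
    [Algebra A A'] [Algebra B B'] [Algebra A' B'] [Algebra A B'] [IsScalarTower A B B']
    [IsScalarTower A A' B']
    [hA : IsLocalHom (algebraMap A A')] [hB : IsLocalHom (algebraMap B B')]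
    [hAB' : IsLocalHom (algebraMap A' B')]
    (K₀ L₀ : Type u) [Field K₀] [Field L₀] [Algebra A' K₀] [IsFractionRing A' K₀]
    [Algebra B' L₀] [IsFractionRing B' L₀]
    (hinjA : Function.Injective (algebraMap A A')) (hinjB : Function.Injective (algebraMap B B'))
    (hinjAB' : Function.Injective (algebraMap A' B'))
    (hw : EtRam.IsWeaklyUnramified A A')
    (hscA : IsSepClosure (ResidueField A) (ResidueField A'))
    (hscB : IsSepClosure (ResidueField B) (ResidueField B'))
    (hsepA : ∀ (F : Type u) [Field F] [Algebra A' F] [IsFractionRing A' F] [Algebra A F]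
      [IsScalarTower A A' F] [Algebra K F] [IsScalarTower A K F], Algebra.IsSeparable K F)
    (hsepB : ∀ (F : Type u) [Field F] [Algebra B' F] [IsFractionRing B' F] [Algebra B F]
      [IsScalarTower B B' F] [Algebra L F] [IsScalarTower B L F], Algebra.IsSeparable L F) :
    ∃ (A' B' K' L' : Type u) (_ : CommRing A') (_ : IsDomain A') (_ : IsDiscreteValuationRing A')
      (_ : CommRing B') (_ : IsDomain B') (_ : IsDiscreteValuationRing B') (_ : Field K') (_ : Field L')
      (_ : Algebra A A') (_ : Algebra B B') (_ : Algebra A' B') (_ : Algebra A B')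
      (_ : IsScalarTower A B B') (_ : IsScalarTower A A' B')
      (_ : Algebra A' K') (_ : IsFractionRing A' K') (_ : Algebra B' L') (_ : IsFractionRing B' L')
      (_ : Algebra K' L') (_ : Algebra A' L') (_ : IsScalarTower A' K' L') (_ : IsScalarTower A' B' L')
      (_ : Algebra K K') (_ : Algebra A K') (_ : IsScalarTower A K K') (_ : IsScalarTower A A' K')
      (_ : Algebra L L') (_ : Algebra B L') (_ : IsScalarTower B L L') (_ : IsScalarTower B B' L')
      (hA : IsLocalHom (algebraMap A A')) (hB : IsLocalHom (algebraMap B B')) (_ : IsLocalHom (algebraMap A' B')),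
      Function.Injective (algebraMap A A') ∧ Function.Injective (algebraMap B B') ∧
      Function.Injective (algebraMap A' B') ∧
      Algebra.IsSeparable K K' ∧ Algebra.IsSeparable L L' ∧
      (letI := (IsLocalRing.ResidueField.map (algebraMap A A')).toAlgebra
       IsSepClosure (IsLocalRing.ResidueField A) (IsLocalRing.ResidueField A')) ∧
      (letI := (IsLocalRing.ResidueField.map (algebraMap B B')).toAlgebra
       IsSepClosure (IsLocalRing.ResidueField B) (IsLocalRing.ResidueField B')) ∧
      ((∃ (K₁ : Type u) (_ : Field K₁) (_ : Algebra K' K₁), FiniteDimensional K' K₁ ∧ EtRam.IsSolution B' K' L' K₁) →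
        ∃ (K₁ : Type u) (_ : Field K₁) (_ : Algebra K K₁), FiniteDimensional K K₁ ∧ EtRam.IsSolution B K L K₁) ∧
      ((∃ (K₁ : Type u) (_ : Field K₁) (_ : Algebra K' K₁), FiniteDimensional K' K₁ ∧ Algebra.IsSeparable K' K₁ ∧
          EtRam.IsSolution B' K' L' K₁) →
        ∃ (K₁ : Type u) (_ : Field K₁) (_ : Algebra K K₁), FiniteDimensional K K₁ ∧ Algebra.IsSeparable K K₁ ∧
          EtRam.IsSolution B K L K₁) := by
  classical
  letI algAK' : Algebra A K₀ :=
    ((algebraMap A' K₀).comp (algebraMap A A')).toAlgebra
  haveI tAA'K' : IsScalarTower A A' K₀ :=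
    IsScalarTower.of_algebraMap_eq (fun _ => rfl)
  have hinjAK' : Function.Injective (algebraMap A K₀) :=
    (IsFractionRing.injective A' K₀).comp hinjA
  letI algKK' : Algebra K K₀ := (IsFractionRing.lift hinjAK').toAlgebra
  haveI tAKK' : IsScalarTower A K K₀ :=
    IsScalarTower.of_algebraMap_eq (fun a => (IsFractionRing.lift_algebraMap hinjAK' a).symm)
  letI algBL' : Algebra B L₀ :=
    ((algebraMap B' L₀).comp (algebraMap B B')).toAlgebra
  haveI tBB'L' : IsScalarTower B B' L₀ :=
    IsScalarTower.of_algebraMap_eq (fun _ => rfl)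
  have hinjBL' : Function.Injective (algebraMap B L₀) :=
    (IsFractionRing.injective B' L₀).comp hinjB
  letI algLL' : Algebra L L₀ := (IsFractionRing.lift hinjBL').toAlgebra
  haveI tBLL' : IsScalarTower B L L₀ :=
    IsScalarTower.of_algebraMap_eq (fun a => (IsFractionRing.lift_algebraMap hinjBL' a).symm)
  letI algA'L' : Algebra A' L₀ :=
    ((algebraMap B' L₀).comp (algebraMap A' B')).toAlgebra
  haveI tA'B'L' : IsScalarTower A' B' L₀ :=
    IsScalarTower.of_algebraMap_eq (fun _ => rfl)
  have hinjA'L' : Function.Injective (algebraMap A' L₀) :=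
    (IsFractionRing.injective B' L₀).comp hinjAB'
  letI algK'L' : Algebra K₀ L₀ :=
    (IsFractionRing.lift hinjA'L').toAlgebra
  haveI tA'K'L' : IsScalarTower A' K₀ L₀ :=
    IsScalarTower.of_algebraMap_eq (fun a => (IsFractionRing.lift_algebraMap hinjA'L' a).symm)
  haveI sepK : Algebra.IsSeparable K K₀ := hsepA K₀
  haveI sepL : Algebra.IsSeparable L L₀ := hsepB L₀
  haveI : Algebra.IsSeparable (ResidueField A) (ResidueField A') := hscA.separable
  refine ⟨A', B', K₀, L₀, inferInstance, inferInstance, inferInstance,
    inferInstance, inferInstance, inferInstance, inferInstance, inferInstance,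
    inferInstance, inferInstance, inferInstance, inferInstance, inferInstance, inferInstance,
    inferInstance, inferInstance, inferInstance, inferInstance,
    algK'L', algA'L', tA'K'L', tA'B'L', algKK', algAK', tAKK', tAA'K', algLL', algBL', tBLL',
    tBB'L', hA, hB, hAB', hinjA, hinjB, hinjAB', sepK, sepL, ?_, ?_, ?_, ?_⟩
  · have heq : (ResidueField.map (algebraMap A A')).toAlgebra =
        (inferInstance : Algebra (ResidueField A) (ResidueField A')) :=
      Algebra.algebra_ext _ _ (fun r => by
        obtain ⟨r, rfl⟩ := residue_surjective r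
        rfl)
    show @IsSepClosure (ResidueField A) _ (ResidueField A') _
      (ResidueField.map (algebraMap A A')).toAlgebra
    rw [heq]
    exact hscA
  · have heq : (ResidueField.map (algebraMap B B')).toAlgebra =
        (inferInstance : Algebra (ResidueField B) (ResidueField B')) :=
      Algebra.algebra_ext _ _ (fun r => by
        obtain ⟨r, rfl⟩ := residue_surjective r
        rfl)
    show @IsSepClosure (ResidueField B) _ (ResidueField B') _
      (ResidueField.map (algebraMap B B')).toAlgebra
    rw [heq]
    exact hscB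
  · rintro ⟨K₁', fK₁', aK₁', hfin, hsol⟩
    haveI := hfin
    obtain ⟨K₁, f1, a1, h1, -, h3⟩ := descent_all A B K L A' B' K₀
      L₀ hinj hinjB hw K₁' hsol
    exact ⟨K₁, f1, a1, h1, h3⟩
  · rintro ⟨K₁', fK₁', aK₁', hfin, hsep, hsol⟩
    haveI := hfin
    obtain ⟨K₁, f1, a1, h1, h2, h3⟩ := descent_all A B K L A' B' K₀
      L₀ hinj hinjB hw K₁' hsol
    exact ⟨K₁, f1, a1, h1, h2 hsep, h3⟩

theorem main (A B K L : Type u) [CommRing A] [IsDomain A]
    [IsDiscreteValuationRing A] [CommRing B] [IsDomain B] [IsDiscreteValuationRing B] [Algebra A B]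
    (hinj : Function.Injective (algebraMap A B)) [IsLocalHom (algebraMap A B)]
    [Field K] [Field L] [Algebra A K] [IsFractionRing A K] [Algebra B L] [IsFractionRing B L]
    [Algebra K L] [Algebra A L] [IsScalarTower A K L] [IsScalarTower A B L] :
    ∃ (A' B' K' L' : Type u) (_ : CommRing A') (_ : IsDomain A') (_ : IsDiscreteValuationRing A')
      (_ : CommRing B') (_ : IsDomain B') (_ : IsDiscreteValuationRing B') (_ : Field K') (_ : Field L')
      (_ : Algebra A A') (_ : Algebra B B') (_ : Algebra A' B') (_ : Algebra A B')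
      (_ : IsScalarTower A B B') (_ : IsScalarTower A A' B')
      (_ : Algebra A' K') (_ : IsFractionRing A' K') (_ : Algebra B' L') (_ : IsFractionRing B' L')
      (_ : Algebra K' L') (_ : Algebra A' L') (_ : IsScalarTower A' K' L') (_ : IsScalarTower A' B' L')
      (_ : Algebra K K') (_ : Algebra A K') (_ : IsScalarTower A K K') (_ : IsScalarTower A A' K')
      (_ : Algebra L L') (_ : Algebra B L') (_ : IsScalarTower B L L') (_ : IsScalarTower B B' L')
      (hA : IsLocalHom (algebraMap A A')) (hB : IsLocalHom (algebraMap B B')) (_ : IsLocalHom (algebraMap A' B')),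
      Function.Injective (algebraMap A A') ∧ Function.Injective (algebraMap B B') ∧
      Function.Injective (algebraMap A' B') ∧
      Algebra.IsSeparable K K' ∧ Algebra.IsSeparable L L' ∧
      (letI := (IsLocalRing.ResidueField.map (algebraMap A A')).toAlgebra
       IsSepClosure (IsLocalRing.ResidueField A) (IsLocalRing.ResidueField A')) ∧
      (letI := (IsLocalRing.ResidueField.map (algebraMap B B')).toAlgebra
       IsSepClosure (IsLocalRing.ResidueField B) (IsLocalRing.ResidueField B')) ∧
      ((∃ (K₁ : Type u) (_ : Field K₁) (_ : Algebra K' K₁), FiniteDimensional K' K₁ ∧ EtRam.IsSolution B' K' L' K₁) →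
        ∃ (K₁ : Type u) (_ : Field K₁) (_ : Algebra K K₁), FiniteDimensional K K₁ ∧ EtRam.IsSolution B K L K₁) ∧
      ((∃ (K₁ : Type u) (_ : Field K₁) (_ : Algebra K' K₁), FiniteDimensional K' K₁ ∧ Algebra.IsSeparable K' K₁ ∧
          EtRam.IsSolution B' K' L' K₁) →
        ∃ (K₁ : Type u) (_ : Field K₁) (_ : Algebra K K₁), FiniteDimensional K K₁ ∧ Algebra.IsSeparable K K₁ ∧
          EtRam.IsSolution B K L K₁) := by
  classical
  haveI hHA : Hensel.IsStrictHenselization A (Hens.StrictHenselization A) :=
    Hens.isStrictHenselization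
  haveI hHB : Hensel.IsStrictHenselization B (Hens.StrictHenselization B) :=
    Hens.isStrictHenselization
  obtain ⟨domA', dvrA'⟩ := (Hens.dvr_iff_of_isStrictHenselization (R := A)
    (Hens.StrictHenselization A)).mp ⟨inferInstance, inferInstance⟩
  obtain ⟨domB', dvrB'⟩ := (Hens.dvr_iff_of_isStrictHenselization (R := B)
    (Hens.StrictHenselization B)).mp ⟨inferInstance, inferInstance⟩
  obtain ⟨g, hgloc, hgcomp⟩ := exists_sh_map A B
  obtain ⟨πA, hπA⟩ := IsDiscreteValuationRing.exists_irreducible A
  obtain ⟨πB, hπB⟩ := IsDiscreteValuationRing.exists_irreducible B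
  have hwA : (maximalIdeal A).map (algebraMap A (Hens.StrictHenselization A)) =
      maximalIdeal (Hens.StrictHenselization A) :=
    Hens.map_maximalIdeal_of_isStrictHenselization _
  have hwB : (maximalIdeal B).map (algebraMap B (Hens.StrictHenselization B)) =
      maximalIdeal (Hens.StrictHenselization B) :=
    Hens.map_maximalIdeal_of_isStrictHenselization _
  have hπA' : Irreducible (algebraMap A (Hens.StrictHenselization A) πA) := by
    rw [IsDiscreteValuationRing.irreducible_iff_uniformizer, ← hwA, hπA.maximalIdeal_eq,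
      Ideal.map_span, Set.image_singleton]
  have hπB' : Irreducible (algebraMap B (Hens.StrictHenselization B) πB) := by
    rw [IsDiscreteValuationRing.irreducible_iff_uniformizer, ← hwB, hπB.maximalIdeal_eq,
      Ideal.map_span, Set.image_singleton]
  have hinjAA' : Function.Injective (algebraMap A (Hens.StrictHenselization A)) :=
    inj_of_dvr _ hπA hπA'.ne_zero
  have hinjBB' : Function.Injective (algebraMap B (Hens.StrictHenselization B)) :=
    inj_of_dvr _ hπB hπB'.ne_zero
  have hinjg : Function.Injective g := by
    refine inj_of_dvr g hπA' ?_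
    have h1 : g (algebraMap A (Hens.StrictHenselization A) πA) =
        algebraMap B (Hens.StrictHenselization B) (algebraMap A B πA) :=
      RingHom.congr_fun hgcomp πA
    rw [h1]
    exact (map_ne_zero_iff _ hinjBB').mpr ((map_ne_zero_iff _ hinj).mpr hπA.ne_zero)
  letI algA'B' : Algebra (Hens.StrictHenselization A) (Hens.StrictHenselization B) :=
    g.toAlgebra
  letI algAB' : Algebra A (Hens.StrictHenselization B) :=
    ((algebraMap B (Hens.StrictHenselization B)).comp (algebraMap A B)).toAlgebra
  haveI tABB' : IsScalarTower A B (Hens.StrictHenselization B) :=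
    IsScalarTower.of_algebraMap_eq (fun _ => rfl)
  haveI tAA'B' : IsScalarTower A (Hens.StrictHenselization A) (Hens.StrictHenselization B) :=
    IsScalarTower.of_algebraMap_eq (fun a => (RingHom.congr_fun hgcomp a).symm)
  haveI locg : IsLocalHom (algebraMap (Hens.StrictHenselization A)
      (Hens.StrictHenselization B)) := hgloc
  exact main_of_data A B K L hinj (Hens.StrictHenselization A) (Hens.StrictHenselization B)
    (FractionRing (Hens.StrictHenselization A)) (FractionRing (Hens.StrictHenselization B))
    hinjAA' hinjBB' hinjg hwA hHA.isSepClosure hHB.isSepClosure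
    (fun F _ _ _ _ _ _ _ => isSeparable_frac_sh A K F)
    (fun F _ _ _ _ _ _ _ => isSeparable_frac_sh B L F)

end Groth.Agent.H8.Sh
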