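import Groth.Agent.Lib.Helper8.ASK.FI

set_option autoImplicit false
universe u

namespace Groth.Agent.H8.ASK

open IsLocalRing Polynomial

section UN

variable {A K L : Type u} [CommRing A] [IsDomain A] [IsDiscreteValuationRing A] [Field K]
  [Algebra A K] [IsFractionRing A K] [Field L] [Algebra K L] [Algebra A L] [IsScalarTower A K L]

theorem exists_C_mul_of_map_eq_zero {π : A} (hπ : maximalIdeal A = Ideal.span {π}) (D : A[X])
    (hD : D.map (IsLocalRing.residue A) = 0) : ∃ R : A[X], D = C π * R := by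
  have h1 : D ∈ Ideal.map (C : A →+* A[X]) (maximalIdeal A) := by
    rw [Ideal.mem_map_C_iff]
    intro n
    rw [← residue_eq_zero_iff, ← coeff_map, hD, coeff_zero]
  rw [hπ, Ideal.map_span, Set.image_singleton, Ideal.mem_span_singleton] at h1
  exact h1

/-- Hypotheses of the unramified case. -/
structure UNData (π : A) (P : A[X]) (ξ : K) (a₀ : A) (z : L) : Prop where
  hπ : maximalIdeal A = Ideal.span {π}
  hP : P.Monic
  hdeg : 0 < P.natDegree
  hξ : algebraMap A K a₀ = ξ
  hz : eval₂ (algebraMap A L) z P = algebraMap K L ξ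
  hgen : IntermediateField.adjoin K {z} = ⊤
  hsep : ((P - C a₀).map (IsLocalRing.residue A)).Separable

variable {π : A} {P : A[X]} {ξ : K} {a₀ : A} {z : L} {V : ValuationSubring L}

namespace UNData

theorem hz' (D : UNData π P ξ a₀ z) : eval₂ (algebraMap A L) z P = algebraMap A L a₀ := by
  rw [D.hz, ← D.hξ, ← IsScalarTower.algebraMap_apply]

theorem f_monic (D : UNData π P ξ a₀ z) : (P - C a₀).Monic := by
  apply D.hP.sub_of_left
  rw [degree_eq_natDegree D.hP.ne_zero]
  exact lt_of_le_of_lt degree_C_le (by exact_mod_cast D.hdeg)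

theorem val_z_le (D : UNData π P ξ a₀ z) (hV : EtRam.Dominates A (algebraMap A L) V) :
    V.valuation z ≤ 1 := by
  by_contra h
  rw [not_le] at h
  have h1 := val_eval_of_one_lt hV D.hP rfl z h
  rw [D.hz'] at h1
  have h3 := val_alg_le_one hV a₀
  rw [h1] at h3
  exact absurd h3 (not_le.mpr (one_lt_pow₀ h D.hdeg.ne'))

theorem exists_poly (D : UNData π P ξ a₀ z) (x : L) :
    ∃ (q : A[X]) (t : ℕ), x * algebraMap A L π ^ t = eval₂ (algebraMap A L) z q := by
  have hint : IsIntegral K z := isIntegral_z D.hP rfl D.hdeg ξ z D.hz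
  have hx : x ∈ Algebra.adjoin K {z} := by
    rw [algebra_adjoin_eq_top z hint D.hgen]
    trivial
  induction hx using Algebra.adjoin_induction with
  | mem x hx =>
    rw [Set.mem_singleton_iff] at hx
    subst hx
    exact ⟨X, 0, by rw [pow_zero, mul_one, eval₂_X]⟩
  | algebraMap c =>
    by_cases hc : c = 0
    · exact ⟨0, 0, by rw [hc, map_zero, zero_mul, eval₂_zero]⟩
    obtain ⟨u, k, hk⟩ := decomp D.hπ c hc
    refine ⟨C ((u : A) * π ^ k.toNat), (-k).toNat, ?_⟩
    rw [eval₂_C]
    simp only [IsScalarTower.algebraMap_apply A K L]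
    rw [← map_pow, ← map_mul]
    congr 1
    have e : k + (((-k).toNat : ℕ) : ℤ) = ((k.toNat : ℕ) : ℤ) := by omega
    rw [hk, map_mul, map_pow, mul_assoc, ← zpow_natCast, ← zpow_natCast,
      ← zpow_add₀ (algK_pi_ne_zero D.hπ), e]
  | add x y hx hy ihx ihy =>
    obtain ⟨q, t, hq⟩ := ihx
    obtain ⟨q', t', hq'⟩ := ihy
    refine ⟨q * C (π ^ t') + q' * C (π ^ t), t + t', ?_⟩
    rw [eval₂_add, eval₂_mul, eval₂_mul, eval₂_C, eval₂_C, ← hq, ← hq', map_pow, map_pow,
      pow_add]
    ring
  | mul x y hx hy ihx ihy =>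
    obtain ⟨q, t, hq⟩ := ihx
    obtain ⟨q', t', hq'⟩ := ihy
    refine ⟨q * q', t + t', ?_⟩
    rw [eval₂_mul, ← hq, ← hq', pow_add]
    ring

theorem key (D : UNData π P ξ a₀ z) (hV : EtRam.Dominates A (algebraMap A L) V) (q : A[X])
    (hq : V.valuation (eval₂ (algebraMap A L) z q) < 1) :
    ∃ H R : A[X], V.valuation (eval₂ (algebraMap A L) z H) = 1 ∧
      eval₂ (algebraMap A L) z H * eval₂ (algebraMap A L) z q =
        algebraMap A L π * eval₂ (algebraMap A L) z R := by
  classical
  letI : Algebra A V := (RingHom.codRestrict (algebraMap A L) V hV.1).toAlgebra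
  haveI : IsLocalHom (algebraMap A V) := isLocalHom_of_dominates hV
  have hzV : z ∈ V := (V.valuation_le_one_iff _).mp (D.val_z_le hV)
  have hcomp : V.subtype.comp (algebraMap A V) = algebraMap A L := RingHom.ext (fun a => rfl)
  have hcomp2 : (IsLocalRing.residue V).comp (algebraMap A V) =
      (algebraMap (ResidueField A) (ResidueField V)).comp (IsLocalRing.residue A) :=
    RingHom.ext (fun a => rfl)
  have hcoe : ∀ Q : A[X], ((eval₂ (algebraMap A V) (⟨z, hzV⟩ : V) Q : V) : L) =
      eval₂ (algebraMap A L) z Q := by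
    intro Q
    have h1 := hom_eval₂ Q (algebraMap A V) V.subtype (⟨z, hzV⟩ : V)
    rw [hcomp] at h1
    exact h1
  have hres : ∀ Q : A[X], IsLocalRing.residue V (eval₂ (algebraMap A V) (⟨z, hzV⟩ : V) Q) =
      aeval (IsLocalRing.residue V (⟨z, hzV⟩ : V)) (Q.map (IsLocalRing.residue A)) := by
    intro Q
    rw [hom_eval₂, hcomp2, aeval_def, eval₂_map]
  have hq0 : aeval (IsLocalRing.residue V (⟨z, hzV⟩ : V)) (q.map (IsLocalRing.residue A)) = 0 := by
    rw [← hres, residue_eq_zero_iff, ValuationSubring.valuation_lt_one_iff, hcoe]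
    exact hq
  have hf0 : aeval (IsLocalRing.residue V (⟨z, hzV⟩ : V))
      ((P - C a₀).map (IsLocalRing.residue A)) = 0 := by
    rw [← hres]
    have h1 : eval₂ (algebraMap A V) (⟨z, hzV⟩ : V) (P - C a₀) = 0 := by
      apply Subtype.ext
      rw [hcoe, eval₂_sub, eval₂_C, D.hz', sub_self]
      rfl
    rw [h1, map_zero]
  obtain ⟨hb, hhb⟩ := minpoly.dvd (ResidueField A) (IsLocalRing.residue V (⟨z, hzV⟩ : V)) hf0
  obtain ⟨q1, hq1⟩ := minpoly.dvd (ResidueField A) (IsLocalRing.residue V (⟨z, hzV⟩ : V)) hq0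
  have hcop : IsCoprime (minpoly (ResidueField A) (IsLocalRing.residue V (⟨z, hzV⟩ : V))) hb := by
    have h1 := D.hsep
    rw [hhb] at h1
    exact h1.isCoprime
  have hhz : aeval (IsLocalRing.residue V (⟨z, hzV⟩ : V)) hb ≠ 0 := by
    intro h0
    have hd := minpoly.dvd (ResidueField A) (IsLocalRing.residue V (⟨z, hzV⟩ : V)) h0
    exact minpoly.not_isUnit (ResidueField A) (IsLocalRing.residue V (⟨z, hzV⟩ : V))
      (hcop.isUnit_of_dvd' dvd_rfl hd)
  obtain ⟨H, hH⟩ := Polynomial.map_surjective (IsLocalRing.residue A) residue_surjective hb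
  obtain ⟨Q1, hQ1⟩ := Polynomial.map_surjective (IsLocalRing.residue A) residue_surjective q1
  have hD : (H * q - (P - C a₀) * Q1).map (IsLocalRing.residue A) = 0 := by
    rw [Polynomial.map_sub, Polynomial.map_mul, Polynomial.map_mul, hH, hQ1, hq1, hhb]
    ring
  obtain ⟨R, hR⟩ := exists_C_mul_of_map_eq_zero D.hπ _ hD
  refine ⟨H, R, ?_, ?_⟩
  · have h1 : IsLocalRing.residue V (eval₂ (algebraMap A V) (⟨z, hzV⟩ : V) H) ≠ 0 := by
      rw [hres, hH]
      exact hhz
    have h2 : IsUnit (eval₂ (algebraMap A V) (⟨z, hzV⟩ : V) H) :=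
      (residue_ne_zero_iff_isUnit _).mp h1
    have h3 := (V.valuation_eq_one_iff _).mp h2
    rwa [hcoe] at h3
  · have h1 := congrArg (eval₂ (algebraMap A L) z) hR
    rw [eval₂_sub, eval₂_mul, eval₂_mul, eval₂_mul, eval₂_C, eval₂_sub, eval₂_C, D.hz', sub_self,
      zero_mul, sub_zero] at h1
    exact h1

theorem exists_frac_aux (D : UNData π P ξ a₀ z) (hV : EtRam.Dominates A (algebraMap A L) V) :
    ∀ (t : ℕ) (x : L), V.valuation x ≤ 1 → ∀ q : A[X],
      x * algebraMap A L π ^ t = eval₂ (algebraMap A L) z q →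
      ∃ Q S : A[X], V.valuation (eval₂ (algebraMap A L) z S) = 1 ∧
        x * eval₂ (algebraMap A L) z S = eval₂ (algebraMap A L) z Q := by
  have hτ1 := val_pi_lt_one D.hπ hV
  have hπ0 : algebraMap A L π ≠ 0 := algL_pi_ne_zero D.hπ (algebraMap_inj A K L)
  intro t
  induction t with
  | zero =>
    intro x _ q hq
    refine ⟨q, 1, ?_, ?_⟩
    · rw [eval₂_one, map_one]
    · rw [eval₂_one, mul_one, ← hq, pow_zero, mul_one]
  | succ t ih =>
    intro x hx q hq
    have hlt : V.valuation (eval₂ (algebraMap A L) z q) < 1 := by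
      rw [← hq, map_mul, map_pow]
      calc V.valuation x * V.valuation (algebraMap A L π) ^ (t + 1)
          ≤ 1 * V.valuation (algebraMap A L π) ^ (t + 1) := mul_le_mul' hx le_rfl
        _ = V.valuation (algebraMap A L π) ^ (t + 1) := one_mul _
        _ < 1 := pow_lt_one₀ zero_le' hτ1 (Nat.succ_ne_zero t)
    obtain ⟨H, R, hH, hHR⟩ := D.key hV q hlt
    have hx' : V.valuation (x * eval₂ (algebraMap A L) z H) ≤ 1 := by
      rw [map_mul, hH, mul_one]
      exact hx
    have hq' : x * eval₂ (algebraMap A L) z H * algebraMap A L π ^ t =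
        eval₂ (algebraMap A L) z R := by
      apply mul_left_cancel₀ hπ0
      rw [← hHR, ← hq]
      ring
    obtain ⟨Q, S, hS, hQS⟩ := ih (x * eval₂ (algebraMap A L) z H) hx' R hq'
    refine ⟨Q, H * S, ?_, ?_⟩
    · rw [eval₂_mul, map_mul, hH, hS, one_mul]
    · rw [eval₂_mul, ← hQS]
      ring

theorem exists_frac (D : UNData π P ξ a₀ z) (hV : EtRam.Dominates A (algebraMap A L) V)
    (x : L) (hx : V.valuation x ≤ 1) :
    ∃ Q S : A[X], V.valuation (eval₂ (algebraMap A L) z S) = 1 ∧
      x * eval₂ (algebraMap A L) z S = eval₂ (algebraMap A L) z Q := by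
  obtain ⟨q, t, hq⟩ := D.exists_poly x
  exact D.exists_frac_aux hV t x hx q hq

theorem exists_mul_pi (D : UNData π P ξ a₀ z) (hV : EtRam.Dominates A (algebraMap A L) V)
    (x : L) (hx : V.valuation x < 1) : ∃ x' ∈ V, x = algebraMap A L π * x' := by
  obtain ⟨Q, S, hS, hQS⟩ := D.exists_frac hV x hx.le
  have hQ : V.valuation (eval₂ (algebraMap A L) z Q) < 1 := by
    rw [← hQS, map_mul, hS, mul_one]
    exact hx
  obtain ⟨H, R, hH, hHR⟩ := D.key hV Q hQ
  have hS0 : eval₂ (algebraMap A L) z S ≠ 0 := by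
    intro h
    rw [h, map_zero] at hS
    exact zero_ne_one hS
  have hH0 : eval₂ (algebraMap A L) z H ≠ 0 := by
    intro h
    rw [h, map_zero] at hH
    exact zero_ne_one hH
  refine ⟨eval₂ (algebraMap A L) z R /
    (eval₂ (algebraMap A L) z S * eval₂ (algebraMap A L) z H), ?_, ?_⟩
  · rw [← V.valuation_le_one_iff, map_div₀, map_mul, hS, hH, mul_one, div_one]
    exact val_eval_le_one hV z (D.val_z_le hV) R
  · rw [← mul_div_assoc, ← hHR, ← hQS]
    field_simp

theorem unram (D : UNData π P ξ a₀ z) (V : ValuationSubring L)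
    (hV : EtRam.Dominates A (algebraMap A L) V) :
    letI : Algebra A V := (RingHom.codRestrict (algebraMap A L) V hV.1).toAlgebra
    ∀ [IsLocalHom (algebraMap A V)],
      EtRam.IsWeaklyUnramified A V ∧
        Algebra.IsSeparable (IsLocalRing.ResidueField A) (IsLocalRing.ResidueField V) := by
  classical
  letI : Algebra A V := (RingHom.codRestrict (algebraMap A L) V hV.1).toAlgebra
  intro hloc
  have hzV : z ∈ V := (V.valuation_le_one_iff _).mp (D.val_z_le hV)
  have hcomp : V.subtype.comp (algebraMap A V) = algebraMap A L := RingHom.ext (fun a => rfl)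
  have hcomp2 : (IsLocalRing.residue V).comp (algebraMap A V) =
      (algebraMap (ResidueField A) (ResidueField V)).comp (IsLocalRing.residue A) :=
    RingHom.ext (fun a => rfl)
  have hcoe : ∀ Q : A[X], ((eval₂ (algebraMap A V) (⟨z, hzV⟩ : V) Q : V) : L) =
      eval₂ (algebraMap A L) z Q := by
    intro Q
    have h1 := hom_eval₂ Q (algebraMap A V) V.subtype (⟨z, hzV⟩ : V)
    rw [hcomp] at h1
    exact h1
  have hres : ∀ Q : A[X], IsLocalRing.residue V (eval₂ (algebraMap A V) (⟨z, hzV⟩ : V) Q) =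
      aeval (IsLocalRing.residue V (⟨z, hzV⟩ : V)) (Q.map (IsLocalRing.residue A)) := by
    intro Q
    rw [hom_eval₂, hcomp2, aeval_def, eval₂_map]
  refine ⟨?_, ?_⟩
  · show (maximalIdeal A).map (algebraMap A V) = maximalIdeal V
    rw [D.hπ, Ideal.map_span, Set.image_singleton]
    ext x
    rw [Ideal.mem_span_singleton, ValuationSubring.valuation_lt_one_iff]
    constructor
    · rintro ⟨x', rfl⟩
      show V.valuation (algebraMap A L π * (x' : L)) < 1
      rw [map_mul]
      calc V.valuation (algebraMap A L π) * V.valuation (x' : L)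
          ≤ V.valuation (algebraMap A L π) * 1 := mul_le_mul' le_rfl (V.valuation_le_one x')
        _ = V.valuation (algebraMap A L π) := mul_one _
        _ < 1 := val_pi_lt_one D.hπ hV
    · intro hx
      obtain ⟨x', hx'V, hx'⟩ := D.exists_mul_pi hV (x : L) hx
      exact ⟨⟨x', hx'V⟩, Subtype.ext hx'⟩
  · have hf0 : aeval (IsLocalRing.residue V (⟨z, hzV⟩ : V))
        ((P - C a₀).map (IsLocalRing.residue A)) = 0 := by
      rw [← hres]
      have h1 : eval₂ (algebraMap A V) (⟨z, hzV⟩ : V) (P - C a₀) = 0 := by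
        apply Subtype.ext
        rw [hcoe, eval₂_sub, eval₂_C, D.hz', sub_self]
        rfl
      rw [h1, map_zero]
    have hzsep : IsSeparable (ResidueField A) (IsLocalRing.residue V (⟨z, hzV⟩ : V)) :=
      D.hsep.of_dvd (minpoly.dvd _ _ hf0)
    haveI : Algebra.IsSeparable (ResidueField A)
        (IntermediateField.adjoin (ResidueField A) {IsLocalRing.residue V (⟨z, hzV⟩ : V)}) :=
      (IntermediateField.isSeparable_adjoin_simple_iff_isSeparable _ _).mpr hzsep
    refine ⟨fun xb => ?_⟩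
    apply IntermediateField.isSeparable_of_mem_isSeparable (ResidueField A) (ResidueField V)
      (L := IntermediateField.adjoin (ResidueField A) {IsLocalRing.residue V (⟨z, hzV⟩ : V)})
    obtain ⟨x, rfl⟩ := residue_surjective xb
    obtain ⟨Q, S, hS, hQS⟩ := D.exists_frac hV (x : L) (V.valuation_le_one x)
    have hQSV : x * eval₂ (algebraMap A V) (⟨z, hzV⟩ : V) S =
        eval₂ (algebraMap A V) (⟨z, hzV⟩ : V) Q := by
      apply Subtype.ext
      show (x : L) * ((eval₂ (algebraMap A V) (⟨z, hzV⟩ : V) S : V) : L) = _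
      rw [hcoe, hcoe, hQS]
    have hSunit : IsUnit (eval₂ (algebraMap A V) (⟨z, hzV⟩ : V) S) := by
      rw [V.valuation_eq_one_iff, hcoe]
      exact hS
    have hS0 : aeval (IsLocalRing.residue V (⟨z, hzV⟩ : V)) (S.map (IsLocalRing.residue A)) ≠ 0 := by
      rw [← hres]
      exact (residue_ne_zero_iff_isUnit _).mpr hSunit
    have hxb : IsLocalRing.residue V x =
        aeval (IsLocalRing.residue V (⟨z, hzV⟩ : V)) (Q.map (IsLocalRing.residue A)) /
          aeval (IsLocalRing.residue V (⟨z, hzV⟩ : V)) (S.map (IsLocalRing.residue A)) := by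
      rw [eq_div_iff hS0, ← hres, ← hres, ← map_mul, hQSV]
    rw [hxb]
    have hmem : ∀ Q' : (ResidueField A)[X],
        aeval (IsLocalRing.residue V (⟨z, hzV⟩ : V)) Q' ∈
          IntermediateField.adjoin (ResidueField A) {IsLocalRing.residue V (⟨z, hzV⟩ : V)} := by
      intro Q'
      exact IntermediateField.algebra_adjoin_le_adjoin _ _
        (Polynomial.aeval_mem_adjoin_singleton _ _)
    exact div_mem (hmem _) (hmem _)

theorem isUnramifiedExt (D : UNData π P ξ a₀ z) :
    EtRam.IsUnramifiedExt A (algebraMap A L) :=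
  fun V hV => D.unram V hV

end UNData

end UN

end Groth.Agent.H8.ASK
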